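import Groth.Prelude.Def_CotT
import Mathlib.LinearAlgebra.TensorProduct.RightExactness
import Mathlib.Algebra.Exact.Basic

/-!
Exactness of `L₂ → L₁ → I/I² → 0` for the cotangent complex of a presentation (helper59).
-/

set_option autoImplicit false
universe u v w t m

open TensorProduct

namespace Groth.Agent.Lib.Helper59

open CotT

variable {A : Type u} {B : Type v} {ι : Type w} {σ : Type t}
variable [CommRing A] [CommRing B] [Algebra A B]
variable (P : Algebra.Presentation A B ι σ)

theorem jker_surjective : Function.Surjective (jker P) := by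
  rintro ⟨x, hx⟩
  have hx' : x ∈ LinearMap.range (jmap P) := by rw [range_jmap]; exact hx
  obtain ⟨f, hf⟩ := hx'
  exact ⟨f, Subtype.ext hf⟩

theorem exact_relKer_jker : Function.Exact (relKer P).subtype (jker P) := by
  intro y
  constructor
  · intro hy
    have : jmap P y = 0 := congrArg Subtype.val hy
    exact ⟨⟨y, this⟩, rfl⟩
  · rintro ⟨q, rfl⟩
    exact Subtype.ext q.2

theorem toCot_eq :
    toCot P = P.toExtension.cotangentEquiv.toLinearMap ∘ₗ (jker P).baseChange B := by
  refine TensorProduct.AlgebraTensorModule.ext fun b f => ?_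
  simp [toCot]

theorem toCot_surjective : Function.Surjective (toCot P) := by
  rw [toCot_eq]
  exact P.toExtension.cotangentEquiv.surjective.comp
    (LinearMap.lTensor_surjective B (jker_surjective P))

theorem ker_toCot : LinearMap.ker (toCot P) = LinearMap.range (d2 P) := by
  have hex0 := @lTensor_exact P.toExtension.Ring (relKer P) (relMod P) P.toExtension.ker _ _ _ _ _ _ _
      (relKer P).subtype (jker P) B _ _ (exact_relKer_jker P) (jker_surjective P)
  have hex : Function.Exact ((relKer P).subtype.baseChange B) ((jker P).baseChange B) := hex0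
  rw [LinearMap.exact_iff] at hex
  rw [toCot_eq, LinearMap.ker_comp_of_ker_eq_bot _ (LinearMap.ker_eq_bot.2
    P.toExtension.cotangentEquiv.injective), hex, ← d2_comp_mkQ,
    LinearMap.range_comp_of_range_eq_top _ (Submodule.range_mkQ _)]

/-- A `B`-linear map on `L₁` vanishing on the image of `d₂` factors through `toCot`. -/
theorem exists_comp_toCot_eq {M : Type m} [AddCommGroup M] [Module B M] (c : L1 P →ₗ[B] M)
    (hc : c ∘ₗ d2 P = 0) : ∃ φ : P.toExtension.Cotangent →ₗ[B] M, φ ∘ₗ toCot P = c := by
  have hk : LinearMap.ker (toCot P) ≤ LinearMap.ker c := by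
    rw [ker_toCot]
    rintro _ ⟨z, rfl⟩
    exact LinearMap.congr_fun hc z
  refine ⟨(Submodule.liftQ _ c hk) ∘ₗ
    ((toCot P).quotKerEquivOfSurjective (toCot_surjective P)).symm.toLinearMap, ?_⟩
  ext x
  have : ((toCot P).quotKerEquivOfSurjective (toCot_surjective P)).symm (toCot P x) =
      Submodule.Quotient.mk x := by
    rw [LinearEquiv.symm_apply_eq]
    rfl
  simp only [LinearMap.coe_comp, LinearEquiv.coe_coe, Function.comp_apply]
  rw [this, Submodule.liftQ_apply]

/-- Precomposition with `toCot` is injective. -/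
theorem comp_toCot_injective {M : Type m} [AddCommGroup M] [Module B M]
    (φ ψ : P.toExtension.Cotangent →ₗ[B] M) (h : φ ∘ₗ toCot P = ψ ∘ₗ toCot P) : φ = ψ := by
  ext x
  obtain ⟨y, rfl⟩ := toCot_surjective P x
  exact LinearMap.congr_fun h y

end Groth.Agent.Lib.Helper59
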