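import Groth.Prelude.Def_CotT2
import Groth.Agent.Lib.Helper59.CotTExact
import Mathlib.Algebra.Algebra.Unitization

/-!
Independence of `T²` of the presentation (helper59): morphisms of presentations of a fixed algebra `B`
(over possibly different bases), the induced maps on `L₁`, `L₂`, `T²`, and the homotopy lemma
(via the square-zero-like ring structure on `F'/F₀'`).
-/

set_option autoImplicit false
universe u u' u'' v w t w' t' w'' t'' m

open TensorProduct

namespace Groth.Agent.Lib.Helper59.CotTIndep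

open CotT

variable {A : Type u} {A' : Type u'} {A'' : Type u''} {B : Type v}
variable {ι : Type w} {σ : Type t} {ι' : Type w'} {σ' : Type t'} {ι'' : Type w''} {σ'' : Type t''}
variable [CommRing A] [CommRing A'] [CommRing A''] [CommRing B] [Algebra A B] [Algebra A' B]
  [Algebra A'' B]

/-- A morphism of presentations of the same algebra `B` (over possibly different bases): a ring map on the
polynomial rings compatible with the maps to `B`, and a semilinear lift to the free modules on relations. -/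
structure XHom (P : Algebra.Presentation A B ι σ) (P' : Algebra.Presentation A' B ι' σ') where
  φ : P.toExtension.Ring →+* P'.toExtension.Ring
  hφ : ∀ r, algebraMap P'.toExtension.Ring B (φ r) = algebraMap P.toExtension.Ring B r
  H : relMod P →ₛₗ[φ] relMod P'
  hH : ∀ f, jmap P' (H f) = φ (jmap P f)

namespace XHom

variable {P : Algebra.Presentation A B ι σ} {P' : Algebra.Presentation A' B ι' σ'}
  {P'' : Algebra.Presentation A'' B ι'' σ''}

variable (X : XHom P P')

/-- `b ⊗ x ↦ b ⊗ g x` for a `φ`-semilinear `g`, as a `B`-linear map. -/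
noncomputable def tmap {N : Type*} {N' : Type*} [AddCommMonoid N] [Module P.toExtension.Ring N]
    [AddCommMonoid N'] [Module P'.toExtension.Ring N'] (g : N →ₛₗ[X.φ] N') :
    B ⊗[P.toExtension.Ring] N →ₗ[B] B ⊗[P'.toExtension.Ring] N' where
  toFun := CotT.tensorMap (B := B) (B' := B) X.φ (fun r => X.hφ r) g
  map_add' := map_add _
  map_smul' b z := by
    rw [LinearMap.map_smulₛₗ]
    rfl

@[simp] theorem tmap_tmul {N : Type*} {N' : Type*} [AddCommMonoid N] [Module P.toExtension.Ring N]
    [AddCommMonoid N'] [Module P'.toExtension.Ring N'] (g : N →ₛₗ[X.φ] N') (b : B) (x : N) :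
    X.tmap g (b ⊗ₜ x) = b ⊗ₜ g x := rfl

/-- `Q → Q'`. -/
noncomputable def relKerMap : relKer P →ₛₗ[X.φ] relKer P' :=
  (X.H.comp (relKer P).subtype).codRestrict (relKer P') (fun q => by
    change jmap P' (X.H (q : relMod P)) = 0
    rw [X.hH, show jmap P (q : relMod P) = 0 from q.2, map_zero])

@[simp] theorem relKerMap_coe (q : relKer P) : (X.relKerMap q : relMod P') = X.H q := rfl

theorem H_mem_trivRel {y : relMod P} (hy : y ∈ trivRel P) : X.H y ∈ trivRel P' := by
  induction hy using Submodule.span_induction with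
  | mem x hx =>
    obtain ⟨a, b, rfl⟩ := hx
    refine Submodule.subset_span ⟨X.H a, X.H b, ?_⟩
    rw [map_sub, LinearMap.map_smulₛₗ, LinearMap.map_smulₛₗ, X.hH, X.hH]
  | zero => simp
  | add x y _ _ hx hy => rw [map_add]; exact Submodule.add_mem _ hx hy
  | smul r x _ hx => rw [LinearMap.map_smulₛₗ]; exact Submodule.smul_mem _ _ hx

/-- `L₁ → L₁'`. -/
noncomputable def L1map : L1 P →ₗ[B] L1 P' := X.tmap X.H

@[simp] theorem L1map_tmul (b : B) (f : relMod P) : X.L1map (b ⊗ₜ f) = b ⊗ₜ X.H f := rfl

/-- `L₂ → L₂'`. -/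
noncomputable def L2map : L2 P →ₗ[B] L2 P' :=
  Submodule.mapQ _ _ (X.tmap X.relKerMap) (by
    rintro _ ⟨z, rfl⟩
    rw [Submodule.mem_comap]
    induction z using TensorProduct.induction_on with
    | zero => simp
    | add x y hx hy => rw [map_add, map_add]; exact Submodule.add_mem _ hx hy
    | tmul b k =>
      rw [LinearMap.baseChange_tmul, tmap_tmul]
      refine ⟨b ⊗ₜ ⟨X.relKerMap (k : relKer P), ?_⟩, rfl⟩
      change (X.relKerMap (k : relKer P) : relMod P') ∈ trivRel P'
      rw [relKerMap_coe]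
      exact X.H_mem_trivRel k.2)

@[simp] theorem L2map_mk_tmul (b : B) (q : relKer P) :
    X.L2map (Submodule.Quotient.mk (b ⊗ₜ q)) = Submodule.Quotient.mk (b ⊗ₜ X.relKerMap q) := rfl

theorem d2_L2map (z : L2 P) : d2 P' (X.L2map z) = X.L1map (d2 P z) := by
  induction z using Submodule.Quotient.induction_on with
  | H z =>
    induction z using TensorProduct.induction_on with
    | zero => simp
    | add x y hx hy =>
      rw [Submodule.Quotient.mk_add, map_add, map_add, hx, hy, map_add, map_add]
    | tmul b q => rw [L2map_mk_tmul, d2_mk_tmul, d2_mk_tmul, L1map_tmul, relKerMap_coe]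

theorem d2_comp_L2map : d2 P' ∘ₗ X.L2map = X.L1map ∘ₗ d2 P :=
  LinearMap.ext fun z => X.d2_L2map z

variable (M : Type m) [AddCommGroup M] [Module B M]

/-- The induced map `T²(P', M) → T²(P, M)`. -/
noncomputable def T2map : T2 P' M →ₗ[B] T2 P M :=
  Submodule.mapQ _ _ (LinearMap.lcomp B M X.L2map) (by
    rintro _ ⟨ψ, rfl⟩
    refine ⟨ψ ∘ₗ X.L1map, ?_⟩
    rw [d2Star_apply, LinearMap.lcomp_apply', d2Star_apply, LinearMap.comp_assoc, LinearMap.comp_assoc,
      d2_comp_L2map])

@[simp] theorem T2map_mk (ψ : L2 P' →ₗ[B] M) :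
    X.T2map M (Submodule.Quotient.mk ψ) = Submodule.Quotient.mk (ψ ∘ₗ X.L2map) := rfl

theorem T2map_eq_of_homotopy (Y : XHom P P') (s : L1 P →ₗ[B] L2 P')
    (hs : X.L2map - Y.L2map = s ∘ₗ d2 P) : X.T2map M = Y.T2map M := by
  refine Submodule.linearMap_qext _ (LinearMap.ext fun ψ => ?_)
  show Submodule.Quotient.mk (ψ ∘ₗ X.L2map) = Submodule.Quotient.mk (ψ ∘ₗ Y.L2map)
  rw [Submodule.Quotient.eq]
  refine ⟨ψ ∘ₗ s, ?_⟩
  rw [d2Star_apply, LinearMap.comp_assoc, ← hs, LinearMap.comp_sub]

/-- The identity morphism. -/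
noncomputable def id (P : Algebra.Presentation A B ι σ) : XHom P P where
  φ := RingHom.id _
  hφ _ := rfl
  H := LinearMap.id
  hH _ := rfl

theorem L2map_id : (XHom.id P).L2map = LinearMap.id := by
  refine Submodule.linearMap_qext _ (TensorProduct.AlgebraTensorModule.ext fun b q => ?_)
  show Submodule.Quotient.mk (b ⊗ₜ (XHom.id P).relKerMap q) = Submodule.Quotient.mk (b ⊗ₜ q)
  congr 2

theorem T2map_id : (XHom.id P).T2map M = LinearMap.id := by
  refine Submodule.linearMap_qext _ (LinearMap.ext fun ψ => ?_)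
  show Submodule.Quotient.mk (ψ ∘ₗ (XHom.id P).L2map) = Submodule.Quotient.mk ψ
  rw [L2map_id, LinearMap.comp_id]

/-- Composition of morphisms. -/
noncomputable def comp (X : XHom P P') (X' : XHom P' P'') : XHom P P'' where
  φ := X'.φ.comp X.φ
  hφ r := by rw [RingHom.comp_apply, X'.hφ, X.hφ]
  H :=
    { toFun := fun f => X'.H (X.H f)
      map_add' := fun f g => by rw [map_add, map_add]
      map_smul' := fun r f => by
        rw [LinearMap.map_smulₛₗ, LinearMap.map_smulₛₗ]
        rfl }
  hH f := by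
    show jmap P'' (X'.H (X.H f)) = _
    rw [X'.hH, X.hH]
    rfl

theorem L2map_comp (X' : XHom P' P'') : (X.comp X').L2map = X'.L2map ∘ₗ X.L2map := by
  refine Submodule.linearMap_qext _ (TensorProduct.AlgebraTensorModule.ext fun b q => ?_)
  show Submodule.Quotient.mk (b ⊗ₜ (X.comp X').relKerMap q) =
    Submodule.Quotient.mk (b ⊗ₜ X'.relKerMap (X.relKerMap q))
  congr 2

theorem T2map_comp (X' : XHom P' P'') : (X.comp X').T2map M = X.T2map M ∘ₗ X'.T2map M := by
  refine Submodule.linearMap_qext _ (LinearMap.ext fun ψ => ?_)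
  show Submodule.Quotient.mk (ψ ∘ₗ (X.comp X').L2map) =
    Submodule.Quotient.mk ((ψ ∘ₗ X'.L2map) ∘ₗ X.L2map)
  rw [L2map_comp, LinearMap.comp_assoc]

end XHom

section Factor

theorem exists_factor {R M N L : Type*} [Semiring R] [AddCommMonoid M] [AddCommMonoid N]
    [AddCommMonoid L] [Module R M] [Module R N] [Module R L] (θ : M →ₗ[R] N)
    (hθ : Function.Surjective θ) (κ0 : M →ₗ[R] L) (h : ∀ x y, θ x = θ y → κ0 x = κ0 y) :
    ∃ κ : N →ₗ[R] L, ∀ x, κ (θ x) = κ0 x := by
  refine ⟨{ toFun := fun n => κ0 (Function.surjInv hθ n), map_add' := fun a b => ?_,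
            map_smul' := fun r a => ?_ }, fun x => ?_⟩
  · rw [← map_add]
    apply h
    rw [map_add, Function.surjInv_eq hθ, Function.surjInv_eq hθ, Function.surjInv_eq hθ]
  · rw [RingHom.id_apply, ← map_smul]
    apply h
    rw [map_smul, Function.surjInv_eq hθ, Function.surjInv_eq hθ]
  · apply h
    exact Function.surjInv_eq hθ _

end Factor

section W

variable (P' : Algebra.Presentation A' B ι' σ')

/-- `F'/F₀'`: the free module on the relations modulo the trivial relations. -/
def W : Type _ := relMod P' ⧸ trivRel P'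

noncomputable instance : AddCommGroup (W P') := inferInstanceAs (AddCommGroup (relMod P' ⧸ trivRel P'))
noncomputable instance : Module P'.toExtension.Ring (W P') :=
  inferInstanceAs (Module P'.toExtension.Ring (relMod P' ⧸ trivRel P'))

/-- the quotient map `F' → F'/F₀'` -/
noncomputable def W.mk : relMod P' →ₗ[P'.toExtension.Ring] W P' := (trivRel P').mkQ

theorem W.mk_surjective : Function.Surjective (W.mk P') := Submodule.mkQ_surjective _

theorem W.mk_eq_zero {f : relMod P'} : W.mk P' f = 0 ↔ f ∈ trivRel P' :=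
  Submodule.Quotient.mk_eq_zero _

/-- `j` on the quotient. -/
noncomputable def jbar : W P' →ₗ[P'.toExtension.Ring] P'.toExtension.Ring :=
  Submodule.liftQ (trivRel P') (jmap P') (trivRel_le_relKer P')

@[simp] theorem jbar_mk (f : relMod P') : jbar P' (W.mk P' f) = jmap P' f := rfl

theorem jbar_smul_comm (a b : W P') : jbar P' a • b = jbar P' b • a := by
  obtain ⟨f, rfl⟩ := W.mk_surjective P' a
  obtain ⟨g, rfl⟩ := W.mk_surjective P' b
  rw [jbar_mk, jbar_mk, ← map_smul, ← map_smul, ← sub_eq_zero, ← map_sub, W.mk_eq_zero]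
  exact Submodule.subset_span ⟨f, g, rfl⟩

/-- `Q' → ker (jbar)`. -/
noncomputable def θ : relKer P' →ₗ[P'.toExtension.Ring] LinearMap.ker (jbar P') :=
  ((W.mk P').comp (relKer P').subtype).codRestrict _ (fun q => by
    rw [LinearMap.mem_ker, LinearMap.comp_apply, jbar_mk]
    exact q.2)

@[simp] theorem θ_coe (q : relKer P') : (θ P' q : W P') = W.mk P' q := rfl

theorem θ_surjective : Function.Surjective (θ P') := by
  rintro ⟨x, hx⟩
  obtain ⟨f, rfl⟩ := W.mk_surjective P' x
  rw [LinearMap.mem_ker, jbar_mk] at hx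
  exact ⟨⟨f, hx⟩, rfl⟩

/-- `Q' → L₂'`, `q ↦ [1 ⊗ q]`. -/
noncomputable def κ0 : relKer P' →ₗ[P'.toExtension.Ring] L2 P' :=
  ((LinearMap.range ((trivRelKer P').subtype.baseChange B)).mkQ.restrictScalars P'.toExtension.Ring) ∘ₗ
    (TensorProduct.mk P'.toExtension.Ring B (relKer P') 1)

@[simp] theorem κ0_apply (q : relKer P') : κ0 P' q = Submodule.Quotient.mk ((1 : B) ⊗ₜ q) := rfl

theorem κ0_eq_zero (z : relKer P') (hz : (z : relMod P') ∈ trivRel P') : κ0 P' z = 0 := by
  rw [κ0_apply, Submodule.Quotient.mk_eq_zero]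
  exact ⟨(1 : B) ⊗ₜ ⟨z, hz⟩, rfl⟩

theorem κ0_eq_of_θ_eq (x y : relKer P') (h : θ P' x = θ P' y) : κ0 P' x = κ0 P' y := by
  have h0 : W.mk P' (x : relMod P') = W.mk P' (y : relMod P') := congrArg Subtype.val h
  have h1 : (x : relMod P') - (y : relMod P') ∈ trivRel P' := by
    rw [← W.mk_eq_zero, map_sub, h0, sub_self]
  have h2 : (x : relMod P') - (y : relMod P') ∈ relKer P' := trivRel_le_relKer P' h1
  have h3 : x = y + ⟨_, h2⟩ := by
    apply Subtype.ext
    rw [Submodule.coe_add]
    exact (add_sub_cancel _ _).symm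
  rw [h3, map_add, κ0_eq_zero P' ⟨_, h2⟩ h1, add_zero]

/-- `ker (jbar) → L₂'`. -/
noncomputable def κ : LinearMap.ker (jbar P') →ₗ[P'.toExtension.Ring] L2 P' :=
  Classical.choose (exists_factor (θ P') (θ_surjective P') (κ0 P') (κ0_eq_of_θ_eq P'))

theorem κ_θ (q : relKer P') : κ P' (θ P' q) = Submodule.Quotient.mk ((1 : B) ⊗ₜ q) :=
  Classical.choose_spec (exists_factor (θ P') (θ_surjective P') (κ0 P') (κ0_eq_of_θ_eq P')) q

end W

section Htpy

variable {P : Algebra.Presentation A B ι σ} {P' : Algebra.Presentation A' B ι' σ'}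

/-- Crossed-derivation data between two morphisms of presentations. -/
structure Htpy (X Y : XHom P P') where
  η : P.toExtension.Ring →+ W P'
  jbar_η : ∀ r, jbar P' (η r) = X.φ r - Y.φ r
  η_mul : ∀ r r', η (r * r') = X.φ r • η r' + Y.φ r' • η r

namespace Htpy

variable {X Y : XHom P P'} (h : Htpy X Y)

/-- `Δ f = [H f] - [G f] - η (j f)`. -/
noncomputable def Δ : relMod P →ₛₗ[X.φ] W P' where
  toFun f := W.mk P' (X.H f) - W.mk P' (Y.H f) - h.η (jmap P f)
  map_add' f g := by
    simp only [map_add]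
    abel
  map_smul' r f := by
    have key : (X.φ r - Y.φ r) • W.mk P' (Y.H f) = Y.φ (jmap P f) • h.η r := by
      have := jbar_smul_comm P' (h.η r) (W.mk P' (Y.H f))
      rw [h.jbar_η, jbar_mk, Y.hH] at this
      exact this
    rw [sub_smul] at key
    have e1 : W.mk P' (X.H (r • f)) = X.φ r • W.mk P' (X.H f) := by
      rw [LinearMap.map_smulₛₗ, map_smul]
    have e2 : W.mk P' (Y.H (r • f)) = Y.φ r • W.mk P' (Y.H f) := by
      rw [LinearMap.map_smulₛₗ, map_smul]
    have e3 : h.η (jmap P (r • f)) = X.φ r • h.η (jmap P f) + Y.φ (jmap P f) • h.η r := by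
      rw [map_smul, smul_eq_mul, h.η_mul]
    show W.mk P' (X.H (r • f)) - W.mk P' (Y.H (r • f)) - h.η (jmap P (r • f)) =
      X.φ r • (W.mk P' (X.H f) - W.mk P' (Y.H f) - h.η (jmap P f))
    rw [e1, e2, e3, ← key, smul_sub, smul_sub]
    abel

theorem Δ_apply (f : relMod P) :
    h.Δ f = W.mk P' (X.H f) - W.mk P' (Y.H f) - h.η (jmap P f) := rfl

theorem Δ_mem (f : relMod P) : h.Δ f ∈ LinearMap.ker (jbar P') := by
  rw [LinearMap.mem_ker, Δ_apply, map_sub, map_sub, jbar_mk, jbar_mk, h.jbar_η, X.hH, Y.hH, sub_self]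

/-- `δ = κ ∘ Δ : F → L₂'`. -/
noncomputable def δ : relMod P →ₛₗ[X.φ] L2 P' :=
  (κ P').comp (h.Δ.codRestrict (LinearMap.ker (jbar P')) h.Δ_mem)

theorem δ_of_mem (q : relKer P) :
    h.δ q = Submodule.Quotient.mk ((1 : B) ⊗ₜ X.relKerMap q) -
      Submodule.Quotient.mk ((1 : B) ⊗ₜ Y.relKerMap q) := by
  have h1 : h.Δ.codRestrict (LinearMap.ker (jbar P')) h.Δ_mem (q : relMod P) =
      θ P' (X.relKerMap q) - θ P' (Y.relKerMap q) := by
    apply Subtype.ext
    show h.Δ (q : relMod P) = _
    rw [Δ_apply, show jmap P (q : relMod P) = 0 from q.2, map_zero, sub_zero]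
    rfl
  show κ P' (h.Δ.codRestrict (LinearMap.ker (jbar P')) h.Δ_mem (q : relMod P)) = _
  rw [h1, map_sub, κ_θ, κ_θ]

/-- the homotopy `L₁ → L₂'`. -/
noncomputable def s1 : L1 P →ₗ[B] L2 P' :=
  (L1basis P).constr B (fun s => h.δ (Finsupp.single s 1))

theorem s1_tmul (b : B) (f : relMod P) : h.s1 (b ⊗ₜ f) = b • h.δ f := by
  induction f using Finsupp.induction_linear with
  | zero => rw [TensorProduct.tmul_zero, map_zero, map_zero, smul_zero]
  | add f g hf hg => rw [TensorProduct.tmul_add, map_add, hf, hg, map_add, smul_add]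
  | single s r =>
    have e1 : (b ⊗ₜ[P.toExtension.Ring] (Finsupp.single s r : relMod P) : L1 P) =
        (b * algebraMap P.toExtension.Ring B r) • L1basis P s := by
      rw [L1basis_apply, TensorProduct.smul_tmul', smul_eq_mul, mul_one,
        ← Finsupp.smul_single_one s r, TensorProduct.tmul_smul, TensorProduct.smul_tmul',
        Algebra.smul_def, mul_comm]
    rw [e1, map_smul, s1, Module.Basis.constr_basis, ← Finsupp.smul_single_one s r,
      LinearMap.map_smulₛₗ, mul_smul, ← X.hφ r, algebraMap_smul]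

theorem L2map_sub : X.L2map - Y.L2map = h.s1 ∘ₗ d2 P := by
  refine Submodule.linearMap_qext _ (TensorProduct.AlgebraTensorModule.ext fun b q => ?_)
  show X.L2map (Submodule.Quotient.mk (b ⊗ₜ q)) - Y.L2map (Submodule.Quotient.mk (b ⊗ₜ q)) =
    h.s1 (d2 P (Submodule.Quotient.mk (b ⊗ₜ q)))
  rw [d2_mk_tmul, s1_tmul, δ_of_mem, XHom.L2map_mk_tmul, XHom.L2map_mk_tmul, smul_sub,
    ← Submodule.Quotient.mk_smul, ← Submodule.Quotient.mk_smul, TensorProduct.smul_tmul',
    TensorProduct.smul_tmul', smul_eq_mul, mul_one]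

include h in
theorem T2map_eq (M : Type m) [AddCommGroup M] [Module B M] : X.T2map M = Y.T2map M :=
  XHom.T2map_eq_of_homotopy X M Y h.s1 h.L2map_sub

end Htpy

/-- the trivial homotopy when the ring maps agree. -/
noncomputable def Htpy.ofEq (X Y : XHom P P') (hXY : X.φ = Y.φ) : Htpy X Y where
  η := 0
  jbar_η r := by rw [hXY, sub_self]; rfl
  η_mul r r' := by simp

end Htpy

section Poly

variable (P' : Algebra.Presentation A' B ι' σ')

noncomputable instance : NonUnitalCommRing (W P') :=
  { (inferInstance : AddCommGroup (W P')) with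
    mul := fun a b => jbar P' a • b
    left_distrib := fun a b c => smul_add _ _ _
    right_distrib := fun a b c => by
      show jbar P' (a + b) • c = jbar P' a • c + jbar P' b • c
      rw [map_add, add_smul]
    zero_mul := fun a => by
      show jbar P' 0 • a = 0
      rw [map_zero, zero_smul]
    mul_zero := fun a => smul_zero _
    mul_assoc := fun a b c => by
      show jbar P' (jbar P' a • b) • c = jbar P' a • (jbar P' b • c)
      rw [map_smul, smul_eq_mul, mul_smul]
    mul_comm := fun a b => jbar_smul_comm P' a b }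

theorem W.mul_def (a b : W P') : a * b = jbar P' a • b := rfl

instance : IsScalarTower P'.toExtension.Ring (W P') (W P') := ⟨fun r a b => by
  show jbar P' (r • a) • b = r • (jbar P' a • b)
  rw [map_smul, smul_eq_mul, mul_smul]⟩

instance : SMulCommClass P'.toExtension.Ring (W P') (W P') := ⟨fun r a b => by
  show r • (jbar P' a • b) = jbar P' a • (r • b)
  rw [smul_comm]⟩

/-- the second projection `(r, w) ↦ r + j w` of the unitization. -/
noncomputable def p2 : Unitization P'.toExtension.Ring (W P') →+* P'.toExtension.Ring where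
  toFun x := x.fst + jbar P' x.snd
  map_one' := by
    rw [Unitization.fst_one, Unitization.snd_one, map_zero, add_zero]
  map_mul' x y := by
    rw [Unitization.fst_mul, Unitization.snd_mul, map_add, map_add, map_smul, map_smul, W.mul_def,
      map_smul]
    simp only [smul_eq_mul]
    ring
  map_zero' := by
    rw [Unitization.fst_zero, Unitization.snd_zero, map_zero, add_zero]
  map_add' x y := by
    rw [Unitization.fst_add, Unitization.snd_add, map_add]
    ring

theorem p2_apply (x : Unitization P'.toExtension.Ring (W P')) :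
    p2 P' x = x.fst + jbar P' x.snd := rfl

variable {P'} {P : Algebra.Presentation A B ι σ}

theorem exists_w (X Y : XHom P P') (r : P.toExtension.Ring) :
    ∃ w : W P', jbar P' w = X.φ r - Y.φ r := by
  have h1 : X.φ r - Y.φ r ∈ LinearMap.range (jmap P') := by
    rw [range_jmap]
    show algebraMap P'.toExtension.Ring B (X.φ r - Y.φ r) = 0
    rw [map_sub, X.hφ, Y.hφ, sub_self]
  obtain ⟨f, hf⟩ := h1
  exact ⟨W.mk P' f, hf⟩

/-- the chosen lifts of `φ(x_i) - γ(x_i)` -/
noncomputable def wOf (X Y : XHom P P') (i : ι) : W P' :=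
  Classical.choose (exists_w X Y (MvPolynomial.X i : MvPolynomial ι A))

theorem jbar_wOf (X Y : XHom P P') (i : ι) :
    jbar P' (wOf X Y i) = X.φ (MvPolynomial.X i : MvPolynomial ι A) -
      Y.φ (MvPolynomial.X i : MvPolynomial ι A) :=
  Classical.choose_spec (exists_w X Y (MvPolynomial.X i : MvPolynomial ι A))

/-- the ring map `R → R' ⋉ W'` -/
noncomputable def Θ (X Y : XHom P P') : MvPolynomial ι A →+* Unitization P'.toExtension.Ring (W P') :=
  MvPolynomial.eval₂Hom
    ((Unitization.inlRingHom P'.toExtension.Ring (W P')).comp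
      (Y.φ.comp (MvPolynomial.C : A →+* MvPolynomial ι A)))
    (fun i => Unitization.inl (Y.φ (MvPolynomial.X i : MvPolynomial ι A)) +
      Unitization.inr (wOf X Y i))

theorem Θ_C (X Y : XHom P P') (a : A) :
    Θ X Y (MvPolynomial.C a) = Unitization.inl (Y.φ (MvPolynomial.C a : MvPolynomial ι A)) := by
  rw [Θ, MvPolynomial.coe_eval₂Hom, MvPolynomial.eval₂_C]
  rfl

theorem Θ_X (X Y : XHom P P') (i : ι) :
    Θ X Y (MvPolynomial.X i) = Unitization.inl (Y.φ (MvPolynomial.X i : MvPolynomial ι A)) +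
      Unitization.inr (wOf X Y i) := by
  rw [Θ, MvPolynomial.coe_eval₂Hom, MvPolynomial.eval₂_X]

theorem fst_Θ (X Y : XHom P P') (r : MvPolynomial ι A) : (Θ X Y r).fst = Y.φ r := by
  have : ((Unitization.fstHom P'.toExtension.Ring (W P')) : _ →+* P'.toExtension.Ring).comp (Θ X Y) =
      Y.φ := by
    refine MvPolynomial.ringHom_ext (fun a => ?_) (fun i => ?_)
    · show (Θ X Y (MvPolynomial.C a)).fst = _
      rw [Θ_C, Unitization.fst_inl]
      rfl
    · show (Θ X Y (MvPolynomial.X i)).fst = _
      rw [Θ_X, Unitization.fst_add, Unitization.fst_inl, Unitization.fst_inr, add_zero]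
      rfl
  exact RingHom.congr_fun this r

theorem p2_Θ (X Y : XHom P P')
    (hC : ∀ a : A, X.φ (MvPolynomial.C a : MvPolynomial ι A) = Y.φ (MvPolynomial.C a : MvPolynomial ι A))
    (r : MvPolynomial ι A) : p2 P' (Θ X Y r) = X.φ r := by
  have : (p2 P').comp (Θ X Y) = X.φ := by
    refine MvPolynomial.ringHom_ext (fun a => ?_) (fun i => ?_)
    · show p2 P' (Θ X Y (MvPolynomial.C a)) = _
      rw [Θ_C, p2_apply, Unitization.fst_inl, Unitization.snd_inl, map_zero, add_zero]
      exact (hC a).symm
    · show p2 P' (Θ X Y (MvPolynomial.X i)) = _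
      rw [Θ_X, p2_apply, Unitization.fst_add, Unitization.fst_inl, Unitization.fst_inr,
        Unitization.snd_add, Unitization.snd_inl, Unitization.snd_inr, add_zero, zero_add, jbar_wOf]
      exact add_sub_cancel _ _
  exact RingHom.congr_fun this r

/-- `Θ` with domain written as `P.toExtension.Ring`. -/
noncomputable def ΘR (X Y : XHom P P') :
    P.toExtension.Ring →+* Unitization P'.toExtension.Ring (W P') := Θ X Y

theorem fst_ΘR (X Y : XHom P P') (r : P.toExtension.Ring) : (ΘR X Y r).fst = Y.φ r := fst_Θ X Y r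

theorem jbar_snd_ΘR (X Y : XHom P P')
    (hC : ∀ a : A, X.φ (MvPolynomial.C a : MvPolynomial ι A) = Y.φ (MvPolynomial.C a : MvPolynomial ι A))
    (r : P.toExtension.Ring) : jbar P' (ΘR X Y r).snd = X.φ r - Y.φ r := by
  have h1 : p2 P' (ΘR X Y r) = X.φ r := p2_Θ X Y hC r
  rw [p2_apply, fst_ΘR] at h1
  rw [← h1]
  ring

/-- the homotopy for polynomial presentations. -/
noncomputable def Htpy.ofPoly (X Y : XHom P P')
    (hC : ∀ a : A, X.φ (MvPolynomial.C a : MvPolynomial ι A) = Y.φ (MvPolynomial.C a : MvPolynomial ι A)) :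
    Htpy X Y where
  η :=
    { toFun := fun r => (ΘR X Y r).snd
      map_zero' := by rw [map_zero, Unitization.snd_zero]
      map_add' := fun r r' => by rw [map_add, Unitization.snd_add] }
  jbar_η r := jbar_snd_ΘR X Y hC r
  η_mul r r' := by
    show (ΘR X Y (r * r')).snd = X.φ r • (ΘR X Y r').snd + Y.φ r' • (ΘR X Y r).snd
    rw [map_mul, Unitization.snd_mul, fst_ΘR, fst_ΘR, W.mul_def, jbar_snd_ΘR X Y hC, sub_smul]
    abel

end Poly

section Exists

variable {P : Algebra.Presentation A B ι σ} {P' : Algebra.Presentation A' B ι' σ'}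

/-- the semilinear map on the free modules determined by its values on the basis. -/
noncomputable def mkH (φ : P.toExtension.Ring →+* P'.toExtension.Ring) (hval : σ → relMod P') :
    relMod P →ₛₗ[φ] relMod P' where
  toFun f := Finsupp.linearCombination P'.toExtension.Ring hval (Finsupp.mapRange φ (map_zero _) f)
  map_add' f g := by rw [Finsupp.mapRange_add (map_add _), map_add]
  map_smul' r f := by
    rw [← map_smul]
    congr 1
    ext s
    simp [Finsupp.mapRange_apply, map_mul]

@[simp] theorem mkH_single (φ : P.toExtension.Ring →+* P'.toExtension.Ring) (hval : σ → relMod P')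
    (s : σ) (r : P.toExtension.Ring) : mkH φ hval (Finsupp.single s r) = φ r • hval s := by
  simp [mkH]

theorem jmap_mkH (φ : P.toExtension.Ring →+* P'.toExtension.Ring) (hval : σ → relMod P')
    (hv : ∀ s, jmap P' (hval s) = φ (rel P s)) (f : relMod P) :
    jmap P' (mkH φ hval f) = φ (jmap P f) := by
  induction f using Finsupp.induction_linear with
  | zero => simp
  | add f g hf hg => rw [map_add, map_add, hf, hg, map_add, map_add]
  | single s r => rw [mkH_single, map_smul, hv, jmap_single, smul_eq_mul, map_mul]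

theorem exists_XHom (φ : P.toExtension.Ring →+* P'.toExtension.Ring)
    (hφ : ∀ r, algebraMap P'.toExtension.Ring B (φ r) = algebraMap P.toExtension.Ring B r) :
    ∃ X : XHom P P', X.φ = φ := by
  have h1 : ∀ s, ∃ f : relMod P', jmap P' f = φ (rel P s) := by
    intro s
    have : φ (rel P s) ∈ LinearMap.range (jmap P') := by
      rw [range_jmap]
      show algebraMap P'.toExtension.Ring B (φ (rel P s)) = 0
      rw [hφ, algebraMap_rel]
    exact this
  choose hval hv using h1
  exact ⟨⟨φ, hφ, mkH φ hval, jmap_mkH φ hval hv⟩, rfl⟩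

/-- ring isomorphisms compatible with the maps to `B` induce isomorphisms on `T²`. -/
theorem T2_equiv_of_ringEquiv (e : P.toExtension.Ring ≃+* P'.toExtension.Ring)
    (he : ∀ r, algebraMap P'.toExtension.Ring B (e r) = algebraMap P.toExtension.Ring B r)
    (M : Type m) [AddCommGroup M] [Module B M] : Nonempty (T2 P M ≃ₗ[B] T2 P' M) := by
  obtain ⟨X, hX⟩ := exists_XHom (P := P) (P' := P') e.toRingHom he
  obtain ⟨X', hX'⟩ := exists_XHom (P := P') (P' := P) e.symm.toRingHom (fun r => by
    have := he (e.symm r)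
    rw [RingEquiv.apply_symm_apply] at this
    exact this.symm)
  have h1 : (X.comp X').T2map M = (XHom.id P).T2map M :=
    (Htpy.ofEq _ _ (by
      show X'.φ.comp X.φ = RingHom.id _
      rw [hX, hX']
      exact RingHom.ext fun r => e.symm_apply_apply r)).T2map_eq M
  have h2 : (X'.comp X).T2map M = (XHom.id P').T2map M :=
    (Htpy.ofEq _ _ (by
      show X.φ.comp X'.φ = RingHom.id _
      rw [hX, hX']
      exact RingHom.ext fun r => e.apply_symm_apply r)).T2map_eq M
  rw [XHom.T2map_comp, XHom.T2map_id] at h1 h2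
  exact ⟨LinearEquiv.ofLinearMap (X'.T2map M) (X.T2map M) h2 h1⟩

end Exists

section SameBase

variable {P : Algebra.Presentation A B ι σ} {ι₂ : Type w'} {σ₂ : Type t'}
  {P₂ : Algebra.Presentation A B ι₂ σ₂}

theorem exists_XHom_sameBase (P : Algebra.Presentation A B ι σ) (P₂ : Algebra.Presentation A B ι₂ σ₂) :
    ∃ X : XHom P P₂, ∀ a : A, X.φ (MvPolynomial.C a : MvPolynomial ι A) =
      (MvPolynomial.C a : MvPolynomial ι₂ A) := by
  have hs := P₂.algebraMap_surjective
  choose v hv using fun i => hs (P.val i)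
  have hφ : ∀ r : P.toExtension.Ring, algebraMap P₂.toExtension.Ring B
      ((MvPolynomial.aeval v : MvPolynomial ι A →ₐ[A] P₂.toExtension.Ring) r) =
      algebraMap P.toExtension.Ring B r := by
    intro r
    have : ((IsScalarTower.toAlgHom A P₂.toExtension.Ring B).comp
        (MvPolynomial.aeval v : MvPolynomial ι A →ₐ[A] P₂.toExtension.Ring)) =
        (IsScalarTower.toAlgHom A P.toExtension.Ring B) := by
      refine MvPolynomial.algHom_ext fun i => ?_
      show algebraMap P₂.toExtension.Ring B (MvPolynomial.aeval v (MvPolynomial.X i)) =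
        algebraMap P.toExtension.Ring B (MvPolynomial.X i)
      rw [MvPolynomial.aeval_X]
      refine (hv i).trans ?_
      show P.val i = algebraMap P.Ring B (MvPolynomial.X i)
      rw [P.algebraMap_apply, MvPolynomial.aeval_X]
    exact AlgHom.congr_fun this r
  obtain ⟨X, hX⟩ := exists_XHom (P := P) (P' := P₂)
    (MvPolynomial.aeval v : MvPolynomial ι A →ₐ[A] P₂.toExtension.Ring).toRingHom hφ
  refine ⟨X, fun a => ?_⟩
  rw [hX]
  show MvPolynomial.aeval v (MvPolynomial.C a) = _
  rw [MvPolynomial.aeval_C]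
  rfl

/-- `T²` does not depend on the presentation. -/
theorem T2_equiv (P : Algebra.Presentation A B ι σ) (P₂ : Algebra.Presentation A B ι₂ σ₂)
    (M : Type m) [AddCommGroup M] [Module B M] : Nonempty (T2 P M ≃ₗ[B] T2 P₂ M) := by
  obtain ⟨X, hX⟩ := exists_XHom_sameBase P P₂
  obtain ⟨X', hX'⟩ := exists_XHom_sameBase P₂ P
  have h1 : (X.comp X').T2map M = (XHom.id P).T2map M :=
    (Htpy.ofPoly _ _ (fun a => by
      show X'.φ (X.φ (MvPolynomial.C a)) = MvPolynomial.C a
      rw [hX, hX'])).T2map_eq M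
  have h2 : (X'.comp X).T2map M = (XHom.id P₂).T2map M :=
    (Htpy.ofPoly _ _ (fun a => by
      show X.φ (X'.φ (MvPolynomial.C a)) = MvPolynomial.C a
      rw [hX', hX])).T2map_eq M
  rw [XHom.T2map_comp, XHom.T2map_id] at h1 h2
  exact ⟨LinearEquiv.ofLinearMap (X'.T2map M) (X.T2map M) h2 h1⟩

end SameBase

end Groth.Agent.Lib.Helper59.CotTIndep
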