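import Groth.Prelude.Def_CotT2
import Mathlib.RingTheory.Extension.Presentation.Basic

/-!
Vanishing of `T¹`, `T²` of a presentation when `L₁` resp. `L₂` vanish (helper59).
-/

set_option autoImplicit false
universe u v w t m

open TensorProduct

namespace Groth.Agent.Lib.Helper59.CotTVanish

open CotT

variable {A : Type u} {B : Type v} {ι : Type w} {σ : Type t}
variable [CommRing A] [CommRing B] [Algebra A B]
variable (P : Algebra.Presentation A B ι σ)

theorem L1_subsingleton [IsEmpty σ] : Subsingleton (L1 P) := by
  refine ⟨fun x y => ?_⟩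
  have h0 : ∀ z : L1 P, z = 0 := by
    intro z
    induction z using TensorProduct.induction_on with
    | zero => rfl
    | add x y hx hy => rw [hx, hy, add_zero]
    | tmul b f =>
      have : f = 0 := Subsingleton.elim _ _
      rw [this, TensorProduct.tmul_zero]
  rw [h0 x, h0 y]

theorem L2_subsingleton (h : ∀ q : relKer P, (q : relMod P) ∈ trivRel P) : Subsingleton (L2 P) := by
  refine ⟨fun x y => ?_⟩
  have h0 : ∀ z : L2 P, z = 0 := by
    intro z
    induction z using Submodule.Quotient.induction_on with
    | H z =>
      induction z using TensorProduct.induction_on with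
      | zero => rfl
      | add x y hx hy => rw [Submodule.Quotient.mk_add, hx, hy, add_zero]
      | tmul b q =>
        rw [Submodule.Quotient.mk_eq_zero]
        exact ⟨b ⊗ₜ ⟨q, h q⟩, rfl⟩
  rw [h0 x, h0 y]

theorem L2_subsingleton_of_isEmpty [IsEmpty σ] : Subsingleton (L2 P) := by
  refine L2_subsingleton P fun q => ?_
  have : (q : relMod P) = 0 := Subsingleton.elim _ _
  rw [this]
  exact Submodule.zero_mem _

variable (M : Type m) [AddCommGroup M] [Module B M]

theorem T1_subsingleton (h : Subsingleton (L1 P)) : Subsingleton (T1 P M) := by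
  have h1 : Subsingleton (L1 P →ₗ[B] M) :=
    ⟨fun f g => LinearMap.ext fun x => by rw [Subsingleton.elim x 0, map_zero, map_zero]⟩
  have h2 : Subsingleton (cocycles1 P M) := ⟨fun f g => Subtype.ext (Subsingleton.elim _ _)⟩
  refine ⟨fun x y => ?_⟩
  obtain ⟨x, rfl⟩ := Submodule.Quotient.mk_surjective _ x
  obtain ⟨y, rfl⟩ := Submodule.Quotient.mk_surjective _ y
  rw [Subsingleton.elim x y]

theorem T2_subsingleton (h : Subsingleton (L2 P)) : Subsingleton (T2 P M) := by
  have h1 : Subsingleton (L2 P →ₗ[B] M) :=
    ⟨fun f g => LinearMap.ext fun x => by rw [Subsingleton.elim x 0, map_zero, map_zero]⟩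
  refine ⟨fun x y => ?_⟩
  obtain ⟨x, rfl⟩ := Submodule.Quotient.mk_surjective _ x
  obtain ⟨y, rfl⟩ := Submodule.Quotient.mk_surjective _ y
  rw [Subsingleton.elim x y]

section Poly

variable (A) (κ : Type w)

/-- the presentation of the polynomial ring with no relations. -/
noncomputable def polyPres : Algebra.Presentation A (MvPolynomial κ A) κ PEmpty.{t + 1} where
  __ := Algebra.Generators.mvPolynomial A κ
  relation := PEmpty.elim
  span_range_relation_eq_ker := by
    simp only [Set.range_eq_empty, Ideal.span_empty]
    exact (Algebra.Generators.ker_mvPolynomial (R := A) (ι := κ)).symm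

end Poly

end Groth.Agent.Lib.Helper59.CotTVanish
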