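import Groth.Agent.Lib.Helper59.H1RegOfRegular
import Groth.Agent.Lib.Helper59.CotTVanish

/-!
The presentation of `B = A/(rs)` with no variables and relations `rs`; for a weakly regular sequence its
relation module consists of trivial relations (helper59).
-/

set_option autoImplicit false
universe u

open TensorProduct

namespace Groth.Agent.Lib.Helper59.CotTRegSeq

open CotT

variable {A B : Type u} [CommRing A] [CommRing B] [Algebra A B]

/-- `A[∅] ≃ A`. -/
noncomputable def e0 : MvPolynomial PEmpty.{u + 1} A ≃ₐ[A] A := MvPolynomial.isEmptyAlgEquiv A PEmpty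

theorem C_e0 (x : MvPolynomial PEmpty.{u + 1} A) : MvPolynomial.C (e0 x) = x :=
  (MvPolynomial.isEmptyAlgEquiv A PEmpty).symm_apply_apply x

theorem e0_C (a : A) : e0 (MvPolynomial.C a : MvPolynomial PEmpty.{u + 1} A) = a :=
  (MvPolynomial.isEmptyAlgEquiv A PEmpty).apply_symm_apply a

theorem aeval_elim (x : MvPolynomial PEmpty.{u + 1} A) :
    MvPolynomial.aeval (PEmpty.elim : PEmpty.{u + 1} → B) x = algebraMap A B (e0 x) := by
  conv_lhs => rw [← C_e0 x]
  rw [MvPolynomial.aeval_C]

variable (hs : Function.Surjective (algebraMap A B)) (rs : List A)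
  (hI : RingHom.ker (algebraMap A B) = Ideal.ofList rs)

/-- the presentation with no variables and relations `rs`. -/
noncomputable def seqPres : Algebra.Presentation A B PEmpty.{u + 1} (ULift.{u} (Fin rs.length)) where
  __ := Algebra.Generators.ofSurjectiveAlgebraMap hs
  relation i := MvPolynomial.C (rs[i.down.val])
  span_range_relation_eq_ker := by
    rw [Algebra.Generators.ker_eq_ker_aeval_val]
    apply le_antisymm
    · rw [Ideal.span_le]
      rintro _ ⟨i, rfl⟩
      show MvPolynomial.aeval _ (MvPolynomial.C (rs[i.down.val])) = 0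
      rw [MvPolynomial.aeval_C]
      have : rs[i.down.val] ∈ RingHom.ker (algebraMap A B) := by
        rw [hI]
        exact Ideal.subset_span (List.getElem_mem _)
      exact this
    · intro x hx
      have hx' : MvPolynomial.aeval (PEmpty.elim : PEmpty.{u + 1} → B) x = 0 := hx
      rw [aeval_elim] at hx'
      have h1 : e0 x ∈ Ideal.ofList rs := by
        rw [← hI]
        exact hx'
      rw [← C_e0 x]
      have h2 : Ideal.ofList rs ≤ Ideal.comap (MvPolynomial.C : A →+* MvPolynomial PEmpty.{u + 1} A)
          (Ideal.span (Set.range fun i : ULift.{u} (Fin rs.length) =>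
            (MvPolynomial.C (rs[i.down.val]) : MvPolynomial PEmpty.{u + 1} A))) := by
        rw [Ideal.span_le]
        intro r hr
        obtain ⟨i, hi, rfl⟩ := List.getElem_of_mem hr
        exact Ideal.subset_span ⟨⟨⟨i, hi⟩⟩, rfl⟩
      exact h2 h1

/-- `C` with codomain written as the ring of the presentation. -/
noncomputable def cR : A →+* (seqPres hs rs hI).toExtension.Ring :=
  (MvPolynomial.C : A →+* MvPolynomial PEmpty.{u + 1} A)

/-- `e0` with domain written as the ring of the presentation. -/
noncomputable def eR : (seqPres hs rs hI).toExtension.Ring →+* A :=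
  (e0 : MvPolynomial PEmpty.{u + 1} A ≃ₐ[A] A).toRingEquiv.toRingHom

theorem cR_eR (x : (seqPres hs rs hI).toExtension.Ring) : cR hs rs hI (eR hs rs hI x) = x := C_e0 x

theorem eR_cR (a : A) : eR hs rs hI (cR hs rs hI a) = a := e0_C a

theorem rel_seqPres (i : ULift.{u} (Fin rs.length)) :
    rel (seqPres hs rs hI) i = cR hs rs hI (rs[i.down.val]) := rfl

/-- coordinatewise `C`, as an additive map `(Fin c → A) → F`. -/
noncomputable def Φ : (Fin rs.length → A) →+ relMod (seqPres hs rs hI) where
  toFun v := Finsupp.equivFunOnFinite.symm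
    (fun i : ULift.{u} (Fin rs.length) => cR hs rs hI (v i.down))
  map_zero' := by
    ext i
    show cR hs rs hI ((0 : Fin rs.length → A) i.down) = 0
    rw [Pi.zero_apply, map_zero]
  map_add' v w := by
    ext i
    show cR hs rs hI ((v + w) i.down) = cR hs rs hI (v i.down) + cR hs rs hI (w i.down)
    rw [Pi.add_apply, map_add]

theorem Φ_apply (v : Fin rs.length → A) (i : ULift.{u} (Fin rs.length)) :
    Φ hs rs hI v i = cR hs rs hI (v i.down) := rfl

theorem Φ_single (i : Fin rs.length) (x : A) :
    Φ hs rs hI (Pi.single i x) = Finsupp.single (ULift.up i) (cR hs rs hI x) := by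
  ext k
  rw [Φ_apply, Finsupp.single_apply, Pi.single_apply]
  by_cases h : k.down = i
  · have : ULift.up i = k := by rw [← h]
    rw [if_pos h, if_pos this]
  · have : ¬ ULift.up i = k := fun h' => h (by rw [← h'])
    rw [if_neg h, if_neg this, map_zero]

theorem Φ_smul (r : A) (v : Fin rs.length → A) :
    Φ hs rs hI (r • v) = cR hs rs hI r • Φ hs rs hI v := by
  ext k
  rw [Finsupp.smul_apply, Φ_apply, Φ_apply, Pi.smul_apply, smul_eq_mul, smul_eq_mul, map_mul]

theorem Φ_mem_trivRel (v : Fin rs.length → A)
    (hv : v ∈ Submodule.span A {v : Fin rs.length → A | ∃ i j : Fin rs.length,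
      v = Pi.single i (rs[j.val]) - Pi.single j (rs[i.val])}) :
    Φ hs rs hI v ∈ trivRel (seqPres hs rs hI) := by
  induction hv using Submodule.span_induction with
  | mem x hx =>
    obtain ⟨i, j, rfl⟩ := hx
    refine Submodule.subset_span ⟨Finsupp.single (ULift.up j) 1, Finsupp.single (ULift.up i) 1, ?_⟩
    rw [map_sub, Φ_single, Φ_single, jmap_single, jmap_single, one_mul, one_mul, rel_seqPres,
      rel_seqPres, Finsupp.smul_single, Finsupp.smul_single, smul_eq_mul, smul_eq_mul, mul_one, mul_one]
  | zero => rw [map_zero]; exact Submodule.zero_mem _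
  | add x y _ _ hx hy => rw [map_add]; exact Submodule.add_mem _ hx hy
  | smul r x _ hx => rw [Φ_smul]; exact Submodule.smul_mem _ _ hx

theorem relKer_le_trivRel (hreg : RingTheory.Sequence.IsWeaklyRegular A rs)
    (q : relKer (seqPres hs rs hI)) : (q : relMod (seqPres hs rs hI)) ∈ trivRel (seqPres hs rs hI) := by
  have hq : jmap (seqPres hs rs hI) (q : relMod (seqPres hs rs hI)) = 0 := q.2
  set a : Fin rs.length → A := fun i => eR hs rs hI ((q : relMod (seqPres hs rs hI)) (ULift.up i))
    with ha
  have h1 : ∑ i, a i * rs[i.val] = 0 := by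
    have h2 : eR hs rs hI (jmap (seqPres hs rs hI) (q : relMod (seqPres hs rs hI))) = 0 := by
      rw [hq, map_zero]
    rw [jmap, Finsupp.linearCombination_apply,
      Finsupp.sum_fintype (q : relMod (seqPres hs rs hI))
        (fun i a => a • rel (seqPres hs rs hI) i) (fun i => zero_smul _ _), map_sum] at h2
    rw [← h2, ← Equiv.sum_comp Equiv.ulift]
    refine Finset.sum_congr rfl fun i _ => ?_
    rw [smul_eq_mul, map_mul, rel_seqPres, eR_cR]
    rfl
  have h3 := Groth.Agent.Lib.Helper59.H1RegOfRegular.isH1Regular_of_isWeaklyRegular rs hreg a h1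
  have h4 := Φ_mem_trivRel hs rs hI a h3
  have h5 : Φ hs rs hI a = (q : relMod (seqPres hs rs hI)) := by
    ext k
    rw [Φ_apply, ha]
    exact cR_eR hs rs hI _
  rw [← h5]
  exact h4

theorem T2_subsingleton (hreg : RingTheory.Sequence.IsWeaklyRegular A rs) (M : Type*) [AddCommGroup M]
    [Module B M] : Subsingleton (T2 (seqPres hs rs hI) M) :=
  Groth.Agent.Lib.Helper59.CotTVanish.T2_subsingleton _ M
    (Groth.Agent.Lib.Helper59.CotTVanish.L2_subsingleton _ (relKer_le_trivRel hs rs hI hreg))

end Groth.Agent.Lib.Helper59.CotTRegSeq
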