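import Groth.Agent.S12286
import Groth.Agent.S12289

/-!
Independence of `T⁰`, `T¹` of the presentation (helper59), via derivations resp. Mathlib's homotopy of
maps of extensions.
-/

set_option autoImplicit false
universe u w w' m

namespace Groth.Agent.Lib.Helper59.CotTIndep01

open CotT Algebra

section N1

variable {A B : Type u} [CommRing A] [CommRing B] [Algebra A B]

/-- `Hom(I/I², M)` modulo the maps coming from `Hom(Ω ⊗ B, M)`. -/
abbrev N1 (E : Algebra.Extension.{w} A B) (M : Type m) [AddCommGroup M] [Module B M] : Type _ :=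
  (E.Cotangent →ₗ[B] M) ⧸ LinearMap.range (LinearMap.lcomp B M E.cotangentComplex)

variable {E : Algebra.Extension.{w} A B} {E' : Algebra.Extension.{w'} A B}
variable (M : Type m) [AddCommGroup M] [Module B M]

/-- pull back along a map of extensions. -/
noncomputable def N1map (f : E.Hom E') : N1 E' M →ₗ[B] N1 E M :=
  Submodule.mapQ _ _ (LinearMap.lcomp B M (Extension.Cotangent.map f)) (by
    rintro _ ⟨ψ, rfl⟩
    refine ⟨ψ ∘ₗ Extension.CotangentSpace.map f, ?_⟩
    refine LinearMap.ext fun x => ?_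
    simp [Extension.CotangentSpace.map_cotangentComplex])

theorem N1map_mk (f : E.Hom E') (ψ : E'.Cotangent →ₗ[B] M) :
    N1map M f (Submodule.Quotient.mk ψ) = Submodule.Quotient.mk (ψ ∘ₗ Extension.Cotangent.map f) := rfl

theorem N1map_eq (f g : E.Hom E') : N1map M f = N1map M g := by
  refine Submodule.linearMap_qext _ (LinearMap.ext fun ψ => ?_)
  show Submodule.Quotient.mk (ψ ∘ₗ Extension.Cotangent.map f) =
    Submodule.Quotient.mk (ψ ∘ₗ Extension.Cotangent.map g)
  rw [Submodule.Quotient.eq]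
  refine ⟨ψ ∘ₗ f.sub g, ?_⟩
  rw [← LinearMap.comp_sub, Extension.Cotangent.map_sub_map]
  rfl

theorem N1map_id : N1map M (Extension.Hom.id E) = LinearMap.id := by
  refine Submodule.linearMap_qext _ (LinearMap.ext fun ψ => ?_)
  show Submodule.Quotient.mk (ψ ∘ₗ Extension.Cotangent.map (Extension.Hom.id E)) =
    Submodule.Quotient.mk ψ
  rw [Extension.Cotangent.map_id, LinearMap.comp_id]

theorem N1map_comp (f : E.Hom E') (g : E'.Hom E) :
    N1map M (g.comp f) = N1map M f ∘ₗ N1map M g := by
  refine Submodule.linearMap_qext _ (LinearMap.ext fun ψ => ?_)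
  show Submodule.Quotient.mk (ψ ∘ₗ Extension.Cotangent.map (g.comp f)) =
    Submodule.Quotient.mk ((ψ ∘ₗ Extension.Cotangent.map g) ∘ₗ Extension.Cotangent.map f)
  rw [Extension.Cotangent.map_comp]
  rfl

theorem N1_equiv (f : E.Hom E') (g : E'.Hom E) : Nonempty (N1 E M ≃ₗ[B] N1 E' M) := by
  have h1 : N1map M f ∘ₗ N1map M g = LinearMap.id := by
    rw [← N1map_comp, N1map_eq M (g.comp f) (Extension.Hom.id E), N1map_id]
  have h2 : N1map M g ∘ₗ N1map M f = LinearMap.id := by
    rw [← N1map_comp, N1map_eq M (f.comp g) (Extension.Hom.id E'), N1map_id]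
  exact ⟨LinearEquiv.ofLinearMap (N1map M g) (N1map M f) h2 h1⟩

end N1

section Main

variable {A B : Type u} [CommRing A] [CommRing B] [Algebra A B] {ι σ ι' σ' : Type w}
variable (P : Algebra.Presentation A B ι σ) (P' : Algebra.Presentation A B ι' σ')
variable (M : Type m) [AddCommGroup M] [Module B M]

theorem T1_equiv_N1 : Nonempty (T1 P M ≃ₗ[B] N1 P.toExtension M) := by
  obtain ⟨-, hker, hsurj⟩ := Groth.Agent.S12289.result A B ι σ P M
  exact ⟨((Submodule.quotEquivOfEq _ _ hker.symm).trans
    (LinearMap.quotKerEquivOfSurjective (homToT1 P M) hsurj)).symm⟩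

theorem T1_equiv : Nonempty (T1 P M ≃ₗ[B] T1 P' M) := by
  obtain ⟨e1⟩ := T1_equiv_N1 P M
  obtain ⟨e2⟩ := T1_equiv_N1 P' M
  obtain ⟨e3⟩ := N1_equiv M
    (Algebra.Generators.defaultHom P.toGenerators P'.toGenerators).toExtensionHom
    (Algebra.Generators.defaultHom P'.toGenerators P.toGenerators).toExtensionHom
  exact ⟨(e1.trans e3).trans e2.symm⟩

theorem T0_equiv : Nonempty (T0 P M ≃ₗ[B] T0 P' M) := by
  letI : Module A M := Module.compHom M (algebraMap A B)
  haveI : IsScalarTower A B M := IsScalarTower.of_compHom A B M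
  let e1 := LinearEquiv.ofBijective (derToT0 P M) (Groth.Agent.S12286.result A B ι σ P M)
  let e2 := LinearEquiv.ofBijective (derToT0 P' M) (Groth.Agent.S12286.result A B ι' σ' P' M)
  exact ⟨e1.symm.trans e2⟩

end Main

end Groth.Agent.Lib.Helper59.CotTIndep01
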