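import Mathlib
import Groth.Prelude.Def_CotT2
import Groth.Agent.Lib.Helper59.CotTIndep
import Groth.Agent.Lib.Helper59.CotTIndep01
import Groth.Agent.S12289

/-!
# Morphisms of presentations: evaluation lemmas, functoriality on the nose (helper59)
-/

set_option autoImplicit false
set_option linter.unusedSectionVars false
universe u v w t u' v' w' t' u'' v'' w'' t'' m

open TensorProduct

namespace Groth.Agent.Lib.Helper59.NineA

open CotT

section Eval

variable {A : Type u} {B : Type v} {ι : Type w} {σ : Type t}
variable {A' : Type u'} {B' : Type v'} {ι' : Type w'} {σ' : Type t'}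
variable [CommRing A] [CommRing B] [Algebra A B] [CommRing A'] [CommRing B'] [Algebra A' B']
variable [Algebra A A'] [Algebra B B'] [Algebra A B'] [IsScalarTower A A' B'] [IsScalarTower A B B']
variable {P : Algebra.Presentation A B ι σ} {P' : Algebra.Presentation A' B' ι' σ'}
variable (h : PresHom P P')
variable (M' : Type m) [AddCommGroup M'] [Module B' M'] [Module B M'] [IsScalarTower B B' M']

theorem T0pull_coe (ψ : T0 P' M') :
    ((h.T0pull M' ψ : T0 P M') : L0 P →ₗ[B] M') = h.pull0 M' (ψ : L0 P' →ₗ[B'] M') := rfl

theorem T1pull_mk (z : cocycles1 P' M') :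
    h.T1pull M' (Submodule.Quotient.mk z) = Submodule.Quotient.mk (h.cocycles1Pull M' z) := rfl

theorem T2pull_mk (ψ : L2 P' →ₗ[B'] M') :
    h.T2pull M' (Submodule.Quotient.mk ψ) = Submodule.Quotient.mk (h.pull2 M' ψ) := rfl

end Eval

section Comp

variable {A : Type u} {B : Type v} {ι : Type w} {σ : Type t}
variable {A' : Type u'} {B' : Type v'} {ι' : Type w'} {σ' : Type t'}
variable {A'' : Type u''} {B'' : Type v''} {ι'' : Type w''} {σ'' : Type t''}
variable [CommRing A] [CommRing B] [Algebra A B] [CommRing A'] [CommRing B'] [Algebra A' B']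
  [CommRing A''] [CommRing B''] [Algebra A'' B'']
variable [Algebra A A'] [Algebra B B'] [Algebra A B'] [IsScalarTower A A' B'] [IsScalarTower A B B']
variable [Algebra A' A''] [Algebra B' B''] [Algebra A' B''] [IsScalarTower A' A'' B'']
  [IsScalarTower A' B' B'']
variable [Algebra A A''] [Algebra B B''] [Algebra A B''] [IsScalarTower A A'' B'']
  [IsScalarTower A B B'']
variable [IsScalarTower B B' B'']
variable {P : Algebra.Presentation A B ι σ} {P' : Algebra.Presentation A' B' ι' σ'}
  {P'' : Algebra.Presentation A'' B'' ι'' σ''}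
variable (h : PresHom P P') (h' : PresHom P' P'') (k : PresHom P P'')

/-- `k` is the composite of `h` and `h'` on the nose. -/
structure IsComp : Prop where
  ring : ∀ x, k.ringHom x = h'.ringHom (h.ringHom x)
  rel : ∀ s, k.relVal s = h'.relModMap (h.relVal s)

variable {h h' k} (hk : IsComp h h' k)

include hk in
theorem IsComp.relModMap (f : relMod P) : k.relModMap f = h'.relModMap (h.relModMap f) := by
  induction f using Finsupp.induction_linear with
  | zero => rw [map_zero, map_zero, map_zero]
  | add f g hf hg => rw [map_add, map_add, map_add, hf, hg]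
  | single s r =>
    rw [PresHom.relModMap_single, PresHom.relModMap_single, LinearMap.map_smulₛₗ, hk.ring, hk.rel]

include hk in
theorem IsComp.L1map (z : L1 P) : k.L1map z = h'.L1map (h.L1map z) := by
  induction z using TensorProduct.induction_on with
  | zero => rw [map_zero, map_zero, map_zero]
  | add x y hx hy => rw [map_add, map_add, map_add, hx, hy]
  | tmul b f =>
    rw [PresHom.L1map_tmul, PresHom.L1map_tmul, PresHom.L1map_tmul, hk.relModMap,
      ← IsScalarTower.algebraMap_apply B B' B'']

include hk in
theorem IsComp.L2map (z : L2 P) : k.L2map z = h'.L2map (h.L2map z) := by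
  induction z using Submodule.Quotient.induction_on with
  | H z =>
    induction z using TensorProduct.induction_on with
    | zero =>
      rw [Submodule.Quotient.mk_zero, map_zero, map_zero, map_zero]
    | add x y hx hy =>
      rw [Submodule.Quotient.mk_add, map_add, map_add, map_add, hx, hy]
    | tmul b q =>
      rw [PresHom.L2map_mk_tmul, PresHom.L2map_mk_tmul, PresHom.L2map_mk_tmul,
        ← IsScalarTower.algebraMap_apply B B' B'']
      congr 2
      apply Subtype.ext
      rw [PresHom.relKerMap_coe, PresHom.relKerMap_coe, PresHom.relKerMap_coe, hk.relModMap]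

include hk in
theorem IsComp.L0map (z : L0 P) : k.L0map z = h'.L0map (h.L0map z) := by
  have key : ∀ (c : B) (x : P.toExtension.Ring),
      k.L0map (c ⊗ₜ KaehlerDifferential.D A P.toExtension.Ring x) =
        h'.L0map (h.L0map (c ⊗ₜ KaehlerDifferential.D A P.toExtension.Ring x)) := by
    intro c x
    rw [PresHom.L0map_apply, PresHom.L0map_apply, PresHom.L0map_apply,
      Algebra.Extension.CotangentSpace.map_tmul, Algebra.Extension.CotangentSpace.map_tmul,
      Algebra.Extension.CotangentSpace.map_tmul, ← IsScalarTower.algebraMap_apply B B' B'']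
    congr 2
    exact hk.ring x
  induction z using TensorProduct.induction_on with
  | zero => rw [map_zero, map_zero, map_zero]
  | add x y hx hy => rw [map_add, map_add, map_add, hx, hy]
  | tmul b y =>
    obtain ⟨y, rfl⟩ := KaehlerDifferential.tensorProductTo_surjective _ _ y
    induction y using TensorProduct.induction_on with
    | zero => simp
    | add x y hx hy => simp only [map_add, TensorProduct.tmul_add, hx, hy]
    | tmul r x =>
      simp only [Derivation.tensorProductTo_tmul, TensorProduct.tmul_smul]
      exact key _ _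

variable (M : Type m) [AddCommGroup M] [Module B'' M] [Module B' M] [Module B M]
  [IsScalarTower B' B'' M] [IsScalarTower B B' M] [IsScalarTower B B'' M]

include hk in
theorem IsComp.T0pull (ψ : T0 P'' M) : k.T0pull M ψ = h.T0pull M (h'.T0pull M ψ) := by
  apply Subtype.ext
  refine LinearMap.ext fun z => ?_
  rw [T0pull_coe, T0pull_coe, T0pull_coe, PresHom.pull0_apply, PresHom.pull0_apply,
    PresHom.pull0_apply, hk.L0map]

include hk in
theorem IsComp.T1pull (x : T1 P'' M) : k.T1pull M x = h.T1pull M (h'.T1pull M x) := by
  obtain ⟨z, rfl⟩ := Submodule.Quotient.mk_surjective _ x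
  rw [T1pull_mk, T1pull_mk, T1pull_mk]
  congr 1
  apply Subtype.ext
  refine LinearMap.ext fun y => ?_
  rw [PresHom.cocycles1Pull_coe, PresHom.cocycles1Pull_coe, PresHom.cocycles1Pull_coe,
    PresHom.pull1_apply, PresHom.pull1_apply, PresHom.pull1_apply, hk.L1map]

include hk in
theorem IsComp.T2pull (x : T2 P'' M) : k.T2pull M x = h.T2pull M (h'.T2pull M x) := by
  induction x using Submodule.Quotient.induction_on with
  | H ψ =>
    have e1 : h'.T2pull M (Submodule.Quotient.mk ψ) = Submodule.Quotient.mk (h'.pull2 M ψ) := rfl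
    have e2 : h.T2pull M (Submodule.Quotient.mk (h'.pull2 M ψ)) =
        Submodule.Quotient.mk (h.pull2 M (h'.pull2 M ψ)) := rfl
    have e3 : k.T2pull M (Submodule.Quotient.mk ψ) = Submodule.Quotient.mk (k.pull2 M ψ) := rfl
    have e4 : k.pull2 M ψ = h.pull2 M (h'.pull2 M ψ) := by
      refine LinearMap.ext fun y => ?_
      rw [PresHom.pull2_apply, PresHom.pull2_apply, PresHom.pull2_apply, hk.L2map]
    rw [e1, e2, e3, e4]

end Comp

section Htpy01

variable {A : Type u} {B : Type u} {ι : Type w} {σ : Type w}
variable {A' : Type u} {B' : Type u} {ι' : Type w} {σ' : Type w}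
variable [CommRing A] [CommRing B] [Algebra A B] [CommRing A'] [CommRing B'] [Algebra A' B']
variable [Algebra A A'] [Algebra B B'] [Algebra A B'] [IsScalarTower A A' B'] [IsScalarTower A B B']
variable {P : Algebra.Presentation A B ι σ} {P' : Algebra.Presentation A' B' ι' σ'}
variable (h₁ h₂ : PresHom P P')
variable (M' : Type m) [AddCommGroup M'] [Module B' M'] [Module B M'] [IsScalarTower B B' M']

theorem L0map_sub (z : L0 P) :
    h₁.L0map z - h₂.L0map z =
      P'.toExtension.cotangentComplex
        ((h₁.hom.toExtensionHom.sub h₂.hom.toExtensionHom) z) := by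
  have := LinearMap.congr_fun
    (Algebra.Extension.CotangentSpace.map_sub_map h₁.hom.toExtensionHom h₂.hom.toExtensionHom) z
  exact this

/-- two morphisms of presentations over the same square induce the same map on `T⁰`. -/
theorem T0pull_eq (ψ : T0 P' M') : h₁.T0pull M' ψ = h₂.T0pull M' ψ := by
  have hψ : (ψ : L0 P' →ₗ[B'] M') ∈
      LinearMap.ker (LinearMap.lcomp B' M' P'.toExtension.cotangentComplex) := by
    rw [← (Groth.Agent.S12289.result A' B' ι' σ' P' M').1]
    exact ψ.2
  have hψ' : ∀ y, (ψ : L0 P' →ₗ[B'] M') (P'.toExtension.cotangentComplex y) = 0 :=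
    fun y => LinearMap.congr_fun hψ y
  apply Subtype.ext
  refine LinearMap.ext fun z => ?_
  rw [T0pull_coe, T0pull_coe, PresHom.pull0_apply, PresHom.pull0_apply, ← sub_eq_zero, ← map_sub,
    L0map_sub, hψ']

theorem cotMap_sub (z : P.toExtension.Cotangent) :
    h₁.cotMap z - h₂.cotMap z =
      (h₁.hom.toExtensionHom.sub h₂.hom.toExtensionHom) (P.toExtension.cotangentComplex z) := by
  have := LinearMap.congr_fun
    (Algebra.Extension.Cotangent.map_sub_map h₁.hom.toExtensionHom h₂.hom.toExtensionHom) z
  exact this

theorem T1pull_eq (x : T1 P' M') : h₁.T1pull M' x = h₂.T1pull M' x := by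
  obtain ⟨φ, rfl⟩ := (Groth.Agent.S12289.result A' B' ι' σ' P' M').2.2 x
  have hc : φ ∘ₗ toCot P' ∈ cocycles1 P' M' := by
    rw [LinearMap.mem_ker, d2Star_apply, LinearMap.comp_assoc, toCot_comp_d2, LinearMap.comp_zero]
  have e0 : homToT1 P' M' φ = Submodule.Quotient.mk ⟨φ ∘ₗ toCot P', hc⟩ := rfl
  have e : ∀ h : PresHom P P', h.T1pull M' (homToT1 P' M' φ) =
      Submodule.Quotient.mk (h.cocycles1Pull M' ⟨φ ∘ₗ toCot P', hc⟩) := fun h => rfl
  rw [e, e, Submodule.Quotient.eq]
  refine ⟨(φ.restrictScalars B) ∘ₗ (h₁.hom.toExtensionHom.sub h₂.hom.toExtensionHom), ?_⟩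
  refine LinearMap.ext fun z => ?_
  change φ ((h₁.hom.toExtensionHom.sub h₂.hom.toExtensionHom)
      (P.toExtension.cotangentComplex (toCot P z))) =
    φ (toCot P' (h₁.L1map z)) - φ (toCot P' (h₂.L1map z))
  rw [← cotMap_sub, PresHom.toCot_L1map, PresHom.toCot_L1map, map_sub]

end Htpy01

section Htpy2

variable {A : Type u} {B : Type v} {ι : Type w} {σ : Type t} {ι' : Type w'} {σ' : Type t'}
variable [CommRing A] [CommRing B] [Algebra A B]
variable {P : Algebra.Presentation A B ι σ} {P' : Algebra.Presentation A B ι' σ'}
variable (h h₁ h₂ : PresHom P P')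
variable (M : Type m) [AddCommGroup M] [Module B M]

/-- a morphism of presentations over the identity square, as an `XHom`. -/
noncomputable def toX : CotTIndep.XHom P P' where
  φ := h.ringHom
  hφ := h.algebraMap_ringHom
  H := h.relModMap
  hH := h.jmap_relModMap

theorem toX_L2map (z : L2 P) : (toX h).L2map z = h.L2map z := by
  induction z using Submodule.Quotient.induction_on with
  | H z =>
    induction z using TensorProduct.induction_on with
    | zero => rw [Submodule.Quotient.mk_zero, map_zero, map_zero]
    | add x y hx hy => rw [Submodule.Quotient.mk_add, map_add, map_add, hx, hy]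
    | tmul b q => rfl

theorem T2pull_eq_T2map (x : T2 P' M) : h.T2pull M x = (toX h).T2map M x := by
  induction x using Submodule.Quotient.induction_on with
  | H ψ =>
    have e1 : h.T2pull M (Submodule.Quotient.mk ψ) = Submodule.Quotient.mk (h.pull2 M ψ) := rfl
    have e2 : (toX h).T2map M (Submodule.Quotient.mk ψ) =
        Submodule.Quotient.mk (ψ ∘ₗ (toX h).L2map) := rfl
    have e3 : h.pull2 M ψ = ψ ∘ₗ (toX h).L2map := by
      refine LinearMap.ext fun z => ?_
      rw [PresHom.pull2_apply, LinearMap.comp_apply, toX_L2map]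
    rw [e1, e2, e3]

theorem ringHom_C (a : A) : h.ringHom (MvPolynomial.C a : MvPolynomial ι A) =
    (MvPolynomial.C a : MvPolynomial ι' A) := by
  change MvPolynomial.aeval h.hom.val (MvPolynomial.C a : MvPolynomial ι A) = _
  rw [MvPolynomial.aeval_C]
  rfl

theorem T2pull_eq (x : T2 P' M) : h₁.T2pull M x = h₂.T2pull M x := by
  rw [T2pull_eq_T2map, T2pull_eq_T2map]
  have := (CotTIndep.Htpy.ofPoly (toX h₁) (toX h₂) (fun a => by
    show h₁.ringHom (MvPolynomial.C a : MvPolynomial ι A) = h₂.ringHom (MvPolynomial.C a : MvPolynomial ι A)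
    rw [ringHom_C, ringHom_C])).T2map_eq M
  rw [this]

end Htpy2

section IdPull

variable {A : Type u} {B : Type v} {ι : Type w} {σ : Type t}
variable [CommRing A] [CommRing B] [Algebra A B]
variable (P : Algebra.Presentation A B ι σ)
variable (M : Type m) [AddCommGroup M] [Module B M]

theorem id_ringHom (x : P.toExtension.Ring) : (PresHom.id P).ringHom x = x := by
  change (Algebra.Generators.Hom.id P.toGenerators).toAlgHom x = x
  rw [Algebra.Generators.Hom.toAlgHom_id]
  rfl

theorem id_relModMap (f : relMod P) : (PresHom.id P).relModMap f = f := by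
  induction f using Finsupp.induction_linear with
  | zero => rw [map_zero]
  | add f g hf hg => rw [map_add, hf, hg]
  | single s r =>
    rw [PresHom.relModMap_single, id_ringHom]
    change r • (Finsupp.single s 1 : relMod P) = Finsupp.single s r
    rw [Finsupp.smul_single, smul_eq_mul, mul_one]

theorem id_L0map (z : L0 P) : (PresHom.id P).L0map z = z := by
  rw [PresHom.L0map_apply]
  change Algebra.Extension.CotangentSpace.map (Algebra.Generators.Hom.id P.toGenerators).toExtensionHom z = z
  rw [Algebra.Generators.Hom.toExtensionHom_id, Algebra.Extension.CotangentSpace.map_id]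
  rfl

theorem id_L1map (z : L1 P) : (PresHom.id P).L1map z = z := by
  induction z using TensorProduct.induction_on with
  | zero => rw [map_zero]
  | add x y hx hy => rw [map_add, hx, hy]
  | tmul b f =>
    rw [PresHom.L1map_tmul, id_relModMap]
    rfl

theorem id_L2map (z : L2 P) : (PresHom.id P).L2map z = z := by
  induction z using Submodule.Quotient.induction_on with
  | H z =>
    induction z using TensorProduct.induction_on with
    | zero => rw [Submodule.Quotient.mk_zero, map_zero]
    | add x y hx hy => rw [Submodule.Quotient.mk_add, map_add, hx, hy]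
    | tmul b q =>
      rw [PresHom.L2map_mk_tmul]
      have : (PresHom.id P).relKerMap q = q := by
        apply Subtype.ext
        rw [PresHom.relKerMap_coe, id_relModMap]
      rw [this]
      rfl

theorem id_T0pull (ψ : T0 P M) : (PresHom.id P).T0pull M ψ = ψ := by
  apply Subtype.ext
  refine LinearMap.ext fun z => ?_
  change (ψ : L0 P →ₗ[B] M) ((PresHom.id P).L0map z) = _
  rw [id_L0map]

theorem id_T1pull (x : T1 P M) : (PresHom.id P).T1pull M x = x := by
  obtain ⟨z, rfl⟩ := Submodule.Quotient.mk_surjective _ x
  have e : (PresHom.id P).T1pull M (Submodule.Quotient.mk z) =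
    Submodule.Quotient.mk ((PresHom.id P).cocycles1Pull M z) := rfl
  rw [e]
  congr 1
  apply Subtype.ext
  refine LinearMap.ext fun y => ?_
  rw [PresHom.cocycles1Pull_coe, PresHom.pull1_apply, id_L1map]

theorem id_T2pull (x : T2 P M) : (PresHom.id P).T2pull M x = x := by
  induction x using Submodule.Quotient.induction_on with
  | H ψ =>
    have e1 : (PresHom.id P).T2pull M (Submodule.Quotient.mk ψ) =
      Submodule.Quotient.mk ((PresHom.id P).pull2 M ψ) := rfl
    have e2 : (PresHom.id P).pull2 M ψ = ψ := by
      refine LinearMap.ext fun y => ?_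
      rw [PresHom.pull2_apply, id_L2map]
    rw [e1, e2]

end IdPull

section CompId

variable {A : Type u} {B : Type v} {ι : Type w} {σ : Type t} {ι' : Type w'} {σ' : Type t'}
  {ι'' : Type w''} {σ'' : Type t''}
variable [CommRing A] [CommRing B] [Algebra A B]
variable {P : Algebra.Presentation A B ι σ} {P' : Algebra.Presentation A B ι' σ'}
  {P'' : Algebra.Presentation A B ι'' σ''}
variable (h : PresHom P P') (h' : PresHom P' P'')

/-- composite of morphisms of presentations over the identity square -/
noncomputable def compId : PresHom P P'' where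
  hom := h'.hom.comp h.hom
  relVal s := h'.relModMap (h.relVal s)
  jmap_relVal s := by
    rw [h'.jmap_relModMap, h.jmap_relVal]
    change h'.hom.toAlgHom (h.hom.toAlgHom (rel P s)) = (h'.hom.comp h.hom).toAlgHom (rel P s)
    rw [Algebra.Generators.Hom.toAlgHom_comp_apply]

theorem compId_isComp : IsComp h h' (compId h h') where
  ring x := by
    change (h'.hom.comp h.hom).toAlgHom x = h'.hom.toAlgHom (h.hom.toAlgHom x)
    rw [Algebra.Generators.Hom.toAlgHom_comp_apply]
  rel s := rfl

end CompId

end Groth.Agent.Lib.Helper59.NineA
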