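import Groth.Prelude.Def_CotT
import Mathlib

/-!
# The long exact sequence of the functors `Tⁱ` in the module variable (helper59)

For a presentation `P` of `B` over `A` and a short exact sequence `0 → M' → M → M'' → 0` of
`B`-modules, the nine-term exact sequence of the `Tⁱ(P, -)`, with connecting maps from Mathlib's
module snake lemma.
-/

set_option autoImplicit false
universe u v w t m

namespace Groth.Agent.Lib.Helper59.CotTLES

open CotT Function

variable {A : Type u} {B : Type v} {ι : Type w} {σ : Type t}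
variable [CommRing A] [CommRing B] [Algebra A B]
variable (P : Algebra.Presentation A B ι σ)
variable {M' M M'' : Type m} [AddCommGroup M'] [Module B M'] [AddCommGroup M] [Module B M]
  [AddCommGroup M''] [Module B M'']
variable (f : M' →ₗ[B] M) (g : M →ₗ[B] M'')

section Generic

variable (L : Type*) [AddCommGroup L] [Module B L]

variable {L} in
/-- a map into `M` killed by `g` comes from `M'`. -/
theorem exists_comp_eq (hf : Injective f) (hfg : Exact f g) (ψ : L →ₗ[B] M) (h : g ∘ₗ ψ = 0) :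
    ∃ ψ' : L →ₗ[B] M', f ∘ₗ ψ' = ψ := by
  have hr : ∀ x, ψ x ∈ LinearMap.range f := fun x => (hfg (ψ x)).1 (LinearMap.congr_fun h x)
  refine ⟨(LinearEquiv.ofInjective f hf).symm.toLinearMap ∘ₗ ψ.codRestrict (LinearMap.range f) hr, ?_⟩
  refine LinearMap.ext fun x => ?_
  simp only [LinearMap.coe_comp, LinearEquiv.coe_coe, Function.comp_apply]
  exact congrArg Subtype.val ((LinearEquiv.ofInjective f hf).apply_symm_apply ⟨ψ x, hr x⟩)

/-- postcomposition. -/
abbrev post {N N' : Type m} [AddCommGroup N] [Module B N] [AddCommGroup N'] [Module B N']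
    (h : N →ₗ[B] N') : (L →ₗ[B] N) →ₗ[B] (L →ₗ[B] N') := LinearMap.llcomp B L N N' h

theorem exact_post (hf : Injective f) (hfg : Exact f g) : Exact (post L f) (post L g) := by
  intro ψ
  constructor
  · intro h
    obtain ⟨ψ', h'⟩ := exists_comp_eq f g hf hfg ψ h
    exact ⟨ψ', h'⟩
  · rintro ⟨ψ', rfl⟩
    refine LinearMap.ext fun x => ?_
    exact hfg.apply_apply_eq_zero (ψ' x)

theorem post_surjective [Module.Projective B L] (hg : Surjective g) : Surjective (post L g) :=
  fun ψ => Module.projective_lifting_property g ψ hg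

theorem post_injective (hf : Injective f) : Injective (post L f) := fun a b h => by
  refine LinearMap.ext fun x => ?_
  exact hf (LinearMap.congr_fun h x)

end Generic

instance : Module.Free B (L0 P) := Module.Free.of_basis P.cotangentSpaceBasis
instance : Module.Free B (L1 P) := Module.Free.of_basis (L1basis P)

section Direct

theorem T0map_injective (hf : Injective f) : Injective (T0map P f) := by
  intro a b h
  apply Subtype.ext
  apply post_injective f (L0 P) hf
  exact congrArg Subtype.val h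

theorem T0_exact (hf : Injective f) (hfg : Exact f g) : Exact (T0map P f) (T0map P g) := by
  intro φ
  constructor
  · intro h
    have h1 : g ∘ₗ (φ : L0 P →ₗ[B] M) = 0 := congrArg Subtype.val h
    obtain ⟨φ', hφ'⟩ := exists_comp_eq f g hf hfg _ h1
    have hmem : φ' ∈ LinearMap.ker (d1Star P M') := by
      rw [LinearMap.mem_ker, d1Star_apply]
      apply post_injective f (L1 P) hf
      show f ∘ₗ (φ' ∘ₗ d1 P) = f ∘ₗ 0
      rw [← LinearMap.comp_assoc, hφ', LinearMap.comp_zero]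
      have := φ.2
      rwa [LinearMap.mem_ker, d1Star_apply] at this
    exact ⟨⟨φ', hmem⟩, Subtype.ext hφ'⟩
  · rintro ⟨φ', rfl⟩
    apply Subtype.ext
    refine LinearMap.ext fun x => ?_
    exact hfg.apply_apply_eq_zero _

theorem T1_exact [hproj : Module.Projective B (L0 P)] (hf : Injective f) (hg : Surjective g)
    (hfg : Exact f g) : Exact (T1map P f) (T1map P g) := by
  intro x
  constructor
  · intro h
    obtain ⟨ψ, rfl⟩ := Submodule.Quotient.mk_surjective _ x
    have h0 : Submodule.Quotient.mk (p := coboundaries1 P M'') (cocycles1Map P g ψ) = 0 := h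
    rw [Submodule.Quotient.mk_eq_zero] at h0
    obtain ⟨φ'', hφ''⟩ := h0
    obtain ⟨φ, rfl⟩ := post_surjective g (L0 P) hg φ''
    have hφ : (g ∘ₗ φ) ∘ₗ d1 P = g ∘ₗ (ψ : L1 P →ₗ[B] M) := hφ''
    have h1 : g ∘ₗ ((ψ : L1 P →ₗ[B] M) - φ ∘ₗ d1 P) = 0 := by
      rw [LinearMap.comp_sub, ← LinearMap.comp_assoc, hφ, sub_self]
    obtain ⟨ψ', hψ'⟩ := exists_comp_eq f g hf hfg _ h1
    have hmem : ψ' ∈ cocycles1 P M' := by
      rw [LinearMap.mem_ker, d2Star_apply]
      apply post_injective f (L2 P) hf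
      show f ∘ₗ (ψ' ∘ₗ d2 P) = f ∘ₗ 0
      rw [← LinearMap.comp_assoc, hψ', LinearMap.comp_zero, LinearMap.sub_comp,
        LinearMap.comp_assoc, d1_comp_d2, LinearMap.comp_zero, sub_zero]
      have := ψ.2
      rwa [LinearMap.mem_ker, d2Star_apply] at this
    refine ⟨Submodule.Quotient.mk ⟨ψ', hmem⟩, ?_⟩
    show Submodule.Quotient.mk (cocycles1Map P f ⟨ψ', hmem⟩) = Submodule.Quotient.mk ψ
    rw [Submodule.Quotient.eq]
    refine ⟨-φ, ?_⟩
    show (-φ) ∘ₗ d1 P = f ∘ₗ ψ' - (ψ : L1 P →ₗ[B] M)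
    rw [hψ', LinearMap.neg_comp]
    abel
  · rintro ⟨y, rfl⟩
    obtain ⟨ψ', rfl⟩ := Submodule.Quotient.mk_surjective _ y
    show Submodule.Quotient.mk (cocycles1Map P g (cocycles1Map P f ψ')) = 0
    have : cocycles1Map P g (cocycles1Map P f ψ') = 0 := by
      apply Subtype.ext
      refine LinearMap.ext fun x => ?_
      exact hfg.apply_apply_eq_zero _
    rw [this, Submodule.Quotient.mk_zero]

theorem T2map_comp (hfg : Exact f g) : (T2map P g).comp (T2map P f) = 0 := by
  refine Submodule.linearMap_qext _ ?_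
  refine LinearMap.ext fun φ' => ?_
  have h2 : g ∘ₗ (f ∘ₗ φ') = 0 := by
    refine LinearMap.ext fun x => ?_
    exact hfg.apply_apply_eq_zero _
  have h3 : T2map P g (T2map P f (Submodule.Quotient.mk φ')) =
      Submodule.Quotient.mk (g ∘ₗ (f ∘ₗ φ')) := rfl
  show T2map P g (T2map P f (Submodule.Quotient.mk φ')) = 0
  rw [h3, h2, Submodule.Quotient.mk_zero]

theorem T2_exact [hproj : Module.Projective B (L1 P)] (hf : Injective f) (hg : Surjective g)
    (hfg : Exact f g) : Exact (T2map P f) (T2map P g) := by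
  refine LinearMap.exact_of_comp_eq_zero_of_ker_le_range (T2map_comp P f g hfg) ?_
  intro x h
  obtain ⟨φ, rfl⟩ := Submodule.Quotient.mk_surjective _ x
  have h0 : Submodule.Quotient.mk (p := LinearMap.range (d2Star P M'')) (g ∘ₗ φ) = 0 := h
  rw [Submodule.Quotient.mk_eq_zero] at h0
  obtain ⟨ψ'', hψ''⟩ := h0
  obtain ⟨ψ, rfl⟩ := post_surjective g (L1 P) hg ψ''
  have hψ : (g ∘ₗ ψ) ∘ₗ d2 P = g ∘ₗ φ := hψ''
  have h1 : g ∘ₗ (φ - ψ ∘ₗ d2 P) = 0 := by
    rw [LinearMap.comp_sub, ← LinearMap.comp_assoc, hψ, sub_self]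
  obtain ⟨φ', hφ'⟩ := exists_comp_eq f g hf hfg _ h1
  refine ⟨Submodule.Quotient.mk φ', ?_⟩
  show Submodule.Quotient.mk (f ∘ₗ φ') = Submodule.Quotient.mk φ
  rw [Submodule.Quotient.eq]
  refine ⟨-ψ, ?_⟩
  rw [d2Star_apply, hφ', LinearMap.neg_comp]
  abel

end Direct


section Snake0

variable (N : Type m) [AddCommGroup N] [Module B N]

/-- `d₁*` with values in the cocycles. -/
noncomputable def i0 : (L0 P →ₗ[B] N) →ₗ[B] cocycles1 P N :=
  LinearMap.codRestrict (cocycles1 P N) (d1Star P N) (fun φ => by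
    rw [LinearMap.mem_ker]
    exact LinearMap.congr_fun (d2Star_comp_d1Star P N) φ)

theorem i0_coe (φ : L0 P →ₗ[B] N) : (i0 P N φ : L1 P →ₗ[B] N) = φ ∘ₗ d1 P := rfl

theorem exact_subtype_i0 : Exact (LinearMap.ker (d1Star P N)).subtype (i0 P N) := by
  intro φ
  constructor
  · intro h
    exact ⟨⟨φ, by rw [LinearMap.mem_ker]; exact congrArg Subtype.val h⟩, rfl⟩
  · rintro ⟨x, rfl⟩
    apply Subtype.ext
    exact x.2

theorem exact_i0_mkQ : Exact (i0 P N) (coboundaries1 P N).mkQ := by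
  intro z
  rw [Submodule.mkQ_apply, Submodule.Quotient.mk_eq_zero]
  constructor
  · rintro ⟨φ, hφ⟩
    exact ⟨φ, Subtype.ext hφ⟩
  · rintro ⟨φ, rfl⟩
    exact ⟨φ, rfl⟩

variable {N}

theorem cocycles1Map_injective (hf : Injective f) : Injective (cocycles1Map P f) := by
  intro a b h
  apply Subtype.ext
  apply post_injective f (L1 P) hf
  exact congrArg Subtype.val h

theorem exact_cocycles1Map (hf : Injective f) (hfg : Exact f g) :
    Exact (cocycles1Map P f) (cocycles1Map P g) := by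
  intro ψ
  constructor
  · intro h
    have h1 : g ∘ₗ (ψ : L1 P →ₗ[B] M) = 0 := congrArg Subtype.val h
    obtain ⟨ψ', hψ'⟩ := exists_comp_eq f g hf hfg _ h1
    have hmem : ψ' ∈ cocycles1 P M' := by
      rw [LinearMap.mem_ker, d2Star_apply]
      apply post_injective f (L2 P) hf
      show f ∘ₗ (ψ' ∘ₗ d2 P) = f ∘ₗ 0
      rw [← LinearMap.comp_assoc, hψ', LinearMap.comp_zero]
      have := ψ.2
      rwa [LinearMap.mem_ker, d2Star_apply] at this
    exact ⟨⟨ψ', hmem⟩, Subtype.ext hψ'⟩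
  · rintro ⟨ψ', rfl⟩
    apply Subtype.ext
    refine LinearMap.ext fun x => ?_
    exact hfg.apply_apply_eq_zero _

theorem i0_comm {N N' : Type m} [AddCommGroup N] [Module B N] [AddCommGroup N'] [Module B N']
    (h : N →ₗ[B] N') : (cocycles1Map P h) ∘ₗ (i0 P N) = (i0 P N') ∘ₗ (post (L0 P) h) := by
  refine LinearMap.ext fun φ => ?_
  apply Subtype.ext
  exact LinearMap.comp_assoc _ _ _

/-- the first connecting map. -/
noncomputable def δ₀ (hf : Injective f) (hg : Surjective g) (hfg : Exact f g) :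
    T0 P M'' →ₗ[B] T1 P M' :=
  SnakeLemma.δ' (i0 P M') (i0 P M) (i0 P M'') (post (L0 P) f) (post (L0 P) g)
    (exact_post f g (L0 P) hf hfg) (cocycles1Map P f) (cocycles1Map P g)
    (exact_cocycles1Map P f g hf hfg) (i0_comm P f) (i0_comm P g)
    (LinearMap.ker (d1Star P M'')).subtype (exact_subtype_i0 P M'')
    (coboundaries1 P M').mkQ (exact_i0_mkQ P M')
    (post_surjective g (L0 P) hg) (cocycles1Map_injective P f hf)

theorem exact_T0map_δ₀ (hf : Injective f) (hg : Surjective g) (hfg : Exact f g) :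
    Exact (T0map P g) (δ₀ P f g hf hg hfg) :=
  SnakeLemma.exact_δ'_right (i0 P M') (i0 P M) (i0 P M'') (post (L0 P) f) (post (L0 P) g)
    (exact_post f g (L0 P) hf hfg) (cocycles1Map P f) (cocycles1Map P g)
    (exact_cocycles1Map P f g hf hfg) (i0_comm P f) (i0_comm P g)
    (LinearMap.ker (d1Star P M)).subtype (exact_subtype_i0 P M)
    (LinearMap.ker (d1Star P M'')).subtype (exact_subtype_i0 P M'')
    (coboundaries1 P M').mkQ (exact_i0_mkQ P M')
    (post_surjective g (L0 P) hg) (cocycles1Map_injective P f hf)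
    (T0map P g) rfl (Submodule.injective_subtype _)

theorem exact_δ₀_T1map (hf : Injective f) (hg : Surjective g) (hfg : Exact f g) :
    Exact (δ₀ P f g hf hg hfg) (T1map P f) :=
  SnakeLemma.exact_δ'_left (i0 P M') (i0 P M) (i0 P M'') (post (L0 P) f) (post (L0 P) g)
    (exact_post f g (L0 P) hf hfg) (cocycles1Map P f) (cocycles1Map P g)
    (exact_cocycles1Map P f g hf hfg) (i0_comm P f) (i0_comm P g)
    (LinearMap.ker (d1Star P M'')).subtype (exact_subtype_i0 P M'')
    (coboundaries1 P M').mkQ (exact_i0_mkQ P M')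
    (coboundaries1 P M).mkQ (exact_i0_mkQ P M)
    (post_surjective g (L0 P) hg) (cocycles1Map_injective P f hf)
    (T1map P f) rfl (Submodule.mkQ_surjective _)

end Snake0


section Snake1

variable (N : Type m) [AddCommGroup N] [Module B N]

/-- `Hom(L₁, N)` modulo the coboundaries. -/
abbrev X1 : Type _ := (L1 P →ₗ[B] N) ⧸ LinearMap.range (d1Star P N)

/-- `d₂*` on the quotient by the coboundaries. -/
noncomputable def i1 : X1 P N →ₗ[B] (L2 P →ₗ[B] N) :=
  Submodule.liftQ _ (d2Star P N) (by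
    rw [LinearMap.range_le_ker_iff]
    exact d2Star_comp_d1Star P N)

theorem i1_mk (ψ : L1 P →ₗ[B] N) : i1 P N (Submodule.Quotient.mk ψ) = ψ ∘ₗ d2 P := rfl

/-- `T¹ → X¹`. -/
noncomputable def ι1 : T1 P N →ₗ[B] X1 P N :=
  Submodule.mapQ (coboundaries1 P N) (LinearMap.range (d1Star P N)) (cocycles1 P N).subtype
    (le_refl _)

theorem ι1_mk (z : cocycles1 P N) :
    ι1 P N (Submodule.Quotient.mk z) = Submodule.Quotient.mk (z : L1 P →ₗ[B] N) := rfl

theorem ι1_injective : Injective (ι1 P N) := by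
  rw [injective_iff_map_eq_zero]
  intro x hx
  obtain ⟨z, rfl⟩ := Submodule.Quotient.mk_surjective _ x
  rw [ι1_mk, Submodule.Quotient.mk_eq_zero] at hx
  rw [Submodule.Quotient.mk_eq_zero]
  exact hx

theorem exact_ι1_i1 : Exact (ι1 P N) (i1 P N) := by
  intro x
  obtain ⟨ψ, rfl⟩ := Submodule.Quotient.mk_surjective _ x
  constructor
  · intro h
    rw [i1_mk] at h
    exact ⟨Submodule.Quotient.mk ⟨ψ, by rw [LinearMap.mem_ker]; exact h⟩, rfl⟩
  · rintro ⟨y, hy⟩
    obtain ⟨z, rfl⟩ := Submodule.Quotient.mk_surjective _ y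
    rw [← hy, ι1_mk, i1_mk]
    have := z.2
    rwa [LinearMap.mem_ker, d2Star_apply] at this

theorem exact_i1_mkQ : Exact (i1 P N) (LinearMap.range (d2Star P N)).mkQ := by
  intro φ
  rw [Submodule.mkQ_apply, Submodule.Quotient.mk_eq_zero]
  constructor
  · rintro ⟨ψ, hψ⟩
    exact ⟨Submodule.Quotient.mk ψ, hψ⟩
  · rintro ⟨x, hx⟩
    obtain ⟨ψ, rfl⟩ := Submodule.Quotient.mk_surjective _ x
    exact ⟨ψ, hx⟩

variable {N}

/-- the induced map on `X¹`. -/
noncomputable def X1map {N N' : Type m} [AddCommGroup N] [Module B N] [AddCommGroup N']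
    [Module B N'] (h : N →ₗ[B] N') : X1 P N →ₗ[B] X1 P N' :=
  Submodule.mapQ _ _ (post (L1 P) h) (by
    rintro _ ⟨φ, rfl⟩
    exact ⟨h ∘ₗ φ, (LinearMap.comp_assoc _ _ _)⟩)

theorem X1map_mk {N N' : Type m} [AddCommGroup N] [Module B N] [AddCommGroup N']
    [Module B N'] (h : N →ₗ[B] N') (ψ : L1 P →ₗ[B] N) :
    X1map P h (Submodule.Quotient.mk ψ) = Submodule.Quotient.mk (h ∘ₗ ψ) := rfl

theorem X1map_surjective (hg : Surjective g) : Surjective (X1map P g) := by
  intro x
  obtain ⟨ψ'', rfl⟩ := Submodule.Quotient.mk_surjective _ x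
  obtain ⟨ψ, rfl⟩ := post_surjective g (L1 P) hg ψ''
  exact ⟨Submodule.Quotient.mk ψ, rfl⟩

theorem exact_X1map (hf : Injective f) (hg : Surjective g) (hfg : Exact f g) :
    Exact (X1map P f) (X1map P g) := by
  refine LinearMap.exact_of_comp_of_mem_range ?_ ?_
  · refine Submodule.linearMap_qext _ ?_
    refine LinearMap.ext fun ψ' => ?_
    show X1map P g (X1map P f (Submodule.Quotient.mk ψ')) = 0
    rw [X1map_mk, X1map_mk]
    have : g ∘ₗ (f ∘ₗ ψ') = 0 := by
      refine LinearMap.ext fun x => ?_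
      exact hfg.apply_apply_eq_zero _
    rw [this, Submodule.Quotient.mk_zero]
  · intro x h
    obtain ⟨ψ, rfl⟩ := Submodule.Quotient.mk_surjective _ x
    rw [X1map_mk, Submodule.Quotient.mk_eq_zero] at h
    obtain ⟨φ'', hφ''⟩ := h
    obtain ⟨φ, rfl⟩ := post_surjective g (L0 P) hg φ''
    have hφ : (g ∘ₗ φ) ∘ₗ d1 P = g ∘ₗ ψ := hφ''
    have h1 : g ∘ₗ (ψ - φ ∘ₗ d1 P) = 0 := by
      rw [LinearMap.comp_sub, ← LinearMap.comp_assoc, hφ, sub_self]
    obtain ⟨ψ', hψ'⟩ := exists_comp_eq f g hf hfg _ h1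
    refine ⟨Submodule.Quotient.mk ψ', ?_⟩
    rw [X1map_mk, Submodule.Quotient.eq]
    refine ⟨-φ, ?_⟩
    rw [d1Star_apply, hψ', LinearMap.neg_comp]
    abel

theorem i1_comm {N N' : Type m} [AddCommGroup N] [Module B N] [AddCommGroup N'] [Module B N']
    (h : N →ₗ[B] N') : (post (L2 P) h) ∘ₗ (i1 P N) = (i1 P N') ∘ₗ (X1map P h) := by
  refine Submodule.linearMap_qext _ ?_
  refine LinearMap.ext fun ψ => ?_
  show h ∘ₗ (ψ ∘ₗ d2 P) = (h ∘ₗ ψ) ∘ₗ d2 P
  rw [LinearMap.comp_assoc]

theorem ι1_comm {N N' : Type m} [AddCommGroup N] [Module B N] [AddCommGroup N'] [Module B N']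
    (h : N →ₗ[B] N') : (X1map P h) ∘ₗ (ι1 P N) = (ι1 P N') ∘ₗ (T1map P h) := by
  refine Submodule.linearMap_qext _ ?_
  refine LinearMap.ext fun ψ => ?_
  rfl

/-- the second connecting map. -/
noncomputable def δ₁ (hf : Injective f) (hg : Surjective g) (hfg : Exact f g) :
    T1 P M'' →ₗ[B] T2 P M' :=
  SnakeLemma.δ' (i1 P M') (i1 P M) (i1 P M'') (X1map P f) (X1map P g)
    (exact_X1map P f g hf hg hfg) (post (L2 P) f) (post (L2 P) g)
    (exact_post f g (L2 P) hf hfg) (i1_comm P f) (i1_comm P g)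
    (ι1 P M'') (exact_ι1_i1 P M'')
    (LinearMap.range (d2Star P M')).mkQ (exact_i1_mkQ P M')
    (X1map_surjective P g hg) (post_injective f (L2 P) hf)

theorem exact_T1map_δ₁ (hf : Injective f) (hg : Surjective g) (hfg : Exact f g) :
    Exact (T1map P g) (δ₁ P f g hf hg hfg) :=
  SnakeLemma.exact_δ'_right (i1 P M') (i1 P M) (i1 P M'') (X1map P f) (X1map P g)
    (exact_X1map P f g hf hg hfg) (post (L2 P) f) (post (L2 P) g)
    (exact_post f g (L2 P) hf hfg) (i1_comm P f) (i1_comm P g)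
    (ι1 P M) (exact_ι1_i1 P M)
    (ι1 P M'') (exact_ι1_i1 P M'')
    (LinearMap.range (d2Star P M')).mkQ (exact_i1_mkQ P M')
    (X1map_surjective P g hg) (post_injective f (L2 P) hf)
    (T1map P g) (ι1_comm P g) (ι1_injective P M'')

theorem exact_δ₁_T2map (hf : Injective f) (hg : Surjective g) (hfg : Exact f g) :
    Exact (δ₁ P f g hf hg hfg) (T2map P f) :=
  SnakeLemma.exact_δ'_left (i1 P M') (i1 P M) (i1 P M'') (X1map P f) (X1map P g)
    (exact_X1map P f g hf hg hfg) (post (L2 P) f) (post (L2 P) g)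
    (exact_post f g (L2 P) hf hfg) (i1_comm P f) (i1_comm P g)
    (ι1 P M'') (exact_ι1_i1 P M'')
    (LinearMap.range (d2Star P M')).mkQ (exact_i1_mkQ P M')
    (LinearMap.range (d2Star P M)).mkQ (exact_i1_mkQ P M)
    (X1map_surjective P g hg) (post_injective f (L2 P) hf)
    (T2map P f) rfl (Submodule.mkQ_surjective _)

end Snake1

end Groth.Agent.Lib.Helper59.CotTLES
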