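import Mathlib
import Groth.Prelude.Def_CotT2
import Groth.Agent.Lib.Helper59.CotTLES
import Groth.Agent.Lib.Helper59.NineA

/-!
# The long exact sequence of `Tⁱ` from degreewise exact rows of cochains (helper59)
-/

set_option autoImplicit false
set_option linter.unusedSectionVars false
universe u v w t u' v' w' t' u'' v'' w'' t'' m

open TensorProduct Function

namespace Groth.Agent.Lib.Helper59.NineB

open CotT CotTLES

section Snake

variable {M₁ M₂ M₃ N₁ N₂ N₃ K₂ K₃ C₁ C₂ : Type*}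
  [AddCommGroup M₁] [AddCommGroup M₂] [AddCommGroup M₃] [AddCommGroup N₁] [AddCommGroup N₂]
  [AddCommGroup N₃] [AddCommGroup K₂] [AddCommGroup K₃] [AddCommGroup C₁] [AddCommGroup C₂]

/-- the snake lemma for additive groups, packaged. -/
theorem snake_add (i₁ : M₁ →+ N₁) (i₂ : M₂ →+ N₂) (i₃ : M₃ →+ N₃)
    (f₁ : M₁ →+ M₂) (f₂ : M₂ →+ M₃) (hf : Exact f₁ f₂)
    (g₁ : N₁ →+ N₂) (g₂ : N₂ →+ N₃) (hg : Exact g₁ g₂)
    (h₁ : ∀ x, g₁ (i₁ x) = i₂ (f₁ x)) (h₂ : ∀ x, g₂ (i₂ x) = i₃ (f₂ x))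
    (ι₂ : K₂ →+ M₂) (hι₂ : Exact ι₂ i₂) (ι₃ : K₃ →+ M₃) (hι₃ : Exact ι₃ i₃)
    (π₁ : N₁ →+ C₁) (hπ₁ : Exact i₁ π₁) (π₂ : N₂ →+ C₂) (hπ₂ : Exact i₂ π₂)
    (hf₂ : Surjective f₂) (hg₁ : Injective g₁)
    (F : K₂ →+ K₃) (hF : ∀ x, f₂ (ι₂ x) = ι₃ (F x)) (hι₃inj : Injective ι₃)
    (G : C₁ →+ C₂) (hG : ∀ x, G (π₁ x) = π₂ (g₁ x)) (hπ₁s : Surjective π₁) :
    ∃ δ : K₃ →+ C₁, Exact F δ ∧ Exact δ G := by
  have e₁ : g₁.toIntLinearMap.comp i₁.toIntLinearMap = i₂.toIntLinearMap.comp f₁.toIntLinearMap :=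
    LinearMap.ext h₁
  have e₂ : g₂.toIntLinearMap.comp i₂.toIntLinearMap = i₃.toIntLinearMap.comp f₂.toIntLinearMap :=
    LinearMap.ext h₂
  refine ⟨(SnakeLemma.δ' i₁.toIntLinearMap i₂.toIntLinearMap i₃.toIntLinearMap f₁.toIntLinearMap
    f₂.toIntLinearMap hf g₁.toIntLinearMap g₂.toIntLinearMap hg e₁ e₂ ι₃.toIntLinearMap hι₃
    π₁.toIntLinearMap hπ₁ hf₂ hg₁).toAddMonoidHom, ?_, ?_⟩
  · exact SnakeLemma.exact_δ'_right i₁.toIntLinearMap i₂.toIntLinearMap i₃.toIntLinearMap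
      f₁.toIntLinearMap f₂.toIntLinearMap hf g₁.toIntLinearMap g₂.toIntLinearMap hg e₁ e₂
      ι₂.toIntLinearMap hι₂ ι₃.toIntLinearMap hι₃ π₁.toIntLinearMap hπ₁ hf₂ hg₁
      F.toIntLinearMap (LinearMap.ext hF) hι₃inj
  · exact SnakeLemma.exact_δ'_left i₁.toIntLinearMap i₂.toIntLinearMap i₃.toIntLinearMap
      f₁.toIntLinearMap f₂.toIntLinearMap hf g₁.toIntLinearMap g₂.toIntLinearMap hg e₁ e₂
      ι₃.toIntLinearMap hι₃ π₁.toIntLinearMap hπ₁ π₂.toIntLinearMap hπ₂ hf₂ hg₁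
      G.toIntLinearMap (LinearMap.ext hG) hπ₁s

end Snake

section Rows

variable {A : Type u} {B : Type v} {ι : Type w} {σ : Type t}
variable {A' : Type u'} {B' : Type v'} {ι' : Type w'} {σ' : Type t'}
variable {A'' : Type u''} {B'' : Type v''} {ι'' : Type w''} {σ'' : Type t''}
variable [CommRing A] [CommRing B] [Algebra A B] [CommRing A'] [CommRing B'] [Algebra A' B']
  [CommRing A''] [CommRing B''] [Algebra A'' B'']
variable [Algebra A A'] [Algebra B B'] [Algebra A B'] [IsScalarTower A A' B'] [IsScalarTower A B B']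
variable [Algebra A' A''] [Algebra B' B''] [Algebra A' B''] [IsScalarTower A' A'' B'']
  [IsScalarTower A' B' B'']
variable {P : Algebra.Presentation A B ι σ} {P' : Algebra.Presentation A' B' ι' σ'}
  {P'' : Algebra.Presentation A'' B'' ι'' σ''}
variable (h : PresHom P P') (h' : PresHom P' P'')
variable (M : Type m) [AddCommGroup M] [Module B'' M] [Module B' M] [Module B M]
  [IsScalarTower B' B'' M] [IsScalarTower B B' M]

/-- the degreewise exactness hypotheses on the cochain groups. -/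
structure RowsExact : Prop where
  inj0 : Injective (h'.pull0 M)
  ex0 : Exact (h'.pull0 M) (h.pull0 M)
  surj0 : Surjective (h.pull0 M)
  inj1 : Injective (h'.pull1 M)
  ex1 : Exact (h'.pull1 M) (h.pull1 M)
  surj1 : Surjective (h.pull1 M)
  inj2 : Injective (h'.pull2 M)
  ex2 : Exact (h'.pull2 M) (h.pull2 M)

section X1pull

variable {A₁ : Type u} {B₁ : Type v} {ι₁ : Type w} {σ₁ : Type t}
variable {A₂ : Type u'} {B₂ : Type v'} {ι₂ : Type w'} {σ₂ : Type t'}
variable [CommRing A₁] [CommRing B₁] [Algebra A₁ B₁] [CommRing A₂] [CommRing B₂] [Algebra A₂ B₂]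
variable [Algebra A₁ A₂] [Algebra B₁ B₂] [Algebra A₁ B₂] [IsScalarTower A₁ A₂ B₂]
  [IsScalarTower A₁ B₁ B₂]
variable {Q : Algebra.Presentation A₁ B₁ ι₁ σ₁} {Q' : Algebra.Presentation A₂ B₂ ι₂ σ₂}
variable (k : PresHom Q Q')
variable (N : Type m) [AddCommGroup N] [Module B₂ N] [Module B₁ N] [IsScalarTower B₁ B₂ N]

/-- the induced map on cochains modulo coboundaries in degree one. -/
noncomputable def X1pull : X1 Q' N →ₗ[B₁] X1 Q N :=
  (Submodule.mapQ ((LinearMap.range (d1Star Q' N)).restrictScalars B₁) (LinearMap.range (d1Star Q N))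
    (k.pull1 N) (by
    rintro _ ⟨ψ, rfl⟩
    exact ⟨k.pull0 N ψ, (k.pull1_d1Star N ψ).symm⟩)).comp
  (Submodule.Quotient.restrictScalarsEquiv B₁ (LinearMap.range (d1Star Q' N))).symm.toLinearMap

theorem X1pull_mk (ψ : L1 Q' →ₗ[B₂] N) :
    X1pull k N (Submodule.Quotient.mk ψ) = Submodule.Quotient.mk (k.pull1 N ψ) := rfl

end X1pull

variable {h h' M}

section Chase

variable (H : RowsExact h h' M)

include H

theorem comp_pull0 (x : L0 P'' →ₗ[B''] M) : h.pull0 M (h'.pull0 M x) = 0 :=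
  H.ex0.apply_apply_eq_zero x

theorem comp_pull1 (x : L1 P'' →ₗ[B''] M) : h.pull1 M (h'.pull1 M x) = 0 :=
  H.ex1.apply_apply_eq_zero x

theorem comp_pull2 (x : L2 P'' →ₗ[B''] M) : h.pull2 M (h'.pull2 M x) = 0 :=
  H.ex2.apply_apply_eq_zero x

theorem T0pull_injective : Injective (h'.T0pull M) := by
  intro x y hxy
  apply Subtype.ext
  apply H.inj0
  have := congrArg Subtype.val hxy
  exact this

theorem exact_T0pull : Exact (h'.T0pull M) (h.T0pull M) := by
  intro ψ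
  constructor
  · intro hψ
    have h0 : h.pull0 M (ψ : L0 P' →ₗ[B'] M) = 0 := congrArg Subtype.val hψ
    obtain ⟨φ, hφ⟩ := (H.ex0 _).1 h0
    have hmem : φ ∈ LinearMap.ker (d1Star P'' M) := by
      rw [LinearMap.mem_ker]
      apply H.inj1
      rw [PresHom.pull1_d1Star, hφ, map_zero]
      exact ψ.2
    exact ⟨⟨φ, hmem⟩, Subtype.ext hφ⟩
  · rintro ⟨φ, rfl⟩
    apply Subtype.ext
    exact comp_pull0 H _

/-- a cochain of `P'` killed by `h.pull1` and a cocycle comes from a cocycle of `P''`. -/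
theorem exists_cocycle_of_pull1_eq_zero (z : L1 P' →ₗ[B'] M) (hz : d2Star P' M z = 0)
    (hz0 : h.pull1 M z = 0) : ∃ w : cocycles1 P'' M, h'.pull1 M (w : L1 P'' →ₗ[B''] M) = z := by
  obtain ⟨w, hw⟩ := (H.ex1 _).1 hz0
  have hmem : w ∈ cocycles1 P'' M := by
    rw [LinearMap.mem_ker]
    apply H.inj2
    rw [PresHom.pull2_d2Star, hw, map_zero]
    exact hz
  exact ⟨⟨w, hmem⟩, hw⟩

theorem exact_cocycles1Pull : Exact (h'.cocycles1Pull M) (h.cocycles1Pull M) := by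
  intro z
  constructor
  · intro hz
    have hz0 : h.pull1 M (z : L1 P' →ₗ[B'] M) = 0 := congrArg Subtype.val hz
    obtain ⟨w, hw⟩ := exists_cocycle_of_pull1_eq_zero H z z.2 hz0
    exact ⟨w, Subtype.ext hw⟩
  · rintro ⟨w, rfl⟩
    apply Subtype.ext
    exact comp_pull1 H _

theorem cocycles1Pull_injective : Injective (h'.cocycles1Pull M) := by
  intro x y hxy
  apply Subtype.ext
  apply H.inj1
  exact congrArg Subtype.val hxy

theorem exact_T1pull : Exact (h'.T1pull M) (h.T1pull M) := by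
  intro x
  obtain ⟨z, rfl⟩ := Submodule.Quotient.mk_surjective _ x
  constructor
  · intro hx
    rw [NineA.T1pull_mk, Submodule.Quotient.mk_eq_zero] at hx
    obtain ⟨ψ₁, hψ₁⟩ := hx
    have hψ₁' : d1Star P M ψ₁ = h.pull1 M (z : L1 P' →ₗ[B'] M) := hψ₁
    obtain ⟨ψ₂, rfl⟩ := H.surj0 ψ₁
    have hz0 : h.pull1 M ((z : L1 P' →ₗ[B'] M) - d1Star P' M ψ₂) = 0 := by
      rw [map_sub, PresHom.pull1_d1Star, hψ₁', sub_self]
    have hzc : d2Star P' M ((z : L1 P' →ₗ[B'] M) - d1Star P' M ψ₂) = 0 := by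
      rw [map_sub, show d2Star P' M (z : L1 P' →ₗ[B'] M) = 0 from z.2, zero_sub, neg_eq_zero]
      exact LinearMap.congr_fun (d2Star_comp_d1Star P' M) ψ₂
    obtain ⟨w, hw⟩ := exists_cocycle_of_pull1_eq_zero H _ hzc hz0
    refine ⟨Submodule.Quotient.mk w, ?_⟩
    rw [NineA.T1pull_mk, Submodule.Quotient.eq]
    refine ⟨-ψ₂, ?_⟩
    change d1Star P' M (-ψ₂) = h'.pull1 M (w : L1 P'' →ₗ[B''] M) - (z : L1 P' →ₗ[B'] M)
    rw [hw, map_neg]
    abel
  · rintro ⟨y, hy⟩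
    obtain ⟨w, rfl⟩ := Submodule.Quotient.mk_surjective _ y
    rw [← hy, NineA.T1pull_mk, NineA.T1pull_mk, Submodule.Quotient.mk_eq_zero]
    refine ⟨0, ?_⟩
    change d1Star P M 0 = h.pull1 M (h'.pull1 M (w : L1 P'' →ₗ[B''] M))
    rw [map_zero, comp_pull1 H]

theorem T2pull_comp_eq_zero (y : T2 P'' M) :
    h.T2pull M (h'.T2pull M y) = 0 := by
  induction y using Submodule.Quotient.induction_on with
  | H χ =>
    have e6 : h.pull2 M (h'.pull2 M χ) = 0 := H.ex2.apply_apply_eq_zero χ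
    exact (show h.T2pull M (h'.T2pull M (Submodule.Quotient.mk χ)) =
      Submodule.Quotient.mk (h.pull2 M (h'.pull2 M χ)) from rfl).trans
      ((congrArg Submodule.Quotient.mk e6).trans (Submodule.Quotient.mk_zero _))

theorem exact_T2pull :
    Exact (h'.T2pull M) (h.T2pull M) := by
  intro x
  induction x using Submodule.Quotient.induction_on with
  | H ψ =>
    constructor
    · intro hx
      have hx1 : (Submodule.Quotient.mk (h.pull2 M ψ) : T2 P M) = 0 := hx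
      have hx' : h.pull2 M ψ ∈ LinearMap.range (d2Star P M) :=
        (Submodule.Quotient.mk_eq_zero _).1 hx1
      obtain ⟨φ₁, hφ₁⟩ := hx'
      obtain ⟨φ₂, rfl⟩ := H.surj1 φ₁
      have h0 : h.pull2 M (ψ - d2Star P' M φ₂) = 0 := by
        rw [map_sub, PresHom.pull2_d2Star, hφ₁, sub_self]
      obtain ⟨χ, hχ⟩ := (H.ex2 _).1 h0
      refine ⟨Submodule.Quotient.mk χ, ?_⟩
      have hmem : h'.pull2 M χ - ψ ∈ LinearMap.range (d2Star P' M) := by
        rw [hχ]
        exact ⟨-φ₂, by rw [map_neg]; abel⟩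
      exact (show h'.T2pull M (Submodule.Quotient.mk χ) =
        Submodule.Quotient.mk (h'.pull2 M χ) from rfl).trans ((Submodule.Quotient.eq _).2 hmem)
    · rintro ⟨y, hy⟩
      exact (congrArg (h.T2pull M) hy).symm.trans (T2pull_comp_eq_zero H y)

theorem exact_X1pull : Exact (X1pull h' M) (X1pull h M) := by
  intro x
  obtain ⟨z, rfl⟩ := Submodule.Quotient.mk_surjective _ x
  constructor
  · intro hx
    rw [X1pull_mk, Submodule.Quotient.mk_eq_zero] at hx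
    obtain ⟨ψ₁, hψ₁⟩ := hx
    obtain ⟨ψ₂, rfl⟩ := H.surj0 ψ₁
    have hz0 : h.pull1 M (z - d1Star P' M ψ₂) = 0 := by
      rw [map_sub, PresHom.pull1_d1Star, hψ₁, sub_self]
    obtain ⟨w, hw⟩ := (H.ex1 _).1 hz0
    refine ⟨Submodule.Quotient.mk w, ?_⟩
    rw [X1pull_mk, Submodule.Quotient.eq]
    refine ⟨-ψ₂, ?_⟩
    rw [hw, map_neg]
    abel
  · rintro ⟨y, hy⟩
    obtain ⟨w, rfl⟩ := Submodule.Quotient.mk_surjective _ y
    rw [← hy, X1pull_mk, X1pull_mk, comp_pull1 H, Submodule.Quotient.mk_zero]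

theorem X1pull_surjective : Surjective (X1pull h M) := by
  intro x
  obtain ⟨z, rfl⟩ := Submodule.Quotient.mk_surjective _ x
  obtain ⟨z', rfl⟩ := H.surj1 z
  exact ⟨Submodule.Quotient.mk z', rfl⟩

theorem exists_δ₀ : ∃ δ₀ : T0 P M →+ T1 P'' M,
    Exact (h.T0pull M) δ₀ ∧ Exact δ₀ (h'.T1pull M) :=
  snake_add (i0 P'' M).toAddMonoidHom (i0 P' M).toAddMonoidHom (i0 P M).toAddMonoidHom
    (h'.pull0 M).toAddMonoidHom (h.pull0 M).toAddMonoidHom H.ex0
    (h'.cocycles1Pull M).toAddMonoidHom (h.cocycles1Pull M).toAddMonoidHom (exact_cocycles1Pull H)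
    (fun x => Subtype.ext (h'.pull1_d1Star M x)) (fun x => Subtype.ext (h.pull1_d1Star M x))
    (LinearMap.ker (d1Star P' M)).subtype.toAddMonoidHom (exact_subtype_i0 P' M)
    (LinearMap.ker (d1Star P M)).subtype.toAddMonoidHom (exact_subtype_i0 P M)
    (coboundaries1 P'' M).mkQ.toAddMonoidHom (exact_i0_mkQ P'' M)
    (coboundaries1 P' M).mkQ.toAddMonoidHom (exact_i0_mkQ P' M)
    H.surj0 (cocycles1Pull_injective H)
    (h.T0pull M).toAddMonoidHom (fun _ => rfl) (Submodule.injective_subtype _)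
    (h'.T1pull M).toAddMonoidHom (fun _ => rfl) (Submodule.mkQ_surjective _)

theorem comm1 (x : X1 P'' M) : h'.pull2 M (i1 P'' M x) = i1 P' M (X1pull h' M x) := by
  induction x using Submodule.Quotient.induction_on with
  | H ψ => exact h'.pull2_d2Star M ψ

theorem comm2 (x : X1 P' M) : h.pull2 M (i1 P' M x) = i1 P M (X1pull h M x) := by
  induction x using Submodule.Quotient.induction_on with
  | H ψ => exact h.pull2_d2Star M ψ

theorem comm3 (x : T1 P' M) : X1pull h M (ι1 P' M x) = ι1 P M (h.T1pull M x) := by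
  induction x using Submodule.Quotient.induction_on with
  | H z => rfl

theorem comm4 (x : L2 P'' →ₗ[B''] M) : h'.T2pull M ((LinearMap.range (d2Star P'' M)).mkQ x) =
    (LinearMap.range (d2Star P' M)).mkQ (h'.pull2 M x) := rfl



theorem exists_δ₁ : ∃ δ₁ : T1 P M →+ T2 P'' M,
    Exact (h.T1pull M) δ₁ ∧ Exact δ₁ (h'.T2pull M) := by
  have hf : Exact (X1pull h' M).toAddMonoidHom (X1pull h M).toAddMonoidHom :=
    fun x => exact_X1pull H x
  have hg : Exact (h'.pull2 M).toAddMonoidHom (h.pull2 M).toAddMonoidHom := fun x => H.ex2 x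
  have c1 : ∀ x, (h'.pull2 M).toAddMonoidHom ((i1 P'' M).toAddMonoidHom x) =
      (i1 P' M).toAddMonoidHom ((X1pull h' M).toAddMonoidHom x) := fun x => comm1 H x
  have c2 : ∀ x, (h.pull2 M).toAddMonoidHom ((i1 P' M).toAddMonoidHom x) =
      (i1 P M).toAddMonoidHom ((X1pull h M).toAddMonoidHom x) := fun x => comm2 H x
  have hι₂ : Exact (ι1 P' M).toAddMonoidHom (i1 P' M).toAddMonoidHom := fun x => exact_ι1_i1 P' M x
  have hι₃ : Exact (ι1 P M).toAddMonoidHom (i1 P M).toAddMonoidHom := fun x => exact_ι1_i1 P M x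
  have hπ₁ : Exact (i1 P'' M).toAddMonoidHom (LinearMap.range (d2Star P'' M)).mkQ.toAddMonoidHom :=
    fun x => exact_i1_mkQ P'' M x
  have hπ₂ : Exact (i1 P' M).toAddMonoidHom (LinearMap.range (d2Star P' M)).mkQ.toAddMonoidHom :=
    fun x => exact_i1_mkQ P' M x
  have hf₂ : Surjective (X1pull h M).toAddMonoidHom := fun x => X1pull_surjective H x
  have hg₁ : Injective (h'.pull2 M).toAddMonoidHom := fun x y hxy => H.inj2 hxy
  have c3 : ∀ x, (X1pull h M).toAddMonoidHom ((ι1 P' M).toAddMonoidHom x) =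
      (ι1 P M).toAddMonoidHom ((h.T1pull M).toAddMonoidHom x) := fun x => comm3 H x
  have hinj : Injective (ι1 P M).toAddMonoidHom := fun x y hxy => ι1_injective P M hxy
  have c4 : ∀ x, (h'.T2pull M).toAddMonoidHom ((LinearMap.range (d2Star P'' M)).mkQ.toAddMonoidHom x) =
      (LinearMap.range (d2Star P' M)).mkQ.toAddMonoidHom ((h'.pull2 M).toAddMonoidHom x) :=
    fun x => comm4 H x
  have hsurj : Surjective (LinearMap.range (d2Star P'' M)).mkQ.toAddMonoidHom :=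
    fun x => Submodule.mkQ_surjective _ x
  exact snake_add (i1 P'' M).toAddMonoidHom (i1 P' M).toAddMonoidHom (i1 P M).toAddMonoidHom
    (X1pull h' M).toAddMonoidHom (X1pull h M).toAddMonoidHom hf
    (h'.pull2 M).toAddMonoidHom (h.pull2 M).toAddMonoidHom hg c1 c2
    (ι1 P' M).toAddMonoidHom hι₂ (ι1 P M).toAddMonoidHom hι₃
    (LinearMap.range (d2Star P'' M)).mkQ.toAddMonoidHom hπ₁
    (LinearMap.range (d2Star P' M)).mkQ.toAddMonoidHom hπ₂ hf₂ hg₁
    (h.T1pull M).toAddMonoidHom c3 hinj (h'.T2pull M).toAddMonoidHom c4 hsurj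


/-- the nine-term exact sequence from degreewise exact rows. -/
theorem nine_of_rows :
    Injective (h'.T0pull M) ∧ Exact (h'.T0pull M) (h.T0pull M) ∧
    Exact (h'.T1pull M) (h.T1pull M) ∧ Exact (h'.T2pull M) (h.T2pull M) ∧
    ∃ (δ₀ : T0 P M →+ T1 P'' M) (δ₁ : T1 P M →+ T2 P'' M),
      Exact (h.T0pull M) δ₀ ∧ Exact δ₀ (h'.T1pull M) ∧
      Exact (h.T1pull M) δ₁ ∧ Exact δ₁ (h'.T2pull M) := by
  refine ⟨T0pull_injective H, exact_T0pull H, exact_T1pull H, exact_T2pull H, ?_⟩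
  obtain ⟨δ₀, h1, h2⟩ := exists_δ₀ H
  obtain ⟨δ₁, h3, h4⟩ := exists_δ₁ H
  refine ⟨δ₀, δ₁, ?_, ?_, ?_, ?_⟩
  · exact h1
  · exact h2
  · exact h3
  · exact h4

end Chase

end Rows

end Groth.Agent.Lib.Helper59.NineB
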