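import Mathlib
import Groth.Prelude.Def_CotT2
import Groth.Agent.Lib.Helper59.CotTIndep
import Groth.Agent.Lib.Helper59.NineA
import Groth.Agent.Lib.Helper59.NineB

/-!
# The composite presentation and degreewise exactness (helper59)
-/

set_option autoImplicit false
set_option linter.unusedSectionVars false
universe u v v' w t w' t' m

open TensorProduct Function

namespace Groth.Agent.Lib.Helper59.NineC

open CotT

section Split

variable {B C C' : Type*} [CommRing B] [CommRing C] [CommRing C'] {τ₁ : B →+* C} {τ₂ : C →+* C'}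
variable {E₁ E₂ E₃ M : Type*} [AddCommGroup E₁] [Module B E₁] [AddCommGroup E₂] [Module C E₂]
  [AddCommGroup E₃] [Module C' E₃] [AddCommGroup M] [Module B M] [Module C M] [Module C' M]
variable {ι κ : Type*}
variable (e₁ : Module.Basis ι B E₁) (e₂ : Module.Basis (κ ⊕ ι) C E₂) (e₃ : Module.Basis κ C' E₃)
variable (α : E₁ →ₛₗ[τ₁] E₂) (β : E₂ →ₛₗ[τ₂] E₃)
variable (hα : ∀ i, α (e₁ i) = e₂ (Sum.inr i)) (hβl : ∀ k, β (e₂ (Sum.inl k)) = e₃ k)
  (hβr : ∀ i, β (e₂ (Sum.inr i)) = 0)
variable (pa : (E₂ →ₗ[C] M) → (E₁ →ₗ[B] M)) (hpa : ∀ ψ x, pa ψ x = ψ (α x))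
variable (pb : (E₃ →ₗ[C'] M) → (E₂ →ₗ[C] M)) (hpb : ∀ ψ x, pb ψ x = ψ (β x))

include hα hβr in
theorem split_comp (x : E₁) : β (α x) = 0 := by
  have hx : x ∈ Submodule.span B (Set.range e₁) := by rw [e₁.span_eq]; trivial
  induction hx using Submodule.span_induction with
  | mem x hx => obtain ⟨i, rfl⟩ := hx; rw [hα, hβr]
  | zero => rw [map_zero, map_zero]
  | add x y _ _ hx hy => rw [map_add, map_add, hx, hy, add_zero]
  | smul r x _ hx => rw [LinearMap.map_smulₛₗ, LinearMap.map_smulₛₗ, hx, smul_zero]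

include hβl hpb in
theorem split_inj : Injective pb := by
  intro ψ ψ' h
  refine e₃.ext fun k => ?_
  have := LinearMap.congr_fun h (e₂ (Sum.inl k))
  rw [hpb, hpb, hβl] at this
  exact this

include hα hpa in
theorem split_surj : Surjective pa := by
  intro θ
  refine ⟨e₂.constr ℕ (Sum.elim (fun _ => 0) (fun i => θ (e₁ i))), ?_⟩
  refine e₁.ext fun i => ?_
  rw [hpa, hα, Module.Basis.constr_basis, Sum.elim_inr]

include hα hβl hβr hpa hpb in
theorem split_exact : Exact pb pa := by
  intro φ
  constructor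
  · intro h
    have h1 : ∀ i, φ (e₂ (Sum.inr i)) = 0 := fun i => by
      have := LinearMap.congr_fun h (e₁ i)
      rw [hpa, hα] at this
      exact this
    refine ⟨e₃.constr ℕ (fun k => φ (e₂ (Sum.inl k))), ?_⟩
    refine e₂.ext fun j => ?_
    rcases j with k | i
    · rw [hpb, hβl, Module.Basis.constr_basis]
    · rw [hpb, hβr, map_zero, h1]
  · rintro ⟨ψ, rfl⟩
    refine LinearMap.ext fun x => ?_
    rw [hpa, hpb, split_comp e₁ e₂ α β hα hβr, map_zero, LinearMap.zero_apply]

end Split

section Defs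

variable {A : Type u} {B : Type v} {C : Type v'} [CommRing A] [CommRing B] [CommRing C]
  [Algebra A B] [Algebra B C] [Algebra A C] [IsScalarTower A B C]
  {ι : Type w} {σ : Type t} {κ : Type w'} {τ : Type t'}
variable (P₁ : Algebra.Presentation A B ι σ) (P₃ : Algebra.Presentation B C κ τ)

/-- `P₁ → P₃.comp P₁`. -/
noncomputable def aHom : PresHom P₁ (P₃.comp P₁) where
  hom := P₃.toGenerators.toComp P₁.toGenerators
  relVal s := Finsupp.single (Sum.inr s) 1
  jmap_relVal s := by
    rw [jmap_single, one_mul]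
    change (P₃.comp P₁).relation (Sum.inr s) =
      (P₃.toGenerators.toComp P₁.toGenerators).toAlgHom (P₁.relation s)
    rw [Algebra.Generators.toComp_toAlgHom, Algebra.Presentation.comp_relation_inr]

/-- `P₃.comp P₁ → P₃`. -/
noncomputable def bHom : PresHom (P₃.comp P₁) P₃ where
  hom := P₃.toGenerators.ofComp P₁.toGenerators
  relVal := Sum.elim (fun t => Finsupp.single t 1) (fun _ => 0)
  jmap_relVal s := by
    rcases s with t | s
    · rw [Sum.elim_inl, jmap_single, one_mul]
      change P₃.relation t = MvPolynomial.aeval (fun i : κ ⊕ ι => i.elim MvPolynomial.X (MvPolynomial.C ∘ P₁.val))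
        ((P₃.comp P₁).relation (Sum.inl t))
      exact (Algebra.Presentation.comp_aeval_relation_inl P₃ P₁ t).symm
    · rw [Sum.elim_inr, map_zero]
      change 0 = (P₃.toGenerators.ofComp P₁.toGenerators).toAlgHom
        (MvPolynomial.rename Sum.inr (P₁.relation s))
      rw [Algebra.Generators.toAlgHom_ofComp_rename]
      have : algebraMap P₁.toGenerators.Ring B (P₁.relation s) = 0 := P₁.relation_mem_ker s
      rw [this, map_zero]

end Defs

section Rows01

variable {A : Type u} {B : Type v} {C : Type v'} [CommRing A] [CommRing B] [CommRing C]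
  [Algebra A B] [Algebra B C] [Algebra A C] [IsScalarTower A B C]
  {ι : Type w} {σ : Type t} {κ : Type w'} {τ : Type t'}
variable (P₁ : Algebra.Presentation A B ι σ) (P₃ : Algebra.Presentation B C κ τ)

theorem aHom_ringHom (x : P₁.toExtension.Ring) :
    (aHom P₁ P₃).ringHom x = MvPolynomial.rename Sum.inr x := by
  change (P₃.toGenerators.toComp P₁.toGenerators).toAlgHom x = _
  rw [Algebra.Generators.toComp_toAlgHom]

theorem bHom_ringHom (x : (P₃.comp P₁).toExtension.Ring) :
    (bHom P₁ P₃).ringHom x = (P₃.toGenerators.ofComp P₁.toGenerators).toAlgHom x := rfl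

theorem aHom_relModMap_single (s : σ) (r : P₁.toExtension.Ring) :
    (aHom P₁ P₃).relModMap (Finsupp.single s r) =
      Finsupp.single (Sum.inr s) ((aHom P₁ P₃).ringHom r) := by
  rw [PresHom.relModMap_single]
  change (aHom P₁ P₃).ringHom r • (Finsupp.single (Sum.inr s) 1 : relMod (P₃.comp P₁)) = _
  rw [Finsupp.smul_single, smul_eq_mul, mul_one]

theorem bHom_relModMap_single_inl (t : τ) (r : (P₃.comp P₁).toExtension.Ring) :
    (bHom P₁ P₃).relModMap (Finsupp.single (Sum.inl t) r) =
      Finsupp.single t ((bHom P₁ P₃).ringHom r) := by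
  rw [PresHom.relModMap_single]
  change (bHom P₁ P₃).ringHom r • (Finsupp.single t 1 : relMod P₃) = _
  rw [Finsupp.smul_single, smul_eq_mul, mul_one]

theorem bHom_relModMap_single_inr (s : σ) (r : (P₃.comp P₁).toExtension.Ring) :
    (bHom P₁ P₃).relModMap (Finsupp.single (Sum.inr s) r) = 0 := by
  rw [PresHom.relModMap_single]
  change (bHom P₁ P₃).ringHom r • (0 : relMod P₃) = _
  rw [smul_zero]

theorem bHom_aHom_relModMap (f : relMod P₁) :
    (bHom P₁ P₃).relModMap ((aHom P₁ P₃).relModMap f) = 0 := by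
  induction f using Finsupp.induction_linear with
  | zero => rw [map_zero, map_zero]
  | add f g hf hg => rw [map_add, map_add, hf, hg, add_zero]
  | single s r => rw [aHom_relModMap_single, bHom_relModMap_single_inr]

/-! degree 0 -/

theorem basis0_eq {A' : Type*} {B' : Type*} [CommRing A'] [CommRing B'] [Algebra A' B'] {ι' σ' : Type*}
    (P : Algebra.Presentation A' B' ι' σ') (i : ι') :
    P.cotangentSpaceBasis i =
      ((1 : B') ⊗ₜ[P.toExtension.Ring] KaehlerDifferential.D A' P.toExtension.Ring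
        (MvPolynomial.X i : MvPolynomial ι' A') : L0 P) :=
  Algebra.Generators.cotangentSpaceBasis_apply _ i

theorem aHom_L0map_basis (i : ι) :
    (aHom P₁ P₃).L0map (P₁.cotangentSpaceBasis i) = (P₃.comp P₁).cotangentSpaceBasis (Sum.inr i) := by
  rw [basis0_eq, basis0_eq, PresHom.L0map_apply, Algebra.Extension.CotangentSpace.map_tmul, map_one]
  congr 2
  change (P₃.toGenerators.toComp P₁.toGenerators).toAlgHom (MvPolynomial.X i) = _
  rw [Algebra.Generators.Hom.toAlgHom_X]
  rfl

theorem bHom_L0map_basis_inl (k : κ) :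
    (bHom P₁ P₃).L0map ((P₃.comp P₁).cotangentSpaceBasis (Sum.inl k)) = P₃.cotangentSpaceBasis k := by
  rw [basis0_eq, basis0_eq, PresHom.L0map_apply, Algebra.Extension.CotangentSpace.map_tmul, map_one]
  congr 2
  change (P₃.toGenerators.ofComp P₁.toGenerators).toAlgHom (MvPolynomial.X (Sum.inl k)) = _
  rw [Algebra.Generators.Hom.toAlgHom_X]
  rfl

theorem bHom_L0map_basis_inr (i : ι) :
    (bHom P₁ P₃).L0map ((P₃.comp P₁).cotangentSpaceBasis (Sum.inr i)) = 0 := by
  rw [basis0_eq, PresHom.L0map_apply, Algebra.Extension.CotangentSpace.map_tmul, map_one]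
  have : (P₃.toGenerators.ofComp P₁.toGenerators).toExtensionHom.toAlgHom
      (MvPolynomial.X (Sum.inr i)) = algebraMap B P₃.toExtension.Ring (P₁.val i) := by
    change (P₃.toGenerators.ofComp P₁.toGenerators).toAlgHom (MvPolynomial.X (Sum.inr i)) = _
    rw [Algebra.Generators.Hom.toAlgHom_X]
    rfl
  change (1 : C) ⊗ₜ[P₃.toExtension.Ring] KaehlerDifferential.D B P₃.toExtension.Ring
    ((P₃.toGenerators.ofComp P₁.toGenerators).toExtensionHom.toAlgHom (MvPolynomial.X (Sum.inr i))) = 0
  rw [this, Derivation.map_algebraMap, TensorProduct.tmul_zero]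

/-! degree 1 -/

theorem aHom_L1map_basis (s : σ) :
    (aHom P₁ P₃).L1map (L1basis P₁ s) = L1basis (P₃.comp P₁) (Sum.inr s) := by
  rw [L1basis_apply, L1basis_apply, PresHom.L1map_tmul, aHom_relModMap_single, map_one, map_one]

theorem bHom_L1map_basis_inl (t : τ) :
    (bHom P₁ P₃).L1map (L1basis (P₃.comp P₁) (Sum.inl t)) = L1basis P₃ t := by
  rw [L1basis_apply, L1basis_apply, PresHom.L1map_tmul, bHom_relModMap_single_inl, map_one, map_one]

theorem bHom_L1map_basis_inr (s : σ) :
    (bHom P₁ P₃).L1map (L1basis (P₃.comp P₁) (Sum.inr s)) = 0 := by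
  rw [L1basis_apply, PresHom.L1map_tmul, bHom_relModMap_single_inr, TensorProduct.tmul_zero]

variable (M : Type m) [AddCommGroup M] [Module C M] [Module B M] [IsScalarTower B C M]

theorem inj0 : Injective ((bHom P₁ P₃).pull0 M) :=
  split_inj (P₃.comp P₁).cotangentSpaceBasis P₃.cotangentSpaceBasis (bHom P₁ P₃).L0map
    (bHom_L0map_basis_inl P₁ P₃) ((bHom P₁ P₃).pull0 M) (fun _ _ => rfl)

theorem surj0 : Surjective ((aHom P₁ P₃).pull0 M) :=
  split_surj P₁.cotangentSpaceBasis (P₃.comp P₁).cotangentSpaceBasis (aHom P₁ P₃).L0map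
    (aHom_L0map_basis P₁ P₃) ((aHom P₁ P₃).pull0 M) (fun _ _ => rfl)

theorem ex0 : Exact ((bHom P₁ P₃).pull0 M) ((aHom P₁ P₃).pull0 M) :=
  split_exact P₁.cotangentSpaceBasis (P₃.comp P₁).cotangentSpaceBasis P₃.cotangentSpaceBasis
    (aHom P₁ P₃).L0map (bHom P₁ P₃).L0map
    (aHom_L0map_basis P₁ P₃) (bHom_L0map_basis_inl P₁ P₃) (bHom_L0map_basis_inr P₁ P₃)
    ((aHom P₁ P₃).pull0 M) (fun _ _ => rfl) ((bHom P₁ P₃).pull0 M) (fun _ _ => rfl)

theorem inj1 : Injective ((bHom P₁ P₃).pull1 M) :=
  split_inj (L1basis (P₃.comp P₁)) (L1basis P₃) (bHom P₁ P₃).L1map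
    (bHom_L1map_basis_inl P₁ P₃) ((bHom P₁ P₃).pull1 M) (fun _ _ => rfl)

theorem surj1 : Surjective ((aHom P₁ P₃).pull1 M) :=
  split_surj (L1basis P₁) (L1basis (P₃.comp P₁)) (aHom P₁ P₃).L1map
    (aHom_L1map_basis P₁ P₃) ((aHom P₁ P₃).pull1 M) (fun _ _ => rfl)

theorem ex1 : Exact ((bHom P₁ P₃).pull1 M) ((aHom P₁ P₃).pull1 M) :=
  split_exact (L1basis P₁) (L1basis (P₃.comp P₁)) (L1basis P₃)
    (aHom P₁ P₃).L1map (bHom P₁ P₃).L1map
    (aHom_L1map_basis P₁ P₃) (bHom_L1map_basis_inl P₁ P₃) (bHom_L1map_basis_inr P₁ P₃)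
    ((aHom P₁ P₃).pull1 M) (fun _ _ => rfl) ((bHom P₁ P₃).pull1 M) (fun _ _ => rfl)

end Rows01

section FL

variable {R : Type*} {S : Type*} [CommRing R] [CommRing S] [Algebra R S] [Module.Flat R S]
variable {σ : Type*} (f : σ → R)

/-- flat base change of the kernel of a map from a free module to the ring (equational criterion). -/
theorem flat_rel (v : σ →₀ S)
    (hv : Finsupp.linearCombination S (fun s => algebraMap R S (f s)) v = 0) :
    v ∈ Submodule.span S (Set.range (fun β : LinearMap.ker (Finsupp.linearCombination R f) =>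
      Finsupp.mapRange (algebraMap R S) (map_zero _) (β : σ →₀ R))) := by
  classical
  have h0 : ∑ s : v.support, f s • v s = 0 := by
    rw [Finsupp.linearCombination_apply, Finsupp.sum] at hv
    rw [← hv, ← Finset.sum_coe_sort v.support (fun s => v s • algebraMap R S (f s))]
    refine Finset.sum_congr rfl fun s _ => ?_
    rw [Algebra.smul_def, smul_eq_mul, mul_comm]
  obtain ⟨k, a, y, hxy, hfa⟩ := Module.Flat.isTrivialRelation_of_sum_smul_eq_zero (R := R) (M := S)
    (f := fun s : v.support => f s) (x := fun s : v.support => v s) h0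
  have hxy' : ∀ i : v.support, v i = ∑ j, a i j • y j := hxy
  have hfa' : ∀ j, ∑ i : v.support, f i * a i j = 0 := hfa
  -- the relations β_j
  let β : Fin k → (σ →₀ R) := fun j =>
    Finsupp.onFinset v.support (fun s => if h : s ∈ v.support then a ⟨s, h⟩ j else 0)
      (fun s hs => by
        by_contra hn
        rw [dif_neg hn] at hs
        exact hs rfl)
  have hβ : ∀ j, β j ∈ LinearMap.ker (Finsupp.linearCombination R f) := by
    intro j
    rw [LinearMap.mem_ker, Finsupp.linearCombination_apply,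
      Finsupp.sum_of_support_subset (β j) Finsupp.support_onFinset_subset (fun i a => a • f i)
        (fun i _ => zero_smul _ _), ← hfa' j,
      ← Finset.sum_coe_sort v.support (fun s => (β j) s • f s)]
    refine Finset.sum_congr rfl fun s _ => ?_
    change (if h : (s : σ) ∈ v.support then a ⟨s, h⟩ j else 0) • f s = _
    rw [dif_pos s.2, smul_eq_mul, mul_comm]
  have hv' : v = ∑ j, y j • Finsupp.mapRange (algebraMap R S) (map_zero _) (β j) := by
    ext s
    rw [Finsupp.coe_finsetSum, Finset.sum_apply]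
    by_cases hs : s ∈ v.support
    · rw [hxy' ⟨s, hs⟩]
      refine Finset.sum_congr rfl fun j _ => ?_
      rw [Finsupp.smul_apply, Finsupp.mapRange_apply]
      change _ = y j • algebraMap R S (if h : s ∈ v.support then a ⟨s, h⟩ j else 0)
      rw [dif_pos hs, Algebra.smul_def, smul_eq_mul, mul_comm]
    · rw [Finsupp.notMem_support_iff.mp hs]
      symm
      refine Finset.sum_eq_zero fun j _ => ?_
      rw [Finsupp.smul_apply, Finsupp.mapRange_apply]
      change y j • algebraMap R S (if h : s ∈ v.support then a ⟨s, h⟩ j else 0) = 0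
      rw [dif_neg hs, map_zero, smul_zero]
  rw [hv']
  refine Submodule.sum_mem _ fun j _ => Submodule.smul_mem _ _ (Submodule.subset_span ?_)
  exact ⟨⟨β j, hβ j⟩, rfl⟩

end FL

theorem flat_of_eq_rename {A : Type*} [CommRing A] {κ ι : Type*}
    (α : MvPolynomial ι A →+* MvPolynomial (κ ⊕ ι) A)
    (hα : ∀ x, α x = MvPolynomial.rename Sum.inr x) :
    @Module.Flat (MvPolynomial ι A) (MvPolynomial (κ ⊕ ι) A) _ _ α.toAlgebra.toModule := by
  letI := α.toAlgebra
  let E := MvPolynomial.sumAlgEquiv A κ ι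
  have hE : ∀ r : MvPolynomial ι A, E (MvPolynomial.rename Sum.inr r) = MvPolynomial.C r := fun r =>
    AlgHom.congr_fun (MvPolynomial.sumAlgEquiv_comp_rename_inr (R := A) (S₁ := κ) (S₂ := ι)) r
  let E' : MvPolynomial (κ ⊕ ι) A ≃ₗ[MvPolynomial ι A] MvPolynomial κ (MvPolynomial ι A) :=
    { E.toAddEquiv with
      map_smul' := fun r g => by
        change E (r • g) = r • E g
        rw [Algebra.smul_def, map_mul]
        change E (α r) * E g = _
        rw [hα, hE, MvPolynomial.smul_eq_C_mul] }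
  exact Module.Flat.of_linearEquiv E'

section Gen

variable {R : Type*} {B : Type*} [CommRing R] [CommRing B] [Algebra R B]
variable {N : Type*} [AddCommGroup N] [Module R N]

theorem exists_one_tmul {N : Type*} [AddCommMonoid N] [Module R N]
    (hs : Surjective (algebraMap R B)) (w : B ⊗[R] N) :
    ∃ n : N, w = (1 : B) ⊗ₜ[R] n := by
  induction w using TensorProduct.induction_on with
  | zero => exact ⟨0, (TensorProduct.tmul_zero _ _).symm⟩
  | add x y hx hy =>
    obtain ⟨n, rfl⟩ := hx
    obtain ⟨n', rfl⟩ := hy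
    exact ⟨n + n', (TensorProduct.tmul_add _ _ _).symm⟩
  | tmul b n =>
    obtain ⟨r, rfl⟩ := hs b
    refine ⟨r • n, ?_⟩
    rw [TensorProduct.tmul_smul, TensorProduct.smul_tmul', Algebra.smul_def, mul_one]

theorem mem_smul_top_of_one_tmul_eq_zero (hs : Surjective (algebraMap R B)) (n : N)
    (h : (1 : B) ⊗ₜ[R] n = 0) : n ∈ RingHom.ker (algebraMap R B) • (⊤ : Submodule R N) := by
  let I := RingHom.ker (algebraMap R B)
  let e : (R ⧸ I) ≃ₐ[R] B := Ideal.quotientKerAlgEquivOfSurjective (f := Algebra.ofId R B) hs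
  have h1 : LinearMap.rTensor N e.symm.toLinearMap ((1 : B) ⊗ₜ[R] n) = 0 := by rw [h, map_zero]
  rw [LinearMap.rTensor_tmul] at h1
  have h2 : e.symm.toLinearMap (1 : B) = 1 := map_one e.symm
  rw [h2] at h1
  have h3 : n ∈ LinearMap.ker (TensorProduct.mk R (R ⧸ I) N 1) := h1
  rw [LinearMap.ker_tensorProductMk] at h3
  exact h3

theorem exists_add_of_one_tmul_eq (hs : Surjective (algebraMap R B)) (n n' : N)
    (h : (1 : B) ⊗ₜ[R] n = (1 : B) ⊗ₜ[R] n') :
    ∃ d ∈ RingHom.ker (algebraMap R B) • (⊤ : Submodule R N), n = n' + d := by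
  refine ⟨n - n', mem_smul_top_of_one_tmul_eq_zero hs _ ?_, (add_sub_cancel _ _).symm⟩
  rw [TensorProduct.tmul_sub, h, sub_self]

end Gen

section L2

variable {A : Type u} {B : Type v} {ι : Type w} {σ : Type t}
variable [CommRing A] [CommRing B] [Algebra A B]
variable (P : Algebra.Presentation A B ι σ)

theorem algebraMap_surj : Surjective (algebraMap P.toExtension.Ring B) :=
  P.algebraMap_surjective

theorem κ0_surjective : Surjective (CotTIndep.κ0 P) := by
  intro z
  obtain ⟨w, rfl⟩ := Submodule.Quotient.mk_surjective _ z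
  obtain ⟨q, rfl⟩ := exists_one_tmul (R := P.toExtension.Ring) (N := relKer P) (algebraMap_surj P) w
  exact ⟨q, rfl⟩

theorem smul_mem_trivRel (r : P.toExtension.Ring) (hr : r ∈ RingHom.ker (algebraMap P.toExtension.Ring B))
    (q : relKer P) : (r • (q : relMod P)) ∈ trivRel P := by
  have hr' : r ∈ LinearMap.range (jmap P) := by
    rw [range_jmap]
    exact hr
  obtain ⟨f, rfl⟩ := hr'
  have hq : jmap P (q : relMod P) = 0 := q.2
  have : jmap P f • (q : relMod P) = jmap P f • (q : relMod P) - jmap P (q : relMod P) • f := by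
    rw [hq, zero_smul, sub_zero]
  rw [this]
  exact Submodule.subset_span ⟨f, q, rfl⟩

theorem mem_trivRel_of_κ0_eq_zero (q : relKer P) (h : CotTIndep.κ0 P q = 0) :
    (q : relMod P) ∈ trivRel P := by
  rw [CotTIndep.κ0_apply, Submodule.Quotient.mk_eq_zero] at h
  obtain ⟨w, hw⟩ := h
  obtain ⟨k, rfl⟩ := exists_one_tmul (R := P.toExtension.Ring) (N := trivRelKer P) (algebraMap_surj P) w
  rw [LinearMap.baseChange_tmul] at hw
  obtain ⟨d, hd, hqd⟩ := exists_add_of_one_tmul_eq (R := P.toExtension.Ring) (N := relKer P)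
    (algebraMap_surj P) q ((trivRelKer P).subtype k) hw.symm
  have h3 : ∀ x ∈ RingHom.ker (algebraMap P.toExtension.Ring B) • (⊤ : Submodule P.toExtension.Ring (relKer P)),
      (x : relMod P) ∈ trivRel P := by
    intro x hx
    refine Submodule.smul_induction_on hx (fun r hr n _ => ?_) (fun x y hx hy => ?_)
    · exact smul_mem_trivRel P r hr n
    · exact Submodule.add_mem _ hx hy
  have h4 := h3 _ hd
  have h5 : ((trivRelKer P).subtype k : relMod P) ∈ trivRel P := k.2
  have h6 : (q : relMod P) = ((trivRelKer P).subtype k : relMod P) + (d : relMod P) :=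
    congrArg Subtype.val hqd
  rw [h6]
  exact Submodule.add_mem _ h5 h4

end L2

end Groth.Agent.Lib.Helper59.NineC
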