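import Mathlib
import Groth.Prelude.Def_CotT2
import Groth.Prelude.Def_CAlgX
import Groth.Agent.Lib.Helper59.CotTIndep
import Groth.Agent.Lib.Helper59.CotTRegSeq
import Groth.Agent.Lib.Helper59.NineC

/-!
# Vanishing of `T²` of a quotient forces the relations to be trivial (helper59)
-/

set_option autoImplicit false
set_option linter.unusedSectionVars false
universe u v w t

open TensorProduct Function

namespace Groth.Agent.Lib.Helper59.LciT2

open CotT CotTRegSeq NineC

section Split

variable {A : Type u} {B : Type v} {ι : Type w} {σ : Type t}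
variable [CommRing A] [CommRing B] [Algebra A B]
variable (P : Algebra.Presentation A B ι σ)

/-- vanishing of `T²` with coefficients in `L₂` splits `d₂`. -/
theorem exists_retraction (h : Subsingleton (T2 P (L2 P))) :
    ∃ s : L1 P →ₗ[B] L2 P, s ∘ₗ d2 P = LinearMap.id := by
  have h1 : (Submodule.Quotient.mk (LinearMap.id : L2 P →ₗ[B] L2 P) : T2 P (L2 P)) =
      Submodule.Quotient.mk 0 := Subsingleton.elim _ _
  rw [Submodule.Quotient.eq, sub_zero] at h1
  obtain ⟨s, hs⟩ := h1
  exact ⟨s, hs⟩

theorem one_tmul_eq_sum (q : relMod P) :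
    ((1 : B) ⊗ₜ[P.toExtension.Ring] q : L1 P) =
      q.sum (fun i r => algebraMap P.toExtension.Ring B r • L1basis P i) := by
  induction q using Finsupp.induction_linear with
  | zero => rw [TensorProduct.tmul_zero, Finsupp.sum_zero_index]
  | add f g hf hg =>
    rw [TensorProduct.tmul_add, hf, hg, Finsupp.sum_add_index' (fun i => by rw [map_zero, zero_smul])
      (fun i r r' => by rw [map_add, add_smul])]
  | single i r =>
    rw [Finsupp.sum_single_index (by rw [map_zero, zero_smul]), L1basis_apply,
      TensorProduct.smul_tmul', ← Finsupp.smul_single_one i r, TensorProduct.tmul_smul,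
      TensorProduct.smul_tmul', Algebra.smul_def, mul_one, smul_eq_mul, mul_one]

/-- if `d₂` has a retraction then every relation is trivial modulo `J • Q`, for any ideal `J`
containing all coefficients of all relations. -/
theorem relKer_le_sup (s : L1 P →ₗ[B] L2 P) (hs : s ∘ₗ d2 P = LinearMap.id)
    (J : Ideal P.toExtension.Ring)
    (hJ : ∀ q : relKer P, ∀ i, (q : relMod P) i ∈ J) :
    relKer P ≤ trivRel P ⊔ J • relKer P := by
  intro q hq
  choose p hp using fun i => κ0_surjective P (s (L1basis P i))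
  have h1 : CotTIndep.κ0 P ⟨q, hq⟩ = s (d2 P (CotTIndep.κ0 P ⟨q, hq⟩)) :=
    (LinearMap.congr_fun hs _).symm
  have h1' : d2 P (CotTIndep.κ0 P ⟨q, hq⟩) = (1 : B) ⊗ₜ[P.toExtension.Ring] q := by
    rw [CotTIndep.κ0_apply, d2_mk_tmul]
  rw [h1', one_tmul_eq_sum, map_finsuppSum] at h1
  set y : relKer P := q.sum fun i r => r • p i with hy
  have h2 : (q.sum fun i r => s (algebraMap P.toExtension.Ring B r • L1basis P i)) =
      CotTIndep.κ0 P y := by
    rw [hy, map_finsuppSum]
    refine Finsupp.sum_congr fun i _ => ?_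
    rw [map_smul, map_smul, hp, algebraMap_smul]
  rw [h2] at h1
  let d : relKer P := ⟨q - (y : relMod P), Submodule.sub_mem _ hq y.2⟩
  have hd : (⟨q, hq⟩ : relKer P) = d + y := Subtype.ext (sub_add_cancel q (y : relMod P)).symm
  have h3 : CotTIndep.κ0 P d = 0 := by
    rw [hd, map_add] at h1
    exact add_eq_right.1 h1
  have h4 : q - (y : relMod P) ∈ trivRel P := mem_trivRel_of_κ0_eq_zero P d h3
  have h5 : q = (q - (y : relMod P)) + (y : relMod P) := (sub_add_cancel _ _).symm
  rw [h5]
  refine Submodule.add_mem _ (Submodule.mem_sup_left h4) (Submodule.mem_sup_right ?_)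
  have h6 : y ∈ J • (⊤ : Submodule P.toExtension.Ring (relKer P)) := by
    rw [hy]
    refine Submodule.finsuppSum_mem _ _ _ _ fun i _ => ?_
    exact Submodule.smul_mem_smul (hJ ⟨q, hq⟩ i) Submodule.mem_top
  have h7 : Submodule.map (relKer P).subtype (J • (⊤ : Submodule P.toExtension.Ring (relKer P))) =
      J • relKer P := by
    rw [Submodule.map_smul'', Submodule.map_top, Submodule.range_subtype]
  rw [← h7]
  exact ⟨_, h6, rfl⟩

end Split

section Psi

variable {A B : Type u} [CommRing A] [CommRing B] [Algebra A B]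
variable (hs : Function.Surjective (algebraMap A B)) (rs : List A)
  (hI : RingHom.ker (algebraMap A B) = Ideal.ofList rs)

/-- coordinates of an element of the free module on the relations, as a vector over `A`. -/
noncomputable def Ψ : relMod (seqPres hs rs hI) →+ (Fin rs.length → A) where
  toFun v i := eR hs rs hI (v (ULift.up i))
  map_zero' := by
    funext i
    change eR hs rs hI ((0 : relMod (seqPres hs rs hI)) (ULift.up i)) = 0
    rw [Finsupp.zero_apply, map_zero]
  map_add' v w := by
    funext i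
    change eR hs rs hI ((v + w) (ULift.up i)) = _
    rw [Finsupp.add_apply, map_add]
    rfl

theorem Ψ_apply (v : relMod (seqPres hs rs hI)) (i : Fin rs.length) :
    Ψ hs rs hI v i = eR hs rs hI (v (ULift.up i)) := rfl

theorem Ψ_Φ (a : Fin rs.length → A) : Ψ hs rs hI (Φ hs rs hI a) = a := by
  funext i
  rw [Ψ_apply, Φ_apply, eR_cR]

theorem Ψ_smul (r : (seqPres hs rs hI).toExtension.Ring) (v : relMod (seqPres hs rs hI)) :
    Ψ hs rs hI (r • v) = eR hs rs hI r • Ψ hs rs hI v := by
  funext i
  rw [Ψ_apply, Finsupp.smul_apply, smul_eq_mul, map_mul]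
  rfl

theorem Ψ_single (i : Fin rs.length) (x : (seqPres hs rs hI).toExtension.Ring) :
    Ψ hs rs hI (Finsupp.single (ULift.up i) x) = Pi.single i (eR hs rs hI x) := by
  funext k
  rw [Ψ_apply, Finsupp.single_apply, Pi.single_apply]
  by_cases h : k = i
  · subst h
    rw [if_pos rfl, if_pos rfl]
  · have : ¬ (ULift.up i : ULift.{u} (Fin rs.length)) = ULift.up k := fun h' =>
      h (ULift.up_injective h').symm
    rw [if_neg this, if_neg h, map_zero]

/-- the span of the Koszul relations -/
abbrev Kz : Submodule A (Fin rs.length → A) :=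
  Submodule.span A {v : Fin rs.length → A | ∃ i j : Fin rs.length,
      v = Pi.single i (rs[j.val]) - Pi.single j (rs[i.val])}

theorem Ψ_triv_single (i j : ULift.{u} (Fin rs.length)) (x y : (seqPres hs rs hI).toExtension.Ring) :
    Ψ hs rs hI (jmap (seqPres hs rs hI) (Finsupp.single i x) • (Finsupp.single j y : relMod (seqPres hs rs hI)) -
      jmap (seqPres hs rs hI) (Finsupp.single j y) • (Finsupp.single i x : relMod (seqPres hs rs hI))) ∈ Kz rs := by
  obtain ⟨i⟩ := i
  obtain ⟨j⟩ := j
  rw [map_sub, Ψ_smul, Ψ_smul, Ψ_single, Ψ_single, jmap_single, jmap_single, rel_seqPres, rel_seqPres,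
    map_mul, map_mul, eR_cR, eR_cR]
  have : (eR hs rs hI x * rs[i.val]) • (Pi.single j (eR hs rs hI y) : Fin rs.length → A) -
      (eR hs rs hI y * rs[j.val]) • (Pi.single i (eR hs rs hI x) : Fin rs.length → A) =
      (eR hs rs hI x * eR hs rs hI y) • (Pi.single j (rs[i.val]) - Pi.single i (rs[j.val])) := by
    funext k
    simp only [Pi.sub_apply, Pi.smul_apply, Pi.single_apply, smul_eq_mul]
    split_ifs <;> ring
  rw [this]
  exact Submodule.smul_mem _ _ (Submodule.subset_span ⟨j, i, rfl⟩)

theorem Ψ_triv (a b : relMod (seqPres hs rs hI)) :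
    Ψ hs rs hI (jmap (seqPres hs rs hI) a • b - jmap (seqPres hs rs hI) b • a) ∈ Kz rs := by
  induction a using Finsupp.induction_linear with
  | zero =>
    rw [map_zero, zero_smul, smul_zero, sub_zero, map_zero]
    exact Submodule.zero_mem _
  | add a a' ha ha' =>
    have : jmap (seqPres hs rs hI) (a + a') • b - jmap (seqPres hs rs hI) b • (a + a') =
        (jmap (seqPres hs rs hI) a • b - jmap (seqPres hs rs hI) b • a) +
        (jmap (seqPres hs rs hI) a' • b - jmap (seqPres hs rs hI) b • a') := by
      rw [map_add, add_smul, smul_add]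
      abel
    rw [this, map_add]
    exact Submodule.add_mem _ ha ha'
  | single i x =>
    induction b using Finsupp.induction_linear with
    | zero =>
      rw [map_zero, zero_smul, smul_zero, sub_zero, map_zero]
      exact Submodule.zero_mem _
    | add b b' hb hb' =>
      have : jmap (seqPres hs rs hI) (Finsupp.single i x) • (b + b') -
          jmap (seqPres hs rs hI) (b + b') • (Finsupp.single i x : relMod (seqPres hs rs hI)) =
          (jmap (seqPres hs rs hI) (Finsupp.single i x) • b -
            jmap (seqPres hs rs hI) b • (Finsupp.single i x : relMod (seqPres hs rs hI))) +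
          (jmap (seqPres hs rs hI) (Finsupp.single i x) • b' -
            jmap (seqPres hs rs hI) b' • (Finsupp.single i x : relMod (seqPres hs rs hI))) := by
        rw [map_add, add_smul, smul_add]
        abel
      rw [this, map_add]
      exact Submodule.add_mem _ hb hb'
    | single j y => exact Ψ_triv_single hs rs hI i j x y

theorem Ψ_mem_Kz {v : relMod (seqPres hs rs hI)} (hv : v ∈ trivRel (seqPres hs rs hI)) :
    Ψ hs rs hI v ∈ Kz rs := by
  induction hv using Submodule.span_induction with
  | mem x hx =>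
    obtain ⟨a, b, rfl⟩ := hx
    exact Ψ_triv hs rs hI a b
  | zero => rw [map_zero]; exact Submodule.zero_mem _
  | add x y _ _ hx hy => rw [map_add]; exact Submodule.add_mem _ hx hy
  | smul r x _ hx => rw [Ψ_smul]; exact Submodule.smul_mem _ _ hx

theorem jmap_Φ (a : Fin rs.length → A) :
    jmap (seqPres hs rs hI) (Φ hs rs hI a) = cR hs rs hI (∑ i, a i * rs[i.val]) := by
  rw [jmap, Finsupp.linearCombination_apply,
    Finsupp.sum_fintype (Φ hs rs hI a)
      (fun i a => a • rel (seqPres hs rs hI) i) (fun i => zero_smul _ _), map_sum,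
    ← Equiv.sum_comp Equiv.ulift.symm]
  refine Finset.sum_congr rfl fun i _ => ?_
  rw [map_mul]
  rfl

theorem isH1Regular_of_relKer_le
    (h : ∀ q : relKer (seqPres hs rs hI), (q : relMod (seqPres hs rs hI)) ∈ trivRel (seqPres hs rs hI)) :
    CAlgX.IsH1Regular (fun i : Fin rs.length => rs[i.val]) := by
  intro a ha
  have h1 : Φ hs rs hI a ∈ relKer (seqPres hs rs hI) := by
    change jmap (seqPres hs rs hI) (Φ hs rs hI a) = 0
    rw [jmap_Φ, ha, map_zero]
  have h2 := Ψ_mem_Kz hs rs hI (h ⟨_, h1⟩)
  rw [Ψ_Φ] at h2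
  exact h2

end Psi

section Nak

variable {A B : Type u} [CommRing A] [CommRing B] [Algebra A B]
variable (hs : Function.Surjective (algebraMap A B)) (rs : List A)
  (hI : RingHom.ker (algebraMap A B) = Ideal.ofList rs)

theorem Φ_Ψ (v : relMod (seqPres hs rs hI)) : Φ hs rs hI (Ψ hs rs hI v) = v := by
  ext k
  rw [Φ_apply, Ψ_apply]
  exact cR_eR hs rs hI _

theorem sum_Ψ_eq_zero (q : relKer (seqPres hs rs hI)) :
    ∑ i, Ψ hs rs hI (q : relMod (seqPres hs rs hI)) i * rs[i.val] = 0 := by
  have h1 : jmap (seqPres hs rs hI) (q : relMod (seqPres hs rs hI)) = 0 := q.2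
  rw [← Φ_Ψ hs rs hI (q : relMod (seqPres hs rs hI)), jmap_Φ] at h1
  have h2 := congrArg (eR hs rs hI) h1
  rw [eR_cR, map_zero] at h2
  exact h2

variable [IsLocalRing A] [IsNoetherianRing A]

/-- the ideal of the presentation's ring corresponding to the maximal ideal. -/
noncomputable def m0 : Ideal (seqPres hs rs hI).toExtension.Ring :=
  Ideal.comap (eR hs rs hI) (IsLocalRing.maximalIdeal A)

theorem m0_le_jacobson : m0 hs rs hI ≤ Ideal.jacobson ⊥ := by
  intro x hx
  rw [Ideal.mem_jacobson_bot]
  intro y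
  have hx' : eR hs rs hI x ∈ IsLocalRing.maximalIdeal A := hx
  have h1 : IsUnit (eR hs rs hI (x * y + 1)) := by
    rw [map_add, map_mul, map_one]
    have h2 : eR hs rs hI x * eR hs rs hI y ∈ IsLocalRing.maximalIdeal A :=
      Ideal.mul_mem_right _ _ hx'
    have h3 := IsLocalRing.isUnit_one_sub_self_of_mem_nonunits (-(eR hs rs hI x * eR hs rs hI y))
      (by
        rw [← IsLocalRing.mem_maximalIdeal]
        exact neg_mem h2)
    rw [sub_neg_eq_add, add_comm] at h3
    exact h3
  have h4 := h1.map (cR hs rs hI)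
  rw [cR_eR] at h4
  exact h4

theorem relKer_le_trivRel_of_T2
    (hmin : ∀ a : Fin rs.length → A, ∑ i, a i * rs[i.val] = 0 → ∀ i, a i ∈ IsLocalRing.maximalIdeal A)
    (hT2 : Subsingleton (T2 (seqPres hs rs hI) (L2 (seqPres hs rs hI))))
    (q : relKer (seqPres hs rs hI)) :
    (q : relMod (seqPres hs rs hI)) ∈ trivRel (seqPres hs rs hI) := by
  obtain ⟨s, hs'⟩ := exists_retraction (seqPres hs rs hI) hT2
  have hJ : ∀ q : relKer (seqPres hs rs hI), ∀ i, (q : relMod (seqPres hs rs hI)) i ∈ m0 hs rs hI := by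
    intro q i
    obtain ⟨i⟩ := i
    exact hmin _ (sum_Ψ_eq_zero hs rs hI q) i
  have h1 := relKer_le_sup (seqPres hs rs hI) s hs' (m0 hs rs hI) hJ
  have : IsNoetherianRing (seqPres hs rs hI).toExtension.Ring :=
    inferInstanceAs (IsNoetherianRing (MvPolynomial PEmpty.{u + 1} A))
  have hfg : (relKer (seqPres hs rs hI)).FG := IsNoetherian.noetherian _
  exact Submodule.le_of_le_smul_of_le_jacobson_bot hfg (m0_le_jacobson hs rs hI) h1 q.2

end Nak

section MinGen

variable {A : Type u} [CommRing A]

theorem span_range_succAbove {c : ℕ} (f : Fin (c + 1) → A) (a : Fin (c + 1) → A)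
    (h : ∑ i, a i * f i = 0) (j : Fin (c + 1)) (hj : IsUnit (a j)) :
    Ideal.span (Set.range (f ∘ j.succAbove)) = Ideal.span (Set.range f) := by
  apply le_antisymm
  · refine Ideal.span_mono ?_
    rintro _ ⟨i, rfl⟩
    exact ⟨_, rfl⟩
  · rw [Ideal.span_le]
    rintro _ ⟨i, rfl⟩
    have hsa : ∀ i', f (j.succAbove i') ∈ Ideal.span (Set.range (f ∘ j.succAbove)) :=
      fun i' => Ideal.subset_span ⟨i', rfl⟩
    by_cases hij : i = j
    · subst hij
      rw [Fin.sum_univ_succAbove _ i] at h
      obtain ⟨u, hu⟩ := hj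
      have h1 : f i = -(↑u⁻¹ * ∑ i', a (i.succAbove i') * f (i.succAbove i')) := by
        have h2 : a i * f i = -∑ i', a (i.succAbove i') * f (i.succAbove i') :=
          eq_neg_of_add_eq_zero_left h
        rw [← mul_neg, ← h2, ← hu, ← mul_assoc, Units.inv_mul, one_mul]
      rw [SetLike.mem_coe, h1]
      refine neg_mem (Ideal.mul_mem_left _ _ (Ideal.sum_mem _ fun i' _ => ?_))
      exact Ideal.mul_mem_left _ _ (hsa i')
    · obtain ⟨i', rfl⟩ := Fin.exists_succAbove_eq hij
      exact hsa i'

variable [IsLocalRing A]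

/-- a finitely generated ideal of a local ring has a generating family all of whose relations have
coefficients in the maximal ideal. -/
theorem exists_minimal_generators (I : Ideal A) (hfg : I.FG) :
    ∃ (c : ℕ) (f : Fin c → A), Ideal.span (Set.range f) = I ∧
      ∀ a : Fin c → A, ∑ i, a i * f i = 0 → ∀ i, a i ∈ IsLocalRing.maximalIdeal A := by
  classical
  have hP : ∃ c : ℕ, ∃ f : Fin c → A, Ideal.span (Set.range f) = I :=
    Submodule.fg_iff_exists_fin_generating_family.mp hfg
  obtain ⟨c, ⟨f, hf⟩, hmin⟩ : ∃ c : ℕ, (∃ f : Fin c → A, Ideal.span (Set.range f) = I) ∧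
      ∀ c' < c, ¬ ∃ f : Fin c' → A, Ideal.span (Set.range f) = I :=
    ⟨Nat.find hP, Nat.find_spec hP, fun c' hc' => Nat.find_min hP hc'⟩
  refine ⟨c, f, hf, fun a ha j => ?_⟩
  by_contra hj
  have hu : IsUnit (a j) := by
    by_contra hnu
    exact hj ((IsLocalRing.mem_maximalIdeal _).2 hnu)
  cases c with
  | zero => exact j.elim0
  | succ c =>
    exact hmin c (Nat.lt_succ_self c) ⟨f ∘ j.succAbove, (span_range_succAbove f a ha j hu).trans hf⟩

end MinGen

end Groth.Agent.Lib.Helper59.LciT2
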