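import Mathlib
import Groth.Prelude.Def_CotT2
import Groth.Agent.Lib.Helper59.CotTIndep
import Groth.Agent.Lib.Helper59.NineC

/-!
# Degree two: right exactness for the composite presentation (helper59)
-/

set_option autoImplicit false
set_option linter.unusedSectionVars false
universe u v v' w t w' t' m

open TensorProduct Function

namespace Groth.Agent.Lib.Helper59.NineD

open CotT NineC

variable {A : Type u} {B : Type v} {C : Type v'} [CommRing A] [CommRing B] [CommRing C]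
  [Algebra A B] [Algebra B C] [Algebra A C] [IsScalarTower A B C]
  {ι : Type w} {σ : Type t} {κ : Type w'} {τ : Type t'}
variable (P₁ : Algebra.Presentation A B ι σ) (P₃ : Algebra.Presentation B C κ τ)

theorem bHom_ringHom_surjective : Surjective (bHom P₁ P₃).ringHom :=
  Algebra.Generators.toAlgHom_ofComp_surjective P₃.toGenerators P₁.toGenerators

/-- the submodule of relations supported on the second summand. -/
noncomputable def V : Submodule (P₃.comp P₁).toExtension.Ring (relMod (P₃.comp P₁)) :=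
  LinearMap.range (Finsupp.lmapDomain (P₃.comp P₁).toExtension.Ring (P₃.comp P₁).toExtension.Ring
    (Sum.inr : σ → τ ⊕ σ))

theorem single_inr_mem_V (s : σ) (r : (P₃.comp P₁).toExtension.Ring) :
    (Finsupp.single (Sum.inr s) r : relMod (P₃.comp P₁)) ∈ V P₁ P₃ :=
  ⟨Finsupp.single s r, by rw [Finsupp.lmapDomain_apply, Finsupp.mapDomain_single]⟩

theorem aHom_relModMap_mem_V (f : relMod P₁) : (aHom P₁ P₃).relModMap f ∈ V P₁ P₃ := by
  induction f using Finsupp.induction_linear with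
  | zero => rw [map_zero]; exact Submodule.zero_mem _
  | add f g hf hg => rw [map_add]; exact Submodule.add_mem _ hf hg
  | single s r => rw [aHom_relModMap_single]; exact single_inr_mem_V P₁ P₃ s _

theorem bHom_relModMap_of_mem_V {x : relMod (P₃.comp P₁)} (hx : x ∈ V P₁ P₃) :
    (bHom P₁ P₃).relModMap x = 0 := by
  obtain ⟨v, rfl⟩ := hx
  induction v using Finsupp.induction_linear with
  | zero => rw [map_zero, map_zero]
  | add f g hf hg => rw [map_add, map_add, hf, hg, add_zero]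
  | single s r =>
    rw [Finsupp.lmapDomain_apply, Finsupp.mapDomain_single, bHom_relModMap_single_inr]

theorem aHom_relModMap_eq (f : relMod P₁) :
    (aHom P₁ P₃).relModMap f =
      Finsupp.mapDomain Sum.inr (Finsupp.mapRange (aHom P₁ P₃).ringHom (map_zero _) f) := by
  induction f using Finsupp.induction_linear with
  | zero => rw [map_zero, Finsupp.mapRange_zero, Finsupp.mapDomain_zero]
  | add f g hf hg =>
    rw [map_add, hf, hg, Finsupp.mapRange_add (map_add _), Finsupp.mapDomain_add]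
  | single s r =>
    rw [aHom_relModMap_single, Finsupp.mapRange_single, Finsupp.mapDomain_single]

theorem exists_mem_V_jmap_aux {x : (P₃.comp P₁).toExtension.Ring}
    (h2 : x ∈ Ideal.span
      ((P₃.toGenerators.toComp P₁.toGenerators).toAlgHom '' (P₁.toGenerators.ker : Set _))) :
    ∃ v ∈ V P₁ P₃, jmap (P₃.comp P₁) v = x := by
  induction h2 using Submodule.span_induction with
  | mem x hx =>
    obtain ⟨p, hp, rfl⟩ := hx
    have hp' : p ∈ LinearMap.range (jmap P₁) := by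
      rw [range_jmap]
      exact hp
    obtain ⟨f, rfl⟩ := hp'
    exact ⟨(aHom P₁ P₃).relModMap f, aHom_relModMap_mem_V P₁ P₃ f, (aHom P₁ P₃).jmap_relModMap f⟩
  | zero => exact ⟨0, Submodule.zero_mem _, map_zero _⟩
  | add x y _ _ hx hy =>
    obtain ⟨v, hv, rfl⟩ := hx
    obtain ⟨v', hv', rfl⟩ := hy
    exact ⟨v + v', Submodule.add_mem _ hv hv', map_add _ _ _⟩
  | smul r x _ hx =>
    obtain ⟨v, hv, rfl⟩ := hx
    have key : ∀ r' : (P₃.comp P₁).toExtension.Ring,
        ∃ w ∈ V P₁ P₃, jmap (P₃.comp P₁) w = r' * jmap (P₃.comp P₁) v :=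
      fun r' => ⟨r' • v, Submodule.smul_mem _ _ hv, map_smul _ _ _⟩
    exact key r

/-- elements of the kernel of `R₂ → R₃` are values of `j` on `V`. -/
theorem exists_mem_V_jmap {x : (P₃.comp P₁).toExtension.Ring}
    (hx : (bHom P₁ P₃).ringHom x = 0) : ∃ v ∈ V P₁ P₃, jmap (P₃.comp P₁) v = x := by
  have h1 : x ∈ RingHom.ker (P₃.toGenerators.ofComp P₁.toGenerators).toAlgHom := hx
  rw [← Algebra.Generators.map_toComp_ker] at h1
  exact exists_mem_V_jmap_aux P₁ P₃ h1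

theorem bHom_relModMap_surjective : Surjective (bHom P₁ P₃).relModMap := by
  intro y
  induction y using Finsupp.induction_linear with
  | zero => exact ⟨0, map_zero _⟩
  | add f g hf hg =>
    obtain ⟨x, rfl⟩ := hf
    obtain ⟨x', rfl⟩ := hg
    exact ⟨x + x', map_add _ _ _⟩
  | single t r =>
    obtain ⟨r', rfl⟩ := bHom_ringHom_surjective P₁ P₃ r
    exact ⟨Finsupp.single (Sum.inl t) r', bHom_relModMap_single_inl P₁ P₃ t r'⟩

theorem exists_trivRel_lift {y : relMod P₃} (hy : y ∈ trivRel P₃) :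
    ∃ x ∈ trivRel (P₃.comp P₁), (bHom P₁ P₃).relModMap x = y := by
  induction hy using Submodule.span_induction with
  | mem y hy =>
    obtain ⟨a', b', rfl⟩ := hy
    obtain ⟨a₂, rfl⟩ := bHom_relModMap_surjective P₁ P₃ a'
    obtain ⟨b₂, rfl⟩ := bHom_relModMap_surjective P₁ P₃ b'
    refine ⟨jmap (P₃.comp P₁) a₂ • b₂ - jmap (P₃.comp P₁) b₂ • a₂,
      Submodule.subset_span ⟨a₂, b₂, rfl⟩, ?_⟩
    rw [map_sub, LinearMap.map_smulₛₗ, LinearMap.map_smulₛₗ, PresHom.jmap_relModMap,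
      PresHom.jmap_relModMap]
  | zero => exact ⟨0, Submodule.zero_mem _, map_zero _⟩
  | add x y _ _ hx hy =>
    obtain ⟨v, hv, rfl⟩ := hx
    obtain ⟨v', hv', rfl⟩ := hy
    exact ⟨v + v', Submodule.add_mem _ hv hv', map_add _ _ _⟩
  | smul r x _ hx =>
    obtain ⟨v, hv, rfl⟩ := hx
    obtain ⟨r', rfl⟩ := bHom_ringHom_surjective P₁ P₃ r
    exact ⟨r' • v, Submodule.smul_mem _ _ hv, LinearMap.map_smulₛₗ _ _ _⟩

theorem exists_relKer_lift (q₃ : relKer P₃) :
    ∃ q₂ : relKer (P₃.comp P₁), (bHom P₁ P₃).relKerMap q₂ = q₃ := by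
  obtain ⟨u, hu⟩ := bHom_relModMap_surjective P₁ P₃ (q₃ : relMod P₃)
  have h1 : (bHom P₁ P₃).ringHom (jmap (P₃.comp P₁) u) = 0 := by
    rw [← PresHom.jmap_relModMap, hu]
    exact q₃.2
  obtain ⟨v, hv, hjv⟩ := exists_mem_V_jmap P₁ P₃ h1
  have hmem : u - v ∈ relKer (P₃.comp P₁) := by
    change jmap (P₃.comp P₁) (u - v) = 0
    rw [map_sub, hjv, sub_self]
  refine ⟨⟨u - v, hmem⟩, Subtype.ext ?_⟩
  rw [PresHom.relKerMap_coe]
  change (bHom P₁ P₃).relModMap (u - v) = _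
  rw [map_sub, bHom_relModMap_of_mem_V P₁ P₃ hv, sub_zero, hu]

theorem decomp (q : relMod (P₃.comp P₁)) :
    ∃ u : τ →₀ (P₃.comp P₁).toExtension.Ring,
      q - Finsupp.mapDomain Sum.inl u ∈ V P₁ P₃ ∧
      (bHom P₁ P₃).relModMap q = Finsupp.mapRange (bHom P₁ P₃).ringHom (map_zero _) u := by
  induction q using Finsupp.induction_linear with
  | zero =>
    refine ⟨0, ?_, ?_⟩
    · rw [Finsupp.mapDomain_zero, sub_zero]; exact Submodule.zero_mem _
    · rw [map_zero, Finsupp.mapRange_zero]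
  | add f g hf hg =>
    obtain ⟨u, hu1, hu2⟩ := hf
    obtain ⟨u', hu1', hu2'⟩ := hg
    refine ⟨u + u', ?_, ?_⟩
    · rw [Finsupp.mapDomain_add, add_sub_add_comm]
      exact Submodule.add_mem _ hu1 hu1'
    · rw [map_add, hu2, hu2', Finsupp.mapRange_add (map_add _)]
  | single j r =>
    rcases j with t | s
    · refine ⟨Finsupp.single t r, ?_, ?_⟩
      · rw [Finsupp.mapDomain_single, sub_self]; exact Submodule.zero_mem _
      · rw [bHom_relModMap_single_inl, Finsupp.mapRange_single]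
    · refine ⟨0, ?_, ?_⟩
      · rw [Finsupp.mapDomain_zero, sub_zero]; exact single_inr_mem_V P₁ P₃ s r
      · rw [bHom_relModMap_single_inr, Finsupp.mapRange_zero]

theorem single_inl_mem (t : τ) (r : (P₃.comp P₁).toExtension.Ring)
    (hr : (bHom P₁ P₃).ringHom r = 0) :
    (Finsupp.single (Sum.inl t) r : relMod (P₃.comp P₁)) ∈ trivRel (P₃.comp P₁) ⊔ V P₁ P₃ := by
  obtain ⟨v, hv, rfl⟩ := exists_mem_V_jmap P₁ P₃ hr
  let e : relMod (P₃.comp P₁) := Finsupp.single (Sum.inl t) 1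
  have h1 : (Finsupp.single (Sum.inl t) (jmap (P₃.comp P₁) v) : relMod (P₃.comp P₁)) =
      (jmap (P₃.comp P₁) v • e - jmap (P₃.comp P₁) e • v) + jmap (P₃.comp P₁) e • v := by
    rw [sub_add_cancel]
    change _ = jmap (P₃.comp P₁) v • (Finsupp.single (Sum.inl t) 1 : relMod (P₃.comp P₁))
    rw [Finsupp.smul_single, smul_eq_mul, mul_one]
  rw [h1]
  exact Submodule.add_mem _ (Submodule.mem_sup_left (Submodule.subset_span ⟨v, e, rfl⟩))
    (Submodule.mem_sup_right (Submodule.smul_mem _ _ hv))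

theorem mem_sup_of_relModMap_eq_zero (q : relMod (P₃.comp P₁))
    (hq : (bHom P₁ P₃).relModMap q = 0) : q ∈ trivRel (P₃.comp P₁) ⊔ V P₁ P₃ := by
  obtain ⟨u, hu1, hu2⟩ := decomp P₁ P₃ q
  rw [hq] at hu2
  have hu : ∀ t, (bHom P₁ P₃).ringHom (u t) = 0 := fun t => by
    have := DFunLike.congr_fun hu2 t
    rw [Finsupp.mapRange_apply] at this
    exact this.symm
  have h1 : Finsupp.mapDomain Sum.inl u ∈ trivRel (P₃.comp P₁) ⊔ V P₁ P₃ := by
    rw [Finsupp.mapDomain]
    refine Submodule.finsuppSum_mem _ _ _ _ fun t _ => single_inl_mem P₁ P₃ t (u t) (hu t)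
  have h2 : q = (q - Finsupp.mapDomain Sum.inl u) + Finsupp.mapDomain Sum.inl u :=
    (sub_add_cancel _ _).symm
  rw [h2]
  exact Submodule.add_mem _ (Submodule.mem_sup_right hu1) h1

theorem jmap_mapDomain_inr (v : σ →₀ (P₃.comp P₁).toExtension.Ring) :
    jmap (P₃.comp P₁) (Finsupp.mapDomain Sum.inr v) =
      Finsupp.linearCombination (P₃.comp P₁).toExtension.Ring
        (fun s => (aHom P₁ P₃).ringHom (rel P₁ s)) v := by
  rw [jmap, Finsupp.linearCombination_mapDomain]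
  congr 2
  funext s
  rw [aHom_ringHom]
  rfl

/-- relations supported on the second summand are generated by relations of `P₁`. -/
theorem mem_span_of_mem_V {x : relMod (P₃.comp P₁)} (hx : x ∈ V P₁ P₃)
    (hj : jmap (P₃.comp P₁) x = 0) :
    x ∈ Submodule.span (P₃.comp P₁).toExtension.Ring
      (Set.range (fun β : relKer P₁ => (aHom P₁ P₃).relModMap (β : relMod P₁))) := by
  obtain ⟨v, rfl⟩ := hx
  rw [Finsupp.lmapDomain_apply] at hj ⊢
  rw [jmap_mapDomain_inr] at hj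
  let _ : Algebra P₁.toExtension.Ring (P₃.comp P₁).toExtension.Ring := (aHom P₁ P₃).ringHom.toAlgebra
  have : Module.Flat P₁.toExtension.Ring (P₃.comp P₁).toExtension.Ring :=
    flat_of_eq_rename (aHom P₁ P₃).ringHom (aHom_ringHom P₁ P₃)
  have h1 := flat_rel (R := P₁.toExtension.Ring) (S := (P₃.comp P₁).toExtension.Ring) (rel P₁) v hj
  have h2 := Submodule.apply_mem_span_image_of_mem_span
    (Finsupp.lmapDomain (P₃.comp P₁).toExtension.Ring (P₃.comp P₁).toExtension.Ring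
      (Sum.inr : σ → τ ⊕ σ)) h1
  rw [Finsupp.lmapDomain_apply] at h2
  refine Submodule.span_mono ?_ h2
  rintro _ ⟨_, ⟨β, rfl⟩, rfl⟩
  refine ⟨⟨β.1, β.2⟩, ?_⟩
  exact aHom_relModMap_eq P₁ P₃ β.1

theorem bHom_aHom_L2map (z : L2 P₁) : (bHom P₁ P₃).L2map ((aHom P₁ P₃).L2map z) = 0 := by
  induction z using Submodule.Quotient.induction_on with
  | H z =>
    induction z using TensorProduct.induction_on with
    | zero => rw [Submodule.Quotient.mk_zero, map_zero, map_zero]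
    | add x y hx hy => rw [Submodule.Quotient.mk_add, map_add, map_add, hx, hy, add_zero]
    | tmul c q =>
      rw [PresHom.L2map_mk_tmul, PresHom.L2map_mk_tmul]
      have : (bHom P₁ P₃).relKerMap ((aHom P₁ P₃).relKerMap q) = 0 := by
        apply Subtype.ext
        rw [PresHom.relKerMap_coe, PresHom.relKerMap_coe, bHom_aHom_relModMap]
        rfl
      rw [this, TensorProduct.tmul_zero, Submodule.Quotient.mk_zero]

theorem κ0_aHom (β : relKer P₁) :
    CotTIndep.κ0 (P₃.comp P₁) ((aHom P₁ P₃).relKerMap β) =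
      (aHom P₁ P₃).L2map (CotTIndep.κ0 P₁ β) := by
  rw [CotTIndep.κ0_apply, CotTIndep.κ0_apply, PresHom.L2map_mk_tmul, map_one]

theorem κ0_bHom (q : relKer (P₃.comp P₁)) :
    CotTIndep.κ0 P₃ ((bHom P₁ P₃).relKerMap q) =
      (bHom P₁ P₃).L2map (CotTIndep.κ0 (P₃.comp P₁) q) := by
  rw [CotTIndep.κ0_apply, CotTIndep.κ0_apply, PresHom.L2map_mk_tmul, map_one]

theorem bHom_L2map_surjective : Surjective (bHom P₁ P₃).L2map := by
  intro z
  obtain ⟨q₃, rfl⟩ := κ0_surjective P₃ z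
  obtain ⟨q₂, rfl⟩ := exists_relKer_lift P₁ P₃ q₃
  exact ⟨CotTIndep.κ0 (P₃.comp P₁) q₂, (κ0_bHom P₁ P₃ q₂).symm⟩

variable (M : Type m) [AddCommGroup M] [Module C M] [Module B M] [IsScalarTower B C M]

theorem span_le_relKer :
    Submodule.span (P₃.comp P₁).toExtension.Ring
      (Set.range (fun β : relKer P₁ => (aHom P₁ P₃).relModMap (β : relMod P₁))) ≤
      relKer (P₃.comp P₁) := by
  refine Submodule.span_le.2 ?_
  rintro _ ⟨β, rfl⟩
  exact ((aHom P₁ P₃).relKerMap β).2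

theorem phi_span (φ : L2 (P₃.comp P₁) →ₗ[C] M) (hφ : ∀ z, φ ((aHom P₁ P₃).L2map z) = 0)
    {x : relMod (P₃.comp P₁)}
    (hx : x ∈ Submodule.span (P₃.comp P₁).toExtension.Ring
      (Set.range (fun β : relKer P₁ => (aHom P₁ P₃).relModMap (β : relMod P₁))))
    (hxk : x ∈ relKer (P₃.comp P₁)) : φ (CotTIndep.κ0 (P₃.comp P₁) ⟨x, hxk⟩) = 0 := by
  induction hx using Submodule.span_induction with
  | mem x hx =>
    obtain ⟨β, rfl⟩ := hx
    have : (⟨(aHom P₁ P₃).relModMap (β : relMod P₁), hxk⟩ : relKer (P₃.comp P₁)) =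
        (aHom P₁ P₃).relKerMap β := Subtype.ext rfl
    rw [this, κ0_aHom, hφ]
  | zero =>
    have : (⟨0, hxk⟩ : relKer (P₃.comp P₁)) = 0 := Subtype.ext rfl
    rw [this, map_zero, map_zero]
  | add x y hx hy ihx ihy =>
    have hx' := span_le_relKer P₁ P₃ hx
    have hy' := span_le_relKer P₁ P₃ hy
    have : (⟨x + y, hxk⟩ : relKer (P₃.comp P₁)) = ⟨x, hx'⟩ + ⟨y, hy'⟩ := Subtype.ext rfl
    rw [this, map_add, map_add, ihx hx', ihy hy', add_zero]
  | smul r x hx ihx =>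
    have hx' := span_le_relKer P₁ P₃ hx
    have : (⟨r • x, hxk⟩ : relKer (P₃.comp P₁)) = r • ⟨x, hx'⟩ := Subtype.ext rfl
    rw [this, map_smul, ← algebraMap_smul C r, map_smul, ihx hx', smul_zero]

theorem phi_ker (φ : L2 (P₃.comp P₁) →ₗ[C] M) (hφ : ∀ z, φ ((aHom P₁ P₃).L2map z) = 0)
    (z : L2 (P₃.comp P₁)) (hz : (bHom P₁ P₃).L2map z = 0) : φ z = 0 := by
  obtain ⟨q, rfl⟩ := κ0_surjective (P₃.comp P₁) z
  rw [← κ0_bHom] at hz
  have h1 := mem_trivRel_of_κ0_eq_zero P₃ _ hz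
  rw [PresHom.relKerMap_coe] at h1
  obtain ⟨x, hx, hbx⟩ := exists_trivRel_lift P₁ P₃ h1
  have h2 : (bHom P₁ P₃).relModMap ((q : relMod (P₃.comp P₁)) - x) = 0 := by
    rw [map_sub, hbx, sub_self]
  have h3 := mem_sup_of_relModMap_eq_zero P₁ P₃ _ h2
  obtain ⟨f₀, hf₀, v, hv, hfv⟩ := Submodule.mem_sup.1 h3
  have hq : (q : relMod (P₃.comp P₁)) = (x + f₀) + v := by
    rw [add_assoc, hfv]
    abel
  have hf₁ : x + f₀ ∈ trivRel (P₃.comp P₁) := Submodule.add_mem _ hx hf₀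
  have hf₁k : x + f₀ ∈ relKer (P₃.comp P₁) := trivRel_le_relKer _ hf₁
  have hvk : v ∈ relKer (P₃.comp P₁) := by
    have : v = (q : relMod (P₃.comp P₁)) - (x + f₀) := by rw [hq]; abel
    rw [this]
    exact Submodule.sub_mem _ q.2 hf₁k
  have hvs := mem_span_of_mem_V P₁ P₃ hv hvk
  have hq' : q = ⟨x + f₀, hf₁k⟩ + ⟨v, hvk⟩ := Subtype.ext hq
  rw [hq', map_add, map_add, CotTIndep.κ0_eq_zero _ ⟨x + f₀, hf₁k⟩ hf₁, map_zero, zero_add]
  exact phi_span P₁ P₃ M φ hφ hvs hvk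

theorem inj2 : Injective ((bHom P₁ P₃).pull2 M) := by
  intro ψ ψ' h
  refine LinearMap.ext fun z => ?_
  obtain ⟨y, rfl⟩ := bHom_L2map_surjective P₁ P₃ z
  exact LinearMap.congr_fun h y

theorem ex2 : Exact ((bHom P₁ P₃).pull2 M) ((aHom P₁ P₃).pull2 M) := by
  intro φ
  constructor
  · intro h
    have hφ : ∀ z, φ ((aHom P₁ P₃).L2map z) = 0 := fun z => LinearMap.congr_fun h z
    let bL : L2 (P₃.comp P₁) →ₗ[C] L2 P₃ := PresHom.linOfSemilinear (L2 P₃) (bHom P₁ P₃).L2map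
    have hbL : Surjective bL := bHom_L2map_surjective P₁ P₃
    obtain ⟨ψ, hψ⟩ := CotTIndep.exists_factor bL hbL φ (fun x y hxy => by
      have h0 : (bHom P₁ P₃).L2map (x - y) = 0 := by
        rw [map_sub]
        exact sub_eq_zero.2 hxy
      have := phi_ker P₁ P₃ M φ hφ (x - y) h0
      rw [map_sub] at this
      exact sub_eq_zero.1 this)
    exact ⟨ψ, LinearMap.ext fun z => hψ z⟩
  · rintro ⟨ψ, rfl⟩
    refine LinearMap.ext fun z => ?_
    rw [PresHom.pull2_apply, PresHom.pull2_apply, bHom_aHom_L2map, map_zero, LinearMap.zero_apply]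

theorem rowsExact : NineB.RowsExact (aHom P₁ P₃) (bHom P₁ P₃) M where
  inj0 := inj0 P₁ P₃ M
  ex0 := ex0 P₁ P₃ M
  surj0 := surj0 P₁ P₃ M
  inj1 := inj1 P₁ P₃ M
  ex1 := ex1 P₁ P₃ M
  surj1 := surj1 P₁ P₃ M
  inj2 := inj2 P₁ P₃ M
  ex2 := ex2 P₁ P₃ M

end Groth.Agent.Lib.Helper59.NineD
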