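import Mathlib
import Groth.Prelude.Def_CotT2
import Groth.Agent.Lib.Helper59.CotTIndep
import Groth.Agent.Lib.Helper59.NineA
import Groth.Agent.Lib.Helper59.NineB
import Groth.Agent.Lib.Helper59.NineC
import Groth.Agent.Lib.Helper59.NineD

/-!
# Transfer of the nine-term sequence to the canonical presentations (helper59)
-/

set_option autoImplicit false
set_option linter.unusedSectionVars false
universe u m

open TensorProduct Function

namespace Groth.Agent.Lib.Helper59.NineE

open CotT NineA NineB NineC NineD

section Transfer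

variable {X₃ X₂' X₂ X₁ : Type*} [Zero X₁] [Zero X₂] [Zero X₂']
variable (b : X₃ → X₂') (a : X₂' → X₁) (c : X₂' → X₂) (c' : X₂ → X₂') (U : X₃ → X₂) (V : X₂ → X₁)
variable (hcc' : ∀ y, c (c' y) = y) (hc'c : ∀ y, c' (c y) = y) (hc0 : c 0 = 0)
  (hU : ∀ x, U x = c (b x)) (hV : ∀ y, V y = a (c' y))

include hc'c hU in
theorem transfer_inj (hb : Injective b) : Injective U := by
  intro x y hxy
  rw [hU, hU] at hxy
  apply hb
  have := congrArg c' hxy
  rwa [hc'c, hc'c] at this

include hcc' hc'c hU hV in
theorem transfer_mid (hba : Exact b a) : Exact U V := by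
  intro y
  rw [hV, hba]
  constructor
  · rintro ⟨x, hx⟩
    exact ⟨x, by rw [hU, hx, hcc']⟩
  · rintro ⟨x, rfl⟩
    exact ⟨x, by rw [hU, hc'c]⟩

include hc'c hV in
theorem transfer_left {Z : Type*} [Zero Z] (δ : X₁ → Z) (h : Exact a δ) : Exact V δ := by
  intro z
  rw [h]
  constructor
  · rintro ⟨x, rfl⟩
    exact ⟨c x, by rw [hV, hc'c]⟩
  · rintro ⟨y, rfl⟩
    exact ⟨c' y, (hV y).symm⟩

include hc'c hc0 hU in
theorem transfer_right {Z : Type*} (δ : Z → X₃) (h : Exact δ b) : Exact δ U := by
  intro x
  rw [← h, hU]
  constructor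
  · intro hx
    have := congrArg c' hx
    rw [hc'c, ← hc0, hc'c] at this
    exact this
  · intro hx
    rw [hx, hc0]

end Transfer

section Canon

variable (A B C : Type u) [CommRing A] [CommRing B] [CommRing C] [Algebra A B] [Algebra B C]
  [Algebra A C] [IsScalarTower A B C]

/-- the composite presentation of `C` over `A` built from the canonical ones. -/
noncomputable abbrev P2' : Algebra.Presentation A C (C ⊕ B) (CanonRels B C ⊕ CanonRels A B) :=
  (canon B C).comp (canon A B)

/-- generators: `P2' → canon A C`. -/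
noncomputable def cGen' : Algebra.Generators.Hom (P2' A B C).toGenerators (canon A C).toGenerators where
  val := Sum.elim (fun c => MvPolynomial.X c) (fun b => MvPolynomial.X (algebraMap B C b))
  aeval_val j := by
    rcases j with c | b
    · change MvPolynomial.aeval (canon A C).val (MvPolynomial.X c) = _
      rw [MvPolynomial.aeval_X]
      rfl
    · change MvPolynomial.aeval (canon A C).val (MvPolynomial.X (algebraMap B C b)) = _
      rw [MvPolynomial.aeval_X]
      rfl

/-- `P2' → canon A C`. -/
noncomputable def cHom' : PresHom (P2' A B C) (canon A C) where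
  hom := cGen' A B C
  relVal x := Finsupp.single
    ⟨(cGen' A B C).toExtensionHom.toRingHom (rel (P2' A B C) x), by
      have h1 := (cGen' A B C).toExtensionHom.algebraMap_toRingHom (rel (P2' A B C) x)
      rw [algebraMap_rel, map_zero] at h1
      exact h1⟩ 1
  jmap_relVal x := by
    rw [jmap_single, one_mul]
    rfl

end Canon

section Canon2

variable (A B C : Type u) [CommRing A] [CommRing B] [CommRing C] [Algebra A B] [Algebra B C]
  [Algebra A C] [IsScalarTower A B C]

/-- generators: `canon A C → P2'`. -/
noncomputable def cGen : Algebra.Generators.Hom (canon A C).toGenerators (P2' A B C).toGenerators where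
  val c := MvPolynomial.X (Sum.inl c)
  aeval_val c := by
    rw [MvPolynomial.aeval_X]
    rfl

theorem b_c_ring (x : (canon A C).toExtension.Ring) :
    (bHom (canon A B) (canon B C)).ringHom ((cGen A B C).toExtensionHom.toRingHom x) =
      (canonHom A C B C).ringHom x := by
  have : (((canon B C).toGenerators.ofComp (canon A B).toGenerators).toAlgHom.comp
      (cGen A B C).toAlgHom) =
      (Algebra.Generators.defaultHom (canon A C).toGenerators (canon B C).toGenerators).toAlgHom := by
    refine MvPolynomial.algHom_ext fun c => ?_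
    rw [AlgHom.comp_apply, Algebra.Generators.Hom.toAlgHom_X, Algebra.Generators.Hom.toAlgHom_X]
    change ((canon B C).toGenerators.ofComp (canon A B).toGenerators).toAlgHom
      (MvPolynomial.X (Sum.inl c)) = _
    rw [Algebra.Generators.Hom.toAlgHom_X]
    rfl
  exact AlgHom.congr_fun this x

/-- the relation index of `canon B C` over a relation of `canon A C`. -/
noncomputable def kOf (r : CanonRels A C) : CanonRels B C :=
  ⟨(canonHom A C B C).ringHom (rel (canon A C) r), by
    have h1 := (canonHom A C B C).algebraMap_ringHom (rel (canon A C) r)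
    rw [algebraMap_rel, map_zero] at h1
    exact h1⟩

theorem canonHom_relVal (r : CanonRels A C) :
    (canonHom A C B C).relVal r = Finsupp.single (kOf A B C r) 1 := rfl

theorem diff_mem (r : CanonRels A C) :
    (bHom (canon A B) (canon B C)).ringHom
      ((cGen A B C).toExtensionHom.toRingHom (rel (canon A C) r) -
        rel (P2' A B C) (Sum.inl (kOf A B C r))) = 0 := by
  rw [map_sub, b_c_ring]
  have h1 := (bHom (canon A B) (canon B C)).jmap_relVal (Sum.inl (kOf A B C r))
  change jmap (canon B C) (Finsupp.single (kOf A B C r) 1) = _ at h1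
  rw [jmap_single, one_mul] at h1
  rw [← h1]
  exact sub_self _

/-- the correction term supported on the second summand. -/
noncomputable def vOf (r : CanonRels A C) : relMod (P2' A B C) :=
  Classical.choose (exists_mem_V_jmap (canon A B) (canon B C) (diff_mem A B C r))

theorem vOf_mem (r : CanonRels A C) : vOf A B C r ∈ V (canon A B) (canon B C) :=
  (Classical.choose_spec (exists_mem_V_jmap (canon A B) (canon B C) (diff_mem A B C r))).1

theorem jmap_vOf (r : CanonRels A C) : jmap (P2' A B C) (vOf A B C r) =
    (cGen A B C).toExtensionHom.toRingHom (rel (canon A C) r) -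
      rel (P2' A B C) (Sum.inl (kOf A B C r)) :=
  (Classical.choose_spec (exists_mem_V_jmap (canon A B) (canon B C) (diff_mem A B C r))).2

/-- `canon A C → P2'`. -/
noncomputable def cHom : PresHom (canon A C) (P2' A B C) where
  hom := cGen A B C
  relVal r := Finsupp.single (Sum.inl (kOf A B C r)) 1 + vOf A B C r
  jmap_relVal r := by
    rw [map_add, jmap_single, one_mul, jmap_vOf]
    abel

end Canon2

section Comps

variable (A B C : Type u) [CommRing A] [CommRing B] [CommRing C] [Algebra A B] [Algebra B C]
  [Algebra A C] [IsScalarTower A B C]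

theorem isComp_cbu :
    IsComp (cHom A B C) (bHom (canon A B) (canon B C)) (canonHom A C B C) where
  ring x := (b_c_ring A B C x).symm
  rel r := by
    change _ = (bHom (canon A B) (canon B C)).relModMap
      (Finsupp.single (Sum.inl (kOf A B C r)) 1 + vOf A B C r)
    rw [map_add, bHom_relModMap_single_inl, bHom_relModMap_of_mem_V _ _ (vOf_mem A B C r), add_zero,
      map_one, canonHom_relVal]

theorem a_c'_ring (x : (canon A B).toExtension.Ring) :
    (cHom' A B C).ringHom ((aHom (canon A B) (canon B C)).ringHom x) =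
      (canonHom A B A C).ringHom x := by
  have : ((cGen' A B C).toAlgHom.comp
      ((canon B C).toGenerators.toComp (canon A B).toGenerators).toAlgHom) =
      (Algebra.Generators.defaultHom (canon A B).toGenerators (canon A C).toGenerators).toAlgHom := by
    refine MvPolynomial.algHom_ext fun b => ?_
    rw [AlgHom.comp_apply, Algebra.Generators.Hom.toAlgHom_X, Algebra.Generators.Hom.toAlgHom_X]
    change (cGen' A B C).toAlgHom (MvPolynomial.X (Sum.inr b)) = _
    rw [Algebra.Generators.Hom.toAlgHom_X]
    rfl
  exact AlgHom.congr_fun this x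

theorem isComp_ac'v :
    IsComp (aHom (canon A B) (canon B C)) (cHom' A B C) (canonHom A B A C) where
  ring x := (a_c'_ring A B C x).symm
  rel s := by
    change _ = (cHom' A B C).relModMap (Finsupp.single (Sum.inr s) 1)
    rw [PresHom.relModMap_single, map_one, one_smul]
    change Finsupp.single _ 1 = Finsupp.single _ 1
    congr 1
    apply Subtype.ext
    change (canonHom A B A C).ringHom (rel (canon A B) s) =
      (cHom' A B C).ringHom (rel (P2' A B C) (Sum.inr s))
    rw [← a_c'_ring]
    congr 1
    have h1 := (aHom (canon A B) (canon B C)).jmap_relVal s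
    change jmap (P2' A B C) (Finsupp.single (Sum.inr s) 1) = _ at h1
    rw [jmap_single, one_mul] at h1
    exact h1.symm

end Comps

section Final

variable (A B C : Type u) [CommRing A] [CommRing B] [CommRing C] [Algebra A B] [Algebra B C]
  [Algebra A C] [IsScalarTower A B C]
variable (M : Type m) [AddCommGroup M] [Module C M] [Module B M] [IsScalarTower B C M]

theorem cc'_T0 (y : T0 (canon A C) M) :
    (cHom A B C).T0pull M ((cHom' A B C).T0pull M y) = y := by
  rw [← (compId_isComp (cHom A B C) (cHom' A B C)).T0pull M y,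
    T0pull_eq (compId (cHom A B C) (cHom' A B C)) (PresHom.id (canon A C)) M y, id_T0pull]

theorem c'c_T0 (y : T0 (P2' A B C) M) :
    (cHom' A B C).T0pull M ((cHom A B C).T0pull M y) = y := by
  rw [← (compId_isComp (cHom' A B C) (cHom A B C)).T0pull M y,
    T0pull_eq (compId (cHom' A B C) (cHom A B C)) (PresHom.id (P2' A B C)) M y, id_T0pull]

theorem cc'_T1 (y : T1 (canon A C) M) :
    (cHom A B C).T1pull M ((cHom' A B C).T1pull M y) = y := by
  rw [← (compId_isComp (cHom A B C) (cHom' A B C)).T1pull M y,
    T1pull_eq (compId (cHom A B C) (cHom' A B C)) (PresHom.id (canon A C)) M y, id_T1pull]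

theorem c'c_T1 (y : T1 (P2' A B C) M) :
    (cHom' A B C).T1pull M ((cHom A B C).T1pull M y) = y := by
  rw [← (compId_isComp (cHom' A B C) (cHom A B C)).T1pull M y,
    T1pull_eq (compId (cHom' A B C) (cHom A B C)) (PresHom.id (P2' A B C)) M y, id_T1pull]

theorem cc'_T2 (y : T2 (canon A C) M) :
    (cHom A B C).T2pull M ((cHom' A B C).T2pull M y) = y := by
  rw [← (compId_isComp (cHom A B C) (cHom' A B C)).T2pull M y,
    T2pull_eq (compId (cHom A B C) (cHom' A B C)) (PresHom.id (canon A C)) M y, id_T2pull]

theorem c'c_T2 (y : T2 (P2' A B C) M) :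
    (cHom' A B C).T2pull M ((cHom A B C).T2pull M y) = y := by
  rw [← (compId_isComp (cHom' A B C) (cHom A B C)).T2pull M y,
    T2pull_eq (compId (cHom' A B C) (cHom A B C)) (PresHom.id (P2' A B C)) M y, id_T2pull]

end Final

section Main

variable (A B C : Type u) [CommRing A] [CommRing B] [CommRing C] [Algebra A B] [Algebra B C]
  [Algebra A C] [IsScalarTower A B C]
variable (M : Type m) [AddCommGroup M] [Module C M] [Module B M] [IsScalarTower B C M]

theorem nine_canon :
    Injective ((canonHom A C B C).T0pull M) ∧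
    Exact ((canonHom A C B C).T0pull M) ((canonHom A B A C).T0pull M) ∧
    Exact ((canonHom A C B C).T1pull M) ((canonHom A B A C).T1pull M) ∧
    Exact ((canonHom A C B C).T2pull M) ((canonHom A B A C).T2pull M) ∧
    ∃ (δ₀ : T0 (canon A B) M →+ T1 (canon B C) M)
      (δ₁ : T1 (canon A B) M →+ T2 (canon B C) M),
      Exact ((canonHom A B A C).T0pull M) δ₀ ∧ Exact δ₀ ((canonHom A C B C).T1pull M) ∧
      Exact ((canonHom A B A C).T1pull M) δ₁ ∧ Exact δ₁ ((canonHom A C B C).T2pull M) := by
  have H := rowsExact (canon A B) (canon B C) M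
  have H2 := nine_of_rows H
  obtain ⟨hinj, hE0, hE1, hE2, δ₀, δ₁, h1, h2, h3, h4⟩ := H2
  have hU0 := (isComp_cbu A B C).T0pull M
  have hU1 := (isComp_cbu A B C).T1pull M
  have hU2 := (isComp_cbu A B C).T2pull M
  have hV0 := (isComp_ac'v A B C).T0pull M
  have hV1 := (isComp_ac'v A B C).T1pull M
  have hV2 := (isComp_ac'v A B C).T2pull M
  refine ⟨?_, ?_, ?_, ?_, δ₀, δ₁, ?_, ?_, ?_, ?_⟩
  · exact transfer_inj _ _ _ _ (c'c_T0 A B C M) hU0 hinj
  · exact transfer_mid _ _ _ _ _ _ (cc'_T0 A B C M) (c'c_T0 A B C M) hU0 hV0 hE0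
  · exact transfer_mid _ _ _ _ _ _ (cc'_T1 A B C M) (c'c_T1 A B C M) hU1 hV1 hE1
  · exact transfer_mid _ _ _ _ _ _ (cc'_T2 A B C M) (c'c_T2 A B C M) hU2 hV2 hE2
  · exact transfer_left _ _ _ _ (c'c_T0 A B C M) hV0 _ h1
  · exact transfer_right _ _ _ _ (c'c_T1 A B C M) (map_zero _) hU1 _ h2
  · exact transfer_left _ _ _ _ (c'c_T1 A B C M) hV1 _ h3
  · exact transfer_right _ _ _ _ (c'c_T2 A B C M) (map_zero _) hU2 _ h4

end Main

end Groth.Agent.Lib.Helper59.NineE
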