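import Mathlib
import Groth.Prelude.Def_CotT2
import Groth.Prelude.Def_CAlgX
import Groth.Agent.Lib.Helper59.LciT2
import Groth.Agent.Lib.Helper59.NineE
import Groth.Agent.S2103
import Groth.Agent.S5803
import Groth.Agent.S2167
import Groth.Agent.S12288

/-!
# Local complete intersections in a regular local ring and vanishing of `T²` (helper59)
-/

set_option autoImplicit false
set_option linter.unusedSectionVars false
universe u

open TensorProduct Function

namespace Groth.Agent.Lib.Helper59.LciT2b

open CotT CotTRegSeq NineC LciT2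

section MinList

variable {A : Type u} [CommRing A] [IsLocalRing A]

theorem ofList_ofFn {c : ℕ} (f : Fin c → A) : Ideal.ofList (List.ofFn f) = Ideal.span (Set.range f) := by
  unfold Ideal.ofList
  congr 1
  ext x
  simp only [Set.mem_ofPred_eq, List.mem_ofFn, Set.mem_range]

theorem exists_minimal_list (I : Ideal A) (hfg : I.FG) :
    ∃ rs : List A, Ideal.ofList rs = I ∧
      ∀ a : Fin rs.length → A, ∑ i, a i * rs[i.val] = 0 → ∀ i, a i ∈ IsLocalRing.maximalIdeal A := by
  obtain ⟨c, f, hf, hmin⟩ := exists_minimal_generators I hfg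
  refine ⟨List.ofFn f, (ofList_ofFn f).trans hf, fun a ha i => ?_⟩
  have hlen : (List.ofFn f).length = c := List.length_ofFn
  let e : Fin c ≃ Fin (List.ofFn f).length := finCongr hlen.symm
  have h1 : ∑ j, (a ∘ e) j * f j = 0 := by
    rw [← ha, ← Equiv.sum_comp e]
    refine Finset.sum_congr rfl fun j _ => ?_
    congr 1
    change f j = (List.ofFn f)[(e j).val]
    rw [List.getElem_ofFn]
    rfl
  have h2 := hmin (a ∘ e) h1 (e.symm i)
  rw [Function.comp_apply, Equiv.apply_symm_apply] at h2
  exact h2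

end MinList

section Iso

variable (k A : Type u) [CommRing k] [CommRing A] [Algebra k A] (I : Ideal A)
variable (M : Type u) [AddCommGroup M] [Module (A ⧸ I) M] [Module A M] [IsScalarTower A (A ⧸ I) M]

theorem T2_subsingleton_iff
    (h1 : Subsingleton (T1 (canon k A) M)) (h2 : Subsingleton (T2 (canon k A) M)) :
    Subsingleton (T2 (canon A (A ⧸ I)) M) ↔ Subsingleton (T2 (canon k (A ⧸ I)) M) := by
  obtain ⟨-, -, -, hE2, δ₀, δ₁, -, -, -, h4⟩ := NineE.nine_canon k A (A ⧸ I) M
  constructor
  · intro hs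
    refine ⟨fun x y => ?_⟩
    have key : ∀ x : T2 (canon k (A ⧸ I)) M, x = 0 := by
      intro x
      have hx : (canonHom k A k (A ⧸ I)).T2pull M x = 0 := Subsingleton.elim _ _
      obtain ⟨y, rfl⟩ := (hE2 x).1 hx
      rw [Subsingleton.elim y 0, map_zero]
    rw [key x, key y]
  · intro hs
    refine ⟨fun x y => ?_⟩
    have key : ∀ y : T2 (canon A (A ⧸ I)) M, y = 0 := by
      intro y
      have hy : (canonHom k (A ⧸ I) A (A ⧸ I)).T2pull M y = 0 := Subsingleton.elim _ _
      obtain ⟨z, rfl⟩ := (h4 y).1 hy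
      rw [Subsingleton.elim z 0, map_zero]
    rw [key x, key y]

end Iso

section Main

variable (k A : Type u) [Field k] [CommRing A] [IsRegularLocalRing A] [Algebra k A]

theorem lci_iff_T2
    (hT : ∀ (N : Type u) [AddCommGroup N] [Module A N],
      Subsingleton (CotT.T1 (CotT.canon k A) N) ∧ Subsingleton (CotT.T2 (CotT.canon k A) N))
    (I : Ideal A) (hI : I ≠ ⊤) :
    (∃ rs : List A, Ideal.ofList rs = I ∧ (rs.length : WithBot ℕ∞) + ringKrullDim (A ⧸ I) = ringKrullDim A) ↔
      ∀ (M : Type u) [AddCommGroup M] [Module (A ⧸ I) M], Subsingleton (CotT.T2 (CotT.canon k (A ⧸ I)) M) := by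
  have hs : Function.Surjective (algebraMap A (A ⧸ I)) := Ideal.Quotient.mk_surjective
  have hker : RingHom.ker (algebraMap A (A ⧸ I)) = I := Ideal.mk_ker
  -- reduction to T²((A/I)/A)
  have hred : ∀ (M : Type u) [AddCommGroup M] [Module (A ⧸ I) M],
      Subsingleton (T2 (canon A (A ⧸ I)) M) ↔ Subsingleton (T2 (canon k (A ⧸ I)) M) := by
    intro M _ _
    let _ : Module A M := Module.compHom M (algebraMap A (A ⧸ I))
    have : IsScalarTower A (A ⧸ I) M := IsScalarTower.of_algebraMap_smul fun _ _ => rfl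
    exact T2_subsingleton_iff k A I M (hT M).1 (hT M).2
  constructor
  · rintro ⟨rs, hrs, hdim⟩ M _ _
    rw [← hred M]
    have h1 : (((⊤ : Submodule (A ⧸ I) I.Cotangent).spanFinrank : WithBot ℕ∞) + ringKrullDim (A ⧸ I)
        ≤ ringKrullDim A) := by
      rw [← hdim]
      have := Groth.Agent.S2167.Aux.spanFinrank_cotangent_le I rs hrs
      gcongr
    obtain ⟨rs', hrs', hreg⟩ := (Groth.Agent.S2167.result I hI).2 h1
    exact Groth.Agent.S12288.result A (A ⧸ I) hs rs' hreg (hker.trans hrs'.symm) M
  · intro hT2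
    obtain ⟨rs, hrs, hmin⟩ := exists_minimal_list I (IsNoetherian.noetherian I)
    have hI' : RingHom.ker (algebraMap A (A ⧸ I)) = Ideal.ofList rs := hker.trans hrs.symm
    have hT2' : Subsingleton (T2 (seqPres hs rs hI') (L2 (seqPres hs rs hI'))) := by
      have h3 : Subsingleton (T2 (canon A (A ⧸ I)) (L2 (seqPres hs rs hI'))) :=
        (hred (L2 (seqPres hs rs hI'))).2 (hT2 _)
      obtain ⟨e⟩ := CotTIndep.T2_equiv (seqPres hs rs hI') (canon A (A ⧸ I)) (L2 (seqPres hs rs hI'))
      exact e.toEquiv.subsingleton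
    have h4 := relKer_le_trivRel_of_T2 hs rs hI' hmin hT2'
    have h5 := isH1Regular_of_relKer_le hs rs hI' h4
    have h6 := Groth.Agent.S2103.result _ h5
    have hmem : ∀ i : Fin rs.length, rs[i.val] ∈ Ring.jacobson A := by
      intro i
      rw [IsLocalRing.ringJacobson_eq_maximalIdeal]
      apply IsLocalRing.le_maximalIdeal hI
      rw [← hrs]
      exact Ideal.subset_span (List.getElem_mem _)
    have h7 := Groth.Agent.S5803.result A rs.length _ hmem h6
    rw [List.ofFn_getElem] at h7
    have hreg : RingTheory.Sequence.IsRegular A rs := by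
      refine ⟨h7, ?_⟩
      rw [smul_eq_mul, Ideal.mul_top, hrs]
      exact fun h => hI h.symm
    refine ⟨rs, hrs, ?_⟩
    subst hrs
    rw [add_comm]
    exact ringKrullDim_add_length_eq_ringKrullDim_of_isRegular rs hreg

end Main

end Groth.Agent.Lib.Helper59.LciT2b
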