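import Mathlib.RingTheory.Jacobson.Ring
import Mathlib.RingTheory.FiniteType
import Mathlib.FieldTheory.IsAlgClosed.Basic
import Mathlib.RingTheory.Ideal.Quotient.Operations

/-! # Points of finitely generated algebras over an algebraically closed field -/

set_option autoImplicit false
universe u v

namespace Groth.Agent.Lib.Helper59

variable (k : Type u) [Field k] [IsAlgClosed k] (R : Type v) [CommRing R] [Algebra k R]
  [Algebra.FiniteType k R]

/-- Weak Nullstellensatz: a maximal ideal of a finitely generated algebra over an algebraically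
closed field is the kernel of a rational point. -/
theorem exists_algHom_ker_eq_of_isMaximal (m : Ideal R) [hm : m.IsMaximal] :
    ∃ x : R →ₐ[k] k, RingHom.ker x = m := by
  letI : Field (R ⧸ m) := Ideal.Quotient.field m
  haveI : Algebra.FiniteType k (R ⧸ m) :=
    Algebra.FiniteType.of_surjective (Ideal.Quotient.mkₐ k m) (Ideal.Quotient.mkₐ_surjective k m)
  haveI : Module.Finite k (R ⧸ m) := finite_of_finite_type_of_isJacobsonRing k (R ⧸ m)
  have hbij : Function.Bijective (algebraMap k (R ⧸ m)) :=
    IsAlgClosed.algebraMap_bijective_of_isIntegral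
  let e : k ≃ₐ[k] (R ⧸ m) := AlgEquiv.ofBijective (Algebra.ofId k (R ⧸ m)) hbij
  refine ⟨(e.symm : (R ⧸ m) →ₐ[k] k).comp (Ideal.Quotient.mkₐ k m), ?_⟩
  ext r
  simp only [RingHom.mem_ker, AlgHom.coe_comp, Function.comp_apply, AlgHom.coe_coe,
    Ideal.Quotient.mkₐ_eq_mk]
  change e.symm ((Ideal.Quotient.mk m) r) = 0 ↔ r ∈ m
  rw [map_eq_zero_iff _ e.symm.injective, Ideal.Quotient.eq_zero_iff_mem]

/-- A proper ideal of a finitely generated algebra over an algebraically closed field has a
rational zero. -/
theorem exists_algHom_of_ne_top (J : Ideal R) (hJ : J ≠ ⊤) :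
    ∃ x : R →ₐ[k] k, ∀ f ∈ J, x f = 0 := by
  obtain ⟨m, hm, hle⟩ := Ideal.exists_le_maximal J hJ
  obtain ⟨x, hx⟩ := exists_algHom_ker_eq_of_isMaximal k R m
  exact ⟨x, fun f hf => by
    have : f ∈ RingHom.ker x := hx ▸ hle hf
    exact this⟩

end Groth.Agent.Lib.Helper59
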