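import Groth.Prelude.Def_HopfRep
import Groth.Prelude.Def_Hoch
import Groth.Prelude.Def_ComodSub
import Groth.Agent.Lib.Helper93.ComodBridge
import Groth.Agent.H40.Comod

/-! # Linearly reductive groups: all comodules are semisimple; the Reynolds operator -/

set_option autoImplicit false
universe u v
open TensorProduct

namespace Groth.Agent.Lib.Helper59.LinRed

open Groth.Agent.Lib.Helper93.Comod

section Semisimple

variable {k : Type u} [Field k] {A : Type v} [CommRing A] [Bialgebra k A]
variable {V : Type v} [AddCommGroup V] [Module k V] [c : HopfRep.Comod k A V]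

/-- A finite-dimensional subcomodule of a comodule over a linearly reductive bialgebra is a
semisimple module over the free algebra on linear forms. -/
theorem isSemisimpleModule_toSub (hG : HopfRep.IsLinearlyReductive k A)
    (W : Submodule k V) (hW : HopfRep.IsSubcomod (k := k) (A := A) W) [Module.Finite k W] :
    IsSemisimpleModule (DualAlg k A) (toSub W hW) := by
  letI cW : HopfRep.Comod k A ↥W := ComodSub.Comod.restr c W hW
  have hsub : Hoch.IsComodHom A W.subtype := ComodSub.isComodHom_subtype c W hW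
  have hss : HopfRep.IsSemisimpleComod k A ↥W := hG ↥W inferInstance
  rw [isSemisimpleComod_iff] at hss
  let f : AsMod k A ↥W →ₗ[DualAlg k A] AsMod k A V := toModHom W.subtype hsub
  have hf : Function.Injective f := by
    intro x y hxy
    simp only [f, toModHom_apply] at hxy
    have := (AsMod.equiv k A V).injective hxy
    exact (AsMod.equiv k A ↥W).symm.injective (Subtype.ext this)
  have hr : LinearMap.range f = toSub W hW := by
    ext x
    simp only [LinearMap.mem_range, mem_toSub]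
    constructor
    · rintro ⟨y, rfl⟩
      simp [f]
    · intro hx
      refine ⟨AsMod.equiv k A ↥W ⟨_, hx⟩, ?_⟩
      simp [f]
  have e : AsMod k A ↥W ≃ₗ[DualAlg k A] toSub W hW :=
    (LinearEquiv.ofInjective f hf).trans (LinearEquiv.ofEq _ _ hr)
  exact (e.isSemisimpleModule_iff).mp hss

/-- Over a linearly reductive bialgebra over a field, every comodule (of any dimension) is
semisimple: every subcomodule has a complementary subcomodule. -/
theorem isSemisimpleComod (hG : HopfRep.IsLinearlyReductive k A) :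
    HopfRep.IsSemisimpleComod k A V := by
  rw [isSemisimpleComod_iff]
  let ι := {W : Submodule k V // HopfRep.IsSubcomod (k := k) (A := A) W ∧ Module.Finite k W}
  refine isSemisimpleModule_of_isSemisimpleModule_submodule' (ι := ι)
    (p := fun W => toSub W.1 W.2.1) (fun W => ?_) ?_
  · haveI := W.2.2
    exact isSemisimpleModule_toSub hG W.1 W.2.1
  · rw [eq_top_iff]
    intro x _
    obtain ⟨W, hfin, hxW, hW⟩ :=
      Groth.Agent.H40.exists_finite_subcomod_mem (k := k) (C := A) ((AsMod.equiv k A V).symm x)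
    have : x ∈ toSub W hW := by simpa using hxW
    exact (le_iSup (fun W : ι => toSub W.1 W.2.1) ⟨W, hW, hfin⟩) this

end Semisimple

section Fixed

variable {k : Type u} [Field k] {A : Type v} [CommRing A] [Bialgebra k A]
variable {V : Type v} [AddCommGroup V] [Module k V] [HopfRep.Comod k A V]
variable {V' : Type v} [AddCommGroup V'] [Module k V'] [HopfRep.Comod k A V']

theorem dualAct_of_mem_fixedPts {v : V} (hv : v ∈ HopfRep.fixedPts k A V) (φ : A →ₗ[k] k) :
    dualAct A V φ v = φ 1 • v := by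
  have h : HopfRep.Comod.coact (k := k) (A := A) v = v ⊗ₜ[k] (1 : A) := hv
  rw [dualAct_apply, h]
  simp

theorem mem_fixedPts_of_dualAct {v : V} (h : ∀ φ : A →ₗ[k] k, dualAct A V φ v = φ 1 • v) :
    v ∈ HopfRep.fixedPts k A V := by
  change HopfRep.Comod.coact (k := k) (A := A) v = v ⊗ₜ[k] (1 : A)
  rw [← sub_eq_zero]
  apply eq_zero_of_forall_lTensor_eq_zero
  intro φ
  have := h φ
  rw [dualAct_apply] at this
  rw [map_sub, map_sub, this]
  simp

theorem mem_fixedPts_iff_dualAct {v : V} :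
    v ∈ HopfRep.fixedPts k A V ↔ ∀ φ : A →ₗ[k] k, dualAct A V φ v = φ 1 • v :=
  ⟨fun hv φ => dualAct_of_mem_fixedPts hv φ, mem_fixedPts_of_dualAct⟩

theorem isSubcomod_fixedPts :
    HopfRep.IsSubcomod (k := k) (A := A) (HopfRep.fixedPts k A V) := by
  rw [isSubcomod_iff]
  intro φ w hw
  rw [dualAct_of_mem_fixedPts hw]
  exact Submodule.smul_mem _ _ hw

/-- A comodule map sends fixed vectors to fixed vectors. -/
theorem map_mem_fixedPts (f : V →ₗ[k] V') (hf : Hoch.IsComodHom A f) {v : V}
    (hv : v ∈ HopfRep.fixedPts k A V) : f v ∈ HopfRep.fixedPts k A V' := by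
  rw [mem_fixedPts_iff_dualAct]
  intro φ
  rw [dualAct_comm_of_isComodHom f hf, dualAct_of_mem_fixedPts hv, map_smul]

/-- Key lemma: over a linearly reductive bialgebra, a comodule map with values in the fixed vectors
kills every subcomodule containing no nonzero fixed vector. -/
theorem map_eq_zero_of_disjoint_fixedPts (hG : HopfRep.IsLinearlyReductive k A)
    (g : V →ₗ[k] V') (hg : Hoch.IsComodHom A g) (hgF : ∀ x, g x ∈ HopfRep.fixedPts k A V')
    (N : Submodule k V) (hN : HopfRep.IsSubcomod (k := k) (A := A) N)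
    (hNF : N ⊓ HopfRep.fixedPts k A V = ⊥) {x : V} (hx : x ∈ N) : g x = 0 := by
  -- K = ker g ⊓ N
  have hK : HopfRep.IsSubcomod (k := k) (A := A) (LinearMap.ker g ⊓ N) :=
    isSubcomod_inf _ _ (isSubcomod_ker g hg) hN
  obtain ⟨N'', hN'', hc⟩ := isSemisimpleComod (V := V) hG (LinearMap.ker g ⊓ N) hK
  have h3 : ∀ v ∈ N'' ⊓ N, v = 0 := by
    intro v hv
    have hsub : HopfRep.IsSubcomod (k := k) (A := A) (N'' ⊓ N) := isSubcomod_inf _ _ hN'' hN
    have hfix : v ∈ HopfRep.fixedPts k A V := by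
      rw [mem_fixedPts_iff_dualAct]
      intro φ
      have hw : dualAct A V φ v - φ 1 • v ∈ N'' ⊓ N :=
        Submodule.sub_mem _ (dualAct_mem_of_isSubcomod _ hsub φ v hv) (Submodule.smul_mem _ _ hv)
      have hgw : g (dualAct A V φ v - φ 1 • v) = 0 := by
        rw [map_sub, ← dualAct_comm_of_isComodHom g hg, dualAct_of_mem_fixedPts (hgF v), map_smul,
          sub_self]
      have : dualAct A V φ v - φ 1 • v ∈ (LinearMap.ker g ⊓ N) ⊓ N'' :=
        ⟨⟨LinearMap.mem_ker.mpr hgw, hw.2⟩, hw.1⟩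
      rw [hc.inf_eq_bot, Submodule.mem_bot] at this
      exact sub_eq_zero.mp this
    have : v ∈ N ⊓ HopfRep.fixedPts k A V := ⟨hv.2, hfix⟩
    rw [hNF, Submodule.mem_bot] at this
    exact this
  have hx' : x ∈ (LinearMap.ker g ⊓ N) ⊔ N'' := by rw [hc.sup_eq_top]; trivial
  obtain ⟨a, ha, b, hb, hab⟩ := Submodule.mem_sup.mp hx'
  have hbN : b ∈ N := by
    have : b = x - a := by rw [← hab]; abel
    rw [this]
    exact Submodule.sub_mem _ hx ha.2
  have hb0 : b = 0 := h3 b ⟨hb, hbN⟩
  rw [← hab, hb0, add_zero]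
  exact LinearMap.mem_ker.mp ha.1

end Fixed

section Reynolds

variable {k : Type u} [Field k] {A : Type v} [CommRing A] [Bialgebra k A]
variable {V : Type v} [AddCommGroup V] [Module k V] [HopfRep.Comod k A V]

/-- The defining properties of a Reynolds operator. -/
def IsReynolds (E : V →ₗ[k] V) : Prop :=
  Hoch.IsComodHom A E ∧ E ∘ₗ E = E ∧ ∀ x : V, E x = x ↔ x ∈ HopfRep.fixedPts k A V

theorem IsReynolds.apply_mem {E : V →ₗ[k] V} (hE : IsReynolds (A := A) E) (x : V) :
    E x ∈ HopfRep.fixedPts k A V := by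
  rw [← hE.2.2]
  exact LinearMap.congr_fun hE.2.1 x

theorem IsReynolds.apply_of_mem {E : V →ₗ[k] V} (hE : IsReynolds (A := A) E) {x : V}
    (hx : x ∈ HopfRep.fixedPts k A V) : E x = x := (hE.2.2 x).mpr hx

theorem IsReynolds.sub_mem_ker {E : V →ₗ[k] V} (hE : IsReynolds (A := A) E) (x : V) :
    x - E x ∈ LinearMap.ker E := by
  rw [LinearMap.mem_ker, map_sub, hE.apply_of_mem (hE.apply_mem x), sub_self]

theorem IsReynolds.ker_inf_fixedPts {E : V →ₗ[k] V} (hE : IsReynolds (A := A) E) :
    LinearMap.ker E ⊓ HopfRep.fixedPts k A V = ⊥ := by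
  rw [eq_bot_iff]
  rintro x ⟨h1, h2⟩
  rw [Submodule.mem_bot, ← hE.apply_of_mem h2]
  exact LinearMap.mem_ker.mp h1

/-- A comodule map with values in fixed vectors factors through any Reynolds operator. -/
theorem IsReynolds.comp_eq {V' : Type v} [AddCommGroup V'] [Module k V'] [HopfRep.Comod k A V']
    (hG : HopfRep.IsLinearlyReductive k A) {E : V →ₗ[k] V} (hE : IsReynolds (A := A) E)
    (g : V →ₗ[k] V') (hg : Hoch.IsComodHom A g) (hgF : ∀ x, g x ∈ HopfRep.fixedPts k A V')
    (x : V) : g (E x) = g x := by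
  have h := map_eq_zero_of_disjoint_fixedPts hG g hg hgF (LinearMap.ker E)
    (isSubcomod_ker E hE.1) hE.ker_inf_fixedPts (hE.sub_mem_ker x)
  rw [map_sub, sub_eq_zero] at h
  exact h.symm

theorem IsReynolds.unique (hG : HopfRep.IsLinearlyReductive k A) {E E' : V →ₗ[k] V}
    (hE : IsReynolds (A := A) E) (hE' : IsReynolds (A := A) E') : E = E' := by
  ext x
  have h := hE'.comp_eq hG E hE.1 hE.apply_mem x
  rw [hE.apply_of_mem (hE'.apply_mem x)] at h
  exact h.symm

theorem exists_isReynolds (hG : HopfRep.IsLinearlyReductive k A) :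
    ∃ E : V →ₗ[k] V, IsReynolds (A := A) E := by
  obtain ⟨N, hN, hc⟩ := isSemisimpleComod (V := V) hG (HopfRep.fixedPts k A V) isSubcomod_fixedPts
  let P := Submodule.projectionOnto (HopfRep.fixedPts k A V) N hc
  let E : V →ₗ[k] V := (HopfRep.fixedPts k A V).subtype ∘ₗ P
  have hEF : ∀ x ∈ HopfRep.fixedPts k A V, E x = x := by
    intro x hx
    simp only [E, P, LinearMap.comp_apply]
    rw [Submodule.projectionOnto_apply_of_mem_left hc hx]
    rfl
  have hEN : ∀ x ∈ N, E x = 0 := by
    intro x hx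
    simp only [E, P, LinearMap.comp_apply]
    rw [(Submodule.projectionOnto_apply_eq_zero_iff hc).mpr hx]
    simp
  have hEmem : ∀ x, E x ∈ HopfRep.fixedPts k A V := fun x => Submodule.coe_mem _
  have hdec : ∀ x : V, ∃ a ∈ HopfRep.fixedPts k A V, ∃ b ∈ N, a + b = x := by
    intro x
    have : x ∈ HopfRep.fixedPts k A V ⊔ N := by rw [hc.sup_eq_top]; trivial
    exact Submodule.mem_sup.mp this
  refine ⟨E, ?_, ?_, ?_⟩
  · rw [isComodHom_iff]
    intro φ x
    obtain ⟨a, ha, b, hb, rfl⟩ := hdec x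
    rw [map_add, map_add, map_add, map_add, hEF a ha, hEN b hb,
      hEF _ (dualAct_mem_of_isSubcomod _ isSubcomod_fixedPts φ a ha),
      hEN _ (dualAct_mem_of_isSubcomod _ hN φ b hb), map_zero]
  · ext x
    exact hEF _ (hEmem x)
  · intro x
    constructor
    · intro h
      rw [← h]
      exact hEmem x
    · exact hEF x

theorem existsUnique_isReynolds (hG : HopfRep.IsLinearlyReductive k A) :
    ∃! E : V →ₗ[k] V, IsReynolds (A := A) E := by
  obtain ⟨E, hE⟩ := exists_isReynolds (V := V) hG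
  exact ⟨E, hE, fun E' hE' => hE'.unique hG hE⟩

/-- A Reynolds operator maps every subcomodule into itself. -/
theorem IsReynolds.apply_mem_of_isSubcomod (hG : HopfRep.IsLinearlyReductive k A) {E : V →ₗ[k] V}
    (hE : IsReynolds (A := A) E) (W : Submodule k V)
    (hW : HopfRep.IsSubcomod (k := k) (A := A) W) {x : V} (hx : x ∈ W) : E x ∈ W := by
  have hWF : HopfRep.IsSubcomod (k := k) (A := A) (W ⊓ HopfRep.fixedPts k A V) :=
    isSubcomod_inf _ _ hW isSubcomod_fixedPts
  obtain ⟨N', hN', hc⟩ := isSemisimpleComod (V := V) hG _ hWF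
  have hx' : x ∈ (W ⊓ HopfRep.fixedPts k A V) ⊔ N' := by rw [hc.sup_eq_top]; trivial
  obtain ⟨a, ha, b, hb, hab⟩ := Submodule.mem_sup.mp hx'
  have hbW : b ∈ W := by
    have : b = x - a := by rw [← hab]; abel
    rw [this]
    exact Submodule.sub_mem _ hx ha.1
  have hdis : (N' ⊓ W) ⊓ HopfRep.fixedPts k A V = ⊥ := by
    rw [eq_bot_iff]
    rintro y ⟨⟨hy1, hy2⟩, hy3⟩
    have : y ∈ (W ⊓ HopfRep.fixedPts k A V) ⊓ N' := ⟨⟨hy2, hy3⟩, hy1⟩
    rw [hc.inf_eq_bot] at this
    exact this
  have hEb : E b = 0 := map_eq_zero_of_disjoint_fixedPts hG E hE.1 hE.apply_mem (N' ⊓ W)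
    (isSubcomod_inf _ _ hN' hW) hdis ⟨hb, hbW⟩
  rw [← hab, map_add, hEb, add_zero, hE.apply_of_mem ha.2]
  exact ha.1

end Reynolds

end Groth.Agent.Lib.Helper59.LinRed
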