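import Groth.Agent.Lib.Helper59.LinRedAlg
import Groth.Agent.Lib.Helper59.PointsOfFT
import Groth.Prelude.Def_GLin

/-! # Orbit maps and orbit closures for coactions on algebras -/

set_option autoImplicit false
universe u v
open TensorProduct

namespace Groth.Agent.Lib.Helper59.LinRed

open Groth.Agent.Lib.Helper93.Comod

section Nilp

variable (k : Type u) [Field k] [IsAlgClosed k] (A : Type v) [CommRing A] [Algebra k A]
  [Algebra.FiniteType k A]

/-- An element of a finitely generated algebra over an algebraically closed field killed by all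
rational points is nilpotent. -/
theorem isNilpotent_of_forall_algHom_eq_zero (a : A) (h : ∀ g : A →ₐ[k] k, g a = 0) :
    IsNilpotent a := by
  haveI : IsJacobsonRing A := isJacobsonRing_of_finiteType (A := k) (B := A)
  have h1 : a ∈ (⊥ : Ideal A).jacobson := by
    rw [Ideal.jacobson, Ideal.mem_sInf]
    rintro m ⟨-, hm⟩
    obtain ⟨g, hg⟩ := exists_algHom_ker_eq_of_isMaximal k A m
    rw [← hg]
    exact h g
  rw [← Ideal.radical_eq_jacobson] at h1
  exact h1

end Nilp

section Orbit

variable {k : Type u} [Field k] {A : Type v} [CommRing A] [Bialgebra k A]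
variable {R : Type v} [CommRing R] [Algebra k R] [HopfRep.Comod k A R]

theorem act_eq_dualAct (g : A →ₐ[k] k) :
    HopfRep.Comod.act k A R g = dualAct A R g.toLinearMap := rfl

variable (hmul : ∀ f g : R, HopfRep.Comod.coact (k := k) (A := A) (f * g) =
      HopfRep.Comod.coact (k := k) (A := A) f * HopfRep.Comod.coact (k := k) (A := A) g)
  (hone : HopfRep.Comod.coact (k := k) (A := A) (1 : R) = 1)

/-- The orbit map `R → A` of a rational point, as an algebra map. -/
noncomputable def orbitAlg (x : R →ₐ[k] k) : R →ₐ[k] A :=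
  haveI : GLin.IsCoactAlg k A R := ⟨hone, hmul⟩
  GLin.orbitHom k A x

theorem apply_orbitAlg (x : R →ₐ[k] k) (ψ : A →ₗ[k] k) (f : R) :
    ψ (orbitAlg hmul hone x f) = x (dualAct A R ψ f) := by
  have h1 : orbitAlg hmul hone x f = (Algebra.TensorProduct.lid k A)
      ((Algebra.TensorProduct.map x (AlgHom.id k A))
        (HopfRep.Comod.coact (k := k) (A := A) f)) := rfl
  rw [h1, dualAct_apply]
  generalize HopfRep.Comod.coact (k := k) (A := A) f = t
  induction t using TensorProduct.induction_on with
  | zero => simp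
  | tmul r a => simp [mul_comm]
  | add a b ha hb => simp only [map_add, ha, hb]

theorem orbitAlg_eq_zero_iff (x : R →ₐ[k] k) (f : R) :
    orbitAlg hmul hone x f = 0 ↔ ∀ ψ : A →ₗ[k] k, x (dualAct A R ψ f) = 0 := by
  constructor
  · intro h ψ
    rw [← apply_orbitAlg hmul hone, h, map_zero]
  · intro h
    rw [← Module.forall_dual_apply_eq_zero_iff k]
    intro ψ
    rw [apply_orbitAlg hmul hone]
    exact h ψ

theorem dualAct_dualAct (ψ φ : A →ₗ[k] k) (f : R) :
    dualAct A R ψ (dualAct A R φ f) = dualAct A R (Groth.Agent.H40.convFun ψ φ) f :=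
  Groth.Agent.H40.slice_coact_coactSlice (C := A) ψ φ f

theorem dualAct_counit (f : R) : dualAct A R (Coalgebra.counit (R := k) (A := A)) f = f :=
  Groth.Agent.H40.coactSlice_counit (C := A) f

/-- The kernel of the orbit map is a subcomodule. -/
theorem isSubcomod_ker_orbitAlg (x : R →ₐ[k] k) :
    HopfRep.IsSubcomod (k := k) (A := A)
      ((RingHom.ker (orbitAlg hmul hone x)).restrictScalars k) := by
  rw [isSubcomod_iff]
  intro φ f hf
  have hf' : orbitAlg hmul hone x f = 0 := hf
  change orbitAlg hmul hone x (dualAct A R φ f) = 0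
  rw [orbitAlg_eq_zero_iff] at hf' ⊢
  intro ψ
  rw [dualAct_dualAct]
  exact hf' _

/-- A point kills the kernel of its orbit map. -/
theorem apply_eq_zero_of_orbitAlg_eq_zero (x : R →ₐ[k] k) {f : R}
    (hf : orbitAlg hmul hone x f = 0) : x f = 0 := by
  have := (orbitAlg_eq_zero_iff hmul hone x f).mp hf (Coalgebra.counit (R := k) (A := A))
  rwa [dualAct_counit] at this

/-- The value of a rational point of the group on the orbit map. -/
theorem algHom_apply_orbitAlg (x : R →ₐ[k] k) (g : A →ₐ[k] k) (f : R) :
    g (orbitAlg hmul hone x f) = x (HopfRep.Comod.act k A R g f) :=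
  apply_orbitAlg hmul hone x g.toLinearMap f

/-- If `f` vanishes along the orbit of `x` (at all rational points of the group), then a power of
`f` is killed by the orbit map. -/
theorem exists_pow_orbitAlg_eq_zero [IsAlgClosed k] [Algebra.FiniteType k A] (x : R →ₐ[k] k)
    {f : R} (hf : ∀ g : A →ₐ[k] k, x (HopfRep.Comod.act k A R g f) = 0) :
    ∃ n : ℕ, orbitAlg hmul hone x (f ^ n) = 0 := by
  have h := isNilpotent_of_forall_algHom_eq_zero k A (orbitAlg hmul hone x f)
    (fun g => by rw [algHom_apply_orbitAlg]; exact hf g)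
  obtain ⟨n, hn⟩ := h
  exact ⟨n, by rw [map_pow, hn]⟩

/-- A rational point killing the kernel of the orbit map of `x` kills every function vanishing
along the orbit of `x`. -/
theorem apply_eq_zero_of_forall_act [IsAlgClosed k] [Algebra.FiniteType k A] (x z : R →ₐ[k] k)
    (hz : ∀ f, orbitAlg hmul hone x f = 0 → z f = 0)
    {f : R} (hf : ∀ g : A →ₐ[k] k, x (HopfRep.Comod.act k A R g f) = 0) : z f = 0 := by
  obtain ⟨n, hn⟩ := exists_pow_orbitAlg_eq_zero hmul hone x hf
  have := hz _ hn
  rw [map_pow] at this
  exact pow_eq_zero_iff (n := n) (by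
    rintro rfl
    rw [pow_zero] at hn
    have h1 : orbitAlg hmul hone x 1 = 1 := map_one _
    rw [h1] at hn
    have := hz 1 (by rw [h1]; exact hn)
    rw [map_one] at this
    exact one_ne_zero this) |>.mp this

/-- Invariant functions are constant along orbits. -/
theorem act_of_mem_fixedPts (g : A →ₐ[k] k) {f : R} (hf : f ∈ HopfRep.fixedPts k A R) :
    HopfRep.Comod.act k A R g f = f := by
  rw [act_eq_dualAct, dualAct_of_mem_fixedPts hf]
  simp

end Orbit

end Groth.Agent.Lib.Helper59.LinRed
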