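import Groth.Agent.Lib.Helper59.LinRed

/-! # Reynolds operator: naturality, and comodule algebras -/

set_option autoImplicit false
universe u v
open TensorProduct

namespace Groth.Agent.Lib.Helper59.LinRed

open Groth.Agent.Lib.Helper93.Comod

section Natural

variable {k : Type u} [Field k] {A : Type v} [CommRing A] [Bialgebra k A]
variable {V : Type v} [AddCommGroup V] [Module k V] [HopfRep.Comod k A V]
variable {W : Type v} [AddCommGroup W] [Module k W] [HopfRep.Comod k A W]

theorem isComodHom_comp {U : Type v} [AddCommGroup U] [Module k U] [HopfRep.Comod k A U]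
    (g : V →ₗ[k] W) (f : U →ₗ[k] V) (hg : Hoch.IsComodHom A g) (hf : Hoch.IsComodHom A f) :
    Hoch.IsComodHom A (g ∘ₗ f) := by
  rw [isComodHom_iff]
  intro φ u
  rw [LinearMap.comp_apply, LinearMap.comp_apply, dualAct_comm_of_isComodHom g hg,
    dualAct_comm_of_isComodHom f hf]

/-- Reynolds operators commute with comodule maps. -/
theorem IsReynolds.natural (hG : HopfRep.IsLinearlyReductive k A)
    {E : V →ₗ[k] V} (hE : IsReynolds (A := A) E) {E' : W →ₗ[k] W} (hE' : IsReynolds (A := A) E')
    (f : V →ₗ[k] W) (hf : Hoch.IsComodHom A f) (v : V) : f (E v) = E' (f v) := by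
  have h := hE.comp_eq hG (E' ∘ₗ f) (isComodHom_comp E' f hE'.1 hf) (fun x => hE'.apply_mem _) v
  simp only [LinearMap.comp_apply] at h
  rw [← h]
  exact (hE'.apply_of_mem (map_mem_fixedPts f hf (hE.apply_mem v))).symm

/-- A surjective comodule map is surjective on fixed vectors. -/
theorem exists_fixed_preimage (hG : HopfRep.IsLinearlyReductive k A)
    (f : V →ₗ[k] W) (hf : Hoch.IsComodHom A f) (hsurj : Function.Surjective f)
    {w : W} (hw : w ∈ HopfRep.fixedPts k A W) :
    ∃ v ∈ HopfRep.fixedPts k A V, f v = w := by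
  obtain ⟨E, hE⟩ := exists_isReynolds (V := V) hG
  obtain ⟨E', hE'⟩ := exists_isReynolds (V := W) hG
  obtain ⟨v, rfl⟩ := hsurj w
  exact ⟨E v, hE.apply_mem v, by rw [hE.natural hG hE' f hf, hE'.apply_of_mem hw]⟩

end Natural

section Algebra

variable {k : Type u} [Field k] {A : Type v} [CommRing A] [Bialgebra k A]
variable {R : Type v} [CommRing R] [Algebra k R] [HopfRep.Comod k A R]

/-- Multiplication by an invariant element is a comodule map. -/
theorem isComodHom_mulRight
    (hmul : ∀ f g : R, HopfRep.Comod.coact (k := k) (A := A) (f * g) =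
      HopfRep.Comod.coact (k := k) (A := A) f * HopfRep.Comod.coact (k := k) (A := A) g)
    {y : R} (hy : y ∈ HopfRep.fixedPts k A R) : Hoch.IsComodHom A (LinearMap.mulRight k y) := by
  apply LinearMap.ext
  intro z
  have hy' : HopfRep.Comod.coact (k := k) (A := A) y = y ⊗ₜ[k] (1 : A) := hy
  have key : ∀ t : R ⊗[k] A, (LinearMap.mulRight k y).rTensor A t = t * (y ⊗ₜ[k] (1 : A)) := by
    intro t
    induction t using TensorProduct.induction_on with
    | zero => simp
    | tmul a b => simp [Algebra.TensorProduct.tmul_mul_tmul]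
    | add a b ha hb => simp only [map_add, ha, hb, add_mul]
  simp only [LinearMap.comp_apply, LinearMap.mulRight_apply]
  rw [hmul, hy', key]

theorem fixedPts_mul_mem
    (hmul : ∀ f g : R, HopfRep.Comod.coact (k := k) (A := A) (f * g) =
      HopfRep.Comod.coact (k := k) (A := A) f * HopfRep.Comod.coact (k := k) (A := A) g)
    {x y : R} (hx : x ∈ HopfRep.fixedPts k A R) (hy : y ∈ HopfRep.fixedPts k A R) :
    x * y ∈ HopfRep.fixedPts k A R := by
  have hx' : HopfRep.Comod.coact (k := k) (A := A) x = x ⊗ₜ[k] (1 : A) := hx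
  have hy' : HopfRep.Comod.coact (k := k) (A := A) y = y ⊗ₜ[k] (1 : A) := hy
  change HopfRep.Comod.coact (k := k) (A := A) (x * y) = (x * y) ⊗ₜ[k] (1 : A)
  rw [hmul, hx', hy', Algebra.TensorProduct.tmul_mul_tmul, mul_one]

/-- The Reynolds operator is linear over the invariants. -/
theorem IsReynolds.map_mul_of_mem (hG : HopfRep.IsLinearlyReductive k A)
    (hmul : ∀ f g : R, HopfRep.Comod.coact (k := k) (A := A) (f * g) =
      HopfRep.Comod.coact (k := k) (A := A) f * HopfRep.Comod.coact (k := k) (A := A) g)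
    {E : R →ₗ[k] R} (hE : IsReynolds (A := A) E) (x : R) {y : R}
    (hy : y ∈ HopfRep.fixedPts k A R) : E (x * y) = E x * y := by
  have h := hE.comp_eq hG (E ∘ₗ LinearMap.mulRight k y)
    (isComodHom_comp E _ hE.1 (isComodHom_mulRight hmul hy)) (fun z => hE.apply_mem _) x
  simp only [LinearMap.comp_apply, LinearMap.mulRight_apply] at h
  rw [← h]
  exact hE.apply_of_mem (fixedPts_mul_mem hmul (hE.apply_mem x) hy)

theorem IsReynolds.map_mul_of_mem' (hG : HopfRep.IsLinearlyReductive k A)
    (hmul : ∀ f g : R, HopfRep.Comod.coact (k := k) (A := A) (f * g) =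
      HopfRep.Comod.coact (k := k) (A := A) f * HopfRep.Comod.coact (k := k) (A := A) g)
    {E : R →ₗ[k] R} (hE : IsReynolds (A := A) E) {y : R}
    (hy : y ∈ HopfRep.fixedPts k A R) (x : R) : E (y * x) = y * E x := by
  rw [mul_comm, hE.map_mul_of_mem hG hmul x hy, mul_comm]

end Algebra

end Groth.Agent.Lib.Helper59.LinRed
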