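import Groth.Agent.Lib.Helper59.StabOpen
import Groth.Prelude.Def_GLin
import Mathlib.RingTheory.Spectrum.Prime.Chevalley
import Mathlib.RingTheory.Spectrum.Prime.Jacobson

/-! # Closed orbits and finite stabilisers: scheme-theoretic versus pointwise

Over an algebraically closed field, for finitely generated `A` and `R`, the conditions
`GLin.IsClosedOrbit` (closed image in the prime spectrum) and `GLin.HasFiniteStab` (finite
stabiliser scheme) agree with their descriptions on rational points. -/

set_option autoImplicit false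
universe u v
open TensorProduct Topology

namespace Groth.Agent.Lib.Helper59.StableTrans

open Groth.Agent.Lib.Helper59.LinRed Groth.Agent.Lib.Helper59.StabOpen

section Constructible

variable {R : Type u} [CommRing R] [IsJacobsonRing R]

/-- A non-empty constructible subset of the spectrum of a Jacobson ring contains a closed point. -/
theorem exists_isMaximal_of_isConstructible {s : Set (PrimeSpectrum R)} (hs : IsConstructible s)
    (hne : s.Nonempty) : ∃ p ∈ s, p.asIdeal.IsMaximal := by
  obtain ⟨S, rfl⟩ := PrimeSpectrum.exists_constructibleSetData_iff.mpr hs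
  obtain ⟨p, hp⟩ := hne
  simp only [PrimeSpectrum.ConstructibleSetData.toSet, Set.mem_iUnion] at hp
  obtain ⟨C, hCS, hpC⟩ := hp
  have hloc : IsLocallyClosed C.toSet := by
    unfold PrimeSpectrum.BasicConstructibleSetData.toSet
    exact (PrimeSpectrum.isClosed_zeroLocus _).isLocallyClosed.inter
      (PrimeSpectrum.isClosed_zeroLocus _).isOpen_compl.isLocallyClosed
  obtain ⟨q, hqC, hq⟩ := nonempty_inter_closedPoints ⟨p, hpC⟩ hloc
  refine ⟨q, ?_, (PrimeSpectrum.isClosed_singleton_iff_isMaximal q).mp hq⟩
  simp only [PrimeSpectrum.ConstructibleSetData.toSet, Set.mem_iUnion]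
  exact ⟨C, hCS, hqC⟩

end Constructible

section Trans

variable {k : Type u} [Field k] [IsAlgClosed k] {A : Type v} [CommRing A] [HopfAlgebra k A]
  [Algebra.FiniteType k A]
variable {R : Type v} [CommRing R] [Algebra k R] [HopfRep.Comod k A R] [GLin.IsCoactAlg k A R]
  [Algebra.FiniteType k R]

omit [IsAlgClosed k] [Algebra.FiniteType k A] [Algebra.FiniteType k R] in
theorem apply_orbitHom (x : R →ₐ[k] k) (g : A →ₐ[k] k) (f : R) :
    g (GLin.orbitHom k A x f) = x (HopfRep.Comod.act k A R g f) :=
  algHom_apply_orbitAlg (GLin.IsCoactAlg.coact_mul (k := k) (A := A) (R := R))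
    (GLin.IsCoactAlg.coact_one (k := k) (A := A) (R := R)) x g f

omit [IsAlgClosed k] [Algebra.FiniteType k A] [Algebra.FiniteType k R] in
theorem ker_isMaximal (z : R →ₐ[k] k) : (RingHom.ker z).IsMaximal :=
  RingHom.ker_isMaximal_of_surjective z fun c => ⟨algebraMap k R c, by simp⟩

/-- The orbit is closed in the spectrum iff it contains every rational point of its closure. -/
theorem isClosedOrbit_iff (x : R →ₐ[k] k) :
    GLin.IsClosedOrbit k A x ↔
      ∀ z : R →ₐ[k] k,
        (∀ f : R, (∀ g : A →ₐ[k] k, x (HopfRep.Comod.act k A R g f) = 0) → z f = 0) →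
          ∃ g : A →ₐ[k] k, ∀ f : R, z f = x (HopfRep.Comod.act k A R g f) := by
  classical
  set φ : R →ₐ[k] A := GLin.orbitHom k A x with hφ
  have hclos := PrimeSpectrum.closure_range_comap (f := φ.toRingHom)
  have hJR : IsJacobsonRing R := isJacobsonRing_of_finiteType (A := k) (B := R)
  have hJA : IsJacobsonRing A := isJacobsonRing_of_finiteType (A := k) (B := A)
  have hnoeth : IsNoetherianRing R := Algebra.FiniteType.isNoetherianRing k R
  constructor
  · intro hcl z hz
    have hcl' : IsClosed (Set.range (PrimeSpectrum.comap φ.toRingHom)) := hcl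
    have hle : RingHom.ker φ.toRingHom ≤ RingHom.ker z := by
      intro f hf
      apply hz
      intro g
      have hf' : φ f = 0 := hf
      rw [← apply_orbitHom, ← hφ, hf', map_zero]
    have hzmax := ker_isMaximal z
    have hmem : (⟨RingHom.ker z, hzmax.isPrime⟩ : PrimeSpectrum R) ∈
        Set.range (PrimeSpectrum.comap φ.toRingHom) := by
      rw [← hcl'.closure_eq, hclos]
      exact hle
    obtain ⟨q, hq⟩ := hmem
    obtain ⟨n, hn, hqn⟩ := Ideal.exists_le_maximal q.asIdeal q.isPrime.ne_top
    obtain ⟨g, hg⟩ := Groth.Agent.Lib.Helper59.exists_algHom_ker_eq_of_isMaximal k A n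
    have hker : RingHom.ker (g.comp φ) = RingHom.ker z := by
      have h1 : RingHom.ker z ≤ RingHom.ker (g.comp φ) := by
        intro f hf
        have hf' : f ∈ (PrimeSpectrum.comap φ.toRingHom q).asIdeal := by rw [hq]; exact hf
        have hf'' : φ f ∈ q.asIdeal := hf'
        have : φ f ∈ RingHom.ker g := hg ▸ hqn hf''
        exact this
      have h2 : RingHom.ker (g.comp φ) ≠ ⊤ := by
        intro h
        have : (1 : R) ∈ RingHom.ker (g.comp φ) := h ▸ trivial
        rw [RingHom.mem_ker, map_one] at this
        exact one_ne_zero this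
      exact (hzmax.eq_of_le h2 h1).symm
    have heq := Groth.Agent.Lib.Helper59.ZmtNbhd.algHom_eq_of_ker_eq k hker
    refine ⟨g, fun f => ?_⟩
    rw [← apply_orbitHom, ← heq]
    rfl
  · intro hpt
    change IsClosed (Set.range (PrimeSpectrum.comap φ.toRingHom))
    suffices hsub : PrimeSpectrum.zeroLocus (RingHom.ker φ.toRingHom : Set R) ⊆
        Set.range (PrimeSpectrum.comap φ.toRingHom) by
      have : Set.range (PrimeSpectrum.comap φ.toRingHom) =
          PrimeSpectrum.zeroLocus (RingHom.ker φ.toRingHom : Set R) :=
        Set.Subset.antisymm (hclos ▸ subset_closure) hsub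
      rw [this]
      exact PrimeSpectrum.isClosed_zeroLocus _
    by_contra hnot
    have hφft : φ.toRingHom.FiniteType := by
      have h1 : (φ.toRingHom.comp (algebraMap k R)).FiniteType := by
        have : φ.toRingHom.comp (algebraMap k R) = algebraMap k A := by
          ext c
          exact φ.commutes c
        rw [this]
        exact (RingHom.finiteType_algebraMap).mpr inferInstance
      exact RingHom.FiniteType.of_comp_finiteType h1
    have hφfp : φ.toRingHom.FinitePresentation := RingHom.FinitePresentation.of_finiteType.mp hφft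
    have hC := PrimeSpectrum.isConstructible_range_comap hφfp
    have hZ : IsConstructible (PrimeSpectrum.zeroLocus (RingHom.ker φ.toRingHom : Set R)) := by
      rw [← isConstructible_compl]
      exact (PrimeSpectrum.isRetrocompact_zeroLocus_compl_of_fg
        (IsNoetherian.noetherian _)).isConstructible
        (PrimeSpectrum.isClosed_zeroLocus _).isOpen_compl
    have hT := hZ.sdiff hC
    have hTne : (PrimeSpectrum.zeroLocus (RingHom.ker φ.toRingHom : Set R) \
        Set.range (PrimeSpectrum.comap φ.toRingHom)).Nonempty := by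
      rw [Set.nonempty_iff_ne_empty, ne_eq, Set.sdiff_eq_empty]
      exact hnot
    obtain ⟨p, ⟨hpZ, hpC⟩, hpmax⟩ := exists_isMaximal_of_isConstructible hT hTne
    obtain ⟨z, hz⟩ := Groth.Agent.Lib.Helper59.exists_algHom_ker_eq_of_isMaximal k R p.asIdeal
    obtain ⟨g, hg⟩ := hpt z (by
      intro f hf
      -- a power of `f` lies in the kernel of the orbit map
      have hnil : IsNilpotent (φ f) := by
        apply isNilpotent_of_forall_algHom_eq_zero k A
        intro g
        rw [hφ, apply_orbitHom]
        exact hf g
      obtain ⟨n, hn⟩ := hnil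
      have h1 : f ^ n ∈ RingHom.ker φ.toRingHom := by
        change φ (f ^ n) = 0
        rw [map_pow, hn]
      have h2 : f ^ n ∈ p.asIdeal := hpZ h1
      have h3 : f ∈ p.asIdeal := p.isPrime.mem_of_pow_mem n h2
      rw [← hz] at h3
      exact h3)
    apply hpC
    refine ⟨⟨RingHom.ker g, RingHom.ker_isPrime g⟩, ?_⟩
    ext f
    change φ f ∈ RingHom.ker g ↔ f ∈ p.asIdeal
    rw [← hz, RingHom.mem_ker, RingHom.mem_ker, hφ, apply_orbitHom, hg]

omit [IsAlgClosed k] [Algebra.FiniteType k A] [Algebra.FiniteType k R] in
/-- A rational point of the group kills the stabiliser ideal iff it fixes the point. -/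
theorem kills_stabIdeal_iff (x : R →ₐ[k] k) (g : A →ₐ[k] k) :
    (∀ a ∈ GLin.stabIdeal k A x, g a = 0) ↔ g ∈ stab A x := by
  constructor
  · intro h f
    have h1 : f - algebraMap k R (x f) ∈ RingHom.ker x := by
      rw [RingHom.mem_ker, map_sub, AlgHom.commutes]
      simp
    have h2 := h _ (Ideal.mem_map_of_mem _ h1)
    have h2' : g (GLin.orbitHom k A x (f - algebraMap k R (x f))) = 0 := h2
    rw [map_sub, map_sub, AlgHom.commutes, AlgHom.commutes, apply_orbitHom, sub_eq_zero] at h2'
    simpa using h2'
  · intro hg a ha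
    have hle : GLin.stabIdeal k A x ≤ RingHom.ker g := by
      unfold GLin.stabIdeal
      rw [Ideal.map_le_iff_le_comap]
      intro f hf
      change g (GLin.orbitHom k A x f) = 0
      rw [apply_orbitHom, hg f]
      exact hf
    exact hle ha

omit [Algebra.FiniteType k R] in
/-- The stabiliser scheme is finite iff the stabiliser has finitely many rational points. -/
theorem hasFiniteStab_iff (x : R →ₐ[k] k) :
    GLin.HasFiniteStab k A x ↔ (stab A x).Finite := by
  classical
  have hft : Algebra.FiniteType k (A ⧸ GLin.stabIdeal k A x) :=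
    Algebra.FiniteType.of_surjective (Ideal.Quotient.mkₐ k _) (Ideal.Quotient.mkₐ_surjective k _)
  constructor
  · intro h
    have hmf : Module.Finite k (A ⧸ GLin.stabIdeal k A x) := h
    have hfin : Finite ((A ⧸ GLin.stabIdeal k A x) →ₐ[k] k) :=
      (linearIndependent_algHom_toLinearMap k (A ⧸ GLin.stabIdeal k A x) k).finite_of_isNoetherian
    refine Set.Finite.subset (Set.finite_range fun χ : (A ⧸ GLin.stabIdeal k A x) →ₐ[k] k =>
      χ.comp (Ideal.Quotient.mkₐ k (GLin.stabIdeal k A x))) ?_
    intro g hg
    refine ⟨Ideal.Quotient.liftₐ _ g ((kills_stabIdeal_iff x g).mpr hg), ?_⟩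
    apply AlgHom.ext
    intro a
    rfl
  · intro h
    have hfin : Finite ((A ⧸ GLin.stabIdeal k A x) →ₐ[k] k) := by
      have := h.to_subtype
      let ψ : ((A ⧸ GLin.stabIdeal k A x) →ₐ[k] k) → stab A x := fun χ =>
        ⟨χ.comp (Ideal.Quotient.mkₐ k (GLin.stabIdeal k A x)),
          (kills_stabIdeal_iff x _).mp fun a ha => by
            change χ (Ideal.Quotient.mk _ a) = 0
            rw [Ideal.Quotient.eq_zero_iff_mem.mpr ha, map_zero]⟩
      refine Finite.of_injective ψ ?_
      intro χ χ' hχ
      apply AlgHom.ext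
      intro a
      obtain ⟨a, rfl⟩ := Ideal.Quotient.mk_surjective a
      exact AlgHom.congr_fun (congrArg Subtype.val hχ) a
    exact Groth.Agent.Lib.Helper59.ZmtNbhd.finite_of_finite_algHom k _ hfin

end Trans

end Groth.Agent.Lib.Helper59.StableTrans
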