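import Groth.Agent.S2105
import Mathlib.RingTheory.Regular.RegularSequence

/-!
A weakly regular sequence is `H₁`-regular (helper59), by induction with S2105.
-/

set_option autoImplicit false
universe u

namespace Groth.Agent.Lib.Helper59.H1RegOfRegular

variable {A : Type u} [CommRing A]

theorem range_take (rs : List A) (n : ℕ) (hn : n ≤ rs.length) :
    Set.range (fun i : Fin n => rs[i.val]'(lt_of_lt_of_le i.2 hn)) = {r | r ∈ rs.take n} := by
  ext x
  simp only [Set.mem_range, Set.mem_ofPred_eq, List.mem_take_iff_getElem]
  constructor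
  · rintro ⟨i, rfl⟩
    exact ⟨i.val, by simpa [Nat.min_eq_left hn] using i.2, rfl⟩
  · rintro ⟨i, hi, rfl⟩
    have hi' : i < n := by simpa [Nat.min_eq_left hn] using hi
    exact ⟨⟨i, hi'⟩, rfl⟩

theorem isH1Regular_take (rs : List A) (h : RingTheory.Sequence.IsWeaklyRegular A rs) :
    ∀ (n : ℕ) (hn : n ≤ rs.length),
      CAlgX.IsH1Regular (fun i : Fin n => rs[i.val]'(lt_of_lt_of_le i.2 hn)) := by
  intro n
  induction n with
  | zero =>
    intro hn a _
    have : a = 0 := Subsingleton.elim _ _
    rw [this]
    exact Submodule.zero_mem _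
  | succ n ih =>
    intro hn
    have hn' : n ≤ rs.length := Nat.le_of_succ_le hn
    have hlt : n < rs.length := hn
    set f : Fin n → A := fun i => rs[i.val]'(lt_of_lt_of_le i.2 hn') with hf
    set g : Fin 1 → A := fun _ => rs[n] with hg
    have key : (fun i : Fin (n + 1) => rs[i.val]'(lt_of_lt_of_le i.2 hn)) = Fin.append f g := by
      funext i
      refine Fin.addCases (fun j => ?_) (fun j => ?_) i
      · rw [Fin.append_left]
        rfl
      · rw [Fin.append_right]
        have : j = 0 := Subsingleton.elim _ _
        subst this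
        simp [hg]
    rw [key]
    refine Groth.Agent.S2105.result f g (ih hn') ?_
    intro a ha
    have hspan : Ideal.span (Set.range f) = Ideal.ofList (rs.take n) := by
      rw [hf, range_take rs n hn']
    have ha0 : a 0 * Ideal.Quotient.mk (Ideal.span (Set.range f)) rs[n] = 0 := by
      simpa [hg] using ha
    obtain ⟨x, hx⟩ := Ideal.Quotient.mk_surjective (a 0)
    rw [← hx, ← map_mul, Ideal.Quotient.eq_zero_iff_mem, hspan] at ha0
    have hreg := h.regular_mod_prev n hlt
    have htop : (Ideal.ofList (rs.take n) • ⊤ : Submodule A A) = Ideal.ofList (rs.take n) := by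
      rw [smul_eq_mul, Ideal.mul_top]
    have h1 : rs[n] • (Submodule.Quotient.mk x :
        A ⧸ (Ideal.ofList (rs.take n) • ⊤ : Submodule A A)) = rs[n] • 0 := by
      rw [smul_zero, ← Submodule.Quotient.mk_smul, Submodule.Quotient.mk_eq_zero, htop, smul_eq_mul,
        mul_comm]
      exact ha0
    have h2 := hreg h1
    rw [Submodule.Quotient.mk_eq_zero, htop] at h2
    have h3 : x ∈ Ideal.ofList (rs.take n) := h2
    have h4 : a 0 = 0 := by
      rw [← hx, Ideal.Quotient.eq_zero_iff_mem, hspan]
      exact h3
    have : a = 0 := by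
      funext i
      have : i = 0 := Subsingleton.elim _ _
      rw [this, h4]
      rfl
    rw [this]
    exact Submodule.zero_mem _

theorem isH1Regular_of_isWeaklyRegular (rs : List A) (h : RingTheory.Sequence.IsWeaklyRegular A rs) :
    CAlgX.IsH1Regular (fun i : Fin rs.length => rs[i.val]) :=
  isH1Regular_take rs h rs.length le_rfl

end Groth.Agent.Lib.Helper59.H1RegOfRegular
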