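import Groth.Prelude.Def_ArtFun2

/-!
Helper lemmas on functors of Artin rings (helper59).
-/

set_option autoImplicit false
universe u v

open CategoryTheory

namespace Groth.Agent.Lib.Helper59

open ArtFun ArtFun.Art

variable {Λ : Type u} {k : Type u} [CommRing Λ] [Field k] [Algebra Λ k]

/-- Maps into a fibre product: two compatible elements of `h_R(A')`, `h_R(A'')` come from one of `h_R(B)`. -/
theorem homSet_fibreProd_lift {R : Type u} [CommRing R] [Algebra Λ R] {resR : R →ₐ[Λ] k}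
    {B A A' A'' : Art Λ k} {p' : B ⟶ A'} {p'' : B ⟶ A''} {f' : A' ⟶ A} {f'' : A'' ⟶ A}
    (h : IsFibreProd p' p'' f' f'') (φ' : HomSet R resR A') (φ'' : HomSet R resR A'')
    (hc : HomSet.map f' φ' = HomSet.map f'' φ'') :
    ∃ ψ : HomSet R resR B, HomSet.map p' ψ = φ' ∧ HomSet.map p'' ψ = φ'' := by
  have hc' : ∀ r : R, f' (φ'.1 r) = f'' (φ''.1 r) := fun r => by
    have := congrArg (fun t : HomSet R resR A => t.1 r) hc
    exact this
  choose g hg1 hg2 using fun r : R => h.surj (φ'.1 r) (φ''.1 r) (hc' r)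
  have huniq : ∀ (r : R) (b : B), p' b = φ'.1 r → p'' b = φ''.1 r → g r = b := fun r b h1 h2 =>
    h.inj _ _ ((hg1 r).trans h1.symm) ((hg2 r).trans h2.symm)
  let ψ : R →ₐ[Λ] B :=
    { toFun := g
      map_one' := huniq 1 1 ((map_one p'.toAlgHom).trans (map_one φ'.1).symm)
        ((map_one p''.toAlgHom).trans (map_one φ''.1).symm)
      map_mul' := fun x y => huniq (x * y) (g x * g y)
        (by rw [map_mul, map_mul, hg1, hg1]) (by rw [map_mul, map_mul, hg2, hg2])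
      map_zero' := huniq 0 0 ((map_zero p'.toAlgHom).trans (map_zero φ'.1).symm)
        ((map_zero p''.toAlgHom).trans (map_zero φ''.1).symm)
      map_add' := fun x y => huniq (x + y) (g x + g y)
        (by rw [map_add, map_add, hg1, hg1]) (by rw [map_add, map_add, hg2, hg2])
      commutes' := fun c => huniq _ _
        ((p'.toAlgHom.commutes c).trans (φ'.1.commutes c).symm)
        ((p''.toAlgHom.commutes c).trans (φ''.1.commutes c).symm) }
  have h1 : p'.toAlgHom.comp ψ = φ'.1 := AlgHom.ext fun r => hg1 r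
  refine ⟨⟨ψ, ?_⟩, Subtype.ext h1, Subtype.ext (AlgHom.ext fun r => hg2 r)⟩
  rw [← φ'.2, ← h1, ← AlgHom.comp_assoc, p'.res_comp]

/-- Two elements of `h_R(B)` with the same projections are equal. -/
theorem homSet_fibreProd_ext {R : Type u} [CommRing R] [Algebra Λ R] {resR : R →ₐ[Λ] k}
    {B A A' A'' : Art Λ k} {p' : B ⟶ A'} {p'' : B ⟶ A''} {f' : A' ⟶ A} {f'' : A'' ⟶ A}
    (h : IsFibreProd p' p'' f' f'') (ψ₁ ψ₂ : HomSet R resR B)
    (h1 : HomSet.map p' ψ₁ = HomSet.map p' ψ₂) (h2 : HomSet.map p'' ψ₁ = HomSet.map p'' ψ₂) :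
    ψ₁ = ψ₂ := by
  apply Subtype.ext
  apply AlgHom.ext
  intro r
  apply h.inj
  · exact congrArg (fun t : HomSet R resR A' => t.1 r) h1
  · exact congrArg (fun t : HomSet R resR A'' => t.1 r) h2

/-- `h_R(k)` is a single point. -/
theorem homSet_base_eq {R : Type u} [CommRing R] [Algebra Λ R] {resR : R →ₐ[Λ] k}
    (φ ψ : HomSet R resR (base Λ k)) : φ = ψ := by
  apply Subtype.ext
  apply AlgHom.ext
  intro r
  have h1 := congrArg (fun t : R →ₐ[Λ] k => t r) φ.2
  have h2 := congrArg (fun t : R →ₐ[Λ] k => t r) ψ.2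
  exact h1.trans h2.symm

/-- The point of `h_R(k)`. -/
def homSetBase (R : Type u) [CommRing R] [Algebra Λ R] (resR : R →ₐ[Λ] k) : HomSet R resR (base Λ k) :=
  ⟨resR, AlgHom.id_comp _⟩

/-- In a fibre product square, if `f''` is surjective so is `p'`. -/
theorem fibreProd_surjective_left {B A A' A'' : Art Λ k} {p' : B ⟶ A'} {p'' : B ⟶ A''} {f' : A' ⟶ A}
    {f'' : A'' ⟶ A} (h : IsFibreProd p' p'' f' f'') (hs : Function.Surjective f'') :
    Function.Surjective p' := by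
  intro a'
  obtain ⟨a'', ha''⟩ := hs (f' a')
  obtain ⟨b, hb, -⟩ := h.surj a' a'' ha''.symm
  exact ⟨b, hb⟩

/-- Versal and objectwise surjective implies (S1). -/
theorem s1_of_isVersal {F : Art Λ k ⥤ Type v}
    {R : Type u} [CommRing R] [Algebra Λ R] {resR : R →ₐ[Λ] k}
    (ξ : Family R resR F) (hξ : IsVersal ξ) (hsurj : ∀ A : Art Λ k, Function.Surjective (ξ.app A)) :
    S1 F := by
  intro B A A' A'' p' p'' f' f'' h hf'' x
  obtain ⟨⟨x', x''⟩, hx⟩ := x
  obtain ⟨φ', hφ'⟩ := hsurj A' x'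
  have hx' : F.map f'' x'' = ξ.app A (HomSet.map f' φ') := by
    rw [ξ.natural, hφ']; exact hx.symm
  obtain ⟨φ'', hφ''1, hφ''2⟩ := hξ f'' hf'' (HomSet.map f' φ') x'' hx'
  obtain ⟨ψ, hψ1, hψ2⟩ := homSet_fibreProd_lift h φ' φ'' hφ''1.symm
  refine ⟨ξ.app B ψ, ?_⟩
  apply FibProd.ext
  · change F.map p' (ξ.app B ψ) = x'
    rw [← ξ.natural, hψ1, hφ']
  · change F.map p'' (ξ.app B ψ) = x''
    rw [← ξ.natural, hψ2, hφ''2]

/-- Objectwise surjective from `h_R` implies `H0`. -/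
theorem h0_of_surjective {F : Art Λ k ⥤ Type v}
    {R : Type u} [CommRing R] [Algebra Λ R] {resR : R →ₐ[Λ] k}
    (ξ : Family R resR F) (hsurj : Function.Surjective (ξ.app (base Λ k))) : H0 F := by
  refine ⟨⟨ξ.app _ (homSetBase R resR)⟩, ⟨fun a b => ?_⟩⟩
  obtain ⟨φ, rfl⟩ := hsurj a
  obtain ⟨ψ, rfl⟩ := hsurj b
  rw [homSet_base_eq φ ψ]

/-- Miniversal and objectwise surjective implies `H_ε`. -/
theorem heps_of_isMiniversal {F : Art Λ k ⥤ Type v}
    {R : Type u} [CommRing R] [Algebra Λ R] {resR : R →ₐ[Λ] k}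
    (ξ : Family R resR F) (hξ : IsMiniversal ξ) (hsurj : ∀ A : Art Λ k, Function.Surjective (ξ.app A)) :
    Heps F := by
  intro B A' p' p'' h
  have hsd : Function.Surjective (toBase (dual Λ k)) := (dual Λ k).res_surjective
  refine ⟨?_, s1_of_isVersal ξ hξ.1 hsurj p' p'' _ _ h hsd⟩
  intro z₁ z₂ hz
  have hz1 : F.map p' z₁ = F.map p' z₂ := congrArg (fun t : FibProd F _ _ => t.1.1) hz
  have hz2 : F.map p'' z₁ = F.map p'' z₂ := congrArg (fun t : FibProd F _ _ => t.1.2) hz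
  obtain ⟨ψ₁, rfl⟩ := hsurj B z₁
  have hp' : Function.Surjective p' := fibreProd_surjective_left h hsd
  obtain ⟨ψ₂, hψ₂1, rfl⟩ := hξ.1 p' hp' (HomSet.map p' ψ₁) z₂ (by rw [← hz1, ξ.natural])
  have h2 : HomSet.map p'' ψ₁ = HomSet.map p'' ψ₂ := by
    apply hξ.2.1
    rw [ξ.natural, ξ.natural, hz2]
  rw [homSet_fibreProd_ext h ψ₁ ψ₂ hψ₂1.symm h2]

end Groth.Agent.Lib.Helper59
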