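import Groth.Prelude.Def_ArtFun5
import Groth.Agent.Lib.Helper59.ArtFun

/-!
Helper lemmas on formal elements / truncations of coefficient rings (helper59).
-/

set_option autoImplicit false
universe u v

open CategoryTheory

namespace Groth.Agent.Lib.Helper59

open ArtFun ArtFun.Art

variable {Λ : Type u} {k : Type u} [CommRing Λ] [Field k] [Algebra Λ k]

/-- Two algebra maps into a complete local ring that agree modulo all powers of the maximal ideal coincide. -/
theorem algHom_eq_of_truncHom_comp_eq {R : Type u} [CommRing R] [Algebra Λ R] (S : CRing Λ k)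
    (g₁ g₂ : R →ₐ[Λ] S.carrier)
    (h : ∀ n : ℕ, (S.truncHom n).1.comp g₁ = (S.truncHom n).1.comp g₂) : g₁ = g₂ := by
  apply AlgHom.ext
  intro r
  have hH : IsHausdorff (IsLocalRing.maximalIdeal S.carrier) S.carrier := S.isAdicComplete.toIsHausdorff
  rw [← sub_eq_zero]
  apply hH.haus
  intro n
  rw [SModEq.zero, smul_eq_mul, Ideal.mul_top]
  have hn := congrArg (fun t : R →ₐ[Λ] (S.trunc n) => t r) (h n)
  have hn' : Ideal.Quotient.mk (CRing.mpow S n) (g₁ r) = Ideal.Quotient.mk (CRing.mpow S n) (g₂ r) := hn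
  rw [Ideal.Quotient.eq] at hn'
  exact Ideal.pow_le_pow_right (Nat.le_succ n) hn'

/-- The `n`-th component of the formal element of a transported family. -/
theorem along_toFormalElt_elt {F : Art Λ k ⥤ Type v} (R S : CRing Λ k)
    (ξ : Family R.carrier R.res F) (g : R.carrier →ₐ[Λ] S.carrier) (hg : S.res.comp g = R.res) (n : ℕ) :
    (ξ.along g hg).toFormalElt.elt n =
      ξ.app (S.trunc n) ⟨(S.truncHom n).1.comp g, by rw [← AlgHom.comp_assoc, (S.truncHom n).2, hg]⟩ :=
  rfl

end Groth.Agent.Lib.Helper59
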