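import Mathlib
import Groth.Agent.Lib.Helper77.ArtinFlat

/-!
# Trivialising a flat deformation of an algebra by a section (helper59)

`k` a field, `A` a local Artinian `k`-algebra with augmentation `e : A → k`, `B` a flat `A`-algebra,
`q : B → B₀` a surjection onto a `k`-algebra with kernel `𝔪_A B`, compatible with `e`.  A `k`-algebra
section `s : B₀ → B` of `q` makes `B` the base change of `B₀`: `A ⊗[k] B₀ → B` is bijective, i.e.
`Algebra.IsPushout k A B₀ B`, and `Spec B = Spec B₀ ×_k Spec A`.
-/

set_option autoImplicit false
universe u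
open scoped TensorProduct
open IsLocalRing CategoryTheory AlgebraicGeometry

namespace Groth.Agent.Lib.Helper59.AffDeformAlg

variable {k A B B₀ : Type u} [Field k] [CommRing A] [IsLocalRing A] [IsArtinianRing A]
  [Algebra k A] (e : A →ₐ[k] k) [CommRing B] [Algebra A B] [Algebra k B]
  [IsScalarTower k A B] [CommRing B₀] [Algebra k B₀]

include e in
theorem ker_eq_maximalIdeal : RingHom.ker (e : A →+* k) = maximalIdeal A := by
  have hsurj : Function.Surjective e := fun c => ⟨algebraMap k A c, e.commutes c⟩
  have : (RingHom.ker (e : A →+* k)).IsMaximal := RingHom.ker_isMaximal_of_surjective _ hsurj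
  exact IsLocalRing.eq_maximalIdeal this

theorem sub_algebraMap_mem (a : A) : a - algebraMap k A (e a) ∈ maximalIdeal A := by
  rw [← ker_eq_maximalIdeal e, RingHom.mem_ker, map_sub]
  change e a - e (algebraMap k A (e a)) = 0
  rw [e.commutes]
  exact sub_self _

variable (q : B →+* B₀)
  (hker : RingHom.ker q = (maximalIdeal A).map (algebraMap A B))
  (hqA : ∀ a, q (algebraMap A B a) = algebraMap k B₀ (e a))
  (s : B₀ →ₐ[k] B) (hs : ∀ b, q (s b) = b)

/-- The comparison map `A ⊗[k] B₀ → B`. -/
noncomputable def Θ (A : Type u) [CommRing A] [Algebra k A] [Algebra A B] [IsScalarTower k A B]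
    (s : B₀ →ₐ[k] B) : A ⊗[k] B₀ →ₐ[A] B :=
  Algebra.TensorProduct.lift (Algebra.ofId A B) s (fun _ _ => Commute.all _ _)

@[simp] theorem Θ_tmul (a : A) (b : B₀) : Θ A s (a ⊗ₜ b) = algebraMap A B a * s b := by
  simp [Θ, Algebra.ofId_apply]

include hker hs in
theorem Θ_surjective : Function.Surjective (Θ A s) := by
  have hrange : LinearMap.range (Θ A s).toLinearMap = ⊤ := by
    apply Groth.Agent.Lib.Helper77.eq_top_of_sup_smul_top_eq_top (maximalIdeal A)
      Groth.Agent.Lib.Helper77.isNilpotent_maximalIdeal_of_artinian
    rw [eq_top_iff]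
    intro x _
    have h1 : x - s (q x) ∈ RingHom.ker q := by
      rw [RingHom.mem_ker, map_sub, hs, sub_self]
    rw [hker] at h1
    have h2 : x - s (q x) ∈ maximalIdeal A • (⊤ : Submodule A B) := by
      rw [Ideal.smul_top_eq_map]
      exact h1
    have h3 : s (q x) ∈ LinearMap.range (Θ A s).toLinearMap :=
      ⟨1 ⊗ₜ q x, by simp⟩
    have : x = s (q x) + (x - s (q x)) := by ring
    rw [this]
    exact Submodule.add_mem_sup h3 h2
  intro x
  have : x ∈ LinearMap.range (Θ A s).toLinearMap := by rw [hrange]; trivial
  exact this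

include e hker hqA hs in
theorem Θ_injective [Module.Flat A B] : Function.Injective (Θ A s) := by
  classical
  let β := Module.Free.chooseBasis k B₀
  let bA : Module.Basis _ A (A ⊗[k] B₀) := Algebra.TensorProduct.basis A β
  have hbA : ∀ j, Θ A s (bA j) = s (β j) := fun j => by
    simp [bA, Algebra.TensorProduct.basis_apply]
  have hli : LinearIndependent A (fun j => s (β j)) := by
    apply Module.IsLocalRing.linearIndependent_of_flat
    rw [linearIndependent_iff']
    intro S c hc j hj
    choose c' hc' using fun i => Ideal.Quotient.mk_surjective (c i)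
    have h1 : ∑ i ∈ S, c i • (TensorProduct.mk A (ResidueField A) B 1 ∘ fun j => s (β j)) i =
        TensorProduct.mk A (ResidueField A) B 1 (∑ i ∈ S, c' i • s (β i)) := by
      rw [map_sum]
      refine Finset.sum_congr rfl fun i _ => ?_
      rw [Function.comp_apply, map_smul, TensorProduct.mk_apply, TensorProduct.smul_tmul',
        TensorProduct.smul_tmul', ← hc' i]
      congr 1
    rw [h1] at hc
    have h2 : ∑ i ∈ S, c' i • s (β i) ∈ LinearMap.ker (TensorProduct.mk A (ResidueField A) B 1) := hc
    have h2' : ∑ i ∈ S, c' i • s (β i) ∈ (maximalIdeal A).map (algebraMap A B) := by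
      change ∑ i ∈ S, c' i • s (β i) ∈
        ((maximalIdeal A).map (algebraMap A B)).restrictScalars A
      rw [← Ideal.smul_top_eq_map, ← LinearMap.ker_tensorProductMk]
      exact h2
    have h3 : q (∑ i ∈ S, c' i • s (β i)) = 0 := by
      rw [← RingHom.mem_ker, hker]
      exact h2'
    have h4 : ∑ i ∈ S, e (c' i) • β i = 0 := by
      rw [← h3, map_sum]
      refine Finset.sum_congr rfl fun i _ => ?_
      rw [Algebra.smul_def (c' i), map_mul, hqA, hs, ← Algebra.smul_def]
    have h5 := (linearIndependent_iff'.mp β.linearIndependent) S (fun i => e (c' i)) h4 j hj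
    have h6 : c' j ∈ maximalIdeal A := by
      rw [← ker_eq_maximalIdeal e]
      exact h5
    rw [← hc' j]
    exact (Ideal.Quotient.eq_zero_iff_mem).mpr h6
  have heq : (Θ A s).toLinearMap =
      (Finsupp.linearCombination A (fun j => s (β j))) ∘ₗ bA.repr.toLinearMap := by
    apply bA.ext
    intro i
    simp [hbA]
  have : Function.Injective (Θ A s).toLinearMap := by
    rw [heq, LinearMap.coe_comp]
    exact (show Function.Injective (Finsupp.linearCombination A fun j => s (β j)) from hli).comp
      bA.repr.injective
  exact this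

include e hker hqA hs in
theorem Θ_bijective [Module.Flat A B] : Function.Bijective (Θ A s) :=
  ⟨Θ_injective e q hker hqA s hs, Θ_surjective q hker s hs⟩

include e hker hqA hs in
/-- `Spec B` is the product `Spec B₀ ×_k Spec A`, the first projection being `Spec s`. -/
theorem isPullback_of_section [Module.Flat A B] :
    IsPullback (Spec.map (CommRingCat.ofHom (s : B₀ →+* B)))
      (Spec.map (CommRingCat.ofHom (algebraMap A B)))
      (Spec.map (CommRingCat.ofHom (algebraMap k B₀)))
      (Spec.map (CommRingCat.ofHom (algebraMap k A))) := by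
  let _ : Algebra B₀ B := (s : B₀ →+* B).toAlgebra
  have : IsScalarTower k B₀ B := IsScalarTower.of_algebraMap_eq fun c => (s.commutes c).symm
  have hbij := Θ_bijective e q hker hqA s hs
  have : Algebra.IsPushout k A B₀ B := by
    constructor
    refine IsBaseChange.of_equiv (LinearEquiv.ofBijective (Θ A s).toLinearMap hbij) ?_
    intro x
    simp
    rfl
  have h1 := CommRingCat.isPushout_of_isPushout k A B₀ B
  exact (isPullback_SpecMap_of_isPushout _ _ _ _ h1).flip

end Groth.Agent.Lib.Helper59.AffDeformAlg
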