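import Mathlib
import Groth.Agent.Lib.Helper59.AffDeformAlg
import Groth.Agent.Lib.Helper18.ThickAffine

/-!
# Deformations of affine schemes over Artinian local bases: reduction to algebra (helper59)

`exists_iso_trivial`: a flat `X' → Spec A` (`A` local Artinian `k`-algebra with augmentation `e`)
whose fibre over `Spec k` is `Spec B₀` is isomorphic to the product `Spec B₀ ×_k Spec A`, provided the
algebra statement "every surjection `q : B → B₀` from a flat `A`-algebra with kernel `𝔪_A B` has a
`k`-algebra section" holds.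
-/

set_option autoImplicit false
universe u
open CategoryTheory AlgebraicGeometry Limits IsLocalRing

namespace Groth.Agent.Lib.Helper59.AffDeform

variable {k A : Type u} [Field k] [CommRing A] [IsLocalRing A] [IsArtinianRing A] [Algebra k A]
  (e : A →ₐ[k] k)

include e in
theorem surjective_e : Function.Surjective (e : A →+* k) := fun c => ⟨algebraMap k A c, e.commutes c⟩

instance isClosedImmersion_specMap_e :
    IsClosedImmersion (Spec.map (CommRingCat.ofHom e.toRingHom)) :=
  IsClosedImmersion.spec_of_surjective _ (surjective_e e)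

instance surjective_specMap_e : Surjective (Spec.map (CommRingCat.ofHom e.toRingHom)) := by
  constructor
  intro y
  haveI : Subsingleton (PrimeSpectrum A) := Ring.KrullDimLE.subsingleton_primeSpectrum A
  have x : Spec (CommRingCat.of k) := ⟨⊥, Ideal.isPrime_bot⟩
  exact ⟨x, Subsingleton.elim (α := PrimeSpectrum A) _ _⟩


/-- Ring-level data extracted from a cartesian square of affine schemes. -/
theorem ring_facts {B B₀ : Type u} [CommRing B] [Algebra A B] [Algebra k B] [IsScalarTower k A B]
    [CommRing B₀] [Algebra k B₀] (q : B →+* B₀)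
    (hsq : IsPullback (Spec.map (CommRingCat.ofHom q))
      (Spec.map (CommRingCat.ofHom (algebraMap k B₀)))
      (Spec.map (CommRingCat.ofHom (algebraMap A B))) (Spec.map (CommRingCat.ofHom e.toRingHom))) :
    (∀ a, q (algebraMap A B a) = algebraMap k B₀ (e a)) ∧
      RingHom.ker q = (maximalIdeal A).map (algebraMap A B) := by
  have hqA : ∀ a, q (algebraMap A B a) = algebraMap k B₀ (e a) := by
    intro a
    have hw := hsq.w
    rw [← Spec.map_comp, ← Spec.map_comp] at hw
    have hw' := Spec.map_injective hw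
    have := congrArg (fun f => f.hom a) hw'
    simpa using this
  refine ⟨hqA, le_antisymm ?_ ?_⟩
  · -- `ker q ≤ 𝔪 B` by the universal property
    set mB := (maximalIdeal A).map (algebraMap A B) with hmB
    let a : CommRingCat.of B ⟶ CommRingCat.of (B ⧸ mB) := CommRingCat.ofHom (Ideal.Quotient.mk mB)
    let b : CommRingCat.of k ⟶ CommRingCat.of (B ⧸ mB) :=
      CommRingCat.ofHom ((Ideal.Quotient.mk mB).comp (algebraMap k B))
    have hab : CommRingCat.ofHom (algebraMap A B) ≫ a = CommRingCat.ofHom e.toRingHom ≫ b := by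
      ext x
      change Ideal.Quotient.mk mB (algebraMap A B x) = Ideal.Quotient.mk mB (algebraMap k B (e x))
      rw [Ideal.Quotient.eq, IsScalarTower.algebraMap_apply k A B, ← map_sub]
      exact Ideal.mem_map_of_mem _ (AffDeformAlg.sub_algebraMap_mem e x)
    have hab' : Spec.map a ≫ Spec.map (CommRingCat.ofHom (algebraMap A B)) =
        Spec.map b ≫ Spec.map (CommRingCat.ofHom e.toRingHom) := by
      rw [← Spec.map_comp, ← Spec.map_comp, hab]
    let d := hsq.lift (Spec.map a) (Spec.map b) hab'
    have hd : d ≫ Spec.map (CommRingCat.ofHom q) = Spec.map a := hsq.lift_fst _ _ _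
    have hd' : CommRingCat.ofHom q ≫ Spec.preimage d = a := by
      apply Spec.map_injective
      rw [Spec.map_comp, Spec.map_preimage, hd]
    intro x hx
    have h1 := congrArg (fun f => f.hom x) hd'
    have h2 : Ideal.Quotient.mk mB x = (Spec.preimage d).hom (q x) := h1.symm
    rw [RingHom.mem_ker] at hx
    rw [hx, map_zero] at h2
    exact Ideal.Quotient.eq_zero_iff_mem.mp h2
  · rw [Ideal.map_le_iff_le_comap]
    intro n hn
    rw [Ideal.mem_comap, RingHom.mem_ker, hqA]
    have : e n = 0 := by
      have h := AffDeformAlg.ker_eq_maximalIdeal e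
      rw [← h] at hn
      exact hn
    rw [this, map_zero]

theorem exists_iso_trivial (B₀ : Type u) [CommRing B₀] [Algebra k B₀]
    (X' : Scheme.{u}) (g : X' ⟶ Spec (CommRingCat.of A)) [Flat g]
    (i : Spec (CommRingCat.of B₀) ⟶ X')
    (hsq : IsPullback i (Spec.map (CommRingCat.ofHom (algebraMap k B₀))) g
      (Spec.map (CommRingCat.ofHom e.toRingHom)))
    (hsec : ∀ (B : Type u) [CommRing B] [Algebra A B] [Algebra k B] [IsScalarTower k A B]
        [Module.Flat A B] (q : B →+* B₀), Function.Surjective q →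
        RingHom.ker q = (maximalIdeal A).map (algebraMap A B) →
        (∀ a, q (algebraMap A B a) = algebraMap k B₀ (e a)) →
        ∃ s : B₀ →ₐ[k] B, ∀ b, q (s b) = b) :
    ∃ Φ : X' ≅ pullback (Spec.map (CommRingCat.ofHom (algebraMap k B₀)))
        (Spec.map (CommRingCat.ofHom (algebraMap k A))),
      Φ.hom ≫ pullback.snd _ _ = g ∧ i ≫ Φ.hom ≫ pullback.fst _ _ = 𝟙 _ := by
  haveI : IsClosedImmersion i :=
    MorphismProperty.of_isPullback hsq.flip (isClosedImmersion_specMap_e e)
  haveI : Surjective i := MorphismProperty.of_isPullback hsq.flip (surjective_specMap_e e)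
  haveI : IsAffine X' :=
    Groth.Agent.Lib.Helper18.ThickAffine.isAffine_of_isClosedImmersion_of_surjective i
      (Surjective.surj)
  obtain ⟨φ, hφ⟩ : ∃ φ : CommRingCat.of A ⟶ Γ(X', ⊤),
      φ = (Scheme.ΓSpecIso (CommRingCat.of A)).inv ≫ g.appTop := ⟨_, rfl⟩
  obtain ⟨q', hq'⟩ : ∃ q' : Γ(X', ⊤) ⟶ CommRingCat.of B₀,
      q' = i.appTop ≫ (Scheme.ΓSpecIso (CommRingCat.of B₀)).hom := ⟨_, rfl⟩
  have hg : g = X'.isoSpec.hom ≫ Spec.map φ := by
    have h := Scheme.isoSpec_hom_naturality g
    rw [Scheme.isoSpec_Spec_hom] at h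
    rw [hφ, Spec.map_comp, ← Category.assoc, h, Category.assoc, ← Spec.map_comp, Iso.inv_hom_id,
      Spec.map_id, Category.comp_id]
  have hi : i = Spec.map q' ≫ X'.isoSpec.inv := by
    have h := Scheme.isoSpec_inv_naturality i
    rw [Scheme.isoSpec_Spec_inv] at h
    rw [hq', Spec.map_comp, Category.assoc, h, ← Category.assoc, ← Spec.map_comp, Iso.inv_hom_id,
      Spec.map_id, Category.id_comp]
  have hq_surj : Function.Surjective q'.hom := by
    rw [hq']
    have h1 := (IsClosedImmersion.isAffine_surjective_of_isAffine i).2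
    have h2 : Function.Bijective (Scheme.ΓSpecIso (CommRingCat.of B₀)).hom :=
      ConcreteCategory.bijective_of_isIso _
    exact h2.2.comp h1
  have hflat : φ.hom.Flat := by
    have h1 : Flat (Spec.map φ) := by
      have : Spec.map φ = X'.isoSpec.inv ≫ g := by rw [hg, Iso.inv_hom_id_assoc]
      rw [this]
      infer_instance
    exact (HasRingHomProperty.Spec_iff (P := @Flat)).mp h1
  have hsq' : IsPullback (Spec.map q') (Spec.map (CommRingCat.ofHom (algebraMap k B₀)))
      (Spec.map φ) (Spec.map (CommRingCat.ofHom e.toRingHom)) := by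
    refine hsq.of_iso (Iso.refl _) X'.isoSpec (Iso.refl _) (Iso.refl _) ?_ ?_ ?_ ?_
    · rw [hi]; simp
    · simp
    · rw [Iso.refl_hom, Category.comp_id]; exact hg
    · simp
  clear hφ hq'
  letI algAB : Algebra A Γ(X', ⊤) := φ.hom.toAlgebra
  letI algkB : Algebra k Γ(X', ⊤) := (φ.hom.comp (algebraMap k A)).toAlgebra
  haveI : IsScalarTower k A Γ(X', ⊤) := IsScalarTower.of_algebraMap_eq fun _ => rfl
  haveI : Module.Flat A Γ(X', ⊤) := hflat
  obtain ⟨hqA, hker⟩ := ring_facts e (B := Γ(X', ⊤)) q'.hom hsq'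
  obtain ⟨s, hs⟩ := hsec Γ(X', ⊤) q'.hom hq_surj hker hqA
  have H0 := AffDeformAlg.isPullback_of_section e q'.hom hker hqA s hs
  have H : IsPullback (X'.isoSpec.hom ≫ Spec.map (CommRingCat.ofHom (s : B₀ →+* Γ(X', ⊤)))) g
      (Spec.map (CommRingCat.ofHom (algebraMap k B₀)))
      (Spec.map (CommRingCat.ofHom (algebraMap k A))) := by
    refine H0.of_iso X'.isoSpec.symm (Iso.refl _) (Iso.refl _) (Iso.refl _) ?_ ?_ ?_ ?_
    · simp
    · rw [Iso.refl_hom, Category.comp_id, Iso.symm_hom, hg, Iso.inv_hom_id_assoc]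
      rfl
    · simp
    · simp
  refine ⟨H.isoPullback, H.isoPullback_hom_snd, ?_⟩
  rw [H.isoPullback_hom_fst, hi, Category.assoc, Iso.inv_hom_id_assoc, ← Spec.map_comp]
  have : CommRingCat.ofHom (s : B₀ →+* Γ(X', ⊤)) ≫ q' = 𝟙 _ := by
    ext b
    exact hs b
  rw [this, Spec.map_id]

end Groth.Agent.Lib.Helper59.AffDeform
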