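import Mathlib

/-!
# A cocartesian square of rings with surjective parallel sides (helper59)

If `R → S` is surjective with kernel `I`, `R → R'` is any ring map and `R' → S'` is surjective with
kernel `I R'` (compatibly), then `S' = S ⊗_R R'`, and `Spec` of the square is cartesian.
-/

set_option autoImplicit false
universe u

open CategoryTheory AlgebraicGeometry

namespace Groth.Agent.Lib.Helper59.SurjPushout

theorem isPushout_of_surjective (R S R' S' : Type u) [CommRing R] [CommRing S] [CommRing R']
    [CommRing S'] [Algebra R S] [Algebra R R'] [Algebra S S'] [Algebra R' S'] [Algebra R S']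
    [IsScalarTower R S S'] [IsScalarTower R R' S']
    (hf : Function.Surjective (algebraMap R S)) (hf' : Function.Surjective (algebraMap R' S'))
    (hker : RingHom.ker (algebraMap R' S') ≤ (RingHom.ker (algebraMap R S)).map (algebraMap R R')) :
    Algebra.IsPushout R S R' S' := by
  constructor
  apply IsBaseChange.of_lift_unique
  intro Q _ _ _ _ g
  let _ : AddCommGroup Q := Module.addCommMonoidToAddCommGroup S
  set φ : R' →ₗ[R] S' := (IsScalarTower.toAlgHom R R' S').toLinearMap with hφ
  have hφ_apply : ∀ x, φ x = algebraMap R' S' x := fun x => rfl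
  have hφsurj : Function.Surjective φ := hf'
  -- `g` kills the kernel of `R' → S'`
  have hkill : LinearMap.ker φ ≤ LinearMap.ker g := by
    intro x hx
    have hx0 : x ∈ RingHom.ker (algebraMap R' S') := hx
    have hx' : x ∈ ((RingHom.ker (algebraMap R S)).map (algebraMap R R')).restrictScalars R :=
      hker hx0
    rw [← Ideal.smul_top_eq_map] at hx'
    rw [LinearMap.mem_ker]
    refine Submodule.smul_induction_on hx' ?_ ?_
    · intro i hi y _
      rw [map_smul, ← algebraMap_smul S i (g y), (RingHom.mem_ker).mp hi, zero_smul]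
    · intro a b ha hb
      rw [map_add, ha, hb, add_zero]
  let g₀ : S' →ₗ[R] Q :=
    (Submodule.liftQ (LinearMap.ker φ) g hkill) ∘ₗ
      (φ.quotKerEquivOfSurjective hφsurj).symm.toLinearMap
  have hg₀ : ∀ x, g₀ (φ x) = g x := by
    intro x
    show Submodule.liftQ (LinearMap.ker φ) g hkill
      ((φ.quotKerEquivOfSurjective hφsurj).symm (φ x)) = g x
    have : (φ.quotKerEquivOfSurjective hφsurj).symm (φ x) = Submodule.Quotient.mk x := by
      rw [LinearEquiv.symm_apply_eq]
      rfl
    rw [this, Submodule.liftQ_apply]
  refine ⟨LinearMap.extendScalarsOfSurjective hf g₀, ?_, ?_⟩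
  · refine LinearMap.ext fun x => ?_
    exact hg₀ x
  · intro g'' hg''
    refine LinearMap.ext fun y => ?_
    obtain ⟨x, rfl⟩ := hφsurj y
    have h1 := LinearMap.congr_fun hg'' x
    show g'' (φ x) = g₀ (φ x)
    rw [hg₀]
    exact h1

/-- `Spec` of a cocartesian square with surjective parallel sides is cartesian. -/
theorem isPullback_of_surjective {R S R' S' : Type u} [CommRing R] [CommRing S] [CommRing R']
    [CommRing S'] (f : R →+* S) (g : R →+* R') (f' : R' →+* S') (g' : S →+* S')
    (hcomm : f'.comp g = g'.comp f) (hf : Function.Surjective f) (hf' : Function.Surjective f')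
    (hker : RingHom.ker f' ≤ (RingHom.ker f).map g) :
    IsPullback (Spec.map (CommRingCat.ofHom g')) (Spec.map (CommRingCat.ofHom f'))
      (Spec.map (CommRingCat.ofHom f)) (Spec.map (CommRingCat.ofHom g)) := by
  let _ : Algebra R S := f.toAlgebra
  let _ : Algebra R R' := g.toAlgebra
  let _ : Algebra S S' := g'.toAlgebra
  let _ : Algebra R' S' := f'.toAlgebra
  let _ : Algebra R S' := (g'.comp f).toAlgebra
  have : IsScalarTower R S S' := IsScalarTower.of_algebraMap_eq fun _ => rfl
  have : IsScalarTower R R' S' := IsScalarTower.of_algebraMap_eq fun x => by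
    show (g'.comp f) x = f' (g x)
    rw [← hcomm]
    rfl
  have := isPushout_of_surjective R S R' S' hf hf' hker
  exact isPullback_SpecMap_of_isPushout _ _ _ _ (CommRingCat.isPushout_of_isPushout R S R' S')

end Groth.Agent.Lib.Helper59.SurjPushout
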