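import Mathlib
import Groth.Prelude.Def_ArtFun4
import Groth.Agent.Lib.Helper59.AffDeform
import Groth.Agent.Lib.Helper59.SurjPushout

/-!
# Deformations of an affine scheme over Artinian bases: dictionary with rings (helper59)

* `RingDef B₀ A`: a flat `A`-algebra `B` with a surjection `q : B → B₀` with kernel `𝔪_A B`,
  compatible with the augmentation of `A`.
* `RingDef.toDefSch`: the deformation `Spec B` of `Spec B₀` over `A`.
* `exists_ringDef`: every deformation of `Spec B₀` is isomorphic to one coming from a `RingDef`.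
* `iso_of_ringEquiv`, `exists_ringEquiv_of_iso`: isomorphisms of deformations ↔ ring isomorphisms.
* `baseChange_iso`: the base change of `toDefSch` along a surjection `A' → A`.
-/

set_option autoImplicit false
set_option linter.style.haveILetI false
universe u
open CategoryTheory AlgebraicGeometry Limits IsLocalRing ArtFun

namespace Groth.Agent.Lib.Helper59.AffDefAPI

variable {k : Type u} [Field k] (B₀ : Type u) [CommRing B₀] [Algebra k B₀]

/-- Ring-level deformation data over an object `A` of `Art k k`. -/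
structure RingDef (A : ArtFun.Art k k) where
  /-- the total ring -/
  B : Type u
  [commRing : CommRing B]
  [algebra : Algebra A B]
  [flat : Module.Flat A B]
  /-- the reduction map -/
  q : B →+* B₀
  q_surj : Function.Surjective q
  ker_q : RingHom.ker q = (maximalIdeal A).map (algebraMap A B)
  q_alg : ∀ a : A, q (algebraMap A B a) = algebraMap k B₀ (A.res a)

attribute [instance] RingDef.commRing RingDef.algebra RingDef.flat

variable {B₀} {A A' : ArtFun.Art k k}

theorem ker_res (A : ArtFun.Art k k) : RingHom.ker (A.res : A →+* k) = maximalIdeal A := by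
  have : (RingHom.ker (A.res : A →+* k)).IsMaximal :=
    RingHom.ker_isMaximal_of_surjective _ A.res_surjective
  exact IsLocalRing.eq_maximalIdeal this

/-- the deformation attached to ring-level data. -/
noncomputable def RingDef.toDefSch (R : RingDef B₀ A) :
    DefSch (Spec (CommRingCat.of B₀)) (Spec.map (CommRingCat.ofHom (algebraMap k B₀))) A where
  total := Spec (CommRingCat.of R.B)
  f := Spec.map (CommRingCat.ofHom (algebraMap A R.B))
  flat := (HasRingHomProperty.Spec_iff (P := @Flat)).mpr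
    (show (algebraMap A R.B).Flat from (RingHom.flat_algebraMap_iff).mpr R.flat)
  i := Spec.map (CommRingCat.ofHom R.q)
  isPullback := by
    refine (SurjPushout.isPullback_of_surjective (A.res : A →+* k) (algebraMap A R.B) R.q
      (algebraMap k B₀) ?_ A.res_surjective R.q_surj ?_).flip
    · ext a
      exact R.q_alg a
    · rw [R.ker_q, ker_res]

/-- every deformation of `Spec B₀` comes from ring-level data. -/
theorem exists_ringDef
    (ξ : DefSch (Spec (CommRingCat.of B₀)) (Spec.map (CommRingCat.ofHom (algebraMap k B₀))) A) :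
    ∃ R : RingDef B₀ A, Nonempty (ξ.Iso R.toDefSch) := by
  obtain ⟨X', g, hflatg, i, hsq⟩ := ξ
  have hsq0 : IsPullback i (Spec.map (CommRingCat.ofHom (algebraMap k B₀))) g
      (Spec.map (CommRingCat.ofHom A.res.toRingHom)) := hsq
  haveI : IsClosedImmersion i :=
    MorphismProperty.of_isPullback hsq0.flip (AffDeform.isClosedImmersion_specMap_e A.res)
  haveI : Surjective i :=
    MorphismProperty.of_isPullback hsq0.flip (AffDeform.surjective_specMap_e A.res)
  haveI : IsAffine X' :=
    Groth.Agent.Lib.Helper18.ThickAffine.isAffine_of_isClosedImmersion_of_surjective i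
      (Surjective.surj)
  obtain ⟨φ, hφ⟩ : ∃ φ : CommRingCat.of A ⟶ Γ(X', ⊤),
      φ = (Scheme.ΓSpecIso (CommRingCat.of A)).inv ≫ g.appTop := ⟨_, rfl⟩
  obtain ⟨q', hq'⟩ : ∃ q' : Γ(X', ⊤) ⟶ CommRingCat.of B₀,
      q' = i.appTop ≫ (Scheme.ΓSpecIso (CommRingCat.of B₀)).hom := ⟨_, rfl⟩
  have hg : g = X'.isoSpec.hom ≫ Spec.map φ := by
    have h := Scheme.isoSpec_hom_naturality g
    rw [Scheme.isoSpec_Spec_hom] at h
    rw [hφ, Spec.map_comp, ← Category.assoc, h, Category.assoc, ← Spec.map_comp, Iso.inv_hom_id,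
      Spec.map_id, Category.comp_id]
  have hi : i = Spec.map q' ≫ X'.isoSpec.inv := by
    have h := Scheme.isoSpec_inv_naturality i
    rw [Scheme.isoSpec_Spec_inv] at h
    rw [hq', Spec.map_comp, Category.assoc, h, ← Category.assoc, ← Spec.map_comp, Iso.inv_hom_id,
      Spec.map_id, Category.id_comp]
  have hq_surj : Function.Surjective q'.hom := by
    rw [hq']
    have h1 := (IsClosedImmersion.isAffine_surjective_of_isAffine i).2
    have h2 : Function.Bijective (Scheme.ΓSpecIso (CommRingCat.of B₀)).hom :=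
      ConcreteCategory.bijective_of_isIso _
    exact h2.2.comp h1
  have hflat : φ.hom.Flat := by
    have h1 : Flat (Spec.map φ) := by
      have : Spec.map φ = X'.isoSpec.inv ≫ g := by rw [hg, Iso.inv_hom_id_assoc]
      rw [this]
      infer_instance
    exact (HasRingHomProperty.Spec_iff (P := @Flat)).mp h1
  have hsq' : IsPullback (Spec.map q') (Spec.map (CommRingCat.ofHom (algebraMap k B₀)))
      (Spec.map φ) (Spec.map (CommRingCat.ofHom A.res.toRingHom)) := by
    refine hsq0.of_iso (Iso.refl _) X'.isoSpec (Iso.refl _) (Iso.refl _) ?_ ?_ ?_ ?_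
    · rw [hi]; simp
    · simp
    · rw [Iso.refl_hom, Category.comp_id]; exact hg
    · simp
  clear hφ hq'
  letI algAB : Algebra A Γ(X', ⊤) := φ.hom.toAlgebra
  letI algkB : Algebra k Γ(X', ⊤) := (φ.hom.comp (algebraMap k A)).toAlgebra
  haveI : IsScalarTower k A Γ(X', ⊤) := IsScalarTower.of_algebraMap_eq fun _ => rfl
  haveI hfl : Module.Flat A Γ(X', ⊤) := hflat
  obtain ⟨hqA, hker⟩ := AffDeform.ring_facts A.res (B := Γ(X', ⊤)) q'.hom hsq'
  let R : RingDef B₀ A :=
    { B := Γ(X', ⊤)
      q := q'.hom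
      q_surj := hq_surj
      ker_q := hker
      q_alg := hqA }
  refine ⟨R, ⟨⟨X'.isoSpec, ?_, ?_⟩⟩⟩
  · exact hg.symm
  · show i ≫ X'.isoSpec.hom = Spec.map q'
    rw [hi, Category.assoc, Iso.inv_hom_id, Category.comp_id]

/-- a ring isomorphism compatible with the structure maps gives an isomorphism of deformations. -/
theorem iso_of_ringEquiv (R R' : RingDef B₀ A) (φ : R.B ≃+* R'.B)
    (hA : ∀ a : A, φ (algebraMap A R.B a) = algebraMap A R'.B a)
    (hq : ∀ b, R'.q (φ b) = R.q b) : Nonempty (R.toDefSch.Iso R'.toDefSch) := by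
  have h1 : CommRingCat.ofHom (φ : R.B →+* R'.B) ≫ CommRingCat.ofHom (φ.symm : R'.B →+* R.B) =
      𝟙 _ := by
    ext b
    exact φ.symm_apply_apply b
  have h2 : CommRingCat.ofHom (φ.symm : R'.B →+* R.B) ≫ CommRingCat.ofHom (φ : R.B →+* R'.B) =
      𝟙 _ := by
    ext b
    exact φ.apply_symm_apply b
  let θ : Spec (CommRingCat.of R.B) ≅ Spec (CommRingCat.of R'.B) :=
    ⟨Spec.map (CommRingCat.ofHom (φ.symm : R'.B →+* R.B)),
      Spec.map (CommRingCat.ofHom (φ : R.B →+* R'.B)),
      by rw [← Spec.map_comp, h1, Spec.map_id], by rw [← Spec.map_comp, h2, Spec.map_id]⟩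
  have hθf : θ.hom ≫ Spec.map (CommRingCat.ofHom (algebraMap A R'.B)) =
      Spec.map (CommRingCat.ofHom (algebraMap A R.B)) := by
    show Spec.map _ ≫ Spec.map _ = Spec.map _
    rw [← Spec.map_comp]
    congr 1
    ext a
    show φ.symm (algebraMap A R'.B a) = algebraMap A R.B a
    rw [← hA, φ.symm_apply_apply]
  have hθi : Spec.map (CommRingCat.ofHom R.q) ≫ θ.hom = Spec.map (CommRingCat.ofHom R'.q) := by
    show Spec.map _ ≫ Spec.map _ = Spec.map _
    rw [← Spec.map_comp]
    congr 1
    ext b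
    show R.q (φ.symm b) = R'.q b
    rw [← hq, φ.apply_symm_apply]
  exact ⟨⟨θ, hθf, hθi⟩⟩

/-- an isomorphism of deformations attached to ring-level data comes from a ring isomorphism. -/
theorem exists_ringEquiv_of_iso (R R' : RingDef B₀ A) (e : R.toDefSch.Iso R'.toDefSch) :
    ∃ φ : R.B ≃+* R'.B, (∀ a : A, φ (algebraMap A R.B a) = algebraMap A R'.B a) ∧
      ∀ b, R'.q (φ b) = R.q b := by
  let ψ : CommRingCat.of R'.B ⟶ CommRingCat.of R.B := Spec.preimage e.iso.hom
  let ψ' : CommRingCat.of R.B ⟶ CommRingCat.of R'.B := Spec.preimage e.iso.inv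
  have hψ : Spec.map ψ = e.iso.hom := Spec.map_preimage _
  have hψ' : Spec.map ψ' = e.iso.inv := Spec.map_preimage _
  have h1 : ψ' ≫ ψ = 𝟙 _ := by
    apply Spec.map_injective
    rw [Spec.map_comp, hψ, hψ', Spec.map_id]
    exact e.iso.hom_inv_id
  have h2 : ψ ≫ ψ' = 𝟙 _ := by
    apply Spec.map_injective
    rw [Spec.map_comp, hψ, hψ', Spec.map_id]
    exact e.iso.inv_hom_id
  have h1' : ∀ b, ψ.hom (ψ'.hom b) = b := fun b => congrArg (fun f => f.hom b) h1
  have h2' : ∀ b, ψ'.hom (ψ.hom b) = b := fun b => congrArg (fun f => f.hom b) h2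
  let φ : R.B ≃+* R'.B := RingEquiv.ofRingHom ψ'.hom ψ.hom (RingHom.ext h2') (RingHom.ext h1')
  have hφ : ∀ b, φ b = ψ'.hom b := fun b => rfl
  have hφs : ∀ b, φ.symm b = ψ.hom b := fun b => rfl
  -- compatibility with `A`
  have hf : CommRingCat.ofHom (algebraMap A R'.B) ≫ ψ = CommRingCat.ofHom (algebraMap A R.B) := by
    apply Spec.map_injective
    rw [Spec.map_comp, hψ]
    exact e.hom_f
  have hi : ψ ≫ CommRingCat.ofHom R.q = CommRingCat.ofHom R'.q := by
    apply Spec.map_injective
    rw [Spec.map_comp, hψ]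
    exact e.i_hom
  refine ⟨φ, fun a => ?_, fun b => ?_⟩
  · have h3 : ψ.hom (algebraMap A R'.B a) = algebraMap A R.B a :=
      congrArg (fun f => f.hom a) hf
    rw [← h3, hφ, h2']
  · have h3 : R.q (ψ.hom (φ b)) = R'.q (φ b) := congrArg (fun f => f.hom (φ b)) hi
    rw [← h3, hφ, h1']

/-- the base change of the deformation of ring-level data along a surjection. -/
theorem baseChange_iso (p : A' ⟶ A) (hp : Function.Surjective p)
    (R' : RingDef B₀ A') (R : RingDef B₀ A) (π : R'.B →+* R.B)
    (hπA : ∀ a' : A', π (algebraMap A' R'.B a') = algebraMap A R.B (p a'))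
    (hπq : ∀ b, R.q (π b) = R'.q b) (hπ : Function.Surjective π)
    (hker : RingHom.ker π ≤ (RingHom.ker p.toAlgHom.toRingHom).map (algebraMap A' R'.B)) :
    Nonempty ((R'.toDefSch.baseChange p).Iso R.toDefSch) := by
  have hstar : IsPullback (Spec.map (CommRingCat.ofHom π)) R.toDefSch.f R'.toDefSch.f
      (Art.specMap p) := by
    refine (SurjPushout.isPullback_of_surjective p.toAlgHom.toRingHom (algebraMap A' R'.B) π
      (algebraMap A R.B) ?_ hp hπ hker).flip
    ext a'
    exact hπA a'
  let θ := (IsPullback.of_hasPullback R'.toDefSch.f (Art.specMap p)).isoIsPullback _ _ hstar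
  have hθ1 : θ.hom ≫ Spec.map (CommRingCat.ofHom π) = pullback.fst _ _ :=
    IsPullback.isoIsPullback_hom_fst _ _ _ _
  have hθ2 : θ.hom ≫ R.toDefSch.f = pullback.snd _ _ :=
    IsPullback.isoIsPullback_hom_snd _ _ _ _
  have hi1 : (R'.toDefSch.baseChange p).i ≫ pullback.fst _ _ = R'.toDefSch.i :=
    DefSch.baseChange_i_fst R'.toDefSch p
  have hi2 : (R'.toDefSch.baseChange p).i ≫ pullback.snd _ _ =
      Spec.map (CommRingCat.ofHom (algebraMap k B₀)) ≫ Art.specRes A :=
    DefSch.baseChange_i_f R'.toDefSch p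
  have hRi : R.toDefSch.i ≫ Spec.map (CommRingCat.ofHom π) = R'.toDefSch.i := by
    show Spec.map _ ≫ Spec.map _ = Spec.map _
    rw [← Spec.map_comp]
    congr 1
    ext b
    exact hπq b
  refine ⟨⟨θ, hθ2, ?_⟩⟩
  apply hstar.hom_ext
  · exact ((Category.assoc _ _ _).trans ((congrArg _ hθ1).trans hi1)).trans hRi.symm
  · exact ((Category.assoc _ _ _).trans ((congrArg _ hθ2).trans hi2)).trans
      (DefSch.i_f R.toDefSch).symm

end Groth.Agent.Lib.Helper59.AffDefAPI
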