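import Mathlib
import Groth.Prelude.Def_Exal
import Groth.Agent.Lib.Helper59.AffDeformAlg

/-!
# Rigidity: sections of flat deformations from triviality of extensions (helper59)

`k` a field, `B₀` a `k`-algebra all of whose `k`-extensions by `B₀` are trivial, `A` local Artinian
with augmentation `e`, `B` flat over `A`, `q : B → B₀` surjective with kernel `𝔪_A B`.  Then `q` has a
`k`-algebra section.
-/

set_option autoImplicit false
universe u
open IsLocalRing

namespace Groth.Agent.Lib.Helper59.AffRigid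

section Flat

variable {A B : Type u} [CommRing A] [IsLocalRing A] [CommRing B] [Algebra A B] [Module.Flat A B]

/-- For `B` flat over a local ring `A`: if `t ∉ 𝔞'` and `t y ∈ 𝔞' B` then `y ∈ 𝔪 B`. -/
theorem mem_map_maximalIdeal_of_mul_mem (𝔞' : Ideal A) (t : A) (ht : t ∉ 𝔞') (y : B)
    (hy : algebraMap A B t * y ∈ 𝔞'.map (algebraMap A B)) :
    y ∈ (maximalIdeal A).map (algebraMap A B) := by
  classical
  have hy' : t • y ∈ 𝔞' • Submodule.span A (Set.range (id : B → B)) := by
    rw [Set.range_id, Submodule.span_univ]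
    change t • y ∈ (𝔞' • (⊤ : Submodule A B))
    rw [Ideal.smul_top_eq_map, Algebra.smul_def]
    exact hy
  rw [Submodule.mem_ideal_smul_span_iff_exists_sum] at hy'
  obtain ⟨a, ha, hsum⟩ := hy'
  -- the relation `t • y - ∑ a i • i = 0`
  let f : Option a.support → A := fun o => o.elim t (fun i => - a i)
  let x : Option a.support → B := fun o => o.elim y (fun i => (i : B))
  have hrel : ∑ o, f o • x o = 0 := by
    rw [Fintype.sum_option]
    simp only [f, x, Option.elim_none, Option.elim_some, neg_smul, Finset.sum_neg_distrib]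
    rw [← hsum, Finsupp.sum, ← Finset.sum_coe_sort a.support (fun i => a i • id i)]
    simp
  obtain ⟨n, c, z, hx, hc⟩ :=
    Module.Flat.isTrivialRelation_of_sum_smul_eq_zero (R := A) (M := B) (f := f) (x := x) hrel
  have hcm : ∀ j, c none j ∈ maximalIdeal A := by
    intro j
    by_contra hcon
    have hu : IsUnit (c none j) := by
      by_contra hnu
      exact hcon ((mem_maximalIdeal _).mpr hnu)
    have h1 := hc j
    rw [Fintype.sum_option] at h1
    simp only [f, Option.elim_none, Option.elim_some] at h1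
    have h2 : t * c none j ∈ 𝔞' := by
      have : t * c none j = ∑ i : a.support, a i * c (some i) j := by
        rw [eq_comm, ← sub_eq_zero, ← neg_eq_zero, neg_sub, sub_eq_add_neg, ← h1]
        congr 1
        rw [← Finset.sum_neg_distrib]
        exact Finset.sum_congr rfl fun i _ => by ring
      rw [this]
      exact 𝔞'.sum_mem fun i _ => 𝔞'.mul_mem_right _ (ha i)
    obtain ⟨u, hu⟩ := hu
    have : t ∈ 𝔞' := by
      have h3 := 𝔞'.mul_mem_right (↑u⁻¹ : A) h2
      rwa [← hu, mul_assoc, Units.mul_inv, mul_one] at h3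
    exact ht this
  have hy0 := hx none
  simp only [x, Option.elim_none] at hy0
  rw [hy0]
  refine Ideal.sum_mem _ fun j _ => ?_
  rw [Algebra.smul_def]
  exact Ideal.mul_mem_right _ _ (Ideal.mem_map_of_mem _ (hcm j))

end Flat


section Step

variable {k A B B₀ : Type u} [Field k] [CommRing A] [IsLocalRing A] [Algebra k A]
  [CommRing B] [Algebra A B] [Algebra k B] [IsScalarTower k A B]
  [CommRing B₀] [Algebra k B₀] (q : B →+* B₀)

/-- A lifting of `B₀ = B/𝔪B` to `B/𝔞B`. -/
def HasLift (𝔞 : Ideal A) : Prop :=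
  ∃ s : B₀ →ₐ[k] B ⧸ 𝔞.map (algebraMap A B),
    ∀ (b : B₀) (y : B), Ideal.Quotient.mk (𝔞.map (algebraMap A B)) y = s b → q y = b

variable (hq : Function.Surjective q)
  (hker : RingHom.ker q = (maximalIdeal A).map (algebraMap A B))
  (hT : ∀ E : Exal.Ext k B₀ B₀, E.IsTrivial)

include hq hker hT in
theorem hasLift_step [Module.Flat A B] (𝔞 𝔞' : Ideal A) (t : A) (h𝔞 : 𝔞 = 𝔞' ⊔ Ideal.span {t})
    (ht : t ∉ 𝔞') (hmt : ∀ n ∈ maximalIdeal A, n * t ∈ 𝔞') (h : HasLift (k := k) q 𝔞) :
    HasLift (k := k) q 𝔞' := by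
  classical
  have hle : 𝔞'.map (algebraMap A B) ≤ 𝔞.map (algebraMap A B) :=
    Ideal.map_mono (by rw [h𝔞]; exact le_sup_left)
  set I := 𝔞.map (algebraMap A B) with hI
  set I' := 𝔞'.map (algebraMap A B) with hI'
  set t' := algebraMap A B t with ht'
  obtain ⟨s, hs⟩ := h
  let π : (B ⧸ I') →ₐ[k] (B ⧸ I) := Ideal.Quotient.factorₐ k hle
  have hπ : ∀ y : B, π (Ideal.Quotient.mk I' y) = Ideal.Quotient.mk I y := fun y => rfl
  have ht'I : t' ∈ I := Ideal.mem_map_of_mem _ (by rw [h𝔞]; exact Ideal.mem_sup_right (Ideal.mem_span_singleton_self t))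
  -- `t' * ker q ⊆ I'`
  have key1 : ∀ y, q y = 0 → t' * y ∈ I' := by
    intro y hy
    have hy' : y ∈ (maximalIdeal A).map (algebraMap A B) := by rw [← hker]; exact hy
    have h1 : t' * y ∈ (Ideal.span {t} * maximalIdeal A).map (algebraMap A B) := by
      rw [Ideal.map_mul]
      exact Ideal.mul_mem_mul (Ideal.mem_map_of_mem _ (Ideal.mem_span_singleton_self t)) hy'
    refine Ideal.map_mono ?_ h1
    rw [Ideal.span_singleton_mul_le_iff]
    intro n hn
    rw [mul_comm]
    exact hmt n hn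
  -- the additive map `τ : B₀ → B/I'`, `q y ↦ t' y`
  obtain ⟨τ, τ_spec⟩ : ∃ τ : B₀ → B ⧸ I', ∀ y, τ (q y) = Ideal.Quotient.mk I' (t' * y) := by
    refine ⟨fun b => Ideal.Quotient.mk I' (t' * Function.surjInv hq b), fun y => ?_⟩
    change Ideal.Quotient.mk I' (t' * Function.surjInv hq (q y)) = _
    rw [Ideal.Quotient.eq, ← mul_sub]
    apply key1
    rw [map_sub, Function.surjInv_eq hq, sub_self]
  have τ_zero : τ 0 = 0 := by
    have := τ_spec 0
    rwa [map_zero, mul_zero, map_zero] at this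
  have τ_add : ∀ b b', τ (b + b') = τ b + τ b' := by
    intro b b'
    obtain ⟨y, rfl⟩ := hq b
    obtain ⟨y', rfl⟩ := hq b'
    rw [← map_add, τ_spec, τ_spec, τ_spec, mul_add, map_add]
  have τ_inj : ∀ b, τ b = 0 → b = 0 := by
    intro b hb
    obtain ⟨y, rfl⟩ := hq b
    rw [τ_spec, Ideal.Quotient.eq_zero_iff_mem] at hb
    have := mem_map_maximalIdeal_of_mul_mem 𝔞' t ht y hb
    rw [← hker] at this
    exact this
  have πτ : ∀ b, π (τ b) = 0 := by
    intro b
    obtain ⟨y, rfl⟩ := hq b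
    rw [τ_spec, hπ, Ideal.Quotient.eq_zero_iff_mem]
    exact I.mul_mem_right _ ht'I
  -- the extension
  let φ₁ : (B ⧸ I') × B₀ →ₐ[k] (B ⧸ I) := π.comp (AlgHom.fst k (B ⧸ I') B₀)
  let φ₂ : (B ⧸ I') × B₀ →ₐ[k] (B ⧸ I) := s.comp (AlgHom.snd k (B ⧸ I') B₀)
  let E : Subalgebra k ((B ⧸ I') × B₀) := AlgHom.equalizer φ₁ φ₂
  have hE : ∀ x : (B ⧸ I') × B₀, x ∈ E ↔ π x.1 = s x.2 := fun x => Iff.rfl
  let incl : B₀ →+ E :=
    { toFun := fun b => ⟨(τ b, 0), by rw [hE]; simp [πτ]⟩
      map_zero' := by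
        apply Subtype.ext
        simp [τ_zero]
      map_add' := fun b b' => by
        apply Subtype.ext
        simp [τ_add] }
  let proj : E →ₐ[k] B₀ := (AlgHom.snd k (B ⧸ I') B₀).comp E.val
  have hincl : ∀ b, ((incl b : E) : (B ⧸ I') × B₀) = (τ b, 0) := fun b => rfl
  have hproj : ∀ x : E, proj x = (x : (B ⧸ I') × B₀).2 := fun x => rfl
  have hext : Exal.IsExtension proj incl := by
    refine ⟨?_, ?_, ?_, ?_⟩
    · intro b
      obtain ⟨y, hy⟩ := Ideal.Quotient.mk_surjective (s b)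
      refine ⟨⟨(Ideal.Quotient.mk I' y, b), ?_⟩, rfl⟩
      rw [hE]
      exact hy
    · intro b b' hbb
      have h1 := congrArg (fun x : E => (x : (B ⧸ I') × B₀).1) hbb
      simp only [hincl] at h1
      have h2 : τ (b - b') = 0 := by
        have : τ (b - b') + τ b' = τ b := by rw [← τ_add, sub_add_cancel]
        rw [h1] at this
        exact add_eq_right.mp this
      exact sub_eq_zero.mp (τ_inj _ h2)
    · rintro ⟨⟨yt, b⟩, hx⟩
      rw [hE] at hx
      simp only at hx
      constructor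
      · intro h0
        have hb : b = 0 := h0
        subst hb
        rw [map_zero] at hx
        obtain ⟨y, rfl⟩ := Ideal.Quotient.mk_surjective yt
        rw [hπ, Ideal.Quotient.eq_zero_iff_mem, hI, h𝔞, Ideal.map_sup, Ideal.map_span,
          Set.image_singleton, Submodule.mem_sup] at hx
        obtain ⟨y₁, hy₁, y₂, hy₂, rfl⟩ := hx
        obtain ⟨z, rfl⟩ := Ideal.mem_span_singleton'.mp hy₂
        refine ⟨q z, Subtype.ext ?_⟩
        rw [hincl, τ_spec]
        refine Prod.ext ?_ rfl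
        change Ideal.Quotient.mk I' (t' * z) = Ideal.Quotient.mk I' (y₁ + z * algebraMap A B t)
        rw [Ideal.Quotient.eq]
        have : t' * z - (y₁ + z * algebraMap A B t) = - y₁ := by rw [ht']; ring
        rw [this]
        exact I'.neg_mem hy₁
      · rintro ⟨z, hz⟩
        have := congrArg (fun x : E => (x : (B ⧸ I') × B₀).2) hz
        simp only [hincl] at this
        exact this.symm
    · rintro ⟨⟨yt, b⟩, hx⟩ z
      rw [hE] at hx
      simp only at hx
      apply Subtype.ext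
      obtain ⟨y, rfl⟩ := Ideal.Quotient.mk_surjective yt
      obtain ⟨w, rfl⟩ := hq z
      rw [hπ] at hx
      have hqy : q y = b := hs b y hx
      rw [Subalgebra.coe_mul, hincl, hincl, hproj]
      refine Prod.ext ?_ (by simp)
      change Ideal.Quotient.mk I' y * τ (q w) = τ (b • q w)
      rw [smul_eq_mul, ← hqy, ← map_mul, τ_spec, τ_spec, ← map_mul]
      congr 1
      ring
  let X : Exal.Ext k B₀ B₀ :=
    { E := E, proj := proj, incl := incl, isExtension := hext }
  obtain ⟨σ, hσ⟩ := hT X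
  refine ⟨(AlgHom.fst k (B ⧸ I') B₀).comp (E.val.comp σ), ?_⟩
  intro b y hy
  have hmem := (σ b : E).2
  rw [hE] at hmem
  have h2 : ((σ b : E) : (B ⧸ I') × B₀).2 = b := hσ b
  have h1 : ((σ b : E) : (B ⧸ I') × B₀).1 = Ideal.Quotient.mk I' y := hy.symm
  rw [h1, h2, hπ] at hmem
  exact hs b y hmem

end Step


section Main

variable {k A B B₀ : Type u} [Field k] [CommRing A] [IsLocalRing A] [IsArtinianRing A] [Algebra k A]
  [CommRing B] [Algebra A B] [Algebra k B] [IsScalarTower k A B] [Module.Flat A B]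
  [CommRing B₀] [Algebra k B₀] (e : A →ₐ[k] k) (q : B →+* B₀)

include e in
/-- If all `k`-extensions of `B₀` by `B₀` are trivial, the reduction map of any flat deformation of
`B₀` over a local Artinian base has a `k`-algebra section. -/
theorem exists_section (hq : Function.Surjective q)
    (hker : RingHom.ker q = (maximalIdeal A).map (algebraMap A B))
    (hqA : ∀ a, q (algebraMap A B a) = algebraMap k B₀ (e a))
    (hT : ∀ E : Exal.Ext k B₀ B₀, E.IsTrivial) :
    ∃ s : B₀ →ₐ[k] B, ∀ b, q (s b) = b := by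
  classical
  have hqk : ∀ c : k, q (algebraMap k B c) = algebraMap k B₀ c := by
    intro c
    rw [IsScalarTower.algebraMap_apply k A B, hqA, e.commutes]
    rfl
  let qa : B →ₐ[k] B₀ := { q with commutes' := hqk }
  have hbase : HasLift (k := k) q (maximalIdeal A) := by
    let L : (B ⧸ (maximalIdeal A).map (algebraMap A B)) →ₐ[k] B₀ :=
      Ideal.Quotient.liftₐ _ qa (fun a ha => by
        rw [← hker] at ha
        exact ha)
    have hLmk : ∀ y : B, L (Ideal.Quotient.mk _ y) = q y := fun y => rfl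
    have hL : Function.Bijective L := by
      constructor
      · rw [injective_iff_map_eq_zero]
        intro x hx
        obtain ⟨y, rfl⟩ := Ideal.Quotient.mk_surjective x
        rw [hLmk] at hx
        rw [Ideal.Quotient.eq_zero_iff_mem, ← hker]
        exact hx
      · intro b
        obtain ⟨y, rfl⟩ := hq b
        exact ⟨Ideal.Quotient.mk _ y, hLmk y⟩
    refine ⟨(AlgEquiv.ofBijective L hL).symm.toAlgHom, fun b y hy => ?_⟩
    rw [← hLmk, hy]
    exact (AlgEquiv.ofBijective L hL).apply_symm_apply b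
  let S : Set (Ideal A) := {𝔞 | 𝔞 ≤ maximalIdeal A ∧ HasLift (k := k) q 𝔞}
  have hSne : S.Nonempty := ⟨maximalIdeal A, le_rfl, hbase⟩
  obtain ⟨𝔞, ⟨h𝔞m, h𝔞L⟩, hmin⟩ := wellFounded_lt.has_min S hSne
  have h𝔞bot : 𝔞 = ⊥ := by
    by_contra hne
    have hlt : maximalIdeal A * 𝔞 < 𝔞 := by
      refine lt_of_le_of_ne Ideal.mul_le_right ?_
      intro heq
      apply hne
      refine Submodule.eq_bot_of_le_smul_of_le_jacobson_bot (maximalIdeal A) 𝔞
        (IsNoetherian.noetherian 𝔞) ?_ ?_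
      · rw [smul_eq_mul, heq]
      · rw [jacobson_eq_maximalIdeal ⊥ bot_ne_top]
    let T : Set (Ideal A) := {𝔠 | maximalIdeal A * 𝔞 ≤ 𝔠 ∧ 𝔠 < 𝔞}
    have hTne : T.Nonempty := ⟨_, le_rfl, hlt⟩
    obtain ⟨𝔞', ⟨h1, h2⟩, hmax⟩ := wellFounded_gt.has_min T hTne
    obtain ⟨t, ht𝔞, ht⟩ := SetLike.exists_of_lt h2
    have hsup : 𝔞 = 𝔞' ⊔ Ideal.span {t} := by
      by_contra hcon
      have hle : 𝔞' ⊔ Ideal.span {t} ≤ 𝔞 :=
        sup_le h2.le ((Ideal.span_singleton_le_iff_mem _).mpr ht𝔞)
      have hlt' : 𝔞' ⊔ Ideal.span {t} < 𝔞 := lt_of_le_of_ne hle (Ne.symm hcon)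
      have hmem : 𝔞' ⊔ Ideal.span {t} ∈ T := ⟨h1.trans le_sup_left, hlt'⟩
      have hgt : 𝔞' < 𝔞' ⊔ Ideal.span {t} := by
        refine lt_of_le_of_ne le_sup_left ?_
        intro heq
        apply ht
        rw [heq]
        exact Ideal.mem_sup_right (Ideal.mem_span_singleton_self t)
      exact hmax _ hmem hgt
    have hmt : ∀ n ∈ maximalIdeal A, n * t ∈ 𝔞' := fun n hn => h1 (Ideal.mul_mem_mul hn ht𝔞)
    have hL' := hasLift_step q hq hker hT 𝔞 𝔞' t hsup ht hmt h𝔞L
    exact hmin 𝔞' ⟨h2.le.trans h𝔞m, hL'⟩ h2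
  subst h𝔞bot
  obtain ⟨s, hs⟩ := h𝔞L
  have hbot : (⊥ : Ideal A).map (algebraMap A B) = ⊥ := Ideal.map_bot
  have hmk : Function.Bijective (Ideal.Quotient.mkₐ k ((⊥ : Ideal A).map (algebraMap A B))) := by
    constructor
    · rw [injective_iff_map_eq_zero]
      intro x hx
      have : x ∈ (⊥ : Ideal A).map (algebraMap A B) := Ideal.Quotient.eq_zero_iff_mem.mp hx
      rw [hbot] at this
      exact this
    · exact Ideal.Quotient.mk_surjective
  refine ⟨(AlgEquiv.ofBijective _ hmk).symm.toAlgHom.comp s, fun b => ?_⟩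
  apply hs b
  exact (AlgEquiv.ofBijective _ hmk).apply_symm_apply (s b)

end Main

end Groth.Agent.Lib.Helper59.AffRigid
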