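import Mathlib
import Groth.Prelude.Def_ArtFun4
import Groth.Prelude.Def_Exal
import Groth.Agent.Lib.Helper59.AffDefAPI
import Groth.Agent.Lib.Helper59.AffRigid
import Groth.Agent.Lib.Helper84.LocalFlat

/-!
# First-order deformations of an affine scheme and algebra extensions (helper59)

`k` a field, `B₀` a `k`-algebra, `D = k[ε]`.  Ring-level deformation data of `B₀` over `D`
(`AffDefAPI.RingDef`) are the same thing as `k`-algebra extensions of `B₀` by `B₀`; isomorphisms of
deformations correspond to equivalences of extensions.  Hence a bijection between the classes of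
deformations of `Spec B₀` over `D` and `Exalcom k B₀ B₀`.
-/

set_option autoImplicit false
set_option linter.style.haveILetI false
universe u
open CategoryTheory AlgebraicGeometry IsLocalRing ArtFun
open scoped TensorProduct

namespace Groth.Agent.Lib.Helper59.AffDefDual

open Groth.Agent.Lib.Helper59.AffDefAPI

variable {k : Type u} [Field k]

section dual

/-- `ε` as an element of the object `k[ε]`. -/
noncomputable def epsD : (Art.dual k k) := (DualNumber.eps : DualNumber k)

theorem epsD_mul_self : (epsD : Art.dual k k) * epsD = 0 :=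
  (DualNumber.eps_mul_eps : (DualNumber.eps : DualNumber k) * DualNumber.eps = 0)

theorem res_epsD : (Art.dual k k).res (epsD (k := k)) = 0 :=
  (DualNumber.fst_eps : TrivSqZeroExt.fst (DualNumber.eps : DualNumber k) = 0)

theorem epsD_ne_zero : (epsD : Art.dual k k) ≠ 0 := by
  intro h
  have h1 : TrivSqZeroExt.snd (DualNumber.eps : DualNumber k) = TrivSqZeroExt.snd (0 : DualNumber k) :=
    congrArg TrivSqZeroExt.snd h
  rw [DualNumber.snd_eps, TrivSqZeroExt.snd_zero] at h1
  exact one_ne_zero h1

theorem decomp' (d : DualNumber k) :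
    d = algebraMap k (DualNumber k) (TrivSqZeroExt.fst d) +
      algebraMap k (DualNumber k) (TrivSqZeroExt.snd d) * DualNumber.eps := by
  ext <;> simp [TrivSqZeroExt.algebraMap_eq_inl']

theorem decomp (d : Art.dual k k) : ∃ b : k,
    d = algebraMap k (Art.dual k k) ((Art.dual k k).res d) +
      algebraMap k (Art.dual k k) b * epsD :=
  ⟨_, decomp' (k := k) d⟩

theorem maximalIdeal_dual : maximalIdeal (Art.dual k k) = Ideal.span {epsD} := by
  ext d
  rw [Art.mem_maximalIdeal_iff, Ideal.mem_span_singleton']
  constructor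
  · intro h
    obtain ⟨b, hd⟩ := decomp d
    refine ⟨algebraMap k _ b, ?_⟩
    rw [h, map_zero, zero_add] at hd
    exact hd.symm
  · rintro ⟨c, rfl⟩
    rw [map_mul, res_epsD, mul_zero]

end dual

variable {B₀ : Type u} [CommRing B₀] [Algebra k B₀]

section toExt

variable (R : RingDef B₀ (Art.dual k k))

/-- the image of `ε` in the total ring. -/
noncomputable def epsB : R.B := algebraMap (Art.dual k k) R.B epsD

theorem epsB_mul_self : epsB R * epsB R = 0 := by
  unfold epsB
  rw [← map_mul, epsD_mul_self, map_zero]

theorem q_epsB : R.q (epsB R) = 0 := by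
  unfold epsB
  rw [R.q_alg, res_epsD, map_zero]

theorem ker_q_eq : RingHom.ker R.q = Ideal.span {epsB R} := by
  rw [R.ker_q, maximalIdeal_dual, Ideal.map_span, Set.image_singleton]
  rfl

theorem epsB_mul_eq {x y : R.B} (h : R.q x = R.q y) : epsB R * x = epsB R * y := by
  have h1 : x - y ∈ RingHom.ker R.q := by rw [RingHom.mem_ker, map_sub, h, sub_self]
  rw [ker_q_eq, Ideal.mem_span_singleton'] at h1
  obtain ⟨z, hz⟩ := h1
  have h2 : epsB R * (x - y) = 0 := by
    rw [← hz, mul_comm z, ← mul_assoc, epsB_mul_self, zero_mul]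
  rw [mul_sub, sub_eq_zero] at h2
  exact h2

theorem q_eq_zero_of_epsB_mul {x : R.B} (h : epsB R * x = 0) : R.q x = 0 := by
  have h1 := AffRigid.mem_map_maximalIdeal_of_mul_mem (A := Art.dual k k) (B := R.B) ⊥ epsD
    (by rw [Ideal.mem_bot]; exact epsD_ne_zero) x
    (by rw [Ideal.map_bot, Ideal.mem_bot]; exact h)
  rw [← R.ker_q] at h1
  exact h1

/-- a set-theoretic section of the reduction. -/
noncomputable def sec (b : B₀) : R.B := Function.surjInv R.q_surj b

theorem q_sec (b : B₀) : R.q (sec R b) = b := Function.surjInv_eq R.q_surj b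

/-- the `k`-algebra structure on the total ring. -/
@[instance_reducible]
noncomputable def algK : Algebra k R.B :=
  ((algebraMap (Art.dual k k) R.B).comp (algebraMap k (Art.dual k k))).toAlgebra

/-- the extension of `B₀` by `B₀` attached to first-order deformation data. -/
noncomputable def toExt : Exal.Ext k B₀ B₀ :=
  letI : Algebra k R.B := algK R
  { E := R.B
    proj :=
      { R.q with
        commutes' := fun c => by
          show R.q (algebraMap (Art.dual k k) R.B (algebraMap k (Art.dual k k) c)) =
            algebraMap k B₀ c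
          rw [R.q_alg, AlgHom.commutes]
          rfl }
    incl :=
      { toFun := fun b => epsB R * sec R b
        map_zero' := by
          rw [epsB_mul_eq R (y := 0) (by rw [q_sec, map_zero]), mul_zero]
        map_add' := fun b b' => by
          rw [← mul_add]
          exact epsB_mul_eq R (by rw [map_add, q_sec, q_sec,
            q_sec]) }
    isExtension :=
      { proj_surjective := R.q_surj
        incl_injective := by
          intro b b' h
          have h1 : epsB R * (sec R b - sec R b') = 0 := by
            rw [mul_sub, sub_eq_zero]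
            exact h
          have h2 := q_eq_zero_of_epsB_mul R h1
          rw [map_sub, q_sec, q_sec, sub_eq_zero] at h2
          exact h2
        exact := by
          intro x
          constructor
          · intro hx
            have h1 : x ∈ RingHom.ker R.q := hx
            rw [ker_q_eq, Ideal.mem_span_singleton'] at h1
            obtain ⟨z, rfl⟩ := h1
            refine ⟨R.q z, ?_⟩
            show epsB R * sec R (R.q z) = z * epsB R
            rw [mul_comm z]
            exact epsB_mul_eq R (q_sec R _)
          · rintro ⟨b, rfl⟩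
            show R.q (epsB R * sec R b) = 0
            rw [map_mul, q_epsB, zero_mul]
        mul_incl := by
          intro x z
          show x * (epsB R * sec R z) =
            epsB R * sec R (R.q x • z)
          rw [mul_left_comm]
          exact epsB_mul_eq R (by rw [map_mul, q_sec, q_sec,
            smul_eq_mul]) } }

theorem toExt_incl_q (x : R.B) : (toExt R).incl (R.q x) = epsB R * x :=
  epsB_mul_eq R (q_sec R _)

theorem toExt_incl_one : (toExt R).incl 1 = epsB R := by
  have h := toExt_incl_q R 1
  rw [map_one, mul_one] at h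
  exact h

theorem toExt_algebraMap (c : k) :
    algebraMap k (toExt R).E c = algebraMap (Art.dual k k) R.B (algebraMap k (Art.dual k k) c) :=
  rfl

theorem toExt_proj (x : R.B) : (toExt R).proj x = R.q x := rfl

end toExt

section ofExt

variable (X : Exal.Ext k B₀ B₀)

theorem incl_mul_incl (z z' : B₀) : X.incl z * X.incl z' = 0 := by
  rw [X.isExtension.mul_incl, (X.isExtension.exact (X.incl z)).mpr ⟨z, rfl⟩, zero_smul, map_zero]

/-- the `k`-algebra map `k[ε] → E`, `ε ↦ incl 1`. -/
noncomputable def dualHom : DualNumber k →ₐ[k] X.E :=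
  DualNumber.lift ⟨(Algebra.ofId k X.E, X.incl 1), incl_mul_incl X 1 1, fun _ => Commute.all _ _⟩

theorem dualHom_eps : dualHom X DualNumber.eps = X.incl 1 := DualNumber.lift_apply_eps _

/-- the `k[ε]`-algebra structure on the middle ring of an extension of `B₀` by `B₀`. -/
@[instance_reducible]
noncomputable def algD : Algebra (Art.dual k k) X.E :=
  RingHom.toAlgebra (show (Art.dual k k) →+* X.E from (dualHom X).toRingHom)

theorem algD_eps : letI := algD X; algebraMap (Art.dual k k) X.E epsD = X.incl 1 := dualHom_eps X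

theorem algD_algebraMap (c : k) : letI := algD X
    algebraMap (Art.dual k k) X.E (algebraMap k _ c) = algebraMap k X.E c := (dualHom X).commutes c

theorem incl_one_mul (x : X.E) : X.incl 1 * x = X.incl (X.proj x) := by
  rw [mul_comm, X.isExtension.mul_incl, smul_eq_mul, mul_one]

theorem flat_algD : letI := algD X; Module.Flat (Art.dual k k) X.E := by
  letI := algD X
  set I := maximalIdeal (Art.dual k k) with hI
  have hII : I * I = ⊥ := by
    rw [hI, maximalIdeal_dual, Ideal.span_singleton_mul_span_singleton, epsD_mul_self,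
      Ideal.span_singleton_eq_bot]
  haveI : Module.Flat (Art.dual k k ⧸ I) ((Art.dual k k ⧸ I) ⊗[Art.dual k k] X.E) := by
    letI : Field (Art.dual k k ⧸ I) := Ideal.Quotient.field I
    infer_instance
  refine Groth.Agent.Lib.Helper84.flat_of_sq_zero I X.E hII ?_
  have hεI : (epsD : Art.dual k k) ∈ I := by
    rw [hI, maximalIdeal_dual]
    exact Ideal.mem_span_singleton_self _
  let εI : I := ⟨epsD, hεI⟩
  have hform : ∀ x : I ⊗[Art.dual k k] X.E, ∃ m : X.E, x = εI ⊗ₜ m := by
    intro x
    induction x using TensorProduct.induction_on with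
    | zero => exact ⟨0, (TensorProduct.tmul_zero _ _).symm⟩
    | tmul a m =>
      have ha : (a : Art.dual k k) ∈ Ideal.span {(epsD : Art.dual k k)} := by
        rw [← maximalIdeal_dual]
        exact a.2
      rw [Ideal.mem_span_singleton'] at ha
      obtain ⟨c, hc⟩ := ha
      refine ⟨c • m, ?_⟩
      rw [TensorProduct.tmul_smul, TensorProduct.smul_tmul']
      congr 1
      exact Subtype.ext hc.symm
    | add x y hx hy =>
      obtain ⟨m, rfl⟩ := hx
      obtain ⟨m', rfl⟩ := hy
      exact ⟨m + m', (TensorProduct.tmul_add _ _ _).symm⟩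
  rw [injective_iff_map_eq_zero]
  intro x hx
  obtain ⟨m, rfl⟩ := hform x
  rw [LinearMap.rTensor_tmul] at hx
  have h1 : (epsD : Art.dual k k) • m = 0 := by
    have := congrArg (TensorProduct.lid (Art.dual k k) X.E) hx
    rw [TensorProduct.lid_tmul, map_zero] at this
    exact this
  have h2 : X.incl 1 * m = 0 := by
    rw [← algD_eps X, ← Algebra.smul_def]
    exact h1
  rw [incl_one_mul, ← map_zero X.incl] at h2
  have h3 : X.proj m = 0 := X.isExtension.incl_injective h2
  obtain ⟨b, rfl⟩ := (X.isExtension.exact m).mp h3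
  obtain ⟨y, rfl⟩ := X.isExtension.proj_surjective b
  rw [← incl_one_mul, ← algD_eps X, ← Algebra.smul_def, TensorProduct.tmul_smul,
    TensorProduct.smul_tmul']
  have h4 : (epsD : Art.dual k k) • εI = 0 := Subtype.ext epsD_mul_self
  rw [h4, TensorProduct.zero_tmul]

/-- first-order deformation data attached to an extension of `B₀` by `B₀`. -/
noncomputable def ofExt : RingDef B₀ (Art.dual k k) :=
  letI := algD X
  haveI := flat_algD X
  { B := X.E
    q := X.proj
    q_surj := X.isExtension.proj_surjective
    ker_q := by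
      rw [maximalIdeal_dual, Ideal.map_span, Set.image_singleton, algD_eps]
      ext x
      rw [RingHom.mem_ker, Ideal.mem_span_singleton']
      constructor
      · intro hx
        obtain ⟨b, rfl⟩ := (X.isExtension.exact x).mp hx
        obtain ⟨y, rfl⟩ := X.isExtension.proj_surjective b
        exact ⟨y, by rw [mul_comm, incl_one_mul]⟩
      · rintro ⟨y, rfl⟩
        rw [mul_comm, incl_one_mul]
        exact (X.isExtension.exact _).mpr ⟨_, rfl⟩
    q_alg := by
      intro a
      obtain ⟨b, ha⟩ := decomp a
      have h1 : X.proj (X.incl 1) = 0 := (X.isExtension.exact _).mpr ⟨_, rfl⟩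
      conv_lhs => rw [ha]
      rw [map_add, map_mul, algD_algebraMap, algD_algebraMap, algD_eps, map_add, map_mul]
      show X.proj (algebraMap k X.E _) + X.proj (algebraMap k X.E b) * X.proj (X.incl 1) = _
      rw [h1, mul_zero, add_zero, AlgHom.commutes] }

end ofExt

section compare

theorem equiv_of_iso (R R' : RingDef B₀ (Art.dual k k)) (e : R.toDefSch.Iso R'.toDefSch) :
    Nonempty (Exal.Ext.Equiv (toExt R) (toExt R')) := by
  obtain ⟨φ, hA, hq⟩ := exists_ringEquiv_of_iso R R' e
  let ψ : (toExt R).E ≃ₐ[k] (toExt R').E :=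
    AlgEquiv.ofRingEquiv (f := (show (toExt R).E ≃+* (toExt R').E from φ)) (fun c => hA _)
  refine ⟨⟨ψ, fun x => hq x, fun z => ?_⟩⟩
  show φ (epsB R * sec R z) = epsB R' * sec R' z
  rw [map_mul]
  have h1 : φ (epsB R) = epsB R' := hA epsD
  rw [h1]
  exact epsB_mul_eq R' (by rw [hq, q_sec, q_sec])

theorem iso_of_equiv (R R' : RingDef B₀ (Art.dual k k))
    (e : Exal.Ext.Equiv (toExt R) (toExt R')) : Nonempty (R.toDefSch.Iso R'.toDefSch) := by
  let φ : R.B ≃+* R'.B := (show (toExt R).E ≃+* (toExt R').E from e.toAlgEquiv.toRingEquiv)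
  have h1 : ∀ c : k, φ (algebraMap (Art.dual k k) R.B (algebraMap k (Art.dual k k) c)) =
      algebraMap (Art.dual k k) R'.B (algebraMap k (Art.dual k k) c) :=
    fun c => e.toAlgEquiv.commutes c
  have h2 : φ (epsB R) = epsB R' := by
    rw [← toExt_incl_one R, ← toExt_incl_one R']
    exact e.apply_incl 1
  refine iso_of_ringEquiv R R' φ ?_ ?_
  · intro a
    obtain ⟨b, ha⟩ := decomp a
    have h2' : φ (algebraMap (Art.dual k k) R.B epsD) = algebraMap (Art.dual k k) R'.B epsD := h2
    rw [ha, map_add, map_mul, map_add, map_mul, map_add, map_mul, h1, h1, h2']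
  · intro b
    exact e.proj_apply b

theorem toExt_ofExt (X : Exal.Ext k B₀ B₀) : Nonempty (Exal.Ext.Equiv (toExt (ofExt X)) X) := by
  let ψ : (toExt (ofExt X)).E ≃ₐ[k] X.E :=
    AlgEquiv.ofRingEquiv (f := (show (toExt (ofExt X)).E ≃+* X.E from RingEquiv.refl X.E))
      (fun c => algD_algebraMap X c)
  refine ⟨⟨ψ, fun x => rfl, fun z => ?_⟩⟩
  show epsB (ofExt X) * sec (ofExt X) z = X.incl z
  have h1 : epsB (ofExt X) = X.incl 1 := algD_eps X
  obtain ⟨y, hy⟩ : ∃ y : X.E, y = sec (ofExt X) z := ⟨_, rfl⟩
  have hy' : X.proj y = z := by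
    rw [hy]
    exact q_sec (ofExt X) z
  have h2 : X.incl 1 * y = X.incl z := by
    rw [incl_one_mul, hy']
  rw [← h2, hy]
  exact congrArg (fun t => t * sec (ofExt X) z) h1

variable (k B₀) in
/-- classes of first-order deformations of `Spec B₀` are classes of extensions of `B₀` by `B₀`. -/
theorem nonempty_equiv :
    Nonempty ((defFunctor (Λ := k) (Spec (CommRingCat.of B₀))
        (Spec.map (CommRingCat.ofHom (algebraMap k B₀)))).obj (Art.dual k k) ≃
      Exal.Exalcom k B₀ B₀) := by
  classical
  let rd : DefSch (Spec (CommRingCat.of B₀)) (Spec.map (CommRingCat.ofHom (algebraMap k B₀)))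
      (Art.dual k k) → RingDef B₀ (Art.dual k k) := fun ξ => Classical.choose (exists_ringDef ξ)
  have hrd : ∀ ξ : DefSch (Spec (CommRingCat.of B₀))
      (Spec.map (CommRingCat.ofHom (algebraMap k B₀))) (Art.dual k k),
      Nonempty (DefSch.Iso ξ (rd ξ).toDefSch) :=
    fun ξ => Classical.choose_spec (exists_ringDef ξ)
  let F : (defFunctor (Λ := k) (Spec (CommRingCat.of B₀))
      (Spec.map (CommRingCat.ofHom (algebraMap k B₀)))).obj (Art.dual k k) →
      Exal.Exalcom k B₀ B₀ :=
    Quotient.lift (fun ξ => (toExt (rd ξ)).cl) (by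
      rintro ξ ξ' ⟨e⟩
      obtain ⟨e1⟩ := hrd ξ
      obtain ⟨e2⟩ := hrd ξ'
      exact Quotient.sound (equiv_of_iso _ _ ((e1.symm.trans e).trans e2)))
  refine ⟨Equiv.ofBijective F ⟨?_, ?_⟩⟩
  · intro x y hxy
    induction x using Quotient.inductionOn with
    | h ξ =>
      induction y using Quotient.inductionOn with
      | h ξ' =>
        have h1 : Nonempty (Exal.Ext.Equiv (toExt (rd ξ)) (toExt (rd ξ'))) := Quotient.exact hxy
        obtain ⟨e⟩ := h1
        obtain ⟨e'⟩ := iso_of_equiv _ _ e
        obtain ⟨e1⟩ := hrd ξ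
        obtain ⟨e2⟩ := hrd ξ'
        exact Quotient.sound ⟨(e1.trans e').trans e2.symm⟩
  · intro y
    induction y using Quotient.inductionOn with
    | h X =>
      refine ⟨Quotient.mk _ (ofExt X).toDefSch, ?_⟩
      obtain ⟨e1⟩ := hrd (ofExt X).toDefSch
      obtain ⟨e2⟩ := equiv_of_iso _ _ e1.symm
      obtain ⟨e3⟩ := toExt_ofExt X
      exact Quotient.sound ⟨e2.trans e3⟩

end compare

end Groth.Agent.Lib.Helper59.AffDefDual
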