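import Groth.Agent.Lib.Helper59.ArtFun5
import Mathlib.RingTheory.AdicCompletion.RingHom
import Mathlib.RingTheory.Artinian.Ring
import Mathlib.RingTheory.Jacobson.Ideal

set_option autoImplicit false
universe u v

open CategoryTheory

namespace Groth.Agent.Lib.Helper59

open ArtFun ArtFun.Art

variable {Λ : Type u} {k : Type u} [CommRing Λ] [Field k] [Algebra Λ k]

/-- A compatible system of maps into the truncations of a complete coefficient ring has a limit. -/
theorem exists_limit_hom (S : CRing Λ k) {R : Type u} [CommRing R] [Algebra Λ R] {resR : R →ₐ[Λ] k}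
    (φ : ∀ n, HomSet R resR (S.trunc n)) (hφ : ∀ n, HomSet.map (S.truncMap n) (φ (n + 1)) = φ n) :
    ∃ g : R →ₐ[Λ] S.carrier, S.res.comp g = resR ∧ ∀ n, (S.truncHom n).1.comp g = (φ n).1 := by
  have : IsAdicComplete (IsLocalRing.maximalIdeal S.carrier) S.carrier := S.isAdicComplete
  let a : ℕ → ℕ := fun n => n + 1
  have ha : StrictMono a := fun m n h => Nat.succ_lt_succ h
  let f : (n : ℕ) → R →+* S.carrier ⧸ IsLocalRing.maximalIdeal S.carrier ^ a n :=
    fun n => ((φ n).1 : R →+* (S.trunc n))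
  have hf : ∀ {m : ℕ}, (Ideal.Quotient.factorPow (IsLocalRing.maximalIdeal S.carrier)
      (ha.monotone m.le_succ)).comp (f (m + 1)) = f m := by
    intro m
    ext x
    have h1 := congrArg (fun t : HomSet R resR (S.trunc m) => t.1 x) (hφ m)
    have h2 : (S.truncMap m).toAlgHom ((φ (m + 1)).1 x) = (φ m).1 x := h1
    change (Ideal.Quotient.factorPow (IsLocalRing.maximalIdeal S.carrier)
      (ha.monotone m.le_succ)) ((φ (m + 1)).1 x) = (φ m).1 x
    rw [← h2]
    obtain ⟨y, hy⟩ := Ideal.Quotient.mk_surjective (I := CRing.mpow S (m + 1)) ((φ (m + 1)).1 x)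
    rw [← hy]
    rfl
  let g₀ : R →+* S.carrier := IsAdicComplete.StrictMono.liftRingHom _ ha f hf
  have hg₀ : ∀ (n : ℕ) (x : R), Ideal.Quotient.mk (CRing.mpow S n) (g₀ x) = (φ n).1 x := fun n x =>
    IsAdicComplete.StrictMono.mk_liftRingHom (I := IsLocalRing.maximalIdeal S.carrier) ha f hf x
  have hcomm : ∀ c : Λ, g₀ (algebraMap Λ R c) = algebraMap Λ S.carrier c := by
    intro c
    have hH : IsHausdorff (IsLocalRing.maximalIdeal S.carrier) S.carrier := S.isAdicComplete.toIsHausdorff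
    rw [← sub_eq_zero]
    apply hH.haus
    intro n
    rw [SModEq.zero, smul_eq_mul, Ideal.mul_top]
    have h1 : Ideal.Quotient.mk (CRing.mpow S n) (g₀ (algebraMap Λ R c)) =
        Ideal.Quotient.mk (CRing.mpow S n) (algebraMap Λ S.carrier c) := by
      rw [hg₀]
      exact (φ n).1.commutes c
    rw [Ideal.Quotient.eq] at h1
    exact Ideal.pow_le_pow_right (Nat.le_succ n) h1
  let g : R →ₐ[Λ] S.carrier := { g₀ with commutes' := hcomm }
  have hg : ∀ n, (S.truncHom n).1.comp g = (φ n).1 := fun n => AlgHom.ext fun x => hg₀ n x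
  refine ⟨g, ?_, hg⟩
  rw [← (φ 0).2, ← hg 0, ← AlgHom.comp_assoc, (S.truncHom 0).2]

/-- Every augmentation-compatible map from a coefficient ring to an Artinian object factors through a truncation. -/
theorem exists_factor_trunc (R : CRing Λ k) (A : Art Λ k) (u : HomSet R.carrier R.res A) :
    ∃ (n : ℕ) (ū : R.trunc n ⟶ A), HomSet.map ū (R.truncHom n) = u := by
  have hnil : IsNilpotent (IsLocalRing.maximalIdeal A) := by
    have := IsArtinianRing.isNilpotent_jacobson_bot (R := A)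
    rwa [IsLocalRing.jacobson_eq_maximalIdeal _ bot_ne_top] at this
  obtain ⟨N, hN⟩ := hnil
  have hmax : ∀ a : R.carrier, a ∈ IsLocalRing.maximalIdeal R.carrier → u.1 a ∈ IsLocalRing.maximalIdeal A := by
    intro a ha
    rw [Art.mem_maximalIdeal_iff]
    have := congrArg (fun t : R.carrier →ₐ[Λ] k => t a) u.2
    have h2 : A.res (u.1 a) = R.res a := this
    rw [h2]
    exact (CRing.mem_maximalIdeal_iff R a).1 ha
  have hkill : ∀ a : R.carrier, a ∈ CRing.mpow R N → u.1 a = 0 := by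
    intro a ha
    have h1 : (IsLocalRing.maximalIdeal R.carrier).map (u.1 : R.carrier →+* A) ≤ IsLocalRing.maximalIdeal A :=
      Ideal.map_le_iff_le_comap.2 hmax
    have h2 : u.1 a ∈ (IsLocalRing.maximalIdeal A) ^ (N + 1) := by
      have : u.1 a ∈ ((IsLocalRing.maximalIdeal R.carrier).map (u.1 : R.carrier →+* A)) ^ (N + 1) := by
        rw [← Ideal.map_pow]
        exact Ideal.mem_map_of_mem _ ha
      exact Ideal.pow_right_mono h1 _ this
    have h3 : (IsLocalRing.maximalIdeal A) ^ (N + 1) = ⊥ := by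
      rw [pow_succ, hN]; simp
    rw [h3] at h2
    exact (Ideal.mem_bot).1 h2
  let ū₀ : (R.carrier ⧸ CRing.mpow R N) →ₐ[Λ] A := Ideal.Quotient.liftₐ (CRing.mpow R N) u.1 hkill
  have hres : A.res.comp ū₀ = (R.trunc N).res := by
    apply AlgHom.ext
    intro x
    obtain ⟨a, rfl⟩ := Ideal.Quotient.mk_surjective x
    have := congrArg (fun t : R.carrier →ₐ[Λ] k => t a) u.2
    exact this
  refine ⟨N, ⟨ū₀, hres⟩, ?_⟩
  apply Subtype.ext
  apply AlgHom.ext
  intro a
  rfl

/-- A (strongly) versal family covers any other family along a morphism of functors. -/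
theorem exists_along_eq_push {F₁ F₂ : Art Λ k ⥤ Type v} (f : F₁ ⟶ F₂)
    (R₁ : CRing Λ k) (ξ₁ : Family R₁.carrier R₁.res F₁)
    (R₂ : CRing Λ k) (ξ₂ : Family R₂.carrier R₂.res F₂) (hξ₂ : IsVersal ξ₂)
    (hsurj : ∀ A : Art Λ k, Function.Surjective (ξ₂.app A)) :
    ∃ (φ : R₂.carrier →ₐ[Λ] R₁.carrier) (hφ : R₁.res.comp φ = R₂.res),
      ∀ (A : Art Λ k) (u : HomSet R₁.carrier R₁.res A),
        (ξ₂.along φ hφ).app A u = f.app A (ξ₁.app A u) := by
  let P : ∀ n : ℕ, HomSet R₂.carrier R₂.res (R₁.trunc n) → Prop := fun n φ =>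
    ξ₂.app _ φ = f.app _ (ξ₁.app _ (R₁.truncHom n))
  obtain ⟨φ₀, hφ₀⟩ := hsurj (R₁.trunc 0) (f.app _ (ξ₁.app _ (R₁.truncHom 0)))
  have step : ∀ (n : ℕ) (φ : {φ : HomSet R₂.carrier R₂.res (R₁.trunc n) // P n φ}),
      ∃ ψ : {ψ : HomSet R₂.carrier R₂.res (R₁.trunc (n + 1)) // P (n + 1) ψ},
        HomSet.map (R₁.truncMap n) ψ.1 = φ.1 := by
    rintro n ⟨φ, hφ⟩
    have hsm : Function.Surjective (R₁.truncMap n) := by
      intro x
      obtain ⟨a, rfl⟩ := Ideal.Quotient.mk_surjective x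
      exact ⟨Ideal.Quotient.mk _ a, rfl⟩
    have hy : F₂.map (R₁.truncMap n) (f.app _ (ξ₁.app _ (R₁.truncHom (n + 1)))) = ξ₂.app _ φ := by
      rw [hφ, ← NatTrans.naturality_apply f, ← ξ₁.natural, CRing.truncMap_truncHom]
    obtain ⟨ψ, hψ1, hψ2⟩ := hξ₂ (R₁.truncMap n) hsm φ _ hy
    exact ⟨⟨ψ, hψ2⟩, hψ1⟩
  choose next hnext using step
  let seq : ∀ n : ℕ, {φ : HomSet R₂.carrier R₂.res (R₁.trunc n) // P n φ} :=
    fun n => Nat.rec ⟨φ₀, hφ₀⟩ (fun n φ => next n φ) n
  have hseq : ∀ n, HomSet.map (R₁.truncMap n) (seq (n + 1)).1 = (seq n).1 := fun n => hnext n (seq n)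
  obtain ⟨φ, hφres, hφn⟩ := exists_limit_hom R₁ (fun n => (seq n).1) hseq
  refine ⟨φ, hφres, ?_⟩
  intro A u
  obtain ⟨n, ū, rfl⟩ := exists_factor_trunc R₁ A u
  have e : (⟨(HomSet.map ū (R₁.truncHom n)).1.comp φ, by
      rw [← AlgHom.comp_assoc, (HomSet.map ū (R₁.truncHom n)).2, hφres]⟩ :
      HomSet R₂.carrier R₂.res A) = HomSet.map ū (seq n).1 := by
    apply Subtype.ext
    change (ū.toAlgHom.comp (R₁.truncHom n).1).comp φ = ū.toAlgHom.comp (seq n).1.1
    rw [AlgHom.comp_assoc, hφn n]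
  change ξ₂.app A _ = _
  rw [e, ξ₂.natural, (seq n).2, ← NatTrans.naturality_apply f, ← ξ₁.natural]

end Groth.Agent.Lib.Helper59
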