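import Groth.Agent.Lib.Helper59.ArtFun5
import Mathlib.LinearAlgebra.Dual.Lemmas

/-!
Separating two maps into a square-zero object of `Art k k` by a map to the dual numbers (helper59).
-/

set_option autoImplicit false
universe u v

open CategoryTheory

namespace Groth.Agent.Lib.Helper59

open ArtFun ArtFun.Art

variable {k : Type u} [Field k]

theorem sepHom_mul_aux (T : Art k k) (hsq : ∀ a b : T, T.res a = 0 → T.res b = 0 → a * b = 0)
    (lam : T →ₗ[k] k) (h1 : lam 1 = 0) (s t : T) :
    lam (s * t) = T.res s * lam t + T.res t * lam s := by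
  have hdec : ∀ s : T, T.res (s - algebraMap k T (T.res s)) = 0 := fun s => by
    rw [map_sub, AlgHom.commutes]; simp
  have hlam : ∀ s : T, lam (s - algebraMap k T (T.res s)) = lam s := fun s => by
    rw [map_sub, Algebra.algebraMap_eq_smul_one, map_smul, h1, smul_zero, sub_zero]
  have h0 := hsq _ _ (hdec s) (hdec t)
  have e : s * t = algebraMap k T (T.res s * T.res t) + T.res s • (t - algebraMap k T (T.res t))
      + T.res t • (s - algebraMap k T (T.res s)) := by
    have : s * t = (algebraMap k T (T.res s) + (s - algebraMap k T (T.res s))) *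
        (algebraMap k T (T.res t) + (t - algebraMap k T (T.res t))) := by ring
    rw [this, add_mul, mul_add, mul_add, h0, add_zero, map_mul, Algebra.smul_def, Algebra.smul_def]
    ring
  rw [e, map_add, map_add, map_smul, map_smul, hlam, hlam, Algebra.algebraMap_eq_smul_one, map_smul, h1]
  simp

/-- For a square-zero object `T` of `Art k k` and a functional vanishing at `1`, the map `t ↦ res t + λ(t) ε`. -/
noncomputable def sepHom (T : Art k k) (hsq : ∀ a b : T, T.res a = 0 → T.res b = 0 → a * b = 0)
    (lam : T →ₗ[k] k) (h1 : lam 1 = 0) : T ⟶ dual k k :=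
  ⟨{ toFun := fun t => (T.res t, lam t)
     map_one' := TrivSqZeroExt.ext (map_one T.res) h1
     map_mul' := fun s t => TrivSqZeroExt.ext (map_mul T.res s t) (by
      change lam (s * t) = T.res s • lam t + MulOpposite.op (T.res t) • lam s
      rw [sepHom_mul_aux T hsq lam h1]; simp [mul_comm])
     map_zero' := TrivSqZeroExt.ext (map_zero T.res) (map_zero lam)
     map_add' := fun s t => TrivSqZeroExt.ext (map_add T.res s t) (map_add lam s t)
     commutes' := fun c => TrivSqZeroExt.ext (by
        change T.res (algebraMap k T c) = (algebraMap k (TrivSqZeroExt k k) c).fst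
        rw [AlgHom.commutes, TrivSqZeroExt.algebraMap_eq_inl', TrivSqZeroExt.fst_inl]) (by
        change lam (algebraMap k T c) = (algebraMap k (TrivSqZeroExt k k) c).snd
        rw [Algebra.algebraMap_eq_smul_one, map_smul, h1, TrivSqZeroExt.algebraMap_eq_inl',
          TrivSqZeroExt.snd_inl, smul_zero]) },
    AlgHom.ext fun _ => rfl⟩

theorem sepHom_apply_snd (T : Art k k) (hsq : ∀ a b : T, T.res a = 0 → T.res b = 0 → a * b = 0)
    (lam : T →ₗ[k] k) (h1 : lam 1 = 0) (t : T) :
    TrivSqZeroExt.snd ((sepHom T hsq lam h1).toAlgHom t) = lam t := rfl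

/-- If a family is injective on the dual numbers, it is injective on every square-zero object. -/
theorem app_injective_of_sqZero {F : Art k k ⥤ Type v}
    {R : Type u} [CommRing R] [Algebra k R] {resR : R →ₐ[k] k}
    (ξ : Family R resR F) (hinj : Function.Injective (ξ.app (dual k k)))
    (T : Art k k) (hsq : ∀ a b : T, T.res a = 0 → T.res b = 0 → a * b = 0) :
    Function.Injective (ξ.app T) := by
  intro φ₁ φ₂ h
  by_contra hne
  have : ∃ r : R, φ₁.1 r ≠ φ₂.1 r := by
    by_contra hall
    push Not at hall
    exact hne (Subtype.ext (AlgHom.ext hall))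
  obtain ⟨r, hr⟩ := this
  set x : T := φ₁.1 r - φ₂.1 r with hx
  have hx0 : x ≠ 0 := sub_ne_zero.mpr hr
  have hxres : T.res x = 0 := by
    have e1 := congrArg (fun t : R →ₐ[k] k => t r) φ₁.2
    have e2 := congrArg (fun t : R →ₐ[k] k => t r) φ₂.2
    have e1' : T.res (φ₁.1 r) = resR r := e1
    have e2' : T.res (φ₂.1 r) = resR r := e2
    rw [hx, map_sub, e1', e2', sub_self]
  have hxnot : x ∉ Submodule.span k ({1} : Set T) := by
    intro hmem
    obtain ⟨c, hc⟩ := Submodule.mem_span_singleton.mp hmem
    have : T.res x = c := by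
      rw [← hc, map_smul, map_one]; simp
    rw [hxres] at this
    rw [← this, zero_smul] at hc
    exact hx0 hc.symm
  obtain ⟨lam, hlam, hmap⟩ := Submodule.exists_dual_map_eq_bot_of_notMem hxnot inferInstance
  have h1 : lam 1 = 0 := by
    have : lam 1 ∈ (Submodule.span k ({1} : Set T)).map lam :=
      Submodule.mem_map_of_mem (Submodule.subset_span rfl)
    rw [hmap] at this
    exact (Submodule.mem_bot k).mp this
  have key : HomSet.map (sepHom T hsq lam h1) φ₁ = HomSet.map (sepHom T hsq lam h1) φ₂ := by
    apply hinj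
    rw [ξ.natural, ξ.natural, h]
  have e := congrArg (fun t : HomSet R resR (dual k k) => TrivSqZeroExt.snd (t.1 r)) key
  have e' : lam (φ₁.1 r) = lam (φ₂.1 r) := e
  apply hlam
  rw [hx, map_sub, e', sub_self]

end Groth.Agent.Lib.Helper59

namespace Groth.Agent.Lib.Helper59

open ArtFun ArtFun.Art

variable {k : Type u} [Field k]

/-- The first truncation `S/m²` of a coefficient ring is a square-zero object. -/
theorem trunc_one_sqZero (S : CRing k k) (a b : S.trunc 1) (ha : (S.trunc 1).res a = 0)
    (hb : (S.trunc 1).res b = 0) : a * b = 0 := by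
  have key : ∀ a b : S.carrier ⧸ CRing.mpow S 1,
      Ideal.Quotient.liftₐ (CRing.mpow S 1) S.res
        (fun a ha => (CRing.mem_maximalIdeal_iff S a).1 (CRing.mpow_le S 1 ha)) a = 0 →
      Ideal.Quotient.liftₐ (CRing.mpow S 1) S.res
        (fun a ha => (CRing.mem_maximalIdeal_iff S a).1 (CRing.mpow_le S 1 ha)) b = 0 → a * b = 0 := by
    intro a b ha hb
    obtain ⟨a', rfl⟩ := Ideal.Quotient.mk_surjective a
    obtain ⟨b', rfl⟩ := Ideal.Quotient.mk_surjective b
    have ha' : a' ∈ IsLocalRing.maximalIdeal S.carrier := (CRing.mem_maximalIdeal_iff S a').2 ha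
    have hb' : b' ∈ IsLocalRing.maximalIdeal S.carrier := (CRing.mem_maximalIdeal_iff S b').2 hb
    rw [← map_mul]
    apply Ideal.Quotient.eq_zero_iff_mem.2
    change a' * b' ∈ IsLocalRing.maximalIdeal S.carrier ^ (1 + 1)
    rw [pow_succ, pow_one]
    exact Ideal.mul_mem_mul ha' hb'
  exact key a b ha hb

end Groth.Agent.Lib.Helper59
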