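import Mathlib
import Groth.Prelude.Def_CAlgX
import Groth.Agent.Lib.Helper59.H1RegOfRegular

/-!
# Relations with coefficients in the ideal are Koszul relations, locally (helper59)

For a linear map `j : F → R` with image the ideal `I`, the trivial relations `triv j` are spanned by
`j a • b - j b • a`.  If `I` is, locally at every maximal ideal containing it, generated by an
`H₁`-regular sequence, then `ker j ⊓ I • ⊤ ≤ triv j`.
-/

set_option autoImplicit false
universe u

open scoped BigOperators

namespace Groth.Agent.Lib.Helper59.SyzLocal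

section Abstract

variable {R : Type*} [CommRing R] {F : Type*} [AddCommGroup F] [Module R F] (j : F →ₗ[R] R)

/-- trivial (Koszul) relations -/
def triv : Submodule R F := Submodule.span R {y | ∃ a b : F, y = j a • b - j b • a}

theorem triv_le_ker : triv j ≤ LinearMap.ker j := by
  refine Submodule.span_le.mpr ?_
  rintro _ ⟨a, b, rfl⟩
  simp [mul_comm]

theorem smul_mem_triv {q : F} (hq : j q = 0) {a : R} (ha : a ∈ LinearMap.range j) :
    a • q ∈ triv j := by
  obtain ⟨f, rfl⟩ := ha
  have : j f • q = j f • q - j q • f := by rw [hq, zero_smul, sub_zero]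
  rw [this]
  exact Submodule.subset_span ⟨f, q, rfl⟩

/-- the local step -/
theorem exists_smul_mem_triv_of_local {r : ℕ} (𝔫 : Ideal R) [𝔫.IsPrime] (f : Fin r → F)
    (u₀ : R) (hu₀ : u₀ ∉ 𝔫)
    (ha : ∀ y ∈ LinearMap.range j, u₀ * y ∈ Ideal.span (Set.range (fun i => j (f i))))
    (hb : ∀ α : Fin r → R, ∑ i, α i * j (f i) = 0 → ∃ u, u ∉ 𝔫 ∧
      u • α ∈ Submodule.span R {v : Fin r → R | ∃ i l : Fin r,
        v = Pi.single i (j (f l)) - Pi.single l (j (f i))})
    (x : F) (hx : j x = 0)
    (hxI : x ∈ (LinearMap.range j : Ideal R) • (⊤ : Submodule R F)) :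
    ∃ s, s ∉ 𝔫 ∧ s • x ∈ triv j := by
  -- Step 1
  have step1 : ∀ x ∈ (LinearMap.range j : Ideal R) • (⊤ : Submodule R F),
      ∃ α : Fin r → R, u₀ • x - ∑ i, α i • f i ∈ triv j := by
    intro x hx
    induction hx using Submodule.smul_induction_on' with
    | smul a ha' h _ =>
      have h1 := ha (j h) ⟨h, rfl⟩
      obtain ⟨c, hc⟩ := (Ideal.mem_span_range_iff_exists_fun (R := R)).mp h1
      have hq : j (u₀ • h - ∑ i, c i • f i) = 0 := by
        rw [map_sub, map_smul, map_sum, smul_eq_mul, ← hc, sub_eq_zero]
        refine Finset.sum_congr rfl fun i _ => ?_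
        rw [map_smul, smul_eq_mul]
      refine ⟨fun i => a * c i, ?_⟩
      have h2 : u₀ • a • h - ∑ i, (a * c i) • f i = a • (u₀ • h - ∑ i, c i • f i) := by
        rw [smul_sub, Finset.smul_sum, smul_comm u₀ a h]
        congr 1
        refine Finset.sum_congr rfl fun i _ => ?_
        rw [mul_smul]
      rw [h2]
      exact smul_mem_triv j hq ha'
    | add x _ y _ ihx ihy =>
      obtain ⟨α, hα⟩ := ihx
      obtain ⟨β, hβ⟩ := ihy
      refine ⟨α + β, ?_⟩
      have h2 : u₀ • (x + y) - ∑ i, (α + β) i • f i =
          (u₀ • x - ∑ i, α i • f i) + (u₀ • y - ∑ i, β i • f i) := by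
        simp only [Pi.add_apply, add_smul, Finset.sum_add_distrib, smul_add]
        abel
      rw [h2]
      exact add_mem hα hβ
  obtain ⟨α, hα⟩ := step1 x hxI
  have ht : j (u₀ • x - ∑ i, α i • f i) = 0 := triv_le_ker j hα
  have hsyz : ∑ i, α i * j (f i) = 0 := by
    rw [map_sub, map_smul, hx, smul_zero, zero_sub, neg_eq_zero, map_sum] at ht
    rw [← ht]
    refine Finset.sum_congr rfl fun i _ => ?_
    rw [map_smul, smul_eq_mul]
  obtain ⟨u, hu, huα⟩ := hb α hsyz
  -- the map `β ↦ ∑ β i • f i` sends Koszul relations into `triv j`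
  have hΦ : Submodule.span R {v : Fin r → R | ∃ i l : Fin r,
      v = Pi.single i (j (f l)) - Pi.single l (j (f i))} ≤
      (triv j).comap (Fintype.linearCombination R f) := by
    refine Submodule.span_le.mpr ?_
    rintro _ ⟨i, l, rfl⟩
    change Fintype.linearCombination R f _ ∈ triv j
    rw [map_sub, Fintype.linearCombination_apply_single, Fintype.linearCombination_apply_single]
    exact Submodule.subset_span ⟨f l, f i, rfl⟩
  have h3 : u • ∑ i, α i • f i ∈ triv j := by
    have := hΦ huα
    change Fintype.linearCombination R f (u • α) ∈ triv j at this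
    rw [map_smul, Fintype.linearCombination_apply] at this
    exact this
  refine ⟨u * u₀, fun hmem => ?_, ?_⟩
  · rcases (Ideal.IsPrime.mem_or_mem inferInstance hmem) with h | h
    · exact hu h
    · exact hu₀ h
  · have h4 : (u * u₀) • x = u • (u₀ • x - ∑ i, α i • f i) + u • ∑ i, α i • f i := by
      rw [← smul_add, sub_add_cancel, mul_smul]
    rw [h4]
    exact add_mem (Submodule.smul_mem _ _ hα) h3

/-- glueing over maximal ideals -/
theorem mem_triv_of_forall_maximal (x : F)
    (h : ∀ 𝔫 : Ideal R, 𝔫.IsMaximal → ∃ s, s ∉ 𝔫 ∧ s • x ∈ triv j) : x ∈ triv j := by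
  let a : Ideal R := (triv j).comap (LinearMap.toSpanSingleton R F x)
  have hmem : ∀ s, s ∈ a ↔ s • x ∈ triv j := fun s => Iff.rfl
  by_contra hx
  have hne : a ≠ ⊤ := by
    intro htop
    have h1 : (1 : R) ∈ a := by rw [htop]; exact Submodule.mem_top
    rw [hmem, one_smul] at h1
    exact hx h1
  obtain ⟨𝔫, hmax, hle⟩ := Ideal.exists_le_maximal a hne
  obtain ⟨s, hs, hsx⟩ := h 𝔫 hmax
  exact hs (hle ((hmem s).mpr hsx))

end Abstract

section LocalData

variable {R : Type u} [CommRing R] [IsDomain R] [IsNoetherianRing R] (𝔫 : Ideal R) [𝔫.IsPrime]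
  (I : Ideal R)

local notation "S" => Localization.AtPrime 𝔫

theorem algebraMap_injective : Function.Injective (algebraMap R S) :=
  IsLocalization.injective S (Ideal.primeCompl_le_nonZeroDivisors 𝔫)

/-- From a weakly regular sequence generating `I S`, get elements of `I` that generate `I` locally
at `𝔫` and whose syzygies are locally Koszul. -/
theorem local_data (rs : List S) (hreg : RingTheory.Sequence.IsWeaklyRegular S rs)
    (hI : Ideal.ofList rs = I.map (algebraMap R S)) :
    ∃ g : Fin rs.length → R, (∀ i, g i ∈ I) ∧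
      (∃ u₀, u₀ ∉ 𝔫 ∧ ∀ y ∈ I, u₀ * y ∈ Ideal.span (Set.range g)) ∧
      (∀ α : Fin rs.length → R, ∑ i, α i * g i = 0 → ∃ u, u ∉ 𝔫 ∧
        u • α ∈ Submodule.span R {v : Fin rs.length → R | ∃ i l : Fin rs.length,
          v = Pi.single i (g l) - Pi.single l (g i)}) := by
  classical
  have inj := algebraMap_injective 𝔫
  have hρ : ∀ i : Fin rs.length, rs[i.val] ∈ I.map (algebraMap R S) := by
    intro i
    rw [← hI]
    exact Submodule.subset_span (List.getElem_mem i.2)
  have hex : ∀ i : Fin rs.length, ∃ x' : I × 𝔫.primeCompl,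
      rs[i.val] * algebraMap R S x'.2 = algebraMap R S x'.1 := fun i =>
    (IsLocalization.mem_map_algebraMap_iff 𝔫.primeCompl S).mp (hρ i)
  choose gu hgu using hex
  let g : Fin rs.length → R := fun i => ((gu i).1 : R)
  let u : Fin rs.length → R := fun i => ((gu i).2 : R)
  have hg : ∀ i, g i ∈ I := fun i => (gu i).1.2
  have hu : ∀ i, u i ∈ 𝔫.primeCompl := fun i => (gu i).2.2
  have hU : ∀ i, IsUnit (algebraMap R S (u i)) := fun i =>
    IsLocalization.map_units S (⟨u i, hu i⟩ : 𝔫.primeCompl)
  have hgu' : ∀ i, rs[i.val] * algebraMap R S (u i) = algebraMap R S (g i) := hgu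
  refine ⟨g, hg, ?_, ?_⟩
  · -- part (a)
    have hle : I.map (algebraMap R S) ≤ (Ideal.span (Set.range g)).map (algebraMap R S) := by
      rw [← hI]
      refine Submodule.span_le.mpr ?_
      intro x hx
      obtain ⟨i, hi, rfl⟩ := List.getElem_of_mem hx
      have h1 : rs[i] * algebraMap R S (u ⟨i, hi⟩) ∈
          (Ideal.span (Set.range g)).map (algebraMap R S) := by
        rw [hgu' ⟨i, hi⟩]
        exact Ideal.mem_map_of_mem _ (Ideal.subset_span ⟨⟨i, hi⟩, rfl⟩)
      exact (Ideal.mul_unit_mem_iff_mem _ (hU ⟨i, hi⟩)).mp h1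
    have hloc : ∀ y ∈ I, ∃ v, v ∈ 𝔫.primeCompl ∧ v * y ∈ Ideal.span (Set.range g) := by
      intro y hy
      have h1 : algebraMap R S y ∈ (Ideal.span (Set.range g)).map (algebraMap R S) :=
        hle (Ideal.mem_map_of_mem _ hy)
      obtain ⟨⟨c, v⟩, hcv⟩ := (IsLocalization.mem_map_algebraMap_iff 𝔫.primeCompl S).mp h1
      refine ⟨v, v.2, ?_⟩
      have h2 : (v : R) * y = c := by
        apply inj
        rw [map_mul, mul_comm]
        exact hcv
      rw [h2]
      exact c.2
    obtain ⟨Y, hY⟩ := (IsNoetherian.noetherian I : I.FG)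
    let v' : R → R := fun y => if hy : y ∈ I then (hloc y hy).choose else 1
    have hv'M : ∀ y, v' y ∈ 𝔫.primeCompl := by
      intro y
      by_cases hy : y ∈ I
      · simp only [v', dif_pos hy]
        exact (hloc y hy).choose_spec.1
      · simp only [v', dif_neg hy]
        exact Submonoid.one_mem _
    have hv'G : ∀ y ∈ I, v' y * y ∈ Ideal.span (Set.range g) := by
      intro y hy
      simp only [v', dif_pos hy]
      exact (hloc y hy).choose_spec.2
    refine ⟨∏ y ∈ Y, v' y, ?_, ?_⟩
    · have : (∏ y ∈ Y, v' y) ∈ 𝔫.primeCompl := prod_mem fun y _ => hv'M y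
      exact this
    · intro y hy
      rw [← hY] at hy
      induction hy using Submodule.span_induction with
      | mem y hyY =>
        have hyI : y ∈ I := by rw [← hY]; exact Submodule.subset_span hyY
        rw [← Finset.mul_prod_erase Y v' hyY, mul_comm (v' y), mul_assoc]
        exact Ideal.mul_mem_left _ _ (hv'G y hyI)
      | zero => rw [mul_zero]; exact zero_mem _
      | add x y _ _ hx hy => rw [mul_add]; exact add_mem hx hy
      | smul a x _ hx =>
        rw [smul_eq_mul, mul_left_comm]
        exact Ideal.mul_mem_left _ _ hx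
  · -- part (b)
    intro α hα
    have hH1 := Groth.Agent.Lib.Helper59.H1RegOfRegular.isH1Regular_of_isWeaklyRegular rs hreg
    let a : Fin rs.length → S := fun i => algebraMap R S (α i) * algebraMap R S (u i)
    have ha : ∑ i, a i * rs[i.val] = 0 := by
      have h1 : ∀ i : Fin rs.length, a i * rs[i.val] = algebraMap R S (α i * g i) := by
        intro i
        rw [map_mul, ← hgu' i]
        simp only [a]
        ring
      rw [Finset.sum_congr rfl fun i _ => h1 i, ← map_sum, hα, map_zero]
    have hmem := hH1 a ha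
    -- descent of the span
    have key : ∀ β ∈ Submodule.span S {v : Fin rs.length → S | ∃ i l : Fin rs.length,
        v = Pi.single i (rs[l.val]) - Pi.single l (rs[i.val])},
        ∃ v, v ∈ 𝔫.primeCompl ∧ ∃ γ ∈ Submodule.span R {v : Fin rs.length → R |
          ∃ i l : Fin rs.length, v = Pi.single i (g l) - Pi.single l (g i)},
          ∀ i, algebraMap R S v * β i = algebraMap R S (γ i) * algebraMap R S (u i) := by
      intro β hβ
      induction hβ using Submodule.span_induction with
      | mem β hβ =>
        obtain ⟨i₀, l₀, rfl⟩ := hβ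
        refine ⟨u i₀ * u l₀, Submonoid.mul_mem _ (hu i₀) (hu l₀),
          Pi.single i₀ (g l₀) - Pi.single l₀ (g i₀), Submodule.subset_span ⟨i₀, l₀, rfl⟩, ?_⟩
        intro i
        simp only [Pi.sub_apply, Pi.single_apply]
        by_cases h1 : i = i₀ <;> by_cases h2 : i = l₀
        · subst h1; subst h2; simp
        · subst h1
          simp only [if_true, if_neg h2, sub_zero, map_mul]
          rw [← hgu' l₀]; ring
        · subst h2
          simp only [if_neg h1, if_true, zero_sub, map_mul, map_neg]
          rw [← hgu' i₀]; ring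
        · simp [if_neg h1, if_neg h2]
      | zero =>
        exact ⟨1, Submonoid.one_mem _, 0, zero_mem _, fun i => by simp⟩
      | add β β' _ _ hβ hβ' =>
        obtain ⟨v, hv, γ, hγ, h⟩ := hβ
        obtain ⟨v', hv', γ', hγ', h'⟩ := hβ'
        refine ⟨v * v', Submonoid.mul_mem _ hv hv', v' • γ + v • γ',
          add_mem (Submodule.smul_mem _ _ hγ) (Submodule.smul_mem _ _ hγ'), ?_⟩
        intro i
        simp only [Pi.add_apply, Pi.smul_apply, smul_eq_mul, map_add, map_mul]
        have e1 := h i
        have e2 := h' i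
        calc algebraMap R S v * algebraMap R S v' * (β i + β' i)
            = algebraMap R S v' * (algebraMap R S v * β i) +
              algebraMap R S v * (algebraMap R S v' * β' i) := by ring
          _ = _ := by rw [e1, e2]; ring
      | smul s β _ hβ =>
        obtain ⟨v, hv, γ, hγ, h⟩ := hβ
        obtain ⟨⟨c, w⟩, hcw⟩ := IsLocalization.surj 𝔫.primeCompl s
        refine ⟨w * v, Submonoid.mul_mem _ w.2 hv, c • γ, Submodule.smul_mem _ _ hγ, ?_⟩
        intro i
        simp only [Pi.smul_apply, smul_eq_mul, map_mul]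
        have e1 := h i
        calc algebraMap R S w * algebraMap R S v * (s * β i)
            = (s * algebraMap R S w) * (algebraMap R S v * β i) := by ring
          _ = _ := by rw [hcw, e1]; ring
    obtain ⟨v, hv, γ, hγ, h⟩ := key a hmem
    refine ⟨v, hv, ?_⟩
    have hvα : v • α = γ := by
      funext i
      apply inj
      have e1 := h i
      simp only [a] at e1
      have e2 : (algebraMap R S v * algebraMap R S (α i)) * algebraMap R S (u i) =
          algebraMap R S (γ i) * algebraMap R S (u i) := by rw [← e1]; ring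
      have e3 := (hU i).mul_left_injective e2
      rw [Pi.smul_apply, smul_eq_mul, map_mul]
      exact e3
    rw [hvα]
    exact hγ

end LocalData

end Groth.Agent.Lib.Helper59.SyzLocal
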