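import Mathlib
import Groth.Prelude.Def_CotT
import Groth.Agent.Lib.Helper59.SyzLocal
import Groth.Agent.H8.RegLocalQuot

/-!
# Vanishing of `T²` for nonsingular algebras (helper59)

* `T2_subsingleton_of_injective_of_projective` : if `d₂` is injective and `I/I²` is projective then
  `T²(P, M) = 0` for all `M`.
* `d2_injective` : `d₂` is injective as soon as `Q ⊓ I F ≤ F₀`.
* `relKer_inf_le_trivRel` : the latter holds for a finite-type presentation over a field when all
  local rings of `B` are regular.
-/

set_option autoImplicit false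
universe u v w t m

open TensorProduct CotT

namespace Groth.Agent.Lib.Helper59.CotTSmooth

section General

variable {A : Type u} {B : Type v} {ι : Type w} {σ : Type t}
variable [CommRing A] [CommRing B] [Algebra A B]
variable (P : Algebra.Presentation A B ι σ)

theorem exists_one_tmul {N : Type*} [AddCommMonoid N] [Module P.toExtension.Ring N]
    (z : B ⊗[P.toExtension.Ring] N) : ∃ n : N, z = 1 ⊗ₜ n := by
  induction z using TensorProduct.induction_on with
  | zero => exact ⟨0, (TensorProduct.tmul_zero _ _).symm⟩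
  | tmul b n =>
    obtain ⟨r, rfl⟩ := P.toExtension.algebraMap_surjective b
    refine ⟨r • n, ?_⟩
    rw [TensorProduct.tmul_smul, TensorProduct.smul_tmul', Algebra.smul_def, mul_one]
  | add x y hx hy =>
    obtain ⟨n, rfl⟩ := hx
    obtain ⟨n', rfl⟩ := hy
    exact ⟨n + n', (TensorProduct.tmul_add _ _ _).symm⟩

/-- `1 ⊗ f = 0` in `L₁` forces the coefficients of `f` into the kernel. -/
theorem mem_ker_smul_top_of_one_tmul_eq_zero (f : relMod P)
    (hf : (1 : B) ⊗ₜ[P.toExtension.Ring] f = (0 : L1 P)) :
    f ∈ (P.toExtension.ker • (⊤ : Submodule P.toExtension.Ring (relMod P))) := by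
  classical
  have hcoef : ∀ s, f s ∈ P.toExtension.ker := by
    intro s
    have h1 := congrArg (fun z => (L1basis P).repr z s) hf
    simp only [L1basis, Algebra.TensorProduct.basis_repr_tmul, map_zero, Finsupp.coe_zero,
      Pi.zero_apply, one_smul] at h1
    change algebraMap P.toExtension.Ring B (f s) = 0
    simpa using h1
  have hsum : f = ∑ s ∈ f.support, (f s) • (Finsupp.single s (1 : P.toExtension.Ring)) := by
    conv_lhs => rw [← Finsupp.sum_single f]
    rw [Finsupp.sum]
    refine Finset.sum_congr rfl fun s _ => ?_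
    rw [Finsupp.smul_single, smul_eq_mul, mul_one]
  rw [hsum]
  exact Submodule.sum_mem _ fun s _ => Submodule.smul_mem_smul (hcoef s) Submodule.mem_top

/-- elements of `I • F` die in `L₁`. -/
theorem one_tmul_eq_zero_of_mem (f : relMod P)
    (hf : f ∈ (P.toExtension.ker • (⊤ : Submodule P.toExtension.Ring (relMod P)))) :
    (1 : B) ⊗ₜ[P.toExtension.Ring] f = (0 : L1 P) := by
  induction hf using Submodule.smul_induction_on' with
  | smul a ha h _ =>
    rw [TensorProduct.tmul_smul, TensorProduct.smul_tmul', Algebra.smul_def, mul_one]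
    have : algebraMap P.toExtension.Ring B a = 0 := ha
    rw [this, TensorProduct.zero_tmul]
  | add x _ y _ hx hy => rw [TensorProduct.tmul_add, hx, hy, add_zero]

theorem d2_injective
    (h : ∀ q ∈ relKer P, q ∈ (P.toExtension.ker • (⊤ : Submodule P.toExtension.Ring (relMod P))) →
      q ∈ trivRel P) : Function.Injective (d2 P) := by
  rw [injective_iff_map_eq_zero]
  intro x hx
  obtain ⟨z, rfl⟩ := Submodule.Quotient.mk_surjective _ x
  obtain ⟨q, rfl⟩ := exists_one_tmul P z
  rw [d2_mk_tmul] at hx
  have h1 := mem_ker_smul_top_of_one_tmul_eq_zero P (q : relMod P) hx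
  have h2 : (q : relMod P) ∈ trivRel P := h _ q.2 h1
  rw [Submodule.Quotient.mk_eq_zero]
  refine ⟨(1 : B) ⊗ₜ (⟨q, h2⟩ : trivRelKer P), ?_⟩
  rw [LinearMap.baseChange_tmul]
  rfl

theorem toCot_surjective : Function.Surjective (toCot P) := by
  intro y
  obtain ⟨x, rfl⟩ := Algebra.Extension.Cotangent.mk_surjective y
  have hx : (x : P.toExtension.Ring) ∈ LinearMap.range (jmap P) := by
    rw [range_jmap]; exact x.2
  obtain ⟨f, hf⟩ := hx
  refine ⟨(1 : B) ⊗ₜ f, ?_⟩
  rw [toCot_tmul, one_smul]
  congr 1
  exact Subtype.ext hf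

theorem ker_toCot_le_range_d2 : LinearMap.ker (toCot P) ≤ LinearMap.range (d2 P) := by
  intro z hz
  obtain ⟨f, rfl⟩ := exists_one_tmul P z
  rw [LinearMap.mem_ker, toCot_tmul, one_smul, Algebra.Extension.Cotangent.mk_eq_zero_iff] at hz
  have hz' : jmap P f ∈ P.toExtension.ker ^ 2 := hz
  -- elements of `I²` are `j` of elements of `I F`
  have key : ∀ y ∈ P.toExtension.ker * P.toExtension.ker, ∃ f' : relMod P,
      f' ∈ (P.toExtension.ker • (⊤ : Submodule P.toExtension.Ring (relMod P))) ∧
        jmap P f' = y := by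
    intro y hy
    induction hy using Submodule.mul_induction_on' with
    | mem_mul_mem a ha b hb =>
      have hb' : b ∈ LinearMap.range (jmap P) := by rw [range_jmap]; exact hb
      obtain ⟨f₂, rfl⟩ := hb'
      exact ⟨a • f₂, Submodule.smul_mem_smul ha Submodule.mem_top, by rw [map_smul, smul_eq_mul]⟩
    | add x _ y _ hx hy =>
      obtain ⟨f₁, h₁, e₁⟩ := hx
      obtain ⟨f₂, h₂, e₂⟩ := hy
      exact ⟨f₁ + f₂, add_mem h₁ h₂, by rw [map_add, e₁, e₂]⟩
  rw [pow_two] at hz'
  obtain ⟨f', hf', ef'⟩ := key _ hz'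
  have hq : f - f' ∈ relKer P := by
    change jmap P (f - f') = 0
    rw [map_sub, ef', sub_self]
  refine ⟨Submodule.Quotient.mk ((1 : B) ⊗ₜ (⟨f - f', hq⟩ : relKer P)), ?_⟩
  rw [d2_mk_tmul]
  change (1 : B) ⊗ₜ[P.toExtension.Ring] (f - f') = _
  rw [TensorProduct.tmul_sub, one_tmul_eq_zero_of_mem P f' hf', sub_zero]

theorem T2_subsingleton_of_injective_of_projective (hinj : Function.Injective (d2 P))
    [Module.Projective B P.toExtension.Cotangent]
    (M : Type m) [AddCommGroup M] [Module B M] : Subsingleton (T2 P M) := by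
  obtain ⟨s, hs⟩ := Module.projective_lifting_property (toCot P) LinearMap.id (toCot_surjective P)
  -- the projection onto `ker toCot = range d2`
  let π' : L1 P →ₗ[B] L1 P := LinearMap.id - s ∘ₗ toCot P
  have hπ' : ∀ z, π' z ∈ LinearMap.range (d2 P) := by
    intro z
    apply ker_toCot_le_range_d2 P
    rw [LinearMap.mem_ker]
    simp only [π', LinearMap.sub_apply, LinearMap.id_apply, LinearMap.comp_apply, map_sub]
    have := LinearMap.congr_fun hs (toCot P z)
    simp only [LinearMap.comp_apply, LinearMap.id_apply] at this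
    rw [this, sub_self]
  let e := LinearEquiv.ofInjective (d2 P) hinj
  let φ : L1 P →ₗ[B] L2 P := e.symm.toLinearMap ∘ₗ LinearMap.codRestrict _ π' hπ'
  have hφ : φ ∘ₗ d2 P = LinearMap.id := by
    refine LinearMap.ext fun y => ?_
    simp only [φ, LinearMap.comp_apply, LinearMap.id_apply, LinearEquiv.coe_coe]
    rw [LinearEquiv.symm_apply_eq]
    apply Subtype.ext
    simp only [LinearMap.codRestrict_apply, π', LinearMap.sub_apply, LinearMap.id_apply,
      LinearMap.comp_apply, e, LinearEquiv.ofInjective_apply]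
    have h0 : toCot P (d2 P y) = 0 := LinearMap.congr_fun (toCot_comp_d2 P) y
    rw [h0, map_zero, sub_zero]
  refine ⟨fun a b => ?_⟩
  obtain ⟨a, rfl⟩ := Submodule.Quotient.mk_surjective _ a
  obtain ⟨b, rfl⟩ := Submodule.Quotient.mk_surjective _ b
  rw [Submodule.Quotient.eq]
  refine ⟨(a - b) ∘ₗ φ, ?_⟩
  rw [d2Star_apply, LinearMap.comp_assoc, hφ, LinearMap.comp_id]

end General

section Combine

open Groth.Agent.Lib.Helper59.SyzLocal

variable {R : Type u} [CommRing R] [IsDomain R] [IsNoetherianRing R]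
  {F : Type*} [AddCommGroup F] [Module R F] (j : F →ₗ[R] R)

theorem ker_inf_le_triv
    (hloc : ∀ (𝔫 : Ideal R) [𝔫.IsMaximal], (LinearMap.range j : Ideal R) ≤ 𝔫 →
      IsRegularLocalRing (Localization.AtPrime 𝔫))
    (hloc' : ∀ (𝔫 : Ideal R) [𝔫.IsMaximal], (LinearMap.range j : Ideal R) ≤ 𝔫 →
      IsRegularLocalRing (Localization.AtPrime 𝔫 ⧸
        Ideal.map (algebraMap R (Localization.AtPrime 𝔫)) (LinearMap.range j : Ideal R)))
    (x : F) (hx : j x = 0) (hxI : x ∈ (LinearMap.range j : Ideal R) • (⊤ : Submodule R F)) :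
    x ∈ triv j := by
  apply mem_triv_of_forall_maximal
  intro 𝔫 hmax
  by_cases hle : (LinearMap.range j : Ideal R) ≤ 𝔫
  · haveI := hmax.isPrime
    haveI := hloc 𝔫 hle
    have hSI := hloc' 𝔫 hle
    obtain ⟨rs, hrs, hI⟩ := Groth.Agent.H8.RegLocalQuot.exists_regular
      (Localization.AtPrime 𝔫) _ hSI
    obtain ⟨g, hg, ⟨u₀, hu₀, ha⟩, hb⟩ :=
      local_data 𝔫 (LinearMap.range j : Ideal R) rs hrs.toIsWeaklyRegular hI
    choose f hf using hg
    obtain rfl : g = fun i => j (f i) := funext fun i => (hf i).symm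
    exact exists_smul_mem_triv_of_local j 𝔫 f u₀ hu₀ ha hb x hx hxI
  · obtain ⟨a, haI, han⟩ := SetLike.not_le_iff_exists.mp hle
    exact ⟨a, han, smul_mem_triv j hx haI⟩

end Combine

section Iso

variable {R B : Type u} [CommRing R] [CommRing B] [Algebra R B]

theorem isRegularLocalRing_quot_map (hsurj : Function.Surjective (algebraMap R B))
    (𝔫 : Ideal R) [𝔫.IsPrime] (hI : RingHom.ker (algebraMap R B) ≤ 𝔫)
    (hB : ∀ (p : Ideal B) [p.IsPrime], IsRegularLocalRing (Localization.AtPrime p)) :
    IsRegularLocalRing (Localization.AtPrime 𝔫 ⧸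
      (RingHom.ker (algebraMap R B)).map (algebraMap R (Localization.AtPrime 𝔫))) := by
  set I := RingHom.ker (algebraMap R B) with hIdef
  let S := Localization.AtPrime 𝔫
  let S' := S ⧸ I.map (algebraMap R S)
  haveI hp : (𝔫.map (algebraMap R B)).IsPrime := Ideal.map_isPrime_of_surjective hsurj hI
  let g : R →+* S' := (Ideal.Quotient.mk (I.map (algebraMap R S))).comp (algebraMap R S)
  have hg : RingHom.ker (algebraMap R B) ≤ RingHom.ker g := by
    intro x hx
    rw [RingHom.mem_ker]
    change Ideal.Quotient.mk _ (algebraMap R S x) = 0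
    exact Ideal.Quotient.eq_zero_iff_mem.mpr (Ideal.mem_map_of_mem _ hx)
  let φ : B →+* S' := RingHom.liftOfSurjective (algebraMap R B) hsurj ⟨g, hg⟩
  letI : Algebra B S' := φ.toAlgebra
  have hφ : φ.comp (algebraMap R B) = g := RingHom.liftOfSurjective_comp _ hsurj ⟨g, hg⟩
  have hloc : IsLocalization (𝔫.primeCompl.map (algebraMap R B)) S' :=
    IsLocalization.of_surjective 𝔫.primeCompl S (algebraMap R B) hsurj
      (Ideal.Quotient.mk (I.map (algebraMap R S))) Ideal.Quotient.mk_surjective hφ.symm
      (by rw [Ideal.mk_ker])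
  have hmon : 𝔫.primeCompl.map (algebraMap R B) = (𝔫.map (algebraMap R B)).primeCompl := by
    ext x
    constructor
    · rintro ⟨y, hy, rfl⟩ hmem
      obtain ⟨n, hn, hny⟩ := (Ideal.mem_map_iff_of_surjective _ hsurj).mp hmem
      have : y - n ∈ I := by
        rw [hIdef, RingHom.mem_ker, map_sub, hny, sub_self]
      have hy' : y ∈ 𝔫 := by
        have := add_mem (hI this) hn
        rwa [sub_add_cancel] at this
      exact hy hy'
    · intro hx
      obtain ⟨y, rfl⟩ := hsurj x
      refine ⟨y, fun hy => hx (Ideal.mem_map_of_mem _ hy), rfl⟩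
  rw [hmon] at hloc
  haveI : IsLocalization.AtPrime S' (𝔫.map (algebraMap R B)) := hloc
  haveI := hB (𝔫.map (algebraMap R B))
  exact IsRegularLocalRing.of_ringEquiv
    (IsLocalization.algEquiv (𝔫.map (algebraMap R B)).primeCompl
      (Localization.AtPrime (𝔫.map (algebraMap R B))) S').toRingEquiv

end Iso

section Main

variable {k B : Type u} [Field k] [CommRing B] [Algebra k B] {ι : Type u} [Finite ι] {σ : Type t}
  (P : Algebra.Presentation k B ι σ)

local instance : IsDomain P.toExtension.Ring := inferInstanceAs (IsDomain (MvPolynomial ι k))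
local instance : IsNoetherianRing P.toExtension.Ring :=
  inferInstanceAs (IsNoetherianRing (MvPolynomial ι k))
local instance : IsRegularRing P.toExtension.Ring := inferInstanceAs (IsRegularRing (MvPolynomial ι k))

theorem relKer_inf_le_trivRel
    (hB : ∀ (p : Ideal B) [p.IsPrime], IsRegularLocalRing (Localization.AtPrime p))
    (q : relMod P) (hq : q ∈ relKer P)
    (hqI : q ∈ (P.toExtension.ker • (⊤ : Submodule P.toExtension.Ring (relMod P)))) :
    q ∈ trivRel P := by
  have hker : (LinearMap.range (jmap P) : Ideal P.toExtension.Ring) =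
      RingHom.ker (algebraMap P.toExtension.Ring B) := range_jmap P
  have hsurj : Function.Surjective (algebraMap P.toExtension.Ring B) :=
    P.toExtension.algebraMap_surjective
  change q ∈ Groth.Agent.Lib.Helper59.SyzLocal.triv (jmap P)
  refine ker_inf_le_triv (jmap P) ?_ ?_ q hq ?_
  · intro 𝔫 _ _
    infer_instance
  · intro 𝔫 hmax hle
    rw [hker] at hle ⊢
    haveI := hmax.isPrime
    exact isRegularLocalRing_quot_map hsurj 𝔫 hle hB
  · rw [hker]
    exact hqI

theorem T2_subsingleton_of_regular [Algebra.FormallySmooth k B]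
    (hB : ∀ (p : Ideal B) [p.IsPrime], IsRegularLocalRing (Localization.AtPrime p))
    (M : Type m) [AddCommGroup M] [Module B M] : Subsingleton (T2 P M) := by
  haveI : Algebra.FormallySmooth k P.toExtension.Ring :=
    inferInstanceAs (Algebra.FormallySmooth k (MvPolynomial ι k))
  obtain ⟨l, hl⟩ := (Algebra.Extension.formallySmooth_iff_split_injection P.toExtension).mp
    inferInstance
  haveI : Module.Projective B P.toExtension.Cotangent :=
    Module.Projective.of_split P.toExtension.cotangentComplex l hl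
  exact T2_subsingleton_of_injective_of_projective P
    (d2_injective P (relKer_inf_le_trivRel P hB)) M

end Main

end Groth.Agent.Lib.Helper59.CotTSmooth
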