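import Mathlib
import Groth.Prelude.Def_Exal
import Groth.Prelude.Def_CotT

/-!
# Extensions of `B` by `M` and `Hom(I/I², M)` (helper59)

For generators `G` of `B` over `A` (polynomial ring `R → B` with kernel `I`), every `B`-linear map
`φ : I/I² → M` gives an extension `extOf G φ` of `B` by `M` (the push-out of `R/I²` along `φ`, built
as a quotient of the trivial square-zero extension of `R` by `M`); every extension is of this form
and two maps give equivalent extensions exactly when they differ by a map coming from `Ω_R ⊗ B`.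
-/

set_option autoImplicit false
universe u

namespace Groth.Agent.Lib.Helper59.ExalT1

open Exal Algebra

variable {A B : Type u} [CommRing A] [CommRing B] [Algebra A B] {ι : Type u}
  (G : Algebra.Generators A B ι) (M : Type u) [AddCommGroup M] [Module B M]

/-- `M` regarded as a module over the polynomial ring. -/
def MR (_G : Algebra.Generators A B ι) (M : Type u) : Type u := M

instance : AddCommGroup (MR G M) := inferInstanceAs (AddCommGroup M)
instance : Module B (MR G M) := inferInstanceAs (Module B M)
noncomputable instance instModR : Module G.toExtension.Ring (MR G M) :=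
  Module.compHom (MR G M) (algebraMap G.toExtension.Ring B)
instance : IsScalarTower G.toExtension.Ring B (MR G M) :=
  IsScalarTower.of_compHom G.toExtension.Ring B (MR G M)
noncomputable instance instModRop : Module (G.toExtension.Ring)ᵐᵒᵖ (MR G M) :=
  Exal.opModule G.toExtension.Ring (MR G M)
instance : IsCentralScalar G.toExtension.Ring (MR G M) :=
  Exal.isCentralScalar_opModule G.toExtension.Ring (MR G M)

variable {G M}

/-- forget the polynomial-ring module structure. -/
def toM (z : MR G M) : M := z

/-- regard an element of `M` as an element of the `R`-module. -/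
def ofM (m : M) : MR G M := m

@[simp] theorem toM_ofM (m : M) : toM (ofM (G := G) m) = m := rfl
@[simp] theorem ofM_toM (z : MR G M) : ofM (toM z) = z := rfl
@[simp] theorem toM_add (z w : MR G M) : toM (z + w) = toM z + toM w := rfl
@[simp] theorem toM_sub (z w : MR G M) : toM (z - w) = toM z - toM w := rfl
@[simp] theorem toM_neg (z : MR G M) : toM (-z) = -toM z := rfl
@[simp] theorem toM_zero : toM (0 : MR G M) = 0 := rfl
@[simp] theorem ofM_add (z w : M) : ofM (G := G) (z + w) = ofM z + ofM w := rfl
@[simp] theorem ofM_zero : ofM (G := G) (0 : M) = 0 := rfl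

theorem toM_injective : Function.Injective (toM : MR G M → M) := fun _ _ h => h

theorem toM_smul (r : G.toExtension.Ring) (z : MR G M) :
    toM (r • z) = (algebraMap G.toExtension.Ring B r) • toM z := rfl

theorem toM_op_smul (r : G.toExtension.Ring) (z : MR G M) :
    toM (MulOpposite.op r • z) = (algebraMap G.toExtension.Ring B r) • toM z := rfl

/-- the trivial square-zero extension of `R` by `M`. -/
abbrev TR (G : Algebra.Generators A B ι) (M : Type u) [AddCommGroup M] [Module B M] : Type u :=
  TrivSqZeroExt G.toExtension.Ring (MR G M)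

variable (φ : G.toExtension.Cotangent →ₗ[B] M)

theorem phi_smul (r : G.toExtension.Ring) (y : G.toExtension.Cotangent) :
    φ (r • y) = (algebraMap G.toExtension.Ring B r) • φ y := by
  rw [← IsScalarTower.algebraMap_smul B r y, map_smul]

/-- the ideal `{(x, -φ x) : x ∈ I}`. -/
def idl : Ideal (TR G M) where
  carrier := {z | ∃ x : G.toExtension.ker, z.fst = x ∧
    toM z.snd = -(φ (Extension.Cotangent.mk x))}
  add_mem' := by
    rintro a b ⟨x, hx1, hx2⟩ ⟨y, hy1, hy2⟩
    refine ⟨x + y, ?_, ?_⟩
    · rw [TrivSqZeroExt.fst_add, hx1, hy1]; rfl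
    · rw [map_add, map_add, neg_add, ← hx2, ← hy2]; rfl
  zero_mem' := ⟨0, rfl, by rw [map_zero, map_zero, neg_zero]; rfl⟩
  smul_mem' := by
    rintro c z ⟨x, hx1, hx2⟩
    refine ⟨c.fst • x, ?_, ?_⟩
    · rw [smul_eq_mul, TrivSqZeroExt.fst_mul, hx1]; rfl
    · rw [smul_eq_mul, TrivSqZeroExt.snd_mul, map_smul, phi_smul, toM_add, toM_smul,
        toM_op_smul, hx1, hx2, smul_neg]
      have : algebraMap G.toExtension.Ring B (x : G.toExtension.Ring) = 0 := x.2
      rw [this, zero_smul, add_zero]

theorem mem_idl (z : TR G M) : z ∈ idl φ ↔ ∃ x : G.toExtension.ker, z.fst = x ∧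
    toM z.snd = -(φ (Extension.Cotangent.mk x)) := Iff.rfl

/-- the carrier of the push-out extension. -/
def ECar (φ : G.toExtension.Cotangent →ₗ[B] M) : Type u := TR G M ⧸ idl φ

noncomputable instance : CommRing (ECar φ) := inferInstanceAs (CommRing (TR G M ⧸ idl φ))

/-- the quotient map. -/
noncomputable def emk : TR G M →+* ECar φ := Ideal.Quotient.mk (idl φ)

theorem emk_surjective : Function.Surjective (emk φ) := Ideal.Quotient.mk_surjective

theorem emk_eq_zero_iff (z : TR G M) : emk φ z = 0 ↔ z ∈ idl φ := Ideal.Quotient.eq_zero_iff_mem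

noncomputable instance : Algebra A (ECar φ) :=
  ((emk φ).comp ((TrivSqZeroExt.inlHom G.toExtension.Ring (MR G M)).comp
    (algebraMap A G.toExtension.Ring))).toAlgebra

theorem algebraMap_ECar (a : A) : algebraMap A (ECar φ) a =
    emk φ (TrivSqZeroExt.inl (algebraMap A G.toExtension.Ring a)) := rfl

/-- the projection of the push-out extension. -/
noncomputable def eproj : ECar φ →ₐ[A] B :=
  { Ideal.Quotient.lift (idl φ) ((algebraMap G.toExtension.Ring B).comp
      (TrivSqZeroExt.fstHom G.toExtension.Ring G.toExtension.Ring (MR G M)).toRingHom) (by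
        rintro z ⟨x, hx1, -⟩
        show algebraMap G.toExtension.Ring B z.fst = 0
        rw [hx1]
        exact x.2) with
    commutes' := fun a => by
      show algebraMap G.toExtension.Ring B (algebraMap A G.toExtension.Ring a) = _
      rw [← IsScalarTower.algebraMap_apply] }

theorem eproj_emk (z : TR G M) : eproj φ (emk φ z) = algebraMap G.toExtension.Ring B z.fst := rfl

/-- the inclusion of the push-out extension. -/
noncomputable def eincl : M →+ ECar φ :=
  (emk φ : TR G M →+ ECar φ).comp
    (TrivSqZeroExt.inrHom G.toExtension.Ring (MR G M)).toAddMonoidHom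

theorem eincl_apply (m : M) : eincl φ m = emk φ (TrivSqZeroExt.inr (ofM m)) := rfl

theorem isExtension : IsExtension (eproj φ) (eincl φ) where
  proj_surjective := fun b => by
    obtain ⟨r, rfl⟩ := G.toExtension.algebraMap_surjective b
    exact ⟨emk φ (TrivSqZeroExt.inl r), rfl⟩
  incl_injective := by
    rw [injective_iff_map_eq_zero]
    intro m hm
    rw [eincl_apply, emk_eq_zero_iff] at hm
    obtain ⟨x, hx1, hx2⟩ := hm
    have hx0 : x = 0 := by
      apply Subtype.ext
      rw [← hx1]
      rfl
    rw [hx0, map_zero, map_zero, neg_zero] at hx2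
    exact hx2
  exact := fun e => by
    obtain ⟨z, rfl⟩ := emk_surjective φ e
    rw [eproj_emk]
    constructor
    · intro h
      refine ⟨toM z.snd + φ (Extension.Cotangent.mk ⟨z.fst, h⟩), ?_⟩
      rw [eincl_apply, ← sub_eq_zero, ← map_sub, emk_eq_zero_iff]
      refine ⟨-⟨z.fst, h⟩, ?_, ?_⟩
      · simp
      · rw [map_neg, map_neg, neg_neg, TrivSqZeroExt.snd_sub, TrivSqZeroExt.snd_inr, toM_sub,
          toM_ofM]
        abel
    · rintro ⟨m, hm⟩
      rw [← sub_eq_zero, eincl_apply, ← map_sub, emk_eq_zero_iff] at hm
      obtain ⟨x, hx1, -⟩ := hm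
      have : z.fst = -(x : G.toExtension.Ring) := by
        have h2 : (TrivSqZeroExt.inr (ofM (G := G) m) - z).fst = -z.fst := by simp
        rw [h2] at hx1
        rw [← hx1, neg_neg]
      rw [this, map_neg]
      have : algebraMap G.toExtension.Ring B (x : G.toExtension.Ring) = 0 := x.2
      rw [this, neg_zero]
  mul_incl := fun e m => by
    obtain ⟨z, rfl⟩ := emk_surjective φ e
    rw [eproj_emk, eincl_apply, eincl_apply, ← map_mul]
    congr 1
    ext
    · simp
    · simp only [TrivSqZeroExt.snd_mul, TrivSqZeroExt.snd_inr, TrivSqZeroExt.fst_inr]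
      rw [MulOpposite.op_zero, zero_smul, add_zero]
      rfl

/-- the push-out extension. -/
noncomputable def extOf (φ : G.toExtension.Cotangent →ₗ[B] M) : Exal.Ext A B M where
  E := ECar φ
  proj := eproj φ
  incl := eincl φ
  isExtension := isExtension φ

section Lifts

variable (G) in
/-- a lift of `R → B` to the middle ring of an extension. -/
structure Lift (X : Exal.Ext A B M) where
  /-- the algebra map -/
  s : G.toExtension.Ring →ₐ[A] X.E
  proj_s : ∀ r, X.proj (s r) = algebraMap G.toExtension.Ring B r

variable {X : Exal.Ext A B M}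

theorem proj_incl (X : Exal.Ext A B M) (m : M) : X.proj (X.incl m) = 0 :=
  (X.isExtension.exact _).2 ⟨m, rfl⟩

theorem incl_mul_incl (X : Exal.Ext A B M) (m n : M) : X.incl m * X.incl n = 0 := by
  rw [X.isExtension.mul_incl, proj_incl, zero_smul, map_zero]

theorem kerLift_eq (X : Exal.Ext A B M) (e : X.E) (he : X.proj e = 0) (m : M)
    (hm : X.incl m = e) : X.kerLift e he = m :=
  X.isExtension.incl_injective ((X.incl_kerLift e he).trans hm.symm)

theorem exists_lift (X : Exal.Ext A B M) : Nonempty (Lift G X) := by
  choose ℓ hℓ using fun i : ι => X.isExtension.proj_surjective (G.val i)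
  let s : G.toExtension.Ring →ₐ[A] X.E := MvPolynomial.aeval ℓ
  have h1 : X.proj.comp s = IsScalarTower.toAlgHom A G.toExtension.Ring B := by
    apply MvPolynomial.algHom_ext
    intro i
    show X.proj (MvPolynomial.aeval ℓ (MvPolynomial.X i)) =
      algebraMap G.Ring B (MvPolynomial.X i)
    rw [MvPolynomial.aeval_X, hℓ, G.algebraMap_apply, MvPolynomial.aeval_X]
  exact ⟨⟨s, fun r => AlgHom.congr_fun h1 r⟩⟩

theorem Lift.proj_s_ker (L : Lift G X) (x : G.toExtension.ker) : X.proj (L.s x) = 0 := by
  rw [L.proj_s]
  exact x.2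

/-- the `R`-linear map `I → M` attached to a lift. -/
noncomputable def psi (L : Lift G X) : G.toExtension.ker →ₗ[G.toExtension.Ring] MR G M where
  toFun x := ofM (X.kerLift (L.s x) (L.proj_s_ker x))
  map_add' x y := by
    apply toM_injective
    apply X.isExtension.incl_injective
    rw [toM_ofM, toM_add, toM_ofM, toM_ofM, map_add, X.incl_kerLift, X.incl_kerLift,
      X.incl_kerLift]
    exact map_add L.s _ _
  map_smul' r x := by
    apply toM_injective
    apply X.isExtension.incl_injective
    rw [RingHom.id_apply, toM_smul, toM_ofM, toM_ofM, X.incl_kerLift, ← L.proj_s,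
      ← X.isExtension.mul_incl, X.incl_kerLift]
    exact map_mul L.s _ _

theorem incl_psi (L : Lift G X) (x : G.toExtension.ker) : X.incl (toM (psi L x)) = L.s x :=
  X.incl_kerLift (L.s x) (L.proj_s_ker x)

theorem psi_mul (L : Lift G X) (x y : G.toExtension.ker) : psi L (x * y) = 0 := by
  apply toM_injective
  apply X.isExtension.incl_injective
  rw [incl_psi, toM_zero, map_zero]
  show L.s ((x : G.toExtension.Ring) * y) = 0
  rw [map_mul, ← incl_psi L x, ← incl_psi L y, incl_mul_incl]

/-- `toM` as a `B`-linear map. -/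
def toMl : MR G M →ₗ[B] M where
  toFun := toM
  map_add' _ _ := rfl
  map_smul' _ _ := rfl

/-- `ofM` as a `B`-linear map. -/
def ofMl : M →ₗ[B] MR G M where
  toFun := ofM
  map_add' _ _ := rfl
  map_smul' _ _ := rfl

/-- the `B`-linear map `I/I² → M` attached to a lift. -/
noncomputable def phiOf (L : Lift G X) : G.toExtension.Cotangent →ₗ[B] M :=
  toMl ∘ₗ LinearMap.extendScalarsOfSurjective G.toExtension.algebraMap_surjective
    ((Ideal.Cotangent.lift (psi L) (psi_mul L)) ∘ₗ
      G.toExtension.cotangentEquivCotangentKer.toLinearMap)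

theorem phiOf_mk (L : Lift G X) (x : G.toExtension.ker) :
    phiOf L (Extension.Cotangent.mk x) = toM (psi L x) := by
  show toM ((Ideal.Cotangent.lift (psi L) (psi_mul L)) (G.toExtension.ker.toCotangent x)) = _
  rw [Ideal.Cotangent.lift_toCotangent]

theorem incl_phiOf_mk (L : Lift G X) (x : G.toExtension.ker) :
    X.incl (phiOf L (Extension.Cotangent.mk x)) = L.s x := by
  rw [phiOf_mk, incl_psi]

end Lifts

section Classify

variable {X : Exal.Ext A B M} (L : Lift G X)

/-- the map `R ⊕ M → E`, `(r, m) ↦ s r + incl m`. -/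
noncomputable def theta0 : TR G M →+* X.E where
  toFun z := L.s z.fst + X.incl (toM z.snd)
  map_one' := by
    rw [TrivSqZeroExt.fst_one, TrivSqZeroExt.snd_one, toM_zero, map_one, map_zero, add_zero]
  map_mul' a b := by
    rw [TrivSqZeroExt.fst_mul, TrivSqZeroExt.snd_mul, toM_add, toM_smul, toM_op_smul, map_add,
      map_mul, add_mul, mul_add, mul_add, incl_mul_incl, add_zero,
      mul_comm (X.incl (toM a.snd)) (L.s b.fst), X.isExtension.mul_incl,
      X.isExtension.mul_incl, L.proj_s, L.proj_s]
    abel
  map_zero' := by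
    rw [TrivSqZeroExt.fst_zero, TrivSqZeroExt.snd_zero, toM_zero, map_zero, map_zero, add_zero]
  map_add' a b := by
    rw [TrivSqZeroExt.fst_add, TrivSqZeroExt.snd_add, toM_add, map_add, map_add]
    abel

theorem theta0_apply (z : TR G M) : theta0 L z = L.s z.fst + X.incl (toM z.snd) := rfl

theorem theta0_mem (z : TR G M) (hz : z ∈ idl (phiOf L)) : theta0 L z = 0 := by
  obtain ⟨x, hx1, hx2⟩ := hz
  rw [theta0_apply, hx1, hx2, map_neg, incl_phiOf_mk, add_neg_cancel]

/-- the comparison map from the push-out extension. -/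
noncomputable def theta : ECar (phiOf L) →ₐ[A] X.E :=
  { Ideal.Quotient.lift (idl (phiOf L)) (theta0 L) (theta0_mem L) with
    commutes' := fun a => by
      show theta0 L (TrivSqZeroExt.inl (algebraMap A G.toExtension.Ring a)) = _
      rw [theta0_apply]
      simp }

theorem theta_emk (z : TR G M) : theta L (emk (phiOf L) z) = L.s z.fst + X.incl (toM z.snd) :=
  theta0_apply L z

theorem theta_bijective : Function.Bijective (theta L) := by
  constructor
  · rw [injective_iff_map_eq_zero]
    intro e he
    obtain ⟨z, rfl⟩ := emk_surjective (phiOf L) e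
    rw [theta_emk] at he
    rw [emk_eq_zero_iff]
    have h1 : algebraMap G.toExtension.Ring B z.fst = 0 := by
      have := congrArg X.proj he
      rwa [map_add, L.proj_s, proj_incl, add_zero, map_zero] at this
    refine ⟨⟨z.fst, h1⟩, rfl, ?_⟩
    apply X.isExtension.incl_injective
    rw [map_neg, incl_phiOf_mk]
    exact eq_neg_of_add_eq_zero_right he
  · intro e
    obtain ⟨r, hr⟩ := G.toExtension.algebraMap_surjective (X.proj e)
    have h1 : X.proj (e - L.s r) = 0 := by rw [map_sub, L.proj_s, hr, sub_self]
    obtain ⟨m, hm⟩ := (X.isExtension.exact _).1 h1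
    refine ⟨emk (phiOf L) (TrivSqZeroExt.inl r + TrivSqZeroExt.inr (ofM m)), ?_⟩
    rw [theta_emk]
    simp only [TrivSqZeroExt.fst_add, TrivSqZeroExt.fst_inl, TrivSqZeroExt.fst_inr, add_zero,
      TrivSqZeroExt.snd_add, TrivSqZeroExt.snd_inl, TrivSqZeroExt.snd_inr, zero_add, toM_ofM]
    rw [hm]
    ring

/-- every extension with a lift is the push-out extension of the attached map. -/
theorem equivOfLift : Nonempty (Exal.Ext.Equiv (extOf (phiOf L)) X) := by
  refine ⟨⟨AlgEquiv.ofBijective (theta L) (theta_bijective L), ?_, ?_⟩⟩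
  · intro e
    obtain ⟨z, rfl⟩ := emk_surjective (phiOf L) e
    show X.proj (theta L (emk (phiOf L) z)) = eproj (phiOf L) (emk (phiOf L) z)
    rw [theta_emk, eproj_emk, map_add, L.proj_s, proj_incl, add_zero]
  · intro m
    show theta L (emk (phiOf L) (TrivSqZeroExt.inr (ofM m))) = X.incl m
    rw [theta_emk]
    simp

end Classify

section Derivations

noncomputable instance instModA : Module A (MR G M) :=
  Module.compHom (MR G M) (algebraMap A B)

theorem toM_smulA (a : A) (z : MR G M) : toM (a • z) = (algebraMap A B a) • toM z := rfl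

instance : IsScalarTower A G.toExtension.Ring (MR G M) := ⟨fun a r z => by
  apply toM_injective
  rw [toM_smul, toM_smulA, toM_smul, Algebra.smul_def, map_mul,
    ← IsScalarTower.algebraMap_apply, mul_smul]⟩

variable {X : Exal.Ext A B M}

theorem smul_incl (X : Exal.Ext A B M) (a : A) (m : M) :
    a • X.incl m = X.incl ((algebraMap A B a) • m) := by
  rw [Algebra.smul_def, X.isExtension.mul_incl, AlgHom.commutes]

section Diff

variable (L L' : Lift G X)

/-- the difference of two lifts, as a function to `M`. -/
noncomputable def dfun (r : G.toExtension.Ring) : M :=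
  X.kerLift (L.s r - L'.s r) (by rw [map_sub, L.proj_s, L'.proj_s, sub_self])

theorem incl_dfun (r : G.toExtension.Ring) : X.incl (dfun L L' r) = L.s r - L'.s r :=
  X.incl_kerLift _ _

/-- the difference of two lifts is a derivation. -/
noncomputable def diffDer : Derivation A G.toExtension.Ring (MR G M) :=
  Derivation.mk'
    { toFun := fun r => ofM (dfun L L' r)
      map_add' := fun r r' => by
        apply toM_injective
        apply X.isExtension.incl_injective
        rw [toM_ofM, toM_add, toM_ofM, toM_ofM, map_add, incl_dfun, incl_dfun, incl_dfun, map_add,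
          map_add]
        abel
      map_smul' := fun a r => by
        apply toM_injective
        apply X.isExtension.incl_injective
        rw [RingHom.id_apply, toM_ofM, toM_smulA, toM_ofM, ← smul_incl, incl_dfun, incl_dfun,
          map_smul, map_smul, smul_sub] }
    (fun r r' => by
      apply toM_injective
      apply X.isExtension.incl_injective
      show X.incl (dfun L L' (r * r')) = X.incl (toM (r • ofM (dfun L L' r') + r' • ofM (dfun L L' r)))
      rw [toM_add, toM_smul, toM_smul, toM_ofM, toM_ofM, map_add, ← L.proj_s r, ← L'.proj_s r',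
        ← X.isExtension.mul_incl, ← X.isExtension.mul_incl, incl_dfun, incl_dfun, incl_dfun,
        map_mul, map_mul]
      ring)

theorem diffDer_apply (r : G.toExtension.Ring) : toM (diffDer L L' r) = dfun L L' r := rfl

/-- two lifts give maps differing by a map from `Ω_R ⊗ B`. -/
theorem phiOf_sub_mem_range :
    phiOf L - phiOf L' ∈
      LinearMap.range (LinearMap.lcomp B M G.toExtension.cotangentComplex) := by
  refine ⟨toMl ∘ₗ LinearMap.liftBaseChange B (diffDer L L').liftKaehlerDifferential, ?_⟩
  refine LinearMap.ext fun y => ?_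
  obtain ⟨x, rfl⟩ := Extension.Cotangent.mk_surjective y
  rw [LinearMap.lcomp_apply', LinearMap.comp_apply, Extension.cotangentComplex_mk,
    LinearMap.comp_apply, LinearMap.liftBaseChange_tmul, one_smul,
    Derivation.liftKaehlerDifferential_comp_D, LinearMap.sub_apply]
  apply X.isExtension.incl_injective
  show X.incl (dfun L L' x) = _
  rw [incl_dfun, map_sub, incl_phiOf_mk, incl_phiOf_mk]

end Diff

section Shift

variable (L : Lift G X) (ψ : G.toExtension.CotangentSpace →ₗ[B] M)

/-- the derivation `R → M` attached to a map from `Ω_R ⊗ B`. -/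
noncomputable def derOf : Derivation A G.toExtension.Ring (MR G M) :=
  (((ofMl (G := G) ∘ₗ ψ).restrictScalars G.toExtension.Ring) ∘ₗ
    (TensorProduct.mk G.toExtension.Ring B Ω[G.toExtension.Ring⁄A] 1)).compDer
    (KaehlerDifferential.D A G.toExtension.Ring)

theorem toM_derOf (r : G.toExtension.Ring) :
    toM (derOf ψ r) = ψ ((1 : B) ⊗ₜ KaehlerDifferential.D A G.toExtension.Ring r) := rfl

/-- shift a lift by a derivation. -/
noncomputable def shift : Lift G X where
  s :=
    { toFun := fun r => L.s r + X.incl (toM (derOf ψ r))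
      map_one' := by
        rw [Derivation.map_one_eq_zero, toM_zero, map_zero, add_zero, map_one]
      map_mul' := fun r r' => by
        rw [Derivation.leibniz, toM_add, toM_smul, toM_smul, map_add, ← L.proj_s r,
          ← L.proj_s r', ← X.isExtension.mul_incl, ← X.isExtension.mul_incl, map_mul, add_mul,
          mul_add, mul_add, incl_mul_incl]
        ring
      map_zero' := by rw [map_zero, map_zero, toM_zero, map_zero, add_zero]
      map_add' := fun r r' => by
        rw [map_add, map_add, toM_add, map_add]
        abel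
      commutes' := fun a => by
        rw [Derivation.map_algebraMap, toM_zero, map_zero, add_zero, AlgHom.commutes] }
  proj_s := fun r => by
    show X.proj (L.s r + X.incl (toM (derOf ψ r))) = _
    rw [map_add, L.proj_s, proj_incl, add_zero]

theorem shift_s (r : G.toExtension.Ring) :
    (shift L ψ).s r = L.s r + X.incl (toM (derOf ψ r)) := rfl

theorem phiOf_shift : phiOf (shift L ψ) = phiOf L + ψ ∘ₗ G.toExtension.cotangentComplex := by
  refine LinearMap.ext fun y => ?_
  obtain ⟨x, rfl⟩ := Extension.Cotangent.mk_surjective y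
  apply X.isExtension.incl_injective
  rw [incl_phiOf_mk, shift_s, LinearMap.add_apply, map_add, incl_phiOf_mk, LinearMap.comp_apply,
    Extension.cotangentComplex_mk, toM_derOf]

end Shift

end Derivations

section Main

attribute [local instance] Exal.opModule Exal.isCentralScalar_opModule

/-- the canonical lift into the push-out extension. -/
noncomputable def lift0 (φ : G.toExtension.Cotangent →ₗ[B] M) : Lift G (extOf φ) where
  s := AlgHom.mk ((emk φ).comp (TrivSqZeroExt.inlHom G.toExtension.Ring (MR G M)))
    (fun _ => rfl)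
  proj_s := fun _ => rfl

theorem lift0_s (φ : G.toExtension.Cotangent →ₗ[B] M) (r : G.toExtension.Ring) :
    (lift0 φ).s r = emk φ (TrivSqZeroExt.inl r) := rfl

theorem phiOf_lift0 (φ : G.toExtension.Cotangent →ₗ[B] M) : phiOf (lift0 φ) = φ := by
  refine LinearMap.ext fun y => ?_
  obtain ⟨x, rfl⟩ := Extension.Cotangent.mk_surjective y
  apply (extOf φ).isExtension.incl_injective
  rw [incl_phiOf_mk, lift0_s]
  show emk φ _ = emk φ (TrivSqZeroExt.inr (ofM (φ (Extension.Cotangent.mk x))))
  rw [← sub_eq_zero, ← map_sub, emk_eq_zero_iff]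
  refine ⟨x, by simp, ?_⟩
  rw [TrivSqZeroExt.snd_sub, TrivSqZeroExt.snd_inl, TrivSqZeroExt.snd_inr, zero_sub, toM_neg,
    toM_ofM]

theorem cl_eq_iff (φ φ' : G.toExtension.Cotangent →ₗ[B] M) :
    (extOf φ).cl = (extOf φ').cl ↔
      φ - φ' ∈ LinearMap.range (LinearMap.lcomp B M G.toExtension.cotangentComplex) := by
  constructor
  · intro h
    obtain ⟨θ⟩ : Nonempty (Exal.Ext.Equiv (extOf φ) (extOf φ')) := Quotient.exact h
    let L₁ : Lift G (extOf φ') :=
      ⟨θ.toAlgEquiv.toAlgHom.comp (lift0 φ).s, fun r => by
        show (extOf φ').proj (θ.toAlgEquiv ((lift0 φ).s r)) = _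
        rw [θ.proj_apply, (lift0 φ).proj_s]⟩
    have h1 : phiOf L₁ = φ := by
      refine LinearMap.ext fun y => ?_
      obtain ⟨x, rfl⟩ := Extension.Cotangent.mk_surjective y
      apply (extOf φ').isExtension.incl_injective
      rw [incl_phiOf_mk, ← θ.apply_incl]
      show θ.toAlgEquiv ((lift0 φ).s x) = _
      rw [← incl_phiOf_mk (lift0 φ) x, phiOf_lift0]
    have h2 := phiOf_sub_mem_range L₁ (lift0 φ')
    rwa [h1, phiOf_lift0] at h2
  · rintro ⟨ψ, hψ⟩
    have h1 : phiOf (shift (lift0 φ') ψ) = φ := by
      rw [phiOf_shift, phiOf_lift0]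
      have : ψ ∘ₗ G.toExtension.cotangentComplex = φ - φ' := hψ
      rw [this]
      abel
    have h2 := equivOfLift (shift (lift0 φ') ψ)
    rw [h1] at h2
    exact Quotient.sound h2

theorem cl_surjective (c : Exalcom A B M) :
    ∃ φ : G.toExtension.Cotangent →ₗ[B] M, (extOf φ).cl = c := by
  induction c using Quotient.inductionOn with
  | h X =>
    obtain ⟨L⟩ := exists_lift (G := G) X
    exact ⟨phiOf L, Quotient.sound (equivOfLift L)⟩

/-- the lift into the trivial extension. -/
noncomputable def liftTriv : Lift G (Exal.Ext.trivial A B M) where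
  s := AlgHom.mk ((TrivSqZeroExt.inlHom B M).comp (algebraMap G.toExtension.Ring B))
    (fun a => by
      show TrivSqZeroExt.inl (algebraMap G.toExtension.Ring B (algebraMap A G.toExtension.Ring a)) =
        TrivSqZeroExt.inl (algebraMap A B a)
      rw [← IsScalarTower.algebraMap_apply])
  proj_s := fun _ => rfl

theorem phiOf_liftTriv : phiOf (liftTriv (G := G) (M := M)) = 0 := by
  refine LinearMap.ext fun y => ?_
  obtain ⟨x, rfl⟩ := Extension.Cotangent.mk_surjective y
  apply (Exal.Ext.trivial A B M).isExtension.incl_injective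
  rw [incl_phiOf_mk, LinearMap.zero_apply, map_zero]
  show TrivSqZeroExt.inl (algebraMap G.toExtension.Ring B (x : G.toExtension.Ring)) = 0
  have : algebraMap G.toExtension.Ring B (x : G.toExtension.Ring) = 0 := x.2
  rw [this, TrivSqZeroExt.inl_zero]
  rfl

theorem cl_zero : (extOf (0 : G.toExtension.Cotangent →ₗ[B] M)).cl = 0 := by
  have h := equivOfLift (liftTriv (G := G) (M := M))
  rw [phiOf_liftTriv] at h
  exact Quotient.sound h

/-- the bijection between `Hom(I/I², M)` modulo maps from `Ω_R ⊗ B` and classes of extensions. -/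
theorem exists_equiv {T : Type*} [AddCommGroup T] [Module B T]
    (q : (G.toExtension.Cotangent →ₗ[B] M) →ₗ[B] T) (hq : Function.Surjective q)
    (hker : LinearMap.ker q =
      LinearMap.range (LinearMap.lcomp B M G.toExtension.cotangentComplex)) :
    ∃ e : Exalcom A B M ≃ T, e 0 = 0 := by
  classical
  have key : ∀ φ φ' : G.toExtension.Cotangent →ₗ[B] M,
      (extOf φ).cl = (extOf φ').cl ↔ q φ = q φ' := by
    intro φ φ'
    rw [cl_eq_iff, ← hker, LinearMap.mem_ker, map_sub, sub_eq_zero]
  let f : T → Exalcom A B M := fun t => (extOf (Classical.choose (hq t))).cl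
  have hf : ∀ φ, f (q φ) = (extOf φ).cl := by
    intro φ
    show (extOf (Classical.choose (hq (q φ)))).cl = _
    rw [key]
    exact Classical.choose_spec (hq (q φ))
  have hbij : Function.Bijective f := by
    constructor
    · intro t t' h
      obtain ⟨φ, rfl⟩ := hq t
      obtain ⟨φ', rfl⟩ := hq t'
      rw [hf, hf, key] at h
      exact h
    · intro c
      obtain ⟨φ, rfl⟩ := cl_surjective (G := G) c
      exact ⟨q φ, hf φ⟩
  refine ⟨(Equiv.ofBijective f hbij).symm, ?_⟩
  rw [Equiv.symm_apply_eq]
  show (0 : Exalcom A B M) = f 0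
  rw [← map_zero q, hf, cl_zero]

end Main

end Groth.Agent.Lib.Helper59.ExalT1
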