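import Mathlib
import Groth.Agent.Lib.Helper59.CotTSmooth
import Groth.Agent.Lib.Helper59.CotTIndep
import Groth.Agent.Lib.Helper59.ExalT1
import Groth.Agent.S12292
import Groth.Agent.S2116
import Groth.Agent.S0564

/-!
# Nonsingular ⇔ `T¹ = 0`, and then `T² = 0` (helper59)
-/

set_option autoImplicit false
universe u

open CotT

namespace Groth.Agent.Lib.Helper59.CotTRegIff

section T1

variable (k B : Type u) [CommRing k] [CommRing B] [Algebra k B]

open Groth.Agent.Lib.Helper59.ExalT1 in
theorem formallySmooth_iff_T1 :
    Algebra.FormallySmooth k B ↔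
      ∀ (M : Type u) [AddCommGroup M] [Module B M], Subsingleton (CotT.T1 (CotT.canon k B) M) := by
  let G := Algebra.Generators.self k B
  haveI : Algebra.FormallySmooth k G.toExtension.Ring :=
    inferInstanceAs (Algebra.FormallySmooth k (MvPolynomial B k))
  have hsplit := Algebra.Extension.formallySmooth_iff_split_injection G.toExtension
  constructor
  · intro hFS M _ _
    obtain ⟨l, hl⟩ := hsplit.mp hFS
    obtain ⟨e, -⟩ := Groth.Agent.S12292.result k B M
    rw [← e.subsingleton_congr]
    refine ⟨fun c c' => ?_⟩
    obtain ⟨φ, rfl⟩ := cl_surjective (G := G) c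
    obtain ⟨φ', rfl⟩ := cl_surjective (G := G) c'
    rw [cl_eq_iff]
    refine ⟨(φ - φ') ∘ₗ l, ?_⟩
    change ((φ - φ') ∘ₗ l) ∘ₗ G.toExtension.cotangentComplex = φ - φ'
    rw [LinearMap.comp_assoc, hl, LinearMap.comp_id]
  · intro h
    rw [hsplit]
    obtain ⟨e, -⟩ := Groth.Agent.S12292.result k B G.toExtension.Cotangent
    haveI : Subsingleton (Exal.Exalcom k B G.toExtension.Cotangent) :=
      e.subsingleton_congr.mpr (h G.toExtension.Cotangent)
    have h1 : (extOf (G := G) (LinearMap.id : G.toExtension.Cotangent →ₗ[B] _)).cl =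
        (extOf (G := G) (0 : G.toExtension.Cotangent →ₗ[B] G.toExtension.Cotangent)).cl :=
      Subsingleton.elim _ _
    rw [cl_eq_iff, sub_zero] at h1
    obtain ⟨ψ, hψ⟩ := h1
    exact ⟨ψ, hψ⟩

end T1

section Reg

variable (k B : Type u) [Field k] [IsAlgClosed k] [CommRing B] [Algebra k B]
  [Algebra.FiniteType k B]

theorem formallySmooth_of_regular
    (hB : ∀ (p : Ideal B) [p.IsPrime], IsRegularLocalRing (Localization.AtPrime p)) :
    Algebra.FormallySmooth k B := by
  haveI : Algebra.FinitePresentation k B := Algebra.FinitePresentation.of_finiteType.mp inferInstance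
  rw [← Algebra.smoothLocus_eq_univ_iff]
  by_contra hne
  have hopen : IsOpen (Algebra.smoothLocus k B) := Algebra.isOpen_smoothLocus
  have hclosed : IsClosed (Algebra.smoothLocus k B)ᶜ := hopen.isClosed_compl
  obtain ⟨J, hJ⟩ := (PrimeSpectrum.isClosed_iff_zeroLocus_ideal _).mp hclosed
  have hnonempty : ((Algebra.smoothLocus k B)ᶜ).Nonempty := by
    rw [Set.nonempty_compl]; exact hne
  obtain ⟨x, hx⟩ := hnonempty
  have hJx : J ≤ x.asIdeal := by
    rw [hJ] at hx
    exact (PrimeSpectrum.mem_zeroLocus _ _).mp hx
  have hJne : J ≠ ⊤ := fun h => x.2.ne_top (top_le_iff.mp (h ▸ hJx))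
  obtain ⟨m, hmax, hJm⟩ := Ideal.exists_le_maximal J hJne
  haveI := hmax
  have hm : (⟨m, hmax.isPrime⟩ : PrimeSpectrum B) ∈ (Algebra.smoothLocus k B)ᶜ := by
    rw [hJ]
    exact (PrimeSpectrum.mem_zeroLocus _ _).mpr hJm
  have hs : Algebra.IsSmoothAt k m := (Groth.Agent.S2116.result m).mp (hB m)
  exact hm hs

theorem regular_of_formallySmooth [Algebra.FormallySmooth k B] (p : Ideal B) [p.IsPrime] :
    IsRegularLocalRing (Localization.AtPrime p) := by
  obtain ⟨m, hmax, hpm⟩ := Ideal.exists_le_maximal p (Ideal.IsPrime.ne_top inferInstance)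
  haveI := hmax
  haveI : Algebra.FormallySmooth B (Localization.AtPrime m) := .of_isLocalization m.primeCompl
  have hs : Algebra.IsSmoothAt k m := Algebra.FormallySmooth.comp k B (Localization.AtPrime m)
  haveI hreg : IsRegularLocalRing (Localization.AtPrime m) :=
    (Groth.Agent.S2116.result m).mpr hs
  have hd : Disjoint (m.primeCompl : Set B) (p : Set B) := by
    rw [Set.disjoint_left]
    intro x hx hxp
    exact hx (hpm hxp)
  haveI hp' : (p.map (algebraMap B (Localization.AtPrime m))).IsPrime :=
    IsLocalization.isPrime_of_isPrime_disjoint m.primeCompl _ p inferInstance hd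
  have hcomap : (p.map (algebraMap B (Localization.AtPrime m))).comap
      (algebraMap B (Localization.AtPrime m)) = p :=
    IsLocalization.comap_map_of_isPrime_disjoint m.primeCompl _ inferInstance hd
  haveI h1 : IsRegularLocalRing
      (Localization.AtPrime (p.map (algebraMap B (Localization.AtPrime m)))) :=
    Groth.Agent.S0564.result (Localization.AtPrime m) _
  have h2 : IsRegularLocalRing (Localization.AtPrime
      ((p.map (algebraMap B (Localization.AtPrime m))).comap
        (algebraMap B (Localization.AtPrime m)))) :=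
    IsRegularLocalRing.of_ringEquiv
      (IsLocalization.algEquiv
        ((p.map (algebraMap B (Localization.AtPrime m))).comap
          (algebraMap B (Localization.AtPrime m))).primeCompl
        (Localization.AtPrime (p.map (algebraMap B (Localization.AtPrime m))))
        (Localization.AtPrime ((p.map (algebraMap B (Localization.AtPrime m))).comap
          (algebraMap B (Localization.AtPrime m))))).toRingEquiv
  have aux : ∀ (q : Ideal B) [q.IsPrime], q = p →
      IsRegularLocalRing (Localization.AtPrime q) → IsRegularLocalRing (Localization.AtPrime p) := by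
    intro q _ h
    subst h
    exact id
  exact aux _ hcomap h2

end Reg

section Final

variable {A B : Type u} [CommRing A] [CommRing B] [Algebra A B] {ι : Type u}

/-- the presentation of given generators with all elements of the kernel as relations -/
noncomputable def fullPres (G : Algebra.Generators A B ι) : Algebra.Presentation A B ι G.ker where
  __ := G
  relation := Subtype.val
  span_range_relation_eq_ker := by
    refine le_antisymm (Ideal.span_le.mpr ?_) fun x hx => Ideal.subset_span ⟨⟨x, hx⟩, rfl⟩
    rintro _ ⟨r, rfl⟩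
    exact r.2

theorem T2_canon_subsingleton (k B : Type u) [Field k] [IsAlgClosed k] [CommRing B] [Algebra k B]
    [Algebra.FiniteType k B]
    (hB : ∀ (p : Ideal B) [p.IsPrime], IsRegularLocalRing (Localization.AtPrime p))
    (M : Type u) [AddCommGroup M] [Module B M] : Subsingleton (CotT.T2 (CotT.canon k B) M) := by
  haveI := formallySmooth_of_regular k B hB
  obtain ⟨s, hs⟩ := (Algebra.FiniteType.out : (⊤ : Subalgebra k B).FG)
  let G := Algebra.Generators.ofSet hs
  haveI : Finite (↑(s : Set B)) := s.finite_toSet.to_subtype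
  haveI := Groth.Agent.Lib.Helper59.CotTSmooth.T2_subsingleton_of_regular (fullPres G) hB M
  obtain ⟨e⟩ := Groth.Agent.Lib.Helper59.CotTIndep.T2_equiv (fullPres G) (CotT.canon k B) M
  exact e.symm.toEquiv.subsingleton

end Final

end Groth.Agent.Lib.Helper59.CotTRegIff
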