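import Mathlib.RingTheory.Flat.Basic
import Mathlib.RingTheory.Ideal.Quotient.Operations
import Mathlib.RingTheory.TensorProduct.Basic
import Mathlib.LinearAlgebra.TensorProduct.Tower

/-! # Difference of two flat deformations of an ideal -/

set_option autoImplicit false
universe u
open scoped TensorProduct

namespace Groth.Agent.Lib.Helper59.DeformIdeal

variable {A' : Type u} [CommRing A'] (J : Ideal A') {B' : Type u} [CommRing B'] [Algebra A' B']

/-- The multiplication map `B' ⊗ J → B'`. -/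
noncomputable def mult (M : Type u) [AddCommGroup M] [Module A' M] : M ⊗[A'] ↥J →ₗ[A'] M :=
  (TensorProduct.rid A' M).toLinearMap ∘ₗ LinearMap.lTensor M (Submodule.subtype J)

@[simp] theorem mult_tmul (M : Type u) [AddCommGroup M] [Module A' M] (m : M) (j : ↥J) :
    mult J M (m ⊗ₜ[A'] j) = (j : A') • m := by
  simp [mult]

theorem mult_injective (M : Type u) [AddCommGroup M] [Module A' M] [Module.Flat A' M] :
    Function.Injective (mult J M) := by
  unfold mult
  rw [LinearMap.coe_comp]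
  exact (TensorProduct.rid A' M).injective.comp
    (Module.Flat.lTensor_preserves_injective_linearMap (M := M) (Submodule.subtype J)
      Subtype.val_injective)

theorem mult_rTensor {M N : Type u} [AddCommGroup M] [Module A' M] [AddCommGroup N] [Module A' N]
    (f : M →ₗ[A'] N) (t : M ⊗[A'] ↥J) :
    mult J N (LinearMap.rTensor ↥J f t) = f (mult J M t) := by
  induction t using TensorProduct.induction_on with
  | zero => simp
  | tmul m j => simp
  | add s s' hs hs' => simp only [map_add, hs, hs']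

/-- Lemma K: a tensor whose product lies in an ideal with flat quotient dies in any quotient
factoring through that ideal. -/
theorem rTensor_eq_zero_of_mult_mem {Q : Type u} [AddCommGroup Q] [Module A' Q]
    (π : B' →ₗ[A'] Q) (I₁ : Ideal B') [Module.Flat A' (B' ⧸ I₁)]
    (hπ : ∀ b ∈ I₁, π b = 0) (t : B' ⊗[A'] ↥J) (ht : mult J B' t ∈ I₁) :
    LinearMap.rTensor ↥J π t = 0 := by
  let q : B' →ₗ[A'] (B' ⧸ I₁) := (Submodule.mkQ I₁).restrictScalars A'
  have h1 : LinearMap.rTensor ↥J q t = 0 := by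
    apply mult_injective J (B' ⧸ I₁)
    rw [mult_rTensor, map_zero]
    exact (Submodule.Quotient.mk_eq_zero I₁).mpr ht
  let πbar : (B' ⧸ I₁) →ₗ[A'] Q :=
    (Submodule.liftQ (I₁.restrictScalars A') π (fun b hb => by
      rw [LinearMap.mem_ker]; exact hπ b hb))
  have h2 : π = πbar ∘ₗ q := by
    ext b
    rfl
  rw [h2, LinearMap.rTensor_comp, LinearMap.comp_apply, h1, map_zero]


theorem mult_smul (b : B') (z : B' ⊗[A'] ↥J) : mult J B' (b • z) = b * mult J B' z := by
  induction z using TensorProduct.induction_on with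
  | zero => simp
  | tmul m j =>
    rw [TensorProduct.smul_tmul', mult_tmul, mult_tmul, smul_eq_mul, mul_smul_comm]
  | add s s' hs hs' => simp only [smul_add, map_add, hs, hs', mul_add]

theorem exists_mult_eq (y : B') (hy : y ∈ J.map (algebraMap A' B')) :
    ∃ z : B' ⊗[A'] ↥J, mult J B' z = y := by
  unfold Ideal.map at hy
  induction hy using Submodule.span_induction with
  | mem y hy =>
    obtain ⟨a, ha, rfl⟩ := hy
    exact ⟨1 ⊗ₜ[A'] ⟨a, ha⟩, by rw [mult_tmul, Algebra.algebraMap_eq_smul_one]⟩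
  | zero => exact ⟨0, map_zero _⟩
  | add y y' _ _ hy hy' =>
    obtain ⟨z, rfl⟩ := hy
    obtain ⟨z', rfl⟩ := hy'
    exact ⟨z + z', map_add _ _ _⟩
  | smul b y _ hy =>
    obtain ⟨z, rfl⟩ := hy
    exact ⟨b • z, by rw [mult_smul, smul_eq_mul]⟩

section Main

variable (I : Ideal (B' ⧸ J.map (algebraMap A' B')))

/-- The projection `B' → (B'/JB')/I`. -/
noncomputable abbrev proj : B' →ₗ[A'] ((B' ⧸ J.map (algebraMap A' B')) ⧸ I) :=
  (IsScalarTower.toAlgHom A' B' ((B' ⧸ J.map (algebraMap A' B')) ⧸ I)).toLinearMap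

theorem proj_apply (b : B') :
    proj J I b = Ideal.Quotient.mk I (Ideal.Quotient.mk (J.map (algebraMap A' B')) b) := rfl

theorem proj_smul (b m : B') : proj J I (b • m) = b • proj J I m := by
  rw [proj_apply, proj_apply, smul_eq_mul, map_mul, map_mul]
  rfl

theorem rTensor_proj_smul (b : B') (z : B' ⊗[A'] ↥J) :
    LinearMap.rTensor ↥J (proj J I) (b • z) = b • LinearMap.rTensor ↥J (proj J I) z := by
  induction z using TensorProduct.induction_on with
  | zero => simp
  | tmul m j =>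
    rw [TensorProduct.smul_tmul', LinearMap.rTensor_tmul, LinearMap.rTensor_tmul, proj_smul,
      TensorProduct.smul_tmul']
  | add s s' hs hs' => simp only [smul_add, map_add, hs, hs']

variable {I}

theorem proj_eq_zero_of_mem (I₁ : Ideal B')
    (hI₁ : I₁.map (Ideal.Quotient.mk (J.map (algebraMap A' B'))) = I) (b : B') (hb : b ∈ I₁) :
    proj J I b = 0 := by
  rw [proj_apply, Ideal.Quotient.eq_zero_iff_mem, ← hI₁]
  exact Ideal.mem_map_of_mem _ hb

variable [Module.Flat A' B'] (I' I'' : Ideal B') [Module.Flat A' (B' ⧸ I')]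
  [Module.Flat A' (B' ⧸ I'')]
  (hI' : I'.map (Ideal.Quotient.mk (J.map (algebraMap A' B'))) = I)
  (hI'' : I''.map (Ideal.Quotient.mk (J.map (algebraMap A' B'))) = I)

include hI' hI'' in
/-- Lemma W: a tensor whose product is a difference of lifts of zero dies in the quotient. -/
theorem rTensor_proj_eq_zero (z : B' ⊗[A'] ↥J) (d' d'' : B') (hd' : d' ∈ I') (hd'' : d'' ∈ I'')
    (hd'J : d' ∈ J.map (algebraMap A' B')) (hd''J : d'' ∈ J.map (algebraMap A' B'))
    (hz : mult J B' z = d'' - d') : LinearMap.rTensor ↥J (proj J I) z = 0 := by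
  obtain ⟨t', ht'⟩ := exists_mult_eq J d' hd'J
  obtain ⟨t'', ht''⟩ := exists_mult_eq J d'' hd''J
  have hzt : z = t'' - t' := by
    apply mult_injective J B'
    rw [map_sub, hz, ht', ht'']
  rw [hzt, map_sub,
    rTensor_eq_zero_of_mult_mem J (proj J I) I' (proj_eq_zero_of_mem J I' hI') t' (ht' ▸ hd'),
    rTensor_eq_zero_of_mult_mem J (proj J I) I'' (proj_eq_zero_of_mem J I'' hI'') t''
      (ht'' ▸ hd''), sub_zero]

/-- The relation "`v` is the class of the difference of the two lifts of `x`". -/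
def Rel (I' I'' : Ideal B') (x : B' ⧸ J.map (algebraMap A' B'))
    (v : ((B' ⧸ J.map (algebraMap A' B')) ⧸ I) ⊗[A'] ↥J) : Prop :=
  ∃ x' ∈ I', ∃ x'' ∈ I'', Ideal.Quotient.mk (J.map (algebraMap A' B')) x' = x ∧
    Ideal.Quotient.mk (J.map (algebraMap A' B')) x'' = x ∧
    ∃ z : B' ⊗[A'] ↥J, mult J B' z = x'' - x' ∧ LinearMap.rTensor ↥J (proj J I) z = v

include hI' hI'' in
theorem Rel.unique {x : B' ⧸ J.map (algebraMap A' B')}
    {v w : ((B' ⧸ J.map (algebraMap A' B')) ⧸ I) ⊗[A'] ↥J}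
    (hv : Rel J (I := I) I' I'' x v) (hw : Rel J (I := I) I' I'' x w) : v = w := by
  obtain ⟨x', hx', x'', hx'', e', e'', z, hz, rfl⟩ := hv
  obtain ⟨y', hy', y'', hy'', f', f'', t, ht, rfl⟩ := hw
  rw [← sub_eq_zero, ← map_sub]
  refine rTensor_proj_eq_zero J I' I'' hI' hI'' (z - t) (x' - y') (x'' - y'')
    (I'.sub_mem hx' hy') (I''.sub_mem hx'' hy'') ?_ ?_ ?_
  · rw [← Ideal.Quotient.eq_zero_iff_mem, map_sub, e', f', sub_self]
  · rw [← Ideal.Quotient.eq_zero_iff_mem, map_sub, e'', f'', sub_self]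
  · rw [map_sub, hz, ht]; ring

omit [Module.Flat A' B'] [Module.Flat A' (B' ⧸ I')] [Module.Flat A' (B' ⧸ I'')] in
theorem Rel.add {x y : B' ⧸ J.map (algebraMap A' B')}
    {v w : ((B' ⧸ J.map (algebraMap A' B')) ⧸ I) ⊗[A'] ↥J}
    (hv : Rel J (I := I) I' I'' x v) (hw : Rel J (I := I) I' I'' y w) :
    Rel J (I := I) I' I'' (x + y) (v + w) := by
  obtain ⟨x', hx', x'', hx'', e', e'', z, hz, rfl⟩ := hv
  obtain ⟨y', hy', y'', hy'', f', f'', t, ht, rfl⟩ := hw
  refine ⟨x' + y', I'.add_mem hx' hy', x'' + y'', I''.add_mem hx'' hy'', by rw [map_add, e', f'],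
    by rw [map_add, e'', f''], z + t, ?_, map_add _ _ _⟩
  rw [map_add, hz, ht]; ring

omit [Module.Flat A' B'] [Module.Flat A' (B' ⧸ I')] [Module.Flat A' (B' ⧸ I'')] in
theorem Rel.smul (b : B') {x : B' ⧸ J.map (algebraMap A' B')}
    {v : ((B' ⧸ J.map (algebraMap A' B')) ⧸ I) ⊗[A'] ↥J}
    (hv : Rel J (I := I) I' I'' x v) :
    Rel J (I := I) I' I'' (b • x) (b • v) := by
  obtain ⟨x', hx', x'', hx'', e', e'', z, hz, rfl⟩ := hv
  refine ⟨b * x', I'.mul_mem_left b hx', b * x'', I''.mul_mem_left b hx'', ?_, ?_, b • z, ?_,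
    rTensor_proj_smul J I b z⟩
  · rw [map_mul, e', Algebra.smul_def]; rfl
  · rw [map_mul, e'', Algebra.smul_def]; rfl
  · rw [mult_smul, hz]; ring

omit [Module.Flat A' B'] [Module.Flat A' (B' ⧸ I')] [Module.Flat A' (B' ⧸ I'')] in
include hI' hI'' in
theorem Rel.exists (x : B' ⧸ J.map (algebraMap A' B')) (hx : x ∈ I) :
    ∃ v, Rel J (I := I) I' I'' x v := by
  have h1 : x ∈ I'.map (Ideal.Quotient.mk (J.map (algebraMap A' B'))) := hI' ▸ hx
  have h2 : x ∈ I''.map (Ideal.Quotient.mk (J.map (algebraMap A' B'))) := hI'' ▸ hx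
  obtain ⟨x', hx', e'⟩ :=
    (Ideal.mem_map_iff_of_surjective _ Ideal.Quotient.mk_surjective).mp h1
  obtain ⟨x'', hx'', e''⟩ :=
    (Ideal.mem_map_iff_of_surjective _ Ideal.Quotient.mk_surjective).mp h2
  have hd : x'' - x' ∈ J.map (algebraMap A' B') := by
    rw [← Ideal.Quotient.eq_zero_iff_mem, map_sub, e', e'', sub_self]
  obtain ⟨z, hz⟩ := exists_mult_eq J _ hd
  exact ⟨_, x', hx', x'', hx'', e', e'', z, hz, rfl⟩

include hI' hI'' in
/-- Two flat lifts of an ideal differ by a unique linear map. -/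
theorem existsUnique_hom :
    ∃! φ : ↥I →ₗ[B'] (((B' ⧸ J.map (algebraMap A' B')) ⧸ I) ⊗[A'] ↥J),
      (∀ (x : (B' ⧸ J.map (algebraMap A' B'))) (hx : x ∈ I) (x' x'' : B'), x' ∈ I' → x'' ∈ I'' →
          Ideal.Quotient.mk (J.map (algebraMap A' B')) x' = x →
          Ideal.Quotient.mk (J.map (algebraMap A' B')) x'' = x →
          ∀ z : B' ⊗[A'] ↥J,
            TensorProduct.rid A' B' (LinearMap.lTensor B' (Submodule.subtype J) z) = x'' - x' →
            LinearMap.rTensor ↥J
              (IsScalarTower.toAlgHom A' B' ((B' ⧸ J.map (algebraMap A' B')) ⧸ I)).toLinearMap z =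
              φ ⟨x, hx⟩) := by
  classical
  have hex := Rel.exists J I' I'' hI' hI''
  let φ : ↥I →ₗ[B'] (((B' ⧸ J.map (algebraMap A' B')) ⧸ I) ⊗[A'] ↥J) :=
    { toFun := fun x => (hex x.1 x.2).choose
      map_add' := fun x y =>
        Rel.unique J I' I'' hI' hI'' (hex (x + y).1 (x + y).2).choose_spec
          (Rel.add J I' I'' (hex x.1 x.2).choose_spec (hex y.1 y.2).choose_spec)
      map_smul' := fun b x =>
        Rel.unique J I' I'' hI' hI'' (hex (b • x).1 (b • x).2).choose_spec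
          (Rel.smul J I' I'' b (hex x.1 x.2).choose_spec) }
  refine ⟨φ, ?_, ?_⟩
  · intro x hx x' x'' hx' hx'' e' e'' z hz
    exact Rel.unique J I' I'' hI' hI'' ⟨x', hx', x'', hx'', e', e'', z, hz, rfl⟩
      (hex x hx).choose_spec
  · intro ψ hψ
    ext ⟨x, hx⟩
    obtain ⟨x', hx', x'', hx'', e', e'', z, hz, hv⟩ := (hex x hx).choose_spec
    rw [← hψ x hx x' x'' hx' hx'' e' e'' z hz]
    exact hv

end Main

end Groth.Agent.Lib.Helper59.DeformIdeal
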