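import Groth.Agent.Lib.Helper59.DeformIdeal
import Mathlib.LinearAlgebra.TensorProduct.RightExactness

/-! # Generators of a flat lift of an ideal -/

set_option autoImplicit false
universe u
open scoped TensorProduct

namespace Groth.Agent.Lib.Helper59.DeformIdeal

variable {A' : Type u} [CommRing A'] (J : Ideal A') {B' : Type u} [CommRing B'] [Algebra A' B']

/-- For an ideal with flat quotient, `I' ∩ JB' = JB' · I'`. -/
theorem mem_mul_of_mem_inf (I' : Ideal B') [Module.Flat A' (B' ⧸ I')] {c : B'} (hc : c ∈ I')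
    (hcJ : c ∈ J.map (algebraMap A' B')) : c ∈ J.map (algebraMap A' B') * I' := by
  obtain ⟨z, rfl⟩ := exists_mult_eq J c hcJ
  let q : B' →ₗ[A'] (B' ⧸ I') := (Submodule.mkQ I').restrictScalars A'
  have h1 : LinearMap.rTensor ↥J q z = 0 := by
    apply mult_injective J (B' ⧸ I')
    rw [mult_rTensor, map_zero]
    exact (Submodule.Quotient.mk_eq_zero I').mpr hc
  have hex := rTensor_exact ↥J (LinearMap.exact_subtype_mkQ (I'.restrictScalars A'))
    (Submodule.mkQ_surjective _)
  obtain ⟨s, rfl⟩ := (hex z).mp h1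
  clear h1 hc hcJ
  induction s using TensorProduct.induction_on with
  | zero => simp
  | tmul x j =>
    rw [LinearMap.rTensor_tmul, mult_tmul]
    change (j : A') • (x : B') ∈ _
    rw [Algebra.smul_def]
    exact Ideal.mul_mem_mul (Ideal.mem_map_of_mem _ j.2) x.2
  | add s s' hs hs' =>
    rw [map_add, map_add]
    exact Ideal.add_mem _ hs hs'

/-- A flat lift of an ideal generated by `a` is generated by lifts of the `a i`. -/
theorem exists_generators_lift (hJ : J * J = ⊥) {r : ℕ}
    (a : Fin r → B' ⧸ J.map (algebraMap A' B')) (I' : Ideal B') [Module.Flat A' (B' ⧸ I')]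
    (hI' : I'.map (Ideal.Quotient.mk (J.map (algebraMap A' B'))) = Ideal.span (Set.range a)) :
    ∃ a' : Fin r → B', (∀ i, Ideal.Quotient.mk (J.map (algebraMap A' B')) (a' i) = a i) ∧
      I' = Ideal.span (Set.range a') := by
  have hex : ∀ i, ∃ x ∈ I', Ideal.Quotient.mk (J.map (algebraMap A' B')) x = a i := by
    intro i
    have : a i ∈ I'.map (Ideal.Quotient.mk (J.map (algebraMap A' B'))) := by
      rw [hI']; exact Ideal.subset_span ⟨i, rfl⟩
    exact (Ideal.mem_map_iff_of_surjective _ Ideal.Quotient.mk_surjective).mp this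
  choose a' ha'mem ha' using hex
  refine ⟨a', ha', ?_⟩
  have hle : Ideal.span (Set.range a') ≤ I' := by
    rw [Ideal.span_le]
    rintro _ ⟨i, rfl⟩
    exact ha'mem i
  have hmap : (Ideal.span (Set.range a')).map (Ideal.Quotient.mk (J.map (algebraMap A' B'))) =
      Ideal.span (Set.range a) := by
    rw [Ideal.map_span]
    congr 1
    ext y
    constructor
    · rintro ⟨_, ⟨i, rfl⟩, rfl⟩
      exact ⟨i, (ha' i).symm⟩
    · rintro ⟨i, rfl⟩
      exact ⟨a' i, ⟨i, rfl⟩, ha' i⟩
  have hJJ : ∀ x ∈ J.map (algebraMap A' B'), ∀ y ∈ J.map (algebraMap A' B'), x * y = 0 := by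
    intro x hx y hy
    have : x * y ∈ J.map (algebraMap A' B') * J.map (algebraMap A' B') := Ideal.mul_mem_mul hx hy
    rw [← Ideal.map_mul, hJ, Ideal.map_bot] at this
    exact Ideal.mem_bot.mp this
  have hdecomp : ∀ x ∈ I', ∃ y ∈ Ideal.span (Set.range a'),
      x - y ∈ J.map (algebraMap A' B') * I' := by
    intro x hx
    have h1 : Ideal.Quotient.mk (J.map (algebraMap A' B')) x ∈
        (Ideal.span (Set.range a')).map (Ideal.Quotient.mk (J.map (algebraMap A' B'))) := by
      rw [hmap, ← hI']; exact Ideal.mem_map_of_mem _ hx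
    obtain ⟨y, hy, hyx⟩ :=
      (Ideal.mem_map_iff_of_surjective _ Ideal.Quotient.mk_surjective).mp h1
    refine ⟨y, hy, mem_mul_of_mem_inf J I' (I'.sub_mem hx (hle hy)) ?_⟩
    rw [← Ideal.Quotient.eq_zero_iff_mem, map_sub, hyx, sub_self]
  have hmul : J.map (algebraMap A' B') * I' ≤ Ideal.span (Set.range a') := by
    rw [Ideal.mul_le]
    intro r hr x hx
    obtain ⟨y, hy, hc⟩ := hdecomp x hx
    have hc' : x - y ∈ J.map (algebraMap A' B') := Ideal.mul_le_left hc
    have : r * x = r * y := by
      have := hJJ r hr _ hc'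
      rw [mul_sub, sub_eq_zero] at this
      exact this
    rw [this]
    exact Ideal.mul_mem_left _ _ hy
  apply le_antisymm _ hle
  intro x hx
  obtain ⟨y, hy, hc⟩ := hdecomp x hx
  have : x = y + (x - y) := by ring
  rw [this]
  exact Ideal.add_mem _ hy (hmul hc)

end Groth.Agent.Lib.Helper59.DeformIdeal
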