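import Mathlib

/-!
# A section of a square-zero extension from a derivation on its base change (helper59)

Let `E₀ → B₀` be a surjection of `k`-algebras with square-zero kernel, `A'` a `k`-algebra, `a : A'`
and `lam : A' → k` a `k`-linear functional with `lam a = 1`.  If `A' ⊗ E₀` has a `k`-derivation
into the kernel of `A' ⊗ E₀ → A' ⊗ B₀` which is multiplication by `a` on this kernel, then
`E₀ → B₀` has a `k`-algebra section.
-/

set_option autoImplicit false

open TensorProduct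

namespace Groth.Agent.Lib.Helper59.DerSection

variable {k : Type*} [CommRing k]
variable {A' E₀ B₀ : Type*} [CommRing A'] [Algebra k A'] [CommRing E₀] [Algebra k E₀]
  [CommRing B₀] [Algebra k B₀]

/-- contraction with a functional. -/
noncomputable def contr (lam : A' →ₗ[k] k) (M : Type*) [AddCommGroup M] [Module k M] :
    A' ⊗[k] M →ₗ[k] M :=
  (TensorProduct.lid k M).toLinearMap ∘ₗ LinearMap.rTensor M lam

variable (lam : A' →ₗ[k] k)

@[simp] theorem contr_tmul {M : Type*} [AddCommGroup M] [Module k M] (a : A') (m : M) :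
    contr lam M (a ⊗ₜ m) = lam a • m := by
  simp [contr]

theorem contr_mul (e : E₀) (z : A' ⊗[k] E₀) :
    contr lam E₀ ((1 ⊗ₜ e) * z) = e * contr lam E₀ z := by
  induction z using TensorProduct.induction_on with
  | zero => simp
  | tmul a e' =>
    rw [Algebra.TensorProduct.tmul_mul_tmul, one_mul, contr_tmul, contr_tmul, mul_smul_comm]
  | add x y hx hy => rw [mul_add, map_add, hx, hy, map_add, mul_add]

theorem contr_map (p₀ : E₀ →ₐ[k] B₀) (z : A' ⊗[k] E₀) :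
    p₀ (contr lam E₀ z) = contr lam B₀ (Algebra.TensorProduct.map (AlgHom.id k A') p₀ z) := by
  induction z using TensorProduct.induction_on with
  | zero => simp
  | tmul a e =>
    rw [Algebra.TensorProduct.map_tmul, contr_tmul, contr_tmul, map_smul, AlgHom.id_apply]
  | add x y hx hy => rw [map_add, map_add, hx, hy, map_add, map_add]

theorem exists_section_of_derivation (p₀ : E₀ →ₐ[k] B₀) (hp₀ : Function.Surjective p₀)
    (hsq : ∀ x y, p₀ x = 0 → p₀ y = 0 → x * y = 0)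
    (a : A') (hlam : lam a = 1)
    (δ : Derivation k (A' ⊗[k] E₀) (A' ⊗[k] E₀))
    (h1 : ∀ z, Algebra.TensorProduct.map (AlgHom.id k A') p₀ (δ z) = 0)
    (h2 : ∀ z, Algebra.TensorProduct.map (AlgHom.id k A') p₀ z = 0 → δ z = a • z) :
    ∃ s : B₀ →ₐ[k] E₀, ∀ b, p₀ (s b) = b := by
  let δ₀ : E₀ →ₗ[k] E₀ := contr lam E₀ ∘ₗ δ.toLinearMap ∘ₗ (TensorProduct.mk k A' E₀ 1)
  have hδ₀ : ∀ e, δ₀ e = contr lam E₀ (δ ((1 : A') ⊗ₜ e)) := fun e => rfl
  have hker : ∀ e, p₀ (δ₀ e) = 0 := by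
    intro e
    rw [hδ₀, contr_map, h1, map_zero]
  have hmul : ∀ e e', δ₀ (e * e') = e * δ₀ e' + e' * δ₀ e := by
    intro e e'
    have h : ((1 : A') ⊗ₜ[k] (e * e')) = ((1 : A') ⊗ₜ[k] e) * ((1 : A') ⊗ₜ[k] e') := by
      rw [Algebra.TensorProduct.tmul_mul_tmul, one_mul]
    rw [hδ₀, h, Derivation.leibniz, map_add, smul_eq_mul, smul_eq_mul, contr_mul, contr_mul]
    rfl
  have hid : ∀ m, p₀ m = 0 → δ₀ m = m := by
    intro m hm
    have h : Algebra.TensorProduct.map (AlgHom.id k A') p₀ ((1 : A') ⊗ₜ[k] m) = 0 := by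
      rw [Algebra.TensorProduct.map_tmul, hm, tmul_zero]
    rw [hδ₀, h2 _ h, TensorProduct.smul_tmul', smul_eq_mul, mul_one, contr_tmul, hlam, one_smul]
  let σ : E₀ →ₐ[k] E₀ := AlgHom.ofLinearMap (LinearMap.id - δ₀)
    (by
      show (1 : E₀) - δ₀ 1 = 1
      have : δ₀ 1 = 0 := by
        rw [hδ₀]
        have h : ((1 : A') ⊗ₜ[k] (1 : E₀)) = 1 := rfl
        rw [h, Derivation.map_one_eq_zero, map_zero]
      rw [this, sub_zero])
    (by
      intro e e'
      show e * e' - δ₀ (e * e') = (e - δ₀ e) * (e' - δ₀ e')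
      rw [hmul]
      have : δ₀ e * δ₀ e' = 0 := hsq _ _ (hker e) (hker e')
      have h3 : (e - δ₀ e) * (e' - δ₀ e') = e * e' - e * δ₀ e' - e' * δ₀ e + δ₀ e * δ₀ e' := by
        ring
      rw [h3, this, add_zero, sub_sub])
  have hσ : ∀ e, σ e = e - δ₀ e := fun e => rfl
  have hσker : ∀ m ∈ RingHom.ker (p₀ : E₀ →+* B₀), σ m = 0 := by
    intro m hm
    rw [hσ, hid m hm, sub_self]
  let σ' : (E₀ ⧸ RingHom.ker (p₀ : E₀ →+* B₀)) →ₐ[k] E₀ :=
    Ideal.Quotient.liftₐ (RingHom.ker (p₀ : E₀ →+* B₀)) σ hσker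
  let eq : (E₀ ⧸ RingHom.ker (p₀ : E₀ →+* B₀)) ≃ₐ[k] B₀ :=
    Ideal.quotientKerAlgEquivOfSurjective hp₀
  refine ⟨σ'.comp eq.symm.toAlgHom, fun b => ?_⟩
  obtain ⟨e, rfl⟩ := hp₀ b
  have h3 : eq.symm (p₀ e) = Ideal.Quotient.mk _ e := by
    rw [AlgEquiv.symm_apply_eq]
    rfl
  show p₀ (σ' (eq.symm (p₀ e))) = p₀ e
  rw [h3]
  show p₀ (σ e) = p₀ e
  rw [hσ, map_sub, hker, sub_zero]

end Groth.Agent.Lib.Helper59.DerSection
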