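import Groth.Agent.Lib.Helper59.GLinMu
import Mathlib.RingTheory.Coalgebra.GroupLike
import Mathlib.LinearAlgebra.Basis.Basic

/-! # The numerical function of a diagonalizable group acting linearly -/

set_option autoImplicit false
universe u
open TensorProduct LaurentPolynomial

namespace Groth.Agent.Lib.Helper59.DiagMu

open Groth.Agent.Lib.Helper59

variable {k : Type u} [Field k] {A : Type u} [CommRing A] [Bialgebra k A]
  {ι : Type u} [Fintype ι] [HopfRep.Comod k A (MvPolynomial ι k)]
  [GLin.IsCoactAlg k A (MvPolynomial ι k)]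

section Matrix

variable (M : ι → ι → A)
  (hM : ∀ i, HopfRep.Comod.coact (k := k) (A := A) (MvPolynomial.X i : MvPolynomial ι k) =
    ∑ j, (MvPolynomial.X j : MvPolynomial ι k) ⊗ₜ[k] M i j)

include hM in
theorem orbitHom_X (v : ι → k) (i : ι) :
    GLin.orbitHom k A (GLin.vecPt k ι v) (MvPolynomial.X i) = ∑ j, v j • M i j := by
  have h3 : GLin.orbitHom k A (GLin.vecPt k ι v) (MvPolynomial.X i) =
      (Algebra.TensorProduct.lid k A)
        ((Algebra.TensorProduct.map (GLin.vecPt k ι v) (AlgHom.id k A))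
          (HopfRep.Comod.coact (k := k) (A := A) (MvPolynomial.X i))) := rfl
  rw [h3, hM, map_sum, map_sum]
  refine Finset.sum_congr rfl fun j _ => ?_
  simp

include hM in
theorem orbCoord_eq (lam : A →ₐc[k] k[T;T⁻¹]) (v : ι → k) (i : ι) :
    orbCoord lam v i = ∑ j, v j • lam (M i j) := by
  have h : orbCoord lam v i =
      lam (GLin.orbitHom k A (GLin.vecPt k ι v) (MvPolynomial.X i)) := rfl
  rw [h, orbitHom_X M hM, map_sum]
  refine Finset.sum_congr rfl fun j _ => ?_
  rw [map_smul]

omit [GLin.IsCoactAlg k A (MvPolynomial ι k)] in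
include hM in
theorem comul_M (i l : ι) :
    Coalgebra.comul (R := k) (M i l) = ∑ j, M j l ⊗ₜ[k] M i j := by
  classical
  have h := LinearMap.congr_fun
    (HopfRep.Comod.coassoc (k := k) (A := A) (V := MvPolynomial ι k)) (MvPolynomial.X i)
  simp only [LinearMap.coe_comp, Function.comp_apply, LinearEquiv.coe_coe] at h
  rw [hM] at h
  simp only [map_sum, LinearMap.rTensor_tmul, LinearMap.lTensor_tmul, hM, TensorProduct.sum_tmul,
    TensorProduct.assoc_tmul] at h
  let c : MvPolynomial ι k ⊗[k] (A ⊗[k] A) →ₗ[k] A ⊗[k] A :=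
    (TensorProduct.lid k (A ⊗[k] A)).toLinearMap ∘ₗ
      (MvPolynomial.lcoeff k (Finsupp.single l 1)).rTensor (A ⊗[k] A)
  have hc : ∀ (l' : ι) (y : A ⊗[k] A),
      c ((MvPolynomial.X l' : MvPolynomial ι k) ⊗ₜ[k] y) = if l' = l then y else 0 := by
    intro l' y
    simp only [c, LinearMap.coe_comp, Function.comp_apply, LinearEquiv.coe_coe,
      LinearMap.rTensor_tmul, MvPolynomial.lcoeff_apply, TensorProduct.lid_tmul,
      MvPolynomial.coeff_X, Finsupp.single_left_inj (one_ne_zero : (1 : ℕ) ≠ 0)]
    split_ifs <;> simp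
  have h' := congrArg c h
  simp only [map_sum, hc, Finset.sum_ite_eq', Finset.mem_univ, if_true] at h'
  exact h'.symm

end Matrix

section Basis

variable (hdiag : HopfRep.IsDiagonalizable k A)

/-- The basis of group-like elements of a diagonalizable Hopf algebra. -/
noncomputable def glBasis : Module.Basis (GroupLike k A) k A :=
  Module.Basis.mk (linearIndep_groupLikeVal (R := k) (A := A)) (by
    rw [top_le_iff]
    have : Set.range (GroupLike.val (R := k) (A := A)) = {a : A | IsGroupLikeElem k a} := by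
      ext a
      exact ⟨fun ⟨g, hg⟩ => hg ▸ g.2, fun ha => ⟨⟨a, ha⟩, rfl⟩⟩
    rw [this]
    exact hdiag)

theorem glBasis_apply (g : GroupLike k A) : glBasis hdiag g = g.val := by
  simp [glBasis]

open Classical in
theorem coord_val (g h : GroupLike k A) :
    (glBasis hdiag).coord g h.val = if h = g then 1 else 0 := by
  rw [← glBasis_apply hdiag h, Module.Basis.coord_apply, Module.Basis.repr_self,
    Finsupp.single_apply]

open Classical in
theorem coord_comul (g : GroupLike k A) (a : A) :
    TensorProduct.lid k A (((glBasis hdiag).coord g).rTensor A (Coalgebra.comul (R := k) a)) =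
      (glBasis hdiag).coord g a • g.val := by
  have key : (TensorProduct.lid k A).toLinearMap ∘ₗ ((glBasis hdiag).coord g).rTensor A ∘ₗ
      Coalgebra.comul =
      (LinearMap.toSpanSingleton k A g.val) ∘ₗ ((glBasis hdiag).coord g) := by
    apply (glBasis hdiag).ext
    intro h
    simp only [LinearMap.coe_comp, Function.comp_apply, LinearEquiv.coe_coe, glBasis_apply,
      h.2.comul_eq_tmul_self, LinearMap.rTensor_tmul, TensorProduct.lid_tmul,
      LinearMap.toSpanSingleton_apply, coord_val]
    split_ifs with hgh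
    · rw [hgh]
    · simp
  exact LinearMap.congr_fun key a

end Basis

section Weights

variable (hdiag : HopfRep.IsDiagonalizable k A) (M : ι → ι → A)
  (hM : ∀ i, HopfRep.Comod.coact (k := k) (A := A) (MvPolynomial.X i : MvPolynomial ι k) =
    ∑ j, (MvPolynomial.X j : MvPolynomial ι k) ⊗ₜ[k] M i j)

/-- The weight components of a vector. -/
noncomputable def wt (v : ι → k) (g : GroupLike k A) (i : ι) : k :=
  ∑ j, v j * (glBasis hdiag).coord g (M i j)

omit [GLin.IsCoactAlg k A (MvPolynomial ι k)] in
include hM in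
theorem coord_smul_sum (g : GroupLike k A) (i l : ι) :
    ∑ j, (glBasis hdiag).coord g (M j l) • M i j = (glBasis hdiag).coord g (M i l) • g.val := by
  have h := coord_comul hdiag g (M i l)
  rw [comul_M M hM, map_sum, map_sum] at h
  simp only [LinearMap.rTensor_tmul, TensorProduct.lid_tmul] at h
  exact h

omit [GLin.IsCoactAlg k A (MvPolynomial ι k)] in
include hM in
theorem wt_orbit (v : ι → k) (g : GroupLike k A) (i : ι) :
    ∑ j, wt hdiag M v g j • M i j = wt hdiag M v g i • g.val := by
  unfold wt
  simp only [Finset.sum_smul, mul_smul]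
  rw [Finset.sum_comm]
  simp only [← Finset.smul_sum, coord_smul_sum hdiag M hM]

omit [Fintype ι] [HopfRep.Comod k A (MvPolynomial ι k)]
  [GLin.IsCoactAlg k A (MvPolynomial ι k)] in
theorem M_eq_sum (S : Finset (GroupLike k A))
    (hS : ∀ i j, ((glBasis hdiag).repr (M i j)).support ⊆ S) (i j : ι) :
    M i j = ∑ g ∈ S, (glBasis hdiag).coord g (M i j) • g.val := by
  conv_lhs => rw [← (glBasis hdiag).linearCombination_repr (M i j)]
  rw [Finsupp.linearCombination_apply, Finsupp.sum_of_support_subset _ (hS i j)]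
  · refine Finset.sum_congr rfl fun g _ => ?_
    rw [glBasis_apply, Module.Basis.coord_apply]
  · intro g _; exact zero_smul _ _

omit [HopfRep.Comod k A (MvPolynomial ι k)] [GLin.IsCoactAlg k A (MvPolynomial ι k)] in
theorem sum_smul_M_eq (S : Finset (GroupLike k A))
    (hS : ∀ i j, ((glBasis hdiag).repr (M i j)).support ⊆ S) (v : ι → k) (i : ι) :
    ∑ j, v j • M i j = ∑ g ∈ S, wt hdiag M v g i • g.val := by
  symm
  unfold wt
  simp only [Finset.sum_smul, mul_smul]
  rw [Finset.sum_comm]
  refine Finset.sum_congr rfl fun j _ => ?_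
  rw [← Finset.smul_sum, ← M_eq_sum hdiag M S hS]

omit [GLin.IsCoactAlg k A (MvPolynomial ι k)] in
include hM in
theorem wt_eq_zero_of_sum (v : ι → k) (S' : Finset (GroupLike k A))
    (h : ∀ i, ∑ g ∈ S', wt hdiag M v g i = 0) : ∀ g ∈ S', ∀ i, wt hdiag M v g i = 0 := by
  intro g hg i
  have h1 : ∑ g ∈ S', wt hdiag M v g i • g.val = 0 := by
    calc ∑ g ∈ S', wt hdiag M v g i • g.val
        = ∑ g ∈ S', ∑ j, wt hdiag M v g j • M i j := by simp only [wt_orbit hdiag M hM]
      _ = ∑ j, (∑ g ∈ S', wt hdiag M v g j) • M i j := by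
          rw [Finset.sum_comm]; simp only [Finset.sum_smul]
      _ = 0 := by simp only [h, zero_smul, Finset.sum_const_zero]
  have hli := linearIndep_groupLikeVal (R := k) (A := A)
  rw [linearIndependent_iff'] at hli
  exact hli S' (fun g => wt hdiag M v g i) h1 g hg

include hM in
theorem sum_wt (S : Finset (GroupLike k A))
    (hS : ∀ i j, ((glBasis hdiag).repr (M i j)).support ⊆ S) (v : ι → k) (i : ι) :
    ∑ g ∈ S, wt hdiag M v g i = v i := by
  have h1 := counit_orbitHom (k := k) (A := A) (GLin.vecPt k ι v) (MvPolynomial.X i)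
  rw [orbitHom_X M hM, sum_smul_M_eq hdiag M S hS, map_sum] at h1
  have h2 : ∀ g ∈ S, Coalgebra.counit (R := k) (wt hdiag M v g i • g.val) = wt hdiag M v g i := by
    intro g _
    rw [map_smul, g.2.counit_eq_one, smul_eq_mul, mul_one]
  rw [Finset.sum_congr rfl h2] at h1
  simpa using h1

end Weights

theorem sum_equivFin {α β : Type*} [AddCommMonoid β] (S : Finset α) (f : α → β) :
    ∑ g ∈ S, f g = ∑ n : Fin S.card, f (S.equivFin.symm n : S).1 := by
  rw [← Finset.sum_coe_sort S f]
  exact (Equiv.sum_comp S.equivFin.symm (fun x : S => f x.1)).symm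

theorem main (hdiag : HopfRep.IsDiagonalizable k A) (hlin : GLin.IsLinear k A ι) :
    ∃ (N : ℕ) (χ : Fin N → A), (∀ j, IsGroupLikeElem k (χ j)) ∧
      ∀ v : ι → k, v ≠ 0 → ∃ I : Finset (Fin N), I.Nonempty ∧
        ∀ (lam : A →ₐc[k] k[T;T⁻¹]) (e : Fin N → ℤ),
          (∀ j, lam (χ j) = LaurentPolynomial.T (e j)) →
          ∀ m : ℤ, GLin.IsMu k A lam v m ↔ ((∀ j ∈ I, -e j ≤ m) ∧ ∃ j ∈ I, m = -e j) := by
  classical
  choose M hM using hlin
  let S : Finset (GroupLike k A) :=
    Finset.univ.biUnion (fun ij : ι × ι => ((glBasis hdiag).repr (M ij.1 ij.2)).support)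
  have hS : ∀ i j, ((glBasis hdiag).repr (M i j)).support ⊆ S := fun i j =>
    Finset.subset_biUnion_of_mem
      (fun ij : ι × ι => ((glBasis hdiag).repr (M ij.1 ij.2)).support) (Finset.mem_univ (i, j))
  let gl : Fin S.card → GroupLike k A := fun n => (S.equivFin.symm n : S).1
  have gl_inj : Function.Injective gl :=
    Subtype.val_injective.comp S.equivFin.symm.injective
  refine ⟨S.card, fun n => (gl n).val, fun n => (gl n).2, fun v hv => ?_⟩
  let W : Fin S.card → ι → k := fun n i => wt hdiag M v (gl n) i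
  have hsumW : ∀ i, ∑ n, W n i = v i := by
    intro i
    rw [← sum_wt hdiag M hM S hS v i]
    exact (sum_equivFin S (fun g => wt hdiag M v g i)).symm
  refine ⟨Finset.univ.filter (fun n => ∃ i, W n i ≠ 0), ?_, ?_⟩
  · obtain ⟨i, hi⟩ : ∃ i, v i ≠ 0 := by
      by_contra hcon
      push Not at hcon
      exact hv (funext hcon)
    rw [← hsumW i] at hi
    obtain ⟨n, -, hn⟩ := Finset.exists_ne_zero_of_sum_ne_zero hi
    exact ⟨n, Finset.mem_filter.mpr ⟨Finset.mem_univ _, i, hn⟩⟩
  · intro lam e he m
    have horb : ∀ i, orbCoord lam v i = ∑ n, W n i • T (e n) := by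
      intro i
      have h : orbCoord lam v i =
          lam (GLin.orbitHom k A (GLin.vecPt k ι v) (MvPolynomial.X i)) := rfl
      rw [h, orbitHom_X M hM, sum_smul_M_eq hdiag M S hS, sum_equivFin, map_sum]
      refine Finset.sum_congr rfl fun n _ => ?_
      rw [map_smul]
      exact congrArg _ (he n)
    have hcoef : ∀ i t, (orbCoord lam v i).coeff t = ∑ n, if e n = t then W n i else 0 := by
      intro i t
      rw [horb, AddMonoidAlgebra.coeff_sum, Finsupp.finsetSum_apply]
      refine Finset.sum_congr rfl fun n _ => ?_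
      rw [AddMonoidAlgebra.coeff_smul, Finsupp.smul_apply, T, AddMonoidAlgebra.coeff_single,
        Finsupp.single_apply]
      split_ifs <;> simp
    have hindep : ∀ t : ℤ, (∀ i, (orbCoord lam v i).coeff t = 0) →
        ∀ n, e n = t → ∀ i, W n i = 0 := by
      intro t ht n hn i
      let S' : Finset (GroupLike k A) := (Finset.univ.filter (fun n => e n = t)).image gl
      have hsum : ∀ i, ∑ g ∈ S', wt hdiag M v g i = 0 := by
        intro i
        rw [Finset.sum_image (fun a _ b _ hab => gl_inj hab), Finset.sum_filter, ← hcoef]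
        exact ht i
      exact wt_eq_zero_of_sum hdiag M hM v S' hsum (gl n)
        (Finset.mem_image.mpr ⟨n, Finset.mem_filter.mpr ⟨Finset.mem_univ _, hn⟩, rfl⟩) i
    rw [isMu_iff]
    constructor
    · rintro ⟨h1, i0, hi0⟩
      constructor
      · intro n hn
        obtain ⟨-, i, hi⟩ := Finset.mem_filter.mp hn
        by_contra hlt
        push Not at hlt
        exact hi (hindep (e n) (fun i => h1 i (e n) (by omega)) n rfl i)
      · rw [hcoef] at hi0
        obtain ⟨n, -, hn⟩ := Finset.exists_ne_zero_of_sum_ne_zero hi0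
        by_cases hen : e n = -m
        · rw [if_pos hen] at hn
          exact ⟨n, Finset.mem_filter.mpr ⟨Finset.mem_univ _, i0, hn⟩, by omega⟩
        · rw [if_neg hen] at hn
          exact absurd rfl hn
    · rintro ⟨h1, n0, hn0, rfl⟩
      constructor
      · intro i t ht
        rw [hcoef]
        apply Finset.sum_eq_zero
        intro n _
        split_ifs with hen
        · by_contra hne
          have := h1 n (Finset.mem_filter.mpr ⟨Finset.mem_univ _, i, hne⟩)
          omega
        · rfl
      · obtain ⟨-, i, hi⟩ := Finset.mem_filter.mp hn0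
        by_contra hcon
        push Not at hcon
        exact hi (hindep (- -e n0) hcon n0 (by omega) i)

end Groth.Agent.Lib.Helper59.DiagMu
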