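import Mathlib
import Groth.Agent.Lib.Helper49.FibreRank
import Groth.Agent.Lib.Helper49.StalkNbhd
import Groth.Agent.Lib.Helper45.ModulesBasic
import Groth.Agent.Lib.Helper42.ProjIntegral
import Groth.Prelude.Def_Coh
import Groth.Prelude.Def_CohB1
import Groth.Prelude.Def_FlatMod2

/-!
# Generic stalks of locally free modules on integral schemes (helper59)

A light-weight extraction (small import closure) of the torsion-freeness lemmas of helper67
(`Lib/Helper67/CurveTors`, `Lib/Helper67/CurveDeg`): sections of a finite locally free module on an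
integral scheme inject into the generic stalk, a morphism into such a module vanishing on the
generic stalk is zero, and the stalks of a module locally free of rank `n` are free of rank `n`.
Also: projective space over a field is integral.
-/

set_option autoImplicit false
set_option linter.style.haveILetI false
universe u
open AlgebraicGeometry CategoryTheory Limits Opposite TopologicalSpace

namespace Groth.Agent.Lib.Helper59.GenericStalk

open Groth.Agent.Lib.Helper49
open Groth.Agent.Lib

section Rank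

variable {X : Scheme.{u}}

theorem isFinLocFree_of_rank {M : X.Modules} {n : ℕ}
    (h : FlatMod.IsFinLocFreeOfRank n M) : FlatMod.IsFinLocFree M := by
  intro x
  obtain ⟨U, hxU, φ⟩ := h x
  exact ⟨U, n, hxU, φ⟩

attribute [local instance] Helper45.stalkModuleSections in
/-- the stalks of a locally free module of rank `n` are free and finite of rank `n` -/
theorem stalk_of_rank {M : X.Modules} {n : ℕ} (h : FlatMod.IsFinLocFreeOfRank n M) (x : X) :
    Module.Free (X.presheaf.stalk x) ↑(M.presheaf.stalk x) ∧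
    Module.Finite (X.presheaf.stalk x) ↑(M.presheaf.stalk x) ∧
    Module.finrank (X.presheaf.stalk x) ↑(M.presheaf.stalk x) = n := by
  haveI := isQuasicoherent_of_isFinLocFree M (isFinLocFree_of_rank h)
  obtain ⟨U, hxU, ⟨e⟩⟩ := h x
  obtain ⟨_, ⟨V, hV : IsAffineOpen V, rfl⟩, hxV, hVU⟩ :=
    X.isBasis_affineOpens.exists_subset_of_mem_open hxU U.2
  let e' : Γ(M, V) ≃ₗ[Γ(X, V)] (Fin n → Γ(X, V)) :=
    sectionsEquivOfIsoFree M n (isoFreeOfLE hVU M n e)
  obtain ⟨y, rfl⟩ : ∃ y : V, (y : X) = x := ⟨⟨x, hxV⟩, rfl⟩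
  have := Helper45.isLocalizedModule_germₗ hV M y
  have := hV.isLocalization_stalk y
  have hfreeV : Module.Free Γ(X, V) Γ(M, V) := Module.Free.of_equiv e'.symm
  have hfinV : Module.Finite Γ(X, V) Γ(M, V) := Module.Finite.equiv e'.symm
  have hfree : Module.Free (X.presheaf.stalk (y : X)) ↑(M.presheaf.stalk (y : X)) :=
    Module.free_of_isLocalizedModule (hV.primeIdealOf y).asIdeal.primeCompl (Helper45.germₗ M y)
  have hfin : Module.Finite (X.presheaf.stalk (y : X)) ↑(M.presheaf.stalk (y : X)) :=
    Module.Finite.of_isLocalizedModule (hV.primeIdealOf y).asIdeal.primeCompl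
      (Helper45.germₗ M y)
  refine ⟨hfree, hfin, ?_⟩
  rw [← fibreRank_eq_finrank_of_free]
  exact fibreRank_eq_of_linearEquiv hV M n e' y

theorem isFinLocFree_structureModule (Z : Scheme.{u}) :
    FlatMod.IsFinLocFree (Coh.structureModule Z) := fun _ =>
  ⟨⊤, 1, trivial, ⟨Scheme.Modules.restrictUnitIso (⊤ : Z.Opens).ι ≪≫
    (Limits.coproductUniqueIso (fun _ : Fin 1 => Coh.structureModule _)).symm⟩⟩

theorem rank_one_structureModule (Z : Scheme.{u}) :
    FlatMod.IsFinLocFreeOfRank 1 (Coh.structureModule Z) := fun _ =>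
  ⟨⊤, trivial, ⟨Scheme.Modules.restrictUnitIso (⊤ : Z.Opens).ι ≪≫
    (Limits.coproductUniqueIso (fun _ : Fin 1 => Coh.structureModule _)).symm⟩⟩

end Rank

section TorsionFree

variable {X : Scheme.{u}} [IsIntegral X]

attribute [local instance] Helper45.stalkModuleSections in
/-- on an affine open of an integral scheme over which `L` is free, germs are injective -/
theorem germ_eq_zero_of_free {L : X.Modules} [L.IsQuasicoherent] {V : X.Opens}
    (hV : IsAffineOpen V) {n : ℕ} (e' : Γ(L, V) ≃ₗ[Γ(X, V)] (Fin n → Γ(X, V))) (y : V)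
    (m : Γ(L, V)) (hm : L.presheaf.germ V (y : X) y.2 m = 0) : m = 0 := by
  haveI : Nonempty V := ⟨y⟩
  haveI : IsDomain Γ(X, V) := inferInstance
  have hloc := Helper45.isLocalizedModule_germₗ hV L y
  have h0 : Helper45.germₗ L y m = 0 := hm
  obtain ⟨c, hc⟩ := (IsLocalizedModule.eq_zero_iff
    (hV.primeIdealOf y).asIdeal.primeCompl (Helper45.germₗ L y)).mp h0
  have hc0 : (c : Γ(X, V)) ≠ 0 := by
    intro h
    exact c.2 (h ▸ Ideal.zero_mem _)
  have h1 : (c : Γ(X, V)) • e' m = 0 := by
    rw [← map_smul]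
    have : (c : Γ(X, V)) • m = 0 := hc
    rw [this, map_zero]
  have h2 : e' m = 0 := by
    funext j
    have := congrFun h1 j
    simp only [Pi.smul_apply, smul_eq_mul, Pi.zero_apply, mul_eq_zero] at this
    exact this.resolve_left hc0
  exact e'.map_eq_zero_iff.mp h2

/-- sections of a locally free module on an integral scheme inject into the generic stalk -/
theorem germ_injective_of_isFinLocFree {L : X.Modules} (hL : FlatMod.IsFinLocFree L)
    (U : X.Opens) (hξ : genericPoint X ∈ U) :
    Function.Injective (L.presheaf.germ U (genericPoint X) hξ) := by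
  haveI := isQuasicoherent_of_isFinLocFree L hL
  rw [injective_iff_map_eq_zero]
  intro s hs
  refine Helper45.section_ext_germ L U s 0 fun x hx => ?_
  rw [map_zero]
  obtain ⟨U', n, hxU', ⟨e⟩⟩ := hL x
  obtain ⟨_, ⟨V, hV : IsAffineOpen V, rfl⟩, hxV, hVU⟩ :=
    X.isBasis_affineOpens.exists_subset_of_mem_open (⟨hx, hxU'⟩ : x ∈ ((U ⊓ U' : X.Opens) : Set X))
      (U ⊓ U').2
  have hVU1 : V ≤ U := fun y hy => (hVU hy).1
  have hVU2 : V ≤ U' := fun y hy => (hVU hy).2
  let e' : Γ(L, V) ≃ₗ[Γ(X, V)] (Fin n → Γ(X, V)) :=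
    sectionsEquivOfIsoFree L n (isoFreeOfLE hVU2 L n e)
  have hξV : genericPoint X ∈ V :=
    ((genericPoint_spec X).mem_open_set_iff V.2).mpr ⟨x, trivial, hxV⟩
  have hres : L.presheaf.map (homOfLE hVU1).op s = 0 :=
    germ_eq_zero_of_free hV e' ⟨genericPoint X, hξV⟩ _
      ((TopCat.Presheaf.germ_res_apply L.presheaf (homOfLE hVU1) _ hξV s).trans hs)
  rw [← TopCat.Presheaf.germ_res_apply L.presheaf (homOfLE hVU1) x hxV s, hres, map_zero]

theorem eq_of_genericPoint_not_mem {M : X.Modules} (U : X.Opens) (hξ : genericPoint X ∉ U)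
    (s t : Γ(M, U)) : s = t := by
  refine Helper45.section_ext_germ M U s t fun x hx => ?_
  exact absurd (((genericPoint_spec X).mem_open_set_iff U.2).mpr ⟨x, trivial, hx⟩) hξ

variable {N L : X.Modules}

/-- a map into a locally free module vanishing on the generic stalk is zero -/
theorem eq_zero_of_stalkMap_generic_eq_zero (hL : FlatMod.IsFinLocFree L) (φ : N ⟶ L)
    (h : ∀ a, (stalkMap φ (genericPoint X)).hom a = 0) : φ = 0 := by
  apply Scheme.Modules.hom_ext
  intro U
  ext s
  by_cases hξ : genericPoint X ∈ U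
  · apply germ_injective_of_isFinLocFree hL U hξ
    rw [← stalkMap_germ, h]
    simp
  · exact eq_of_genericPoint_not_mem U hξ _ _

end TorsionFree

section Pn

variable (n : ℕ) (k : Type u) [Field k]

theorem irrelevant_ne_bot :
    (HomogeneousIdeal.irrelevant (CohB1.polyGrading n k)).toIdeal ≠ ⊥ := by
  intro h
  have hX : (MvPolynomial.X (0 : Fin (n + 1)) : MvPolynomial (Fin (n + 1)) k) ∈
      CohB1.polyGrading n k 1 :=
    (MvPolynomial.mem_homogeneousSubmodule _ _).mpr (MvPolynomial.isHomogeneous_X k _)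
  have h1 : (MvPolynomial.X (0 : Fin (n + 1)) : MvPolynomial (Fin (n + 1)) k) ∈
      (HomogeneousIdeal.irrelevant (CohB1.polyGrading n k)).toIdeal :=
    HomogeneousIdeal.mem_irrelevant_of_mem (CohB1.polyGrading n k) one_pos hX
  rw [h] at h1
  exact MvPolynomial.X_ne_zero (0 : Fin (n + 1)) ((Submodule.mem_bot _).mp h1)

instance projSpace_isIntegral : IsIntegral (CohB1.ProjSpace n k) :=
  Helper42.proj_isIntegral (CohB1.polyGrading n k) (irrelevant_ne_bot n k)

end Pn

end Groth.Agent.Lib.Helper59.GenericStalk
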