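import Mathlib
import Groth.Agent.Lib.Helper17.PicPnChart
import Groth.Agent.Lib.Helper59.GenericStalk

/-!
# The local rings of projective space over a field are regular (helper59)
-/

set_option autoImplicit false
universe u
open AlgebraicGeometry CategoryTheory Limits Opposite TopologicalSpace

namespace Groth.Agent.Lib.Helper59.PnRegular

open Groth.Agent.Lib.Helper17.PnSections Groth.Agent.Lib.Helper17.VeryAmpleCrit
  Groth.Agent.Lib.Helper17.PnClosedPts Groth.Agent.Lib.Helper17.PicPnChart

variable (n : ℕ) (k : Type u) [Field k]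

theorem isRegularLocalRing_stalk (x : CohB1.ProjSpace n k) :
    IsRegularLocalRing ((CohB1.ProjSpace n k).presheaf.stalk x) := by
  obtain ⟨i, hi⟩ := exists_T_not_mem n k (x : ProjectiveSpectrum (CohB1.polyGrading n k))
  have hx : x ∈ D k n i := (Proj.mem_basicOpen _ _ _).mpr hi
  have hU : IsAffineOpen (D k n i) := isAffineOpen_D n i
  have hreg : IsRegularRing Γ(CohB1.ProjSpace n k, D k n i) :=
    IsRegularRing.of_ringEquiv (chartRingEquiv (R := k) n i).symm
  obtain ⟨y, rfl⟩ : ∃ y : D k n i, (y : CohB1.ProjSpace n k) = x := ⟨⟨x, hx⟩, rfl⟩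
  have hloc := hU.isLocalization_stalk y
  exact IsRegularLocalRing.of_ringEquiv
    (IsLocalization.algEquiv (hU.primeIdealOf y).asIdeal.primeCompl
      (Localization.AtPrime (hU.primeIdealOf y).asIdeal)
      ((CohB1.ProjSpace n k).presheaf.stalk (y : CohB1.ProjSpace n k))).toRingEquiv

end Groth.Agent.Lib.Helper59.PnRegular
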