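import Mathlib
import Groth.Agent.Lib.Helper59.PnRegular
import Groth.Agent.Lib.Helper17.ProjSpaceProper
import Groth.Agent.Lib.Helper17.FinCoh
import Groth.Agent.Lib.Helper38.SerreVanishPn
import Groth.Agent.Lib.Helper67.SmCurve15
import Groth.Agent.S10829
import Groth.Agent.S4466

/-!
# The projective line over a field as a regular proper curve; degrees of twists (helper59)
-/

set_option autoImplicit false
universe u
open AlgebraicGeometry CategoryTheory Limits Opposite TopologicalSpace

namespace Groth.Agent.Lib.Helper59.P1Curve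

open Groth.Agent.Lib.Helper17 Groth.Agent.Lib.Helper67.EulerLES Groth.Agent.Lib.Helper67.CurveCoh
open Groth.Agent.Lib.Helper38.SerreVanishPn

variable (k : Type u) [Field k]

instance isProper (n : ℕ) :
    IsProper ((CohB1.ProjSpace n k) ↘ Spec (CommRingCat.of k)) :=
  ProjSpaceProper.isProper_toSpec n k

instance isIntegral (n : ℕ) : IsIntegral (CohB1.ProjSpace n k) :=
  GenericStalk.projSpace_isIntegral n k

theorem hdim : topologicalKrullDim (CohB1.ProjSpace 1 k) ≤ 1 := by
  rw [Groth.Agent.S10829.result k 1]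
  rfl

theorem hreg (n : ℕ) (x : CohB1.ProjSpace n k) :
    IsRegularLocalRing ((CohB1.ProjSpace n k).presheaf.stalk x) :=
  PnRegular.isRegularLocalRing_stalk n k x

theorem invertible_of_rank_one {X : Scheme.{u}} {M : X.Modules}
    (hM : FlatMod.IsFinLocFreeOfRank 1 M) : PicF.IsInvertible M := by
  intro x
  obtain ⟨U, hxU, ⟨e⟩⟩ := hM x
  exact ⟨U, hxU, ⟨e ≪≫ Limits.coproductUniqueIso
    (fun _ : Fin 1 => Coh.structureModule (U : Scheme.{u}))⟩⟩

theorem rank_one_of_invertible {X : Scheme.{u}} {M : X.Modules}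
    (hM : PicF.IsInvertible M) : FlatMod.IsFinLocFreeOfRank 1 M := by
  intro x
  obtain ⟨U, hxU, ⟨e⟩⟩ := hM x
  exact ⟨U, hxU, ⟨e ≪≫ (Limits.coproductUniqueIso
    (fun _ : Fin 1 => Coh.structureModule (U : Scheme.{u}))).symm⟩⟩

theorem rank_one_twist (n : ℕ) (d : ℤ) :
    FlatMod.IsFinLocFreeOfRank 1 (Twist.twistProjSpace n k d) :=
  rank_one_of_invertible
    (TwistTensor.isInvertible_twist (CohB1.polyGrading n k) (FinCoh.iSup_basicOpen_deg_one n k) d)

theorem euler_twist (d : ℤ) :
    Curv2.euler k (CohB1.ProjSpace 1 k) (Twist.twistProjSpace 1 k d) = d + 1 := by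
  have hgood := isGood_of_coh k (CohB1.ProjSpace 1 k) (hdim k) _ (FinCoh.isCoh_twist 1 k d)
  rw [euler_eq k hgood]
  have h := Groth.Agent.S4466.result k 1 one_pos d
  simp only [Finset.sum_range_succ, Finset.sum_range_zero, zero_add, pow_zero, one_mul, pow_one,
    neg_mul, Nat.cast_one, Ring.choose_one_right] at h
  linarith

theorem euler_structure :
    Curv2.euler k (CohB1.ProjSpace 1 k) (Coh.structureModule (CohB1.ProjSpace 1 k)) = 1 := by
  rw [← Groth.Agent.Lib.Helper67.TensRank.euler_eq_of_iso k (twistZeroIso 1 k), euler_twist]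
  norm_num

theorem deg_twist (d : ℤ) :
    Curv2.deg k (CohB1.ProjSpace 1 k) (Twist.twistProjSpace 1 k d) 1 = d := by
  unfold Curv2.deg
  rw [euler_twist, euler_structure]
  push_cast
  ring

end Groth.Agent.Lib.Helper59.P1Curve
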