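import Mathlib
import Groth.Prelude.Def_FinCov
import Groth.Prelude.Def_ClSub2
import Groth.Agent.Lib.Helper45.NormFree
import Groth.Agent.Lib.Helper45.SectionHom
import Groth.Agent.Lib.Helper1.HHTools

/-!
# The trace of a finite locally free morphism of invertible degree splits (helper59)

For `f : X ⟶ Y` finite, flat, locally of finite presentation and of constant rank `d` over an
integral scheme `Y`, and `τ : f_* O_X ⟶ O_Y` a trace (`FinCov.IsTraceHom`), the composite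
`O_Y ⟶ f_* O_X ⟶ O_Y` is multiplication by `d` (`unit_trace_app_top`).  If `d` is invertible in
`Γ(Y, ⊤)`, `τ` has a section (`exists_section`).
-/

set_option autoImplicit false
universe u
open AlgebraicGeometry CategoryTheory Limits Opposite TopologicalSpace

namespace Groth.Agent.Lib.Helper59.TraceSplit

open Groth.Agent.Lib.Helper45

/-- two maps out of the structure sheaf agreeing on the global section `1` are equal -/
theorem unit_hom_ext {Y : Scheme.{u}} {F : Y.Modules} (f g : Coh.structureModule Y ⟶ F)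
    (h : f.app ⊤ (1 : Γ(Y, ⊤)) = g.app ⊤ (1 : Γ(Y, ⊤))) : f = g := by
  apply (SheafOfModules.unitHomEquiv _).injective
  apply (Groth.Agent.Lib.Helper45.SummandFree.sectionsEquiv (R := Y.ringCatSheaf)
      (T := (⊤ : Y.Opens)) Limits.isTerminalTop _).injective
  exact h

variable {X Y : Scheme.{u}} (f : X ⟶ Y)

/-- over a nonempty free affine open, the trace of `1` is the rank -/
theorem unit_trace_app [IsFinite f] [Flat f]
    (τ : (Scheme.Modules.pushforward f).obj (Coh.structureModule X) ⟶ Coh.structureModule Y)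
    (hτ : FinCov.IsTraceHom f τ) (d : ℕ) (hd : ∀ y : Y, f.finrank y = d)
    {V : Y.Opens} (hV : IsAffineOpen V) (hfree : NormFree.IsFreeOver f V) (y : Y) (hy : y ∈ V) :
    (ClSub.unitToPush f ≫ τ).app V (1 : Γ(Y, V)) = (d : Γ(Y, V)) := by
  have hrk := NormFree.finrank_eq_rk f hV hfree y hy
  rw [hd y] at hrk
  have hne : Nontrivial Γ(Y, V) := by
    have : Nonempty V := ⟨⟨y, hy⟩⟩
    have : Nonempty (V : Scheme.{u}) := this
    exact inferInstanceAs (Nontrivial Γ(Y, V))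
  let : Algebra Γ(Y, V) Γ(X, f ⁻¹ᵁ V) := (f.app V).hom.toAlgebra
  have hfr : Module.Free Γ(Y, V) Γ(X, f ⁻¹ᵁ V) := hfree.1
  have hfi : Module.Finite Γ(Y, V) Γ(X, f ⁻¹ᵁ V) := hfree.2
  have h1 := hτ V hV hfr hfi (1 : Γ(X, f ⁻¹ᵁ V))
  have h2 := Algebra.trace_algebraMap (R := Γ(Y, V)) (S := Γ(X, f ⁻¹ᵁ V)) (1 : Γ(Y, V))
  rw [map_one] at h2
  have h3 : Module.finrank Γ(Y, V) Γ(X, f ⁻¹ᵁ V) = d := hrk.symm
  rw [h3] at h2
  change (τ.val.app (op V)).hom ((f.app V).hom (1 : Γ(Y, V))) = _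
  rw [map_one, h1, h2]
  exact (nsmul_one d : d • (1 : Γ(Y, V)) = (d : Γ(Y, V)))

/-- `O_Y ⟶ f_* O_X ⟶ O_Y` is multiplication by the degree (value on the global section `1`) -/
theorem unit_trace_app_top [IsIntegral Y] [IsFinite f] [Flat f] [LocallyOfFinitePresentation f]
    (τ : (Scheme.Modules.pushforward f).obj (Coh.structureModule X) ⟶ Coh.structureModule Y)
    (hτ : FinCov.IsTraceHom f τ) (d : ℕ) (hd : ∀ y : Y, f.finrank y = d) :
    (ClSub.unitToPush f ≫ τ).app ⊤ (1 : Γ(Y, ⊤)) = (d : Γ(Y, ⊤)) := by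
  obtain ⟨V, ⟨hV, hfree⟩, hyV, -⟩ := Opens.isBasis_iff_nbhd.mp (NormFree.isBasis_free f)
    (Opens.mem_top (genericPoint Y))
  have : Nonempty V := ⟨⟨_, hyV⟩⟩
  apply map_injective_of_isIntegral Y (homOfLE (le_top : V ≤ ⊤))
  have h1 := Groth.Agent.Lib.Helper1.hom_app_naturality (ClSub.unitToPush f ≫ τ)
    (le_top : V ≤ ⊤) (1 : Γ(Y, ⊤))
  have h2 : (Coh.structureModule Y).presheaf.map (homOfLE (le_top : V ≤ ⊤)).op (1 : Γ(Y, ⊤)) =
      (1 : Γ(Y, V)) := map_one (Y.presheaf.map (homOfLE (le_top : V ≤ ⊤)).op).hom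
  rw [h2, unit_trace_app f τ hτ d hd hV hfree _ hyV] at h1
  rw [map_natCast]
  exact h1

/-- if the degree is invertible, the trace has a section -/
theorem exists_section [IsIntegral Y] [IsFinite f] [Flat f] [LocallyOfFinitePresentation f]
    (τ : (Scheme.Modules.pushforward f).obj (Coh.structureModule X) ⟶ Coh.structureModule Y)
    (hτ : FinCov.IsTraceHom f τ) (d : ℕ) (hd : ∀ y : Y, f.finrank y = d)
    (hu : IsUnit (d : Γ(Y, ⊤))) :
    ∃ σ : Coh.structureModule Y ⟶ (Scheme.Modules.pushforward f).obj (Coh.structureModule X),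
      σ ≫ τ = 𝟙 _ := by
  obtain ⟨u, hu⟩ := hu.exists_left_inv
  refine ⟨SectionHom.sectionHom _ (u • (ClSub.unitToPush f).app ⊤ (1 : Γ(Y, ⊤))), ?_⟩
  apply unit_hom_ext
  have h1 := unit_trace_app_top f τ hτ d hd
  change τ.app ⊤ ((SectionHom.sectionHom _ (u • (ClSub.unitToPush f).app ⊤ (1 : Γ(Y, ⊤)))).app ⊤
    (1 : Γ(Y, ⊤))) = (1 : Γ(Y, ⊤))
  rw [SectionHom.sectionHom_app_top_one, Scheme.Modules.Hom.app_smul]
  change u • (ClSub.unitToPush f ≫ τ).app ⊤ (1 : Γ(Y, ⊤)) = _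
  rw [h1]
  exact hu

end Groth.Agent.Lib.Helper59.TraceSplit
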