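import Mathlib
import Groth.Agent.Lib.Helper59.TraceSplit
import Groth.Agent.Lib.Helper59.P1Curve
import Groth.Agent.Lib.Helper67.AffPushLin
import Groth.Agent.Lib.Helper38.H0Const
import Groth.Agent.Lib.Helper49.PushforwardFinite

/-!
# The kernel of the trace of a double cover of the projective line (helper59)

* `euler_pushforward`: `χ(Y, f_* G) = χ(X, G)` for `f` affine over a field and `G` quasi-coherent.
* `finrank_HH_zero_eq_one`: `h⁰(O_X) = 1` for `X` proper, reduced, connected over an algebraically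
  closed field.
* `deg_kernel_trace`: for a double cover `h : X ⟶ P^1_k` in characteristic `≠ 2`, the kernel of the
  trace has degree `-g - 1`.
-/

set_option autoImplicit false
universe u
open AlgebraicGeometry CategoryTheory Limits Opposite TopologicalSpace

namespace Groth.Agent.Lib.Helper59.DoubleCoverTrace

open Groth.Agent.Lib.Helper67 Groth.Agent.Lib.Helper38 Groth.Agent.Lib.Helper59.P1Curve

section General

variable (k : Type u) [Field k]

/-- the Euler characteristic is invariant under direct image along an affine morphism -/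
theorem euler_pushforward {X Y : Scheme.{u}} [X.Over (Spec (CommRingCat.of k))]
    [Y.Over (Spec (CommRingCat.of k))] (f : X ⟶ Y)
    (hf : f ≫ (Y ↘ Spec (CommRingCat.of k)) = X ↘ Spec (CommRingCat.of k)) [IsAffineHom f]
    (G : X.Modules) [G.IsQuasicoherent] :
    Curv2.euler k Y ((Scheme.Modules.pushforward f).obj G) = Curv2.euler k X G := by
  unfold Curv2.euler
  refine finsum_congr fun i => ?_
  rw [(AffPush.pushEdgeEquiv f k hf G i).finrank_eq]

/-- `h⁰(O_X) = 1` for `X` proper, reduced and connected over an algebraically closed field -/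
theorem finrank_HH_zero_eq_one [IsAlgClosed k] (X : Scheme.{u}) [X.Over (Spec (CommRingCat.of k))]
    [IsProper (X ↘ Spec (CommRingCat.of k))] [IsReduced X] [ConnectedSpace X] :
    Module.finrank k (Coh.HH X (Coh.structureModule X) 0) = 1 := by
  rw [H0Const.finrank_HH_zero]
  have hbij := H0Const.bijective_of_connected_reduced (X ↘ Spec (CommRingCat.of k))
  let := (H0Const.tg (X ↘ Spec (CommRingCat.of k))).toAlgebra
  exact (LinearEquiv.ofBijective (Algebra.linearMap k Γ(X, ⊤)) hbij).finrank_eq.symm.trans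
    (Module.finrank_self k)

end General

variable (k : Type u) [Field k]

/-- the kernel of the trace of a double cover `X ⟶ P^1_k` (characteristic `≠ 2`) has degree
`-g - 1` -/
theorem deg_kernel_trace [IsAlgClosed k] (h2 : (2 : k) ≠ 0) (X : Scheme.{u})
    [X.Over (Spec (CommRingCat.of k))] [IsProper (X ↘ Spec (CommRingCat.of k))] [IsReduced X]
    [ConnectedSpace X] (hX : topologicalKrullDim X ≤ 1)
    (h : X ⟶ CohB1.ProjSpace 1 k)
    (hh : h ≫ ((CohB1.ProjSpace 1 k) ↘ Spec (CommRingCat.of k)) = X ↘ Spec (CommRingCat.of k))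
    [IsFinite h] [Flat h] [LocallyOfFinitePresentation h]
    (hr : ∀ y : ↥(CohB1.ProjSpace 1 k), h.finrank y = 2)
    (τ : (Scheme.Modules.pushforward h).obj (Coh.structureModule X) ⟶
      Coh.structureModule (CohB1.ProjSpace 1 k))
    (hτ : FinCov.IsTraceHom h τ) :
    Curv2.deg k (CohB1.ProjSpace 1 k) (kernel τ) 1 = -((Curv2.genus k X : ℤ) + 1) := by
  -- `2` is invertible
  have hu : IsUnit ((2 : ℕ) : Γ(CohB1.ProjSpace 1 k, ⊤)) := by
    have h := (isUnit_iff_ne_zero.mpr h2).map
      (H0Const.tg ((CohB1.ProjSpace 1 k) ↘ Spec (CommRingCat.of k)))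
    rw [map_ofNat] at h
    exact_mod_cast h
  obtain ⟨σ, hσ⟩ := TraceSplit.exists_section h τ hτ 2 hr hu
  have hepi : Epi τ := (IsSplitEpi.mk' ⟨σ, hσ⟩).epi
  have hS : (ShortComplex.mk (kernel.ι τ) τ (kernel.condition τ)).ShortExact :=
    ShortComplex.ShortExact.mk' (ShortComplex.exact_kernel τ) inferInstance hepi
  -- coherence
  have cO : Coh.IsCoh (Coh.structureModule (CohB1.ProjSpace 1 k)) :=
    Groth.Agent.Lib.Helper45.RefHullStalk.isCoh_structureModule _
  have cX : Coh.IsCoh (Coh.structureModule X) :=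
    Groth.Agent.Lib.Helper45.RefHullStalk.isCoh_structureModule _
  have : (Coh.structureModule X).IsQuasicoherent := cX.1
  have cP : Coh.IsCoh ((Scheme.Modules.pushforward h).obj (Coh.structureModule X)) :=
    ⟨Groth.Agent.Lib.Helper49.isQuasicoherent_pushforward _ h,
      Groth.Agent.Lib.Helper49.isFiniteType_pushforward_of_isFinite h _ cX.2⟩
  have hw : (𝟙 _ - τ ≫ σ) ≫ τ = 0 := by
    rw [Preadditive.sub_comp, Category.id_comp, Category.assoc, hσ, Category.comp_id, sub_self]
  have hr' : kernel.ι τ ≫ kernel.lift τ (𝟙 _ - τ ≫ σ) hw = 𝟙 _ := by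
    rw [← cancel_mono (kernel.ι τ), Category.assoc, kernel.lift_ι, Preadditive.comp_sub,
      Category.comp_id, kernel.condition_assoc, zero_comp, sub_zero, Category.id_comp]
  have hepi' : Epi (kernel.lift τ (𝟙 _ - τ ≫ σ) hw) := (IsSplitEpi.mk' ⟨kernel.ι τ, hr'⟩).epi
  have cK : Coh.IsCoh (kernel τ) :=
    ⟨Groth.Agent.Lib.Helper49.isQuasicoherent_kernel τ cP.1 cO.1,
      Groth.Agent.Lib.Helper49.isFiniteType_of_epi (kernel.lift τ (𝟙 _ - τ ≫ σ) hw) cP.2⟩
  -- Euler characteristics
  have hχ := CurveDeg.euler_additive_of_coh k (CohB1.ProjSpace 1 k) (hdim k) hS cK cP cO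
  change Curv2.euler k (CohB1.ProjSpace 1 k)
      ((Scheme.Modules.pushforward h).obj (Coh.structureModule X)) =
    Curv2.euler k (CohB1.ProjSpace 1 k) (kernel τ) +
      Curv2.euler k (CohB1.ProjSpace 1 k) (Coh.structureModule (CohB1.ProjSpace 1 k)) at hχ
  have : IsAffineHom h := inferInstance
  rw [euler_pushforward k h hh, euler_structure k] at hχ
  have hgood := CurveCoh.isGood_of_coh k X hX _ cX
  have he := EulerLES.euler_eq k hgood
  rw [finrank_HH_zero_eq_one k X] at he
  unfold Curv2.deg Curv2.genus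
  rw [euler_structure k]
  push_cast at he ⊢
  linarith

end Groth.Agent.Lib.Helper59.DoubleCoverTrace
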