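import Groth.Agent.Lib.Helper59.LinRedAlg

/-! # Semi-invariants lift along comodule maps for linearly reductive groups -/

set_option autoImplicit false
universe u v
open TensorProduct

namespace Groth.Agent.Lib.Helper59.LinRed

open Groth.Agent.Lib.Helper93.Comod

section Eigen

variable {k : Type u} [Field k] {A : Type v} [CommRing A] [Bialgebra k A]
variable {V : Type v} [AddCommGroup V] [Module k V] [HopfRep.Comod k A V]
variable {V' : Type v} [AddCommGroup V'] [Module k V'] [HopfRep.Comod k A V']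

theorem dualAct_of_mem_eigenspace {a : A} {v : V} (hv : v ∈ HopfRep.eigenspace k A V a)
    (φ : A →ₗ[k] k) : dualAct A V φ v = φ a • v := by
  have h : HopfRep.Comod.coact (k := k) (A := A) v = v ⊗ₜ[k] a := hv
  rw [dualAct_apply, h]
  simp

theorem mem_eigenspace_of_dualAct {a : A} {v : V}
    (h : ∀ φ : A →ₗ[k] k, dualAct A V φ v = φ a • v) : v ∈ HopfRep.eigenspace k A V a := by
  change HopfRep.Comod.coact (k := k) (A := A) v = v ⊗ₜ[k] a
  rw [← sub_eq_zero]
  apply eq_zero_of_forall_lTensor_eq_zero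
  intro φ
  have := h φ
  rw [dualAct_apply] at this
  rw [map_sub, map_sub, this]
  simp

theorem mem_eigenspace_iff_dualAct {a : A} {v : V} :
    v ∈ HopfRep.eigenspace k A V a ↔ ∀ φ : A →ₗ[k] k, dualAct A V φ v = φ a • v :=
  ⟨fun hv φ => dualAct_of_mem_eigenspace hv φ, mem_eigenspace_of_dualAct⟩

/-- Over a linearly reductive bialgebra, an eigenvector in the image of a comodule map is the
image of an eigenvector (for the same element of the bialgebra). -/
theorem exists_eigen_preimage (hG : HopfRep.IsLinearlyReductive k A)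
    (f : V →ₗ[k] V') (hf : Hoch.IsComodHom A f) {a : A} {w : V'}
    (hw : w ∈ HopfRep.eigenspace k A V' a) (hmem : w ∈ LinearMap.range f) :
    ∃ v ∈ HopfRep.eigenspace k A V a, f v = w := by
  obtain ⟨K', hK', hc⟩ := isSemisimpleComod (V := V) hG (LinearMap.ker f) (isSubcomod_ker f hf)
  obtain ⟨v₀, rfl⟩ := hmem
  have hv₀ : v₀ ∈ LinearMap.ker f ⊔ K' := by rw [hc.sup_eq_top]; trivial
  obtain ⟨c, hc', b, hb, rfl⟩ := Submodule.mem_sup.mp hv₀
  have hfb : f b = f (c + b) := by
    rw [map_add, LinearMap.mem_ker.mp hc', zero_add]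
  refine ⟨b, ?_, hfb⟩
  rw [mem_eigenspace_iff_dualAct]
  intro φ
  have h1 : dualAct A V φ b - φ a • b ∈ K' :=
    Submodule.sub_mem _ (dualAct_mem_of_isSubcomod _ hK' φ b hb) (Submodule.smul_mem _ _ hb)
  have h2 : f (dualAct A V φ b - φ a • b) = 0 := by
    rw [map_sub, ← dualAct_comm_of_isComodHom f hf, map_smul, hfb, dualAct_of_mem_eigenspace hw,
      sub_self]
  have h3 : dualAct A V φ b - φ a • b ∈ LinearMap.ker f ⊓ K' := ⟨LinearMap.mem_ker.mpr h2, h1⟩
  rw [hc.inf_eq_bot, Submodule.mem_bot] at h3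
  exact sub_eq_zero.mp h3

end Eigen

end Groth.Agent.Lib.Helper59.LinRed
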