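import Groth.Agent.Lib.Helper59.FiberTrans

/-! # Transitivity on geometric fibres over the invariants

Generalisation of `FiberTrans`: two geometric points of `B` which agree on the invariants are
translates of each other (no assumption that the invariants are the base ring). -/

set_option autoImplicit false
universe u v w
open Polynomial TensorProduct

namespace Groth.Agent.Lib.Helper59.FiberTrans

open Groth.Agent.Lib.Helper86.HopfInv

section Pointwise2

variable (k : Type u) [CommRing k] (A : Type u) [CommRing A] [HopfAlgebra k A]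
  [Module.Free k A] [Module.Finite k A]
  (B : Type u) [CommRing B] [Algebra k B] [HopfRep.Comod k A B] [GLin.IsCoactAlg k A B]
  {Ω : Type u} [Field Ω] [Algebra k Ω] [IsAlgClosed Ω]

/-- For every element `b`, the value of `x₂` at `b` is the value of some translate of `x₁`. -/
theorem exists_trans_apply_eq'
    (x₁ x₂ : B →ₐ[k] Ω) (hagree : ∀ c ∈ GLin.invariants k A B, x₁ c = x₂ c) (b : B) :
    ∃ g : A →ₐ[k] Ω, x₂ b = trans k A B x₁ g b := by
  set P : B[X] := chi k A B (GLin.coactAlgHom k A B b) with hP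
  have hmap : P.map (x₁ : B →+* Ω) = P.map (x₂ : B →+* Ω) := by
    ext n
    rw [Polynomial.coeff_map, Polynomial.coeff_map]
    exact hagree _ (coeff_chi_mem_invariants k A B b n)
  have hroot : (P.map (x₂ : B →+* Ω)).IsRoot (x₂ b) := by
    rw [Polynomial.IsRoot.def, Polynomial.eval_map]
    have h0 := aeval_chi_coact k A B b
    rw [← hP, Polynomial.aeval_def] at h0
    have h1 := Polynomial.hom_eval₂ P (algebraMap B B) (x₂ : B →+* Ω) b
    rw [h0, map_zero] at h1
    rw [Algebra.algebraMap_self, RingHom.comp_id] at h1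
    exact h1.symm
  rw [← hmap] at hroot
  have hchi := chi_map k A x₁ (GLin.coactAlgHom k A B b)
  rw [← hP] at hchi
  have hroot' : (LinearMap.mulLeft Ω
      (Algebra.TensorProduct.map x₁ (AlgHom.id k A) (GLin.coactAlgHom k A B b))).charpoly.IsRoot (x₂ b) := by
    have : (LinearMap.mulLeft Ω
      (Algebra.TensorProduct.map x₁ (AlgHom.id k A) (GLin.coactAlgHom k A B b))).charpoly =
        P.map (x₁ : B →+* Ω) := hchi
    rw [this]; exact hroot
  obtain ⟨G, hG⟩ := exists_algHom_apply_eq_of_isRoot _ _ hroot'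
  refine ⟨(G.restrictScalars k).comp Algebra.TensorProduct.includeRight, ?_⟩
  rw [← hG]
  unfold trans
  rw [AlgHom.comp_apply]
  generalize GLin.coactAlgHom k A B b = t
  induction t using TensorProduct.induction_on with
  | zero => simp
  | tmul b' a =>
    simp only [Algebra.TensorProduct.lift_tmul, Algebra.TensorProduct.map_tmul, AlgHom.id_apply,
      AlgHom.comp_apply, Algebra.TensorProduct.includeRight_apply, AlgHom.restrictScalars_apply]
    have e : (x₁ b' ⊗ₜ[k] a : Ω ⊗[k] A) = x₁ b' • ((1 : Ω) ⊗ₜ[k] a) := by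
      rw [TensorProduct.smul_tmul', smul_eq_mul, mul_one]
    rw [e, map_smul, smul_eq_mul]
  | add y z hy hz => simp only [map_add, hy, hz]

end Pointwise2

section BC2

variable (k : Type u) [CommRing k] (A : Type u) [CommRing A] [HopfAlgebra k A]
  [Module.Finite k A]
  (B : Type u) [CommRing B] [Algebra k B] [HopfRep.Comod k A B] [GLin.IsCoactAlg k A B]
  {Ω : Type u} [Field Ω] [Algebra k Ω]
  (k' : Type u) [CommRing k'] [Algebra k k'] [Algebra k' Ω] [IsScalarTower k k' Ω]

omit [Module.Finite k A] in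
/-- Agreement on the invariants persists after a flat base change. -/
theorem hagree_baseChange [Module.Flat k k'] (x₁ x₂ : B →ₐ[k] Ω)
    (hagree : ∀ c ∈ GLin.invariants k A B, x₁ c = x₂ c) :
    ∀ c ∈ @GLin.invariants k' _ (k' ⊗[k] A) _ _ (k' ⊗[k] B) _ _ (CoactBr.Comod.baseChange k k' A B)
      (CoactBr.isCoactAlg_baseChange k k' A B), extPt k k' x₁ c = extPt k k' x₂ c := by
  have key : ∀ c ∈ Submodule.span k' (⇑(TensorProduct.mk k k' B 1) '' (HopfRep.fixedPts k A B : Set B)),
      extPt k k' x₁ c = extPt k k' x₂ c := by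
    intro c hc
    induction hc using Submodule.span_induction with
    | mem x hx =>
      obtain ⟨m, hm, rfl⟩ := hx
      rw [TensorProduct.mk_apply, extPt_tmul, extPt_tmul, hagree m hm]
    | zero => rw [map_zero, map_zero]
    | add x y _ _ hx hy => rw [map_add, map_add, hx, hy]
    | smul s x _ hx => rw [map_smul, map_smul, hx]
  intro c hc
  have h1 : c ∈ @HopfRep.fixedPts k' (k' ⊗[k] A) _ _ _ (k' ⊗[k] B) _ _
      (CoactBr.Comod.baseChange k k' A B) := hc
  rw [Groth.Agent.Lib.Helper84.ComodBC.fixedPts_baseChange, Submodule.baseChange_eq_span] at h1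
  exact key c h1

/-- The pointwise statement after a flat base change. -/
theorem exists_extPt_apply_eq' [IsAlgClosed Ω] [Module.Flat k k'] [Module.Free k' (k' ⊗[k] A)]
    (x₁ x₂ : B →ₐ[k] Ω) (hagree : ∀ c ∈ GLin.invariants k A B, x₁ c = x₂ c) (b' : k' ⊗[k] B) :
    ∃ g : A →ₐ[k] Ω, extPt k k' x₂ b' = extPt k k' (trans k A B x₁ g) b' := by
  let _ : HopfRep.Comod k' (k' ⊗[k] A) (k' ⊗[k] B) := CoactBr.Comod.baseChange k k' A B
  have _ : GLin.IsCoactAlg k' (k' ⊗[k] A) (k' ⊗[k] B) := CoactBr.isCoactAlg_baseChange k k' A B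
  obtain ⟨g', hg'⟩ := exists_trans_apply_eq' k' (k' ⊗[k] A) (k' ⊗[k] B)
    (extPt k k' x₁) (extPt k k' x₂) (hagree_baseChange k A B k' x₁ x₂ hagree) b'
  refine ⟨(g'.restrictScalars k).comp Algebra.TensorProduct.includeRight, ?_⟩
  rw [hg', trans_baseChange]

end BC2

section Main2

variable (k : Type u) [CommRing k] (A : Type u) [CommRing A] [HopfAlgebra k A]
  [Module.Free k A] [Module.Finite k A]
  (B : Type u) [CommRing B] [Algebra k B] [HopfRep.Comod k A B] [GLin.IsCoactAlg k A B]
  {Ω : Type u} [Field Ω] [Algebra k Ω] [IsAlgClosed Ω]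

/-- **Transitivity on geometric fibres of the quotient map.** Two `Ω`-points of `B` agreeing on the
invariants are translates of each other by an `Ω`-point of `A`. -/
theorem exists_trans_eq'
    (x₁ x₂ : B →ₐ[k] Ω) (hagree : ∀ c ∈ GLin.invariants k A B, x₁ c = x₂ c) :
    ∃ g : A →ₐ[k] Ω, x₂ = trans k A B x₁ g := by
  by_contra hne
  push Not at hne
  have h1 : ∀ g : A →ₐ[k] Ω, ∃ b, x₂ b - trans k A B x₁ g b ≠ 0 := by
    intro g
    by_contra hh
    push Not at hh
    exact hne g (AlgHom.ext fun b => sub_eq_zero.mp (hh b))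
  choose bb hbb using h1
  have hfin : Finite (A →ₐ[k] Ω) := inferInstance
  obtain ⟨n, ⟨idx⟩⟩ := Finite.exists_equiv_fin (A →ₐ[k] Ω)
  let _ : Fintype (A →ₐ[k] Ω) := Fintype.ofFinite _
  let p : (g : A →ₐ[k] Ω) → Polynomial Ω := fun g =>
    ∑ h, C (x₂ (bb h) - trans k A B x₁ g (bb h)) * X ^ (idx h : ℕ)
  have hp : ∀ g, p g ≠ 0 := by
    intro g h0
    have h2 := congrArg (fun q => q.coeff (idx g : ℕ)) h0
    simp only [p, finsetSum_coeff, coeff_C_mul, coeff_X_pow, coeff_zero] at h2
    rw [Finset.sum_eq_single g] at h2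
    · simp at h2; exact hbb g h2
    · intro h _ hhg
      rw [if_neg, mul_zero]
      intro e
      exact hhg (idx.injective (Fin.ext e)).symm
    · simp
  have hprod : ∏ g, p g ≠ 0 := Finset.prod_ne_zero_iff.mpr fun g _ => hp g
  obtain ⟨t, ht⟩ : ∃ t : Ω, (∏ g, p g).eval t ≠ 0 := by
    by_contra hh
    push Not at hh
    exact hprod (Polynomial.zero_of_eval_zero _ hh)
  let _ : Algebra k[X] Ω := (Polynomial.aeval (R := k) t).toRingHom.toAlgebra
  have hX : ∀ q : k[X], algebraMap k[X] Ω q = Polynomial.aeval t q := fun q => rfl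
  have _ : IsScalarTower k k[X] Ω := IsScalarTower.of_algebraMap_eq fun r => by
    rw [hX, Polynomial.algebraMap_apply, Polynomial.aeval_C, Algebra.algebraMap_self_apply]
  let bT : k[X] ⊗[k] B := ∑ h, (X ^ (idx h : ℕ) : k[X]) ⊗ₜ[k] bb h
  obtain ⟨g, hg⟩ := exists_extPt_apply_eq' k A B k[X] x₁ x₂ hagree bT
  apply ht
  rw [Polynomial.eval_prod]
  apply Finset.prod_eq_zero (Finset.mem_univ g)
  simp only [p, eval_finsetSum, eval_mul, eval_C, eval_pow, eval_X]
  simp only [bT, map_sum, extPt_tmul, hX, map_pow, Polynomial.aeval_X] at hg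
  rw [← sub_eq_zero, ← Finset.sum_sub_distrib] at hg
  rw [← hg]
  apply Finset.sum_congr rfl
  intro h _
  ring

end Main2

section Proj2

variable (k : Type u) [CommRing k] (A : Type u) [CommRing A] [HopfAlgebra k A]
  [Module.Finite k A]
  (B : Type u) [CommRing B] [Algebra k B] [HopfRep.Comod k A B] [GLin.IsCoactAlg k A B]
  {Ω : Type u} [Field Ω] [Algebra k Ω] [IsAlgClosed Ω]

/-- Transitivity, when `A` becomes free after a flat base change through which `Ω` factors. -/
theorem exists_trans_eq_of_baseChange'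
    (k' : Type u) [CommRing k'] [Algebra k k'] [Algebra k' Ω] [IsScalarTower k k' Ω]
    [Module.Flat k k'] [Module.Free k' (k' ⊗[k] A)]
    (x₁ x₂ : B →ₐ[k] Ω) (hagree : ∀ c ∈ GLin.invariants k A B, x₁ c = x₂ c) :
    ∃ g : A →ₐ[k] Ω, x₂ = trans k A B x₁ g := by
  let _ : HopfRep.Comod k' (k' ⊗[k] A) (k' ⊗[k] B) := CoactBr.Comod.baseChange k k' A B
  have _ : GLin.IsCoactAlg k' (k' ⊗[k] A) (k' ⊗[k] B) := CoactBr.isCoactAlg_baseChange k k' A B
  obtain ⟨g', hg'⟩ := exists_trans_eq' k' (k' ⊗[k] A) (k' ⊗[k] B)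
    (extPt k k' x₁) (extPt k k' x₂) (hagree_baseChange k A B k' x₁ x₂ hagree)
  refine ⟨(g'.restrictScalars k).comp Algebra.TensorProduct.includeRight, ?_⟩
  rw [trans_baseChange] at hg'
  apply AlgHom.ext
  intro b
  have h := AlgHom.congr_fun hg' ((1 : k') ⊗ₜ[k] b)
  rw [extPt_tmul, extPt_tmul, map_one, one_mul, one_mul] at h
  exact h

/-- **Transitivity on geometric fibres of the quotient map**, finite locally free group. -/
theorem exists_trans_eq_of_projective' [Module.Projective k A]
    (x₁ x₂ : B →ₐ[k] Ω) (hagree : ∀ c ∈ GLin.invariants k A B, x₁ c = x₂ c) :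
    ∃ g : A →ₐ[k] Ω, x₂ = trans k A B x₁ g := by
  let p : Ideal k := RingHom.ker (algebraMap k Ω)
  have hp : p.IsPrime := RingHom.ker_isPrime _
  let k' := Localization.AtPrime p
  have hu : ∀ y : p.primeCompl, IsUnit (algebraMap k Ω y) := by
    intro y
    rw [isUnit_iff_ne_zero]
    intro h0
    exact y.2 ((RingHom.mem_ker).mpr h0)
  let φ : k' →+* Ω := IsLocalization.lift (M := p.primeCompl) hu
  let _ : Algebra k' Ω := φ.toAlgebra
  have _ : IsScalarTower k k' Ω := IsScalarTower.of_algebraMap_eq fun r => by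
    show algebraMap k Ω r = φ (algebraMap k k' r)
    rw [IsLocalization.lift_eq]
  have _ : Module.Flat k k' := IsLocalization.flat k' p.primeCompl
  have _ : Module.Free k' (k' ⊗[k] A) := Module.free_of_flat_of_isLocalRing
  exact exists_trans_eq_of_baseChange' k A B k' x₁ x₂ hagree

end Proj2

end Groth.Agent.Lib.Helper59.FiberTrans
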