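import Groth.Agent.Lib.Helper59.OrbitFF
import Groth.Agent.Lib.Helper84.HopfCartier

/-! # Closed orbits and finite equivariant maps

For a finite equivariant map `Spec R → Spec S` of affine `G`-schemes of finite type over an
algebraically closed field (`G = Spec A`, `A` reduced), a rational point `x` of `Spec R` has closed
orbit iff its image in `Spec S` has. -/

set_option autoImplicit false
set_option linter.style.haveILetI false
set_option linter.unusedSectionVars false
universe u
open TensorProduct WithConv

namespace Groth.Agent.Lib.Helper59.FiniteOrbit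

open Groth.Agent.Lib.Helper59.LinRed Groth.Agent.Lib.Helper84.Points Groth.Agent.H40.PtAct
open Groth.Agent.Lib.Helper93.Comod Groth.Agent.Lib.Helper59.StableTrans
open Groth.Agent.Lib.Helper59.OrbitFF Groth.Agent.Lib.Helper84.HopfFFTrans

section Alg

/-- Pure commutative algebra: for `S → C` integral and `C → A` injective, a prime of `C` lying over
a minimal prime of `ker (S → C)` and outside the image of `Spec A` cannot exist. -/
theorem mem_range_comap_of_minimal {S C A : Type*} [CommRing S] [CommRing C] [CommRing A]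
    [Algebra S C] [Algebra C A] [Algebra.IsIntegral S C]
    (hinj : Function.Injective (algebraMap C A)) (p : Ideal S)
    (hp : p ∈ (RingHom.ker (algebraMap S C)).minimalPrimes) (Q : PrimeSpectrum C)
    (hQ : Q.asIdeal.comap (algebraMap S C) = p) :
    Q ∈ Set.range (PrimeSpectrum.comap (algebraMap C A)) := by
  obtain ⟨P', hP'min, hP'Q⟩ := Ideal.exists_minimalPrimes_le (bot_le : (⊥ : Ideal C) ≤ Q.asIdeal)
  haveI hP'prime : P'.IsPrime := hP'min.1.1
  have h1 : P'.comap (algebraMap S C) ≤ p := hQ ▸ Ideal.comap_mono hP'Q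
  have h2 : p ≤ P'.comap (algebraMap S C) := by
    refine hp.2 ⟨inferInstance, ?_⟩ h1
    intro s hs
    rw [Ideal.mem_comap, RingHom.mem_ker.mp hs]
    exact zero_mem _
  have h3 : P' = Q.asIdeal := by
    by_contra hne
    have hlt : P' < Q.asIdeal := lt_of_le_of_ne hP'Q hne
    have := Ideal.IsIntegral.comap_lt_comap (R := S) hlt
    rw [hQ] at this
    exact absurd (le_antisymm h1 h2) (ne_of_lt this)
  obtain ⟨P'', hP''prime, hP''⟩ := Ideal.exists_comap_eq_of_mem_minimalPrimes_of_injective hinj P' hP'min
  exact ⟨⟨P'', hP''prime⟩, PrimeSpectrum.ext (by rw [← h3]; exact hP'')⟩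

/-- In a Jacobson ring, a closed set of primes containing every maximal ideal over `N` contains
every prime over `N`. -/
theorem mem_of_isClosed_of_forall_isMaximal {S : Type*} [CommRing S] [IsJacobsonRing S]
    (T : Set (PrimeSpectrum S)) (hT : IsClosed T) (N : Ideal S)
    (h : ∀ n : PrimeSpectrum S, n.asIdeal.IsMaximal → N ≤ n.asIdeal → n ∈ T)
    (p : PrimeSpectrum S) (hp : N ≤ p.asIdeal) : p ∈ T := by
  obtain ⟨J, rfl⟩ := (PrimeSpectrum.isClosed_iff_zeroLocus_ideal T).mp hT
  rw [PrimeSpectrum.mem_zeroLocus]
  have hjac : p.asIdeal.jacobson = p.asIdeal :=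
    IsJacobsonRing.out inferInstance p.isPrime.isRadical
  intro j hj
  change j ∈ p.asIdeal
  rw [← hjac, Ideal.jacobson, Ideal.mem_sInf]
  rintro n ⟨hpn, hn⟩
  have := h ⟨n, hn.isPrime⟩ hn (hp.trans hpn)
  rw [PrimeSpectrum.mem_zeroLocus] at this
  exact this hj

end Alg

section Orbit

variable {k : Type u} [Field k] {A : Type u} [CommRing A] [HopfAlgebra k A]
variable {R : Type u} [CommRing R] [Algebra k R] [HopfRep.Comod k A R] [GLin.IsCoactAlg k A R]
variable (x : R →ₐ[k] k)

/-- Right translation on the image of the orbit map, as an algebra automorphism. -/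
noncomputable def rangeAlgEquiv (g : Pt k A k) :
    (GLin.orbitHom k A x).range ≃ₐ[k] (GLin.orbitHom k A x).range :=
  { rangeEquiv x g with
    commutes' := fun c => Subtype.ext ((actEquiv (R := A) g).commutes c) }

theorem coe_rangeAlgEquiv (g : Pt k A k) (c : (GLin.orbitHom k A x).range) :
    ((rangeAlgEquiv x g c : (GLin.orbitHom k A x).range) : A) =
      HopfRep.Comod.act k A A g.ofConv (c : A) := actEquiv_apply g _

theorem coe_rangeAlgEquiv_symm (g : Pt k A k) (c : (GLin.orbitHom k A x).range) :
    (((rangeAlgEquiv x g).symm c : (GLin.orbitHom k A x).range) : A) =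
      HopfRep.Comod.act k A A g⁻¹.ofConv (c : A) := actEquiv_symm_apply g _

/-- A rational point of the image of the orbit map lifts to the group if a translate of it does. -/
theorem lifts_of_lifts_translate (z : (GLin.orbitHom k A x).range →ₐ[k] k) (h : Pt k A k)
    (hl : ∃ g : A →ₐ[k] k, ∀ c : (GLin.orbitHom k A x).range,
      g (c : A) = z.comp (rangeAlgEquiv x h : _ →ₐ[k] _) c) :
    ∃ g : A →ₐ[k] k, ∀ c : (GLin.orbitHom k A x).range, g (c : A) = z c := by
  obtain ⟨g, hg⟩ := hl
  refine ⟨(toConv g * h⁻¹).ofConv, fun c => ?_⟩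
  rw [← apply_act_regular, ofConv_toConv, ← coe_rangeAlgEquiv_symm, hg]
  simp

variable [IsAlgClosed k] [Algebra.FiniteType k A]

/-- A rational point of the image of the orbit map whose kernel is in the image of `Spec A` lifts
to a rational point of the group. -/
theorem lifts_of_mem_range (z : (GLin.orbitHom k A x).range →ₐ[k] k)
    (h : (⟨RingHom.ker z, RingHom.ker_isPrime z⟩ : PrimeSpectrum (GLin.orbitHom k A x).range) ∈
      Set.range (PrimeSpectrum.comap (algebraMap (GLin.orbitHom k A x).range A))) :
    ∃ g : A →ₐ[k] k, ∀ c : (GLin.orbitHom k A x).range, g (c : A) = z c := by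
  obtain ⟨Q, hQ⟩ := h
  have hQ' : Q.asIdeal.comap (algebraMap (GLin.orbitHom k A x).range A) = RingHom.ker z :=
    congrArg PrimeSpectrum.asIdeal hQ
  have hJ : Ideal.map (algebraMap (GLin.orbitHom k A x).range A) (RingHom.ker z) ≠ ⊤ := by
    intro htop
    have hle : Ideal.map (algebraMap (GLin.orbitHom k A x).range A) (RingHom.ker z) ≤ Q.asIdeal := by
      rw [Ideal.map_le_iff_le_comap, hQ']
    rw [htop, top_le_iff] at hle
    exact Q.isPrime.ne_top hle
  obtain ⟨g, hg⟩ := Groth.Agent.Lib.Helper59.exists_algHom_of_ne_top k A _ hJ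
  refine ⟨g, fun c => ?_⟩
  have h1 : c - algebraMap k _ (z c) ∈ RingHom.ker z := by
    rw [RingHom.mem_ker, map_sub, AlgHom.commutes]
    simp
  have h2 := hg _ (Ideal.mem_map_of_mem (algebraMap (GLin.orbitHom k A x).range A) h1)
  rw [map_sub (algebraMap (GLin.orbitHom k A x).range A), map_sub g, sub_eq_zero] at h2
  change g (c : A) = g (algebraMap k A (z c)) at h2
  rw [h2, AlgHom.commutes]
  rfl

end Orbit

section Finite

variable {k : Type u} [Field k] [IsAlgClosed k] {A : Type u} [CommRing A] [HopfAlgebra k A]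
  [Algebra.FiniteType k A]
variable {S : Type u} [CommRing S] [Algebra k S] [Algebra.FiniteType k S] [HopfRep.Comod k A S]
  [GLin.IsCoactAlg k A S]
variable {R : Type u} [CommRing R] [Algebra k R] [Algebra.FiniteType k R] [HopfRep.Comod k A R]
  [GLin.IsCoactAlg k A R]
variable [Algebra S R] [IsScalarTower k S R]
variable (hequiv : ∀ s : S, HopfRep.Comod.coact (k := k) (A := A) (algebraMap S R s) =
      Algebra.TensorProduct.map (IsScalarTower.toAlgHom k S R) (AlgHom.id k A)
        (HopfRep.Comod.coact (k := k) (A := A) s))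
variable (x : R →ₐ[k] k)

include hequiv in
omit [IsAlgClosed k] [Algebra.FiniteType k A] [Algebra.FiniteType k S] [Algebra.FiniteType k R] in
theorem orbitHom_comp (s : S) :
    GLin.orbitHom k A (x.comp (IsScalarTower.toAlgHom k S R)) s =
      GLin.orbitHom k A x (algebraMap S R s) := by
  unfold GLin.orbitHom
  simp only [AlgHom.comp_apply, GLin.coactAlgHom_apply, hequiv]
  generalize HopfRep.Comod.coact (k := k) (A := A) s = t
  induction t using TensorProduct.induction_on with
  | zero => simp
  | tmul r a => simp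
  | add a b ha hb => simp only [map_add, ha, hb]

/-- The map from `S` to the image of the orbit map of `x`. -/
noncomputable def toRange : S →ₐ[k] (GLin.orbitHom k A x).range :=
  (GLin.orbitHom k A x).rangeRestrict.comp (IsScalarTower.toAlgHom k S R)

omit [IsAlgClosed k] [Algebra.FiniteType k A] [Algebra.FiniteType k S] [Algebra.FiniteType k R] in
theorem coe_toRange (s : S) :
    ((toRange (A := A) x s : (GLin.orbitHom k A x).range) : A) =
      GLin.orbitHom k A x (algebraMap S R s) := rfl

include hequiv in
omit [IsAlgClosed k] [Algebra.FiniteType k A] [Algebra.FiniteType k S] [Algebra.FiniteType k R] in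
theorem coe_toRange' (s : S) :
    ((toRange (A := A) x s : (GLin.orbitHom k A x).range) : A) =
      GLin.orbitHom k A (x.comp (IsScalarTower.toAlgHom k S R)) s := by
  rw [coe_toRange, orbitHom_comp hequiv]

include hequiv in
omit [IsAlgClosed k] [Algebra.FiniteType k A] [Algebra.FiniteType k S] [Algebra.FiniteType k R] in
/-- Translating commutes with `toRange`. -/
theorem rangeAlgEquiv_toRange (h : Pt k A k) (s : S) :
    rangeAlgEquiv x h (toRange (A := A) x s) =
      toRange (A := A) x (HopfRep.Comod.act k A S h.ofConv s) := by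
  apply Subtype.ext
  rw [coe_rangeAlgEquiv, coe_toRange' hequiv, coe_toRange' hequiv, orbitHom_act]

omit [IsAlgClosed k] [Algebra.FiniteType k A] [Algebra.FiniteType k S] [Algebra.FiniteType k R] in
theorem toRange_isIntegral [Module.Finite S R] :
    ((toRange (S := S) (A := A) x).toRingHom).IsIntegral := by
  have h1 : (algebraMap S R).IsIntegral := algebraMap_isIntegral_iff.mpr inferInstance
  have h2 : ((GLin.orbitHom k A x).rangeRestrict : R →+* (GLin.orbitHom k A x).range).IsIntegral :=
    RingHom.isIntegral_of_surjective _ (GLin.orbitHom k A x).rangeRestrict_surjective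
  exact RingHom.IsIntegral.trans _ _ h1 h2

end Finite

section Main

variable {k : Type u} [Field k] [IsAlgClosed k] {A : Type u} [CommRing A] [HopfAlgebra k A]
  [Algebra.FiniteType k A] [IsReduced A]
variable {S : Type u} [CommRing S] [Algebra k S] [Algebra.FiniteType k S] [HopfRep.Comod k A S]
  [GLin.IsCoactAlg k A S]
variable {R : Type u} [CommRing R] [Algebra k R] [Algebra.FiniteType k R] [HopfRep.Comod k A R]
  [GLin.IsCoactAlg k A R]
variable [Algebra S R] [IsScalarTower k S R] [Module.Finite S R]
variable (hequiv : ∀ s : S, HopfRep.Comod.coact (k := k) (A := A) (algebraMap S R s) =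
      Algebra.TensorProduct.map (IsScalarTower.toAlgHom k S R) (AlgHom.id k A)
        (HopfRep.Comod.coact (k := k) (A := A) s))
variable (x : R →ₐ[k] k)

omit [IsReduced A] [Algebra.FiniteType k S] [HopfRep.Comod k A S] [GLin.IsCoactAlg k A S]
  [Algebra S R] [IsScalarTower k S R] [Module.Finite S R] in
/-- A point of `R` killing the functions vanishing along the orbit of `x` kills the kernel of the
orbit map. -/
theorem ker_rangeRestrict_le (z₀ : R →ₐ[k] k)
    (hz₀ : ∀ f : R, (∀ g : A →ₐ[k] k, x (HopfRep.Comod.act k A R g f) = 0) → z₀ f = 0) :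
    RingHom.ker (GLin.orbitHom k A x).rangeRestrict ≤ RingHom.ker z₀ := by
  intro f hf
  rw [RingHom.mem_ker] at hf ⊢
  apply hz₀
  intro g
  have h0 : GLin.orbitHom k A x f = 0 := congrArg Subtype.val hf
  rw [← apply_orbitHom, h0, map_zero]

include hequiv in
/-- If the image of `x` in `Spec S` has closed orbit, so has `x`. -/
theorem isClosedOrbit_of_comp
    (hy : GLin.IsClosedOrbit k A (x.comp (IsScalarTower.toAlgHom k S R))) :
    GLin.IsClosedOrbit k A x := by
  classical
  rw [isClosedOrbit_iff]
  intro z₀ hz₀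
  have hker := ker_rangeRestrict_le x z₀ hz₀
  set C := (GLin.orbitHom k A x).range with hC
  let e := Ideal.quotientKerAlgEquivOfSurjective (GLin.orbitHom k A x).rangeRestrict_surjective
  let z : C →ₐ[k] k := (Ideal.Quotient.liftₐ _ z₀ hker).comp (e.symm : C →ₐ[k] _)
  have hz : ∀ f : R, z ((GLin.orbitHom k A x).rangeRestrict f) = z₀ f := by
    intro f
    have h1 : e (Ideal.Quotient.mk _ f) = (GLin.orbitHom k A x).rangeRestrict f := rfl
    change Ideal.Quotient.liftₐ _ z₀ hker (e.symm _) = _
    rw [← h1, AlgEquiv.symm_apply_apply]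
    rfl
  suffices hl : ∃ g : A →ₐ[k] k, ∀ c : C, g (c : A) = z c by
    obtain ⟨g, hg⟩ := hl
    refine ⟨g, fun f => ?_⟩
    rw [← hz, ← hg, ← apply_orbitHom]
    rfl
  by_contra hnl
  -- the algebra structures
  letI : Algebra S C := (toRange (S := S) (A := A) x).toRingHom.toAlgebra
  have halg : ∀ s : S, algebraMap S C s = toRange (A := A) x s := fun _ => rfl
  haveI : Algebra.IsIntegral S C := algebraMap_isIntegral_iff.mp (toRange_isIntegral x)
  haveI : Module.Flat C A := flat_range x
  haveI : Algebra.FiniteType k C :=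
    Algebra.FiniteType.of_surjective (GLin.orbitHom k A x).rangeRestrict
      (GLin.orbitHom k A x).rangeRestrict_surjective
  haveI : IsNoetherianRing C := Algebra.FiniteType.isNoetherianRing k C
  haveI : Algebra.FiniteType C A := Algebra.FiniteType.of_restrictScalars_finiteType k C A
  haveI : Algebra.FinitePresentation C A := Algebra.FinitePresentation.of_finiteType.mp inferInstance
  have hopen : IsOpenMap (PrimeSpectrum.comap (algebraMap C A)) :=
    PrimeSpectrum.isOpenMap_comap_of_hasGoingDown_of_finitePresentation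
  have hU : IsOpen (Set.range (PrimeSpectrum.comap (algebraMap C A))) := hopen.isOpen_range
  have hT : IsClosed (PrimeSpectrum.comap (algebraMap S C) ''
      (Set.range (PrimeSpectrum.comap (algebraMap C A)))ᶜ) :=
    PrimeSpectrum.isClosedMap_comap_of_isIntegral _
      (algebraMap_isIntegral_iff.mpr inferInstance) _ hU.isClosed_compl
  haveI : IsJacobsonRing S := isJacobsonRing_of_finiteType (A := k) (B := S)
  -- the data of the closed orbit downstairs
  set y := x.comp (IsScalarTower.toAlgHom k S R) with hydef
  have hyiff := (isClosedOrbit_iff y).mp hy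
  have hres : ∀ y' : S →ₐ[k] k, RingHom.ker (algebraMap S C) ≤ RingHom.ker y' →
      ∃ g : A →ₐ[k] k, ∀ s : S, y' s = g (GLin.orbitHom k A y s) := by
    intro y' hy'
    obtain ⟨g, hg⟩ := hyiff y' (by
      intro f hf
      have hnil : IsNilpotent (GLin.orbitHom k A y f) :=
        isNilpotent_of_forall_algHom_eq_zero k A _ (fun g => by rw [apply_orbitHom]; exact hf g)
      have h0 : GLin.orbitHom k A y f = 0 := hnil.eq_zero
      have h1 : algebraMap S C f = 0 := by
        rw [halg]
        apply Subtype.ext
        rw [coe_toRange' hequiv, h0]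
        rfl
      exact hy' h1)
    exact ⟨g, fun s => by rw [hg s, apply_orbitHom]⟩
  obtain ⟨g'', hg''⟩ := hres (z.comp (toRange (A := A) x)) (by
    intro s hs
    rw [RingHom.mem_ker] at hs ⊢
    rw [AlgHom.comp_apply, ← halg, hs, map_zero])
  have hmax : ∀ n : PrimeSpectrum S, n.asIdeal.IsMaximal →
      RingHom.ker (algebraMap S C) ≤ n.asIdeal →
      n ∈ PrimeSpectrum.comap (algebraMap S C) ''
        (Set.range (PrimeSpectrum.comap (algebraMap C A)))ᶜ := by
    intro n hn hNn
    obtain ⟨y', hy'⟩ := Groth.Agent.Lib.Helper59.exists_algHom_ker_eq_of_isMaximal k S n.asIdeal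
    obtain ⟨g', hg'⟩ := hres y' (hy' ▸ hNn)
    let h : Pt k A k := (toConv g'')⁻¹ * toConv g'
    let zh : C →ₐ[k] k := z.comp (rangeAlgEquiv x h : C →ₐ[k] C)
    have hzh : ∀ s : S, zh (algebraMap S C s) = y' s := by
      intro s
      change z (rangeAlgEquiv x h (algebraMap S C s)) = _
      rw [halg, rangeAlgEquiv_toRange hequiv]
      have := hg'' (HopfRep.Comod.act k A S h.ofConv s)
      rw [AlgHom.comp_apply] at this
      rw [this, orbitHom_act, ← ofConv_toConv g'', apply_act_regular, mul_inv_cancel_left,
        ofConv_toConv, hg']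
    refine ⟨⟨RingHom.ker zh, RingHom.ker_isPrime zh⟩, ?_, ?_⟩
    · intro hmem
      exact hnl (lifts_of_lifts_translate x z h (lifts_of_mem_range x zh hmem))
    · apply PrimeSpectrum.ext
      change Ideal.comap (algebraMap S C) (RingHom.ker zh) = n.asIdeal
      rw [← hy']
      ext s
      rw [Ideal.mem_comap, RingHom.mem_ker, RingHom.mem_ker, hzh]
  -- a minimal prime
  have hle : RingHom.ker (algebraMap S C) ≤ (RingHom.ker z).comap (algebraMap S C) := by
    intro s hs
    rw [RingHom.mem_ker] at hs
    rw [Ideal.mem_comap, hs]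
    exact zero_mem _
  haveI : (RingHom.ker z).IsPrime := RingHom.ker_isPrime z
  obtain ⟨p, hpmin, -⟩ := Ideal.exists_minimalPrimes_le hle
  have hpT := mem_of_isClosed_of_forall_isMaximal _ hT _ hmax ⟨p, hpmin.1.1⟩ hpmin.1.2
  obtain ⟨Q, hQU, hQp⟩ := hpT
  have hinj : Function.Injective (algebraMap C A) := Subtype.val_injective
  exact hQU (mem_range_comap_of_minimal hinj p hpmin Q (congrArg PrimeSpectrum.asIdeal hQp))

include hequiv in
omit [IsReduced A] in
/-- If `x` has closed orbit, so has its image in `Spec S`. -/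
theorem isClosedOrbit_comp (hx : GLin.IsClosedOrbit k A x) :
    GLin.IsClosedOrbit k A (x.comp (IsScalarTower.toAlgHom k S R)) := by
  classical
  rw [isClosedOrbit_iff]
  intro y' hy'
  set C := (GLin.orbitHom k A x).range with hC
  letI : Algebra S C := (toRange (S := S) (A := A) x).toRingHom.toAlgebra
  have halg : ∀ s : S, algebraMap S C s = toRange (A := A) x s := fun _ => rfl
  haveI : Algebra.IsIntegral S C := algebraMap_isIntegral_iff.mp (toRange_isIntegral x)
  haveI : Algebra.FiniteType k C :=
    Algebra.FiniteType.of_surjective (GLin.orbitHom k A x).rangeRestrict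
      (GLin.orbitHom k A x).rangeRestrict_surjective
  have hkery : RingHom.ker (algebraMap S C) ≤ RingHom.ker y' := by
    intro s hs
    rw [RingHom.mem_ker] at hs ⊢
    apply hy'
    intro g
    have h0 : GLin.orbitHom k A (x.comp (IsScalarTower.toAlgHom k S R)) s = 0 := by
      rw [← coe_toRange' hequiv, ← halg, hs]
      rfl
    rw [← apply_orbitHom, h0, map_zero]
  haveI hmaxy : (RingHom.ker y').IsMaximal := ker_isMaximal y'
  obtain ⟨Q, hQmax, hQ⟩ := Ideal.exists_ideal_over_maximal_of_isIntegral (S := C)
    (RingHom.ker y') hkery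
  obtain ⟨z, hz⟩ := Groth.Agent.Lib.Helper59.exists_algHom_ker_eq_of_isMaximal k C Q
  obtain ⟨g, hg⟩ := exists_lift x hx z
  have heq : ∀ s : S, y' s = z (algebraMap S C s) := by
    intro s
    have h1 : s - algebraMap k S (y' s) ∈ RingHom.ker y' := by
      rw [RingHom.mem_ker, map_sub, AlgHom.commutes]
      simp
    rw [← hQ, Ideal.mem_comap, ← hz, RingHom.mem_ker, map_sub, map_sub, sub_eq_zero] at h1
    rw [h1, halg, AlgHom.commutes, AlgHom.commutes]
    rfl
  refine ⟨g, fun s => ?_⟩
  rw [heq, ← hg, ← apply_orbitHom, halg, coe_toRange' hequiv]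

end Main

end Groth.Agent.Lib.Helper59.FiniteOrbit
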