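import Mathlib
import Groth.Agent.Lib.Helper59.DeformIdeal3
import Groth.Agent.Lib.Helper67.FlatKer
import Groth.Agent.Lib.Helper67.RegSeqArtinLocal

/-!
# Generators and regular sequences of flat deformations over an Artinian local base (helper59)

`C` Artinian local, `J ≠ ⊤` an ideal, `A` a `C`-algebra.
* `eq_span_of_map_eq` : an ideal `I` with `A/I` flat over `C` whose image in `A/JA` is generated by
  the images of `f i ∈ I` is generated by the `f i` (no Noetherian hypothesis on `A`).
* `isRegular_iff_quotient` : for `A` flat over `C`, a sequence in `A` is regular iff its image in the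
  ring `A/JA` is; `flat_quotient_span` : the quotient is then flat.
-/

set_option autoImplicit false
universe u

namespace Groth.Agent.Lib.Helper59.FlatGens

open Groth.Agent.Lib.Helper59.DeformIdeal

variable {C : Type u} [CommRing C] [IsLocalRing C] [IsArtinianRing C] (J : Ideal C)
  {A : Type u} [CommRing A] [Algebra C A]

theorem eq_span_of_map_eq (hJ : J ≠ ⊤) (I : Ideal A) [Module.Flat C (A ⧸ I)] {n : ℕ} (f : Fin n → A)
    (hf : ∀ i, f i ∈ I)
    (hmap : I.map (Ideal.Quotient.mk (J.map (algebraMap C A))) =
      Ideal.span (Set.range fun i => Ideal.Quotient.mk (J.map (algebraMap C A)) (f i))) :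
    I = Ideal.span (Set.range f) := by
  have hle : Ideal.span (Set.range f) ≤ I := by
    rw [Ideal.span_le]
    rintro _ ⟨i, rfl⟩
    exact hf i
  refine le_antisymm ?_ hle
  have hmap' : (Ideal.span (Set.range f)).map (Ideal.Quotient.mk (J.map (algebraMap C A))) =
      Ideal.span (Set.range fun i => Ideal.Quotient.mk (J.map (algebraMap C A)) (f i)) := by
    rw [Ideal.map_span, ← Set.range_comp]
    rfl
  have key : I.restrictScalars C ≤ (Ideal.span (Set.range f)).restrictScalars C := by
    refine Groth.Agent.Lib.Helper67.le_of_le_sup_smul J hJ _ _ ?_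
    intro x hx
    have hx' : x ∈ I := hx
    have h1 : Ideal.Quotient.mk (J.map (algebraMap C A)) x ∈
        (Ideal.span (Set.range f)).map (Ideal.Quotient.mk (J.map (algebraMap C A))) := by
      rw [hmap', ← hmap]
      exact Ideal.mem_map_of_mem _ hx'
    obtain ⟨y, hy, hyx⟩ := (Ideal.mem_map_iff_of_surjective _ Ideal.Quotient.mk_surjective).mp h1
    have h2 : x - y ∈ J.map (algebraMap C A) * I := by
      refine mem_mul_of_mem_inf J I (I.sub_mem hx' (hle hy)) ?_
      rw [← Ideal.Quotient.eq_zero_iff_mem, map_sub, hyx, sub_self]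
    have h3 : x - y ∈ J • I.restrictScalars C := by
      rw [← Ideal.smul_restrictScalars (R := C) (S := A) J I]
      exact h2
    have : x = y + (x - y) := by ring
    rw [this]
    exact Submodule.add_mem_sup (show y ∈ (Ideal.span (Set.range f)).restrictScalars C from hy) h3
  exact fun x hx => key hx

variable [Module.Flat C A]

theorem isRegular_iff_quotient (hJ : J ≠ ⊤) (rs : List A) :
    RingTheory.Sequence.IsRegular A rs ↔
      RingTheory.Sequence.IsRegular (A ⧸ J.map (algebraMap C A))
        (rs.map (Ideal.Quotient.mk (J.map (algebraMap C A)))) := by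
  have key := Groth.Agent.Lib.Helper67.isRegular_iff_and_flat (R := C) (S := A) J hJ rs A
  have hbase : Groth.Agent.Lib.Helper67.baseSMulTop (S := A) J A = J.map (algebraMap C A) := by
    unfold Groth.Agent.Lib.Helper67.baseSMulTop
    rw [smul_eq_mul, Ideal.mul_top]
  have h0 : RingTheory.Sequence.IsRegular (A ⧸ J.map (algebraMap C A)) rs ↔
      RingTheory.Sequence.IsRegular (A ⧸ J.map (algebraMap C A))
        (rs.map (Ideal.Quotient.mk (J.map (algebraMap C A)))) :=
    (AddEquiv.refl _).isRegular_congr <| List.forall₂_map_right_iff.mpr <|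
      List.forall₂_same.mpr fun r _ x => rfl
  rw [key.1, (Submodule.quotEquivOfEq _ _ hbase).isRegular_congr, h0]

theorem flat_quotient_span (hJ : J ≠ ⊤) {r : ℕ} (a : Fin r → A)
    (h : RingTheory.Sequence.IsRegular A (List.ofFn a)) :
    Module.Flat C (A ⧸ Ideal.span (Set.range a)) := by
  have key := Groth.Agent.Lib.Helper67.isRegular_iff_and_flat (R := C) (S := A) J hJ (List.ofFn a) A
  have h3 := key.2 h
  have hsp : (Ideal.ofList (List.ofFn a) • ⊤ : Submodule A A) = Ideal.span (Set.range a) := by
    rw [smul_eq_mul, Ideal.mul_top]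
    unfold Ideal.ofList
    congr 1
    ext x
    simp [List.mem_ofFn]
  exact Module.Flat.of_linearEquiv ((Submodule.quotEquivOfEq _ _ hsp).restrictScalars C).symm

end Groth.Agent.Lib.Helper59.FlatGens
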