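import Mathlib
import Groth.Agent.Lib.Helper47.RegularCotangent
import Groth.Agent.Lib.Helper85.RegularLocal

/-! # Commutative algebra for the regularity of a quotient at a free closed orbit -/

set_option autoImplicit false
universe u v

namespace Groth.Agent.Lib.Helper59.FreeOrbitReg

open IsLocalRing

section LocalCore

variable {T : Type u} [CommRing T] [IsRegularLocalRing T]

/-- In a regular local ring `T`, let `J` be generated by `t₁, …, t_r`, with `T ⧸ J` regular and the
`tᵢ` independent modulo `J²`.  Then `dim T ⧸ J + r = dim T`. -/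
theorem ringKrullDim_quotient_add_eq {r : ℕ} (t : Fin r → T)
    (ht : ∀ i, t i ∈ maximalIdeal T)
    (hreg : IsRegularLocalRing (T ⧸ Ideal.span (Set.range t)))
    (hind : ∀ e : Fin r → T, ∑ i, e i * t i ∈ Ideal.span (Set.range t) ^ 2 →
      ∀ i, e i ∈ Ideal.span (Set.range t)) :
    ringKrullDim (T ⧸ Ideal.span (Set.range t)) + (r : WithBot ℕ∞) = ringKrullDim T := by
  classical
  set J : Ideal T := Ideal.span (Set.range t) with hJ
  have hJm : J ≤ maximalIdeal T := by
    rw [hJ, Ideal.span_le]
    rintro _ ⟨i, rfl⟩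
    exact ht i
  have hL1 : J ⊓ maximalIdeal T ^ 2 = maximalIdeal T * J :=
    Groth.Agent.Lib.Helper85.inf_sq_eq_mul_of_quotient_regular J hreg
  have H : ∀ c : Fin r → T, ∑ i, c i * t i ∈ maximalIdeal T ^ 2 → ∀ i, c i ∈ maximalIdeal T := by
    intro c hc
    have hcJ : ∑ i, c i * t i ∈ J := by
      refine Ideal.sum_mem _ fun i _ => Ideal.mul_mem_left _ _ (Ideal.subset_span ⟨i, rfl⟩)
    have hmem : ∑ i, c i * t i ∈ maximalIdeal T * J := by
      rw [← hL1]
      exact ⟨hcJ, hc⟩
    have hmem' : ∑ i, c i * t i ∈ maximalIdeal T • Submodule.span T (Set.range t) := hmem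
    rw [Submodule.mem_ideal_smul_span_iff_exists_sum] at hmem'
    obtain ⟨a, ha, hsum⟩ := hmem'
    have hsum' : ∑ i, a i * t i = ∑ i, c i * t i := by
      rw [← hsum, Finsupp.sum_fintype _ _ (fun i => by simp)]
      rfl
    have hzero : ∑ i, (c i - a i) * t i = 0 := by
      simp only [sub_mul, Finset.sum_sub_distrib, hsum', sub_self]
    have := hind (fun i => c i - a i) (by rw [hzero]; exact zero_mem _)
    intro i
    have h1 : c i - a i ∈ maximalIdeal T := hJm (this i)
    have h2 : c i = (c i - a i) + a i := by ring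
    rw [h2]
    exact Ideal.add_mem _ h1 (ha i)
  obtain ⟨-, hregseq⟩ :=
    Groth.Agent.Lib.Helper47.isRegularLocalRing_quotient_and_isRegular_of_indep r T t ht H
  have hdim := ringKrullDim_add_length_eq_ringKrullDim_of_isRegular (List.ofFn t) hregseq
  have hof : Ideal.ofList (List.ofFn t) = J := by
    rw [hJ]
    unfold Ideal.ofList
    congr 1
    ext y
    simp [List.mem_ofFn]
  rw [List.length_ofFn] at hdim
  rw [← hdim]
  rw [ringKrullDim_eq_of_ringEquiv (Ideal.quotEquivOfEq hof)]

end LocalCore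

section Descend

variable {S₀ : Type u} {T : Type v} [CommRing S₀] [CommRing T] [Algebra S₀ T] [IsLocalRing T]
  [IsNoetherianRing T] [IsNoetherianRing S₀]

/-- The dimension inequality for a local ring over a base. -/
theorem ringKrullDim_le_height_add (Q : Ideal S₀) [Q.IsPrime] [(maximalIdeal T).LiesOver Q] :
    ringKrullDim T ≤ (Q.height : WithBot ℕ∞) +
      ringKrullDim (T ⧸ Q.map (algebraMap S₀ T)) := by
  have h := Ideal.height_le_height_add_of_liesOver Q (maximalIdeal T)
  have hne : Q.map (algebraMap S₀ T) ≤ maximalIdeal T := by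
    rw [Ideal.map_le_iff_le_comap]
    have : Q = (maximalIdeal T).under S₀ := Ideal.LiesOver.over
    rw [this]
  have hprime : ((maximalIdeal T).map (Ideal.Quotient.mk (Q.map (algebraMap S₀ T)))).IsPrime :=
    Ideal.isPrime_map_quotientMk_of_isPrime hne
  have h2 : (((maximalIdeal T).map (Ideal.Quotient.mk (Q.map (algebraMap S₀ T)))).height :
      WithBot ℕ∞) ≤ ringKrullDim (T ⧸ Q.map (algebraMap S₀ T)) :=
    Ideal.height_le_ringKrullDim_of_ne_top hprime.ne_top
  rw [← IsLocalRing.maximalIdeal_height_eq_ringKrullDim]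
  calc ((maximalIdeal T).height : WithBot ℕ∞) ≤
        ((Q.height + ((maximalIdeal T).map
          (Ideal.Quotient.mk (Q.map (algebraMap S₀ T)))).height : ℕ∞) : WithBot ℕ∞) := by
        exact_mod_cast h
    _ = (Q.height : WithBot ℕ∞) + ((((maximalIdeal T).map
          (Ideal.Quotient.mk (Q.map (algebraMap S₀ T)))).height : ℕ∞) : WithBot ℕ∞) := by
        push_cast; rfl
    _ ≤ _ := add_le_add le_rfl h2

end Descend

section Away

variable {R : Type u} [CommRing R]

/-- Equality of two ideals after inverting `b`, read in `R`. -/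
theorem exists_pow_mul_mem_of_map_away_le (b : R) (K K' : Ideal R)
    (h : K.map (algebraMap R (Localization.Away b)) ≤ K'.map (algebraMap R (Localization.Away b)))
    {y : R} (hy : y ∈ K) : ∃ n : ℕ, b ^ n * y ∈ K' := by
  have h1 : algebraMap R (Localization.Away b) y ∈ K'.map (algebraMap R (Localization.Away b)) :=
    h (Ideal.mem_map_of_mem _ hy)
  rw [IsLocalization.algebraMap_mem_map_algebraMap_iff (Submonoid.powers b)] at h1
  obtain ⟨m, ⟨n, rfl⟩, hm⟩ := h1
  exact ⟨n, hm⟩

/-- If `b` becomes a unit, ideals which agree after inverting `b` have the same extension. -/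
theorem map_le_map_of_isUnit {T : Type v} [CommRing T] (ψ : R →+* T) (b : R) (hb : IsUnit (ψ b))
    (K K' : Ideal R) (h : ∀ y ∈ K, ∃ n : ℕ, b ^ n * y ∈ K') : K.map ψ ≤ K'.map ψ := by
  rw [Ideal.map_le_iff_le_comap]
  intro y hy
  obtain ⟨n, hn⟩ := h y hy
  have h1 : ψ (b ^ n * y) ∈ K'.map ψ := Ideal.mem_map_of_mem _ hn
  rw [map_mul, map_pow] at h1
  rw [Ideal.mem_comap]
  have hu : IsUnit (ψ b ^ n) := hb.pow n
  exact (Ideal.unit_mul_mem_iff_mem _ hu).mp h1

end Away

end Groth.Agent.Lib.Helper59.FreeOrbitReg
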