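import Mathlib
import Groth.Agent.S2116
import Groth.Agent.Lib.Helper68.HopfDim
import Groth.Agent.Lib.Helper68.LieComod
import Groth.Agent.Lib.Helper87.CMVertex2

/-! # Regular quotients of localisations at rational points -/

set_option autoImplicit false
universe u
open IsLocalRing

namespace Groth.Agent.Lib.Helper59.FreeOrbitReg

section RegQuot

variable (k : Type u) [Field k] [IsAlgClosed k] (R : Type u) [CommRing R] [Algebra k R]
  [Algebra.FiniteType k R]

/-- If `R ⧸ I` is smooth over `k`, the quotient of the local ring of `R` at a maximal ideal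
`P ⊇ I` by the extension of `I` is regular, of dimension the height of `P ⧸ I`. -/
theorem regQuotLoc (I P : Ideal R) [hP : P.IsMaximal] (hIP : I ≤ P)
    [Algebra.FormallySmooth k (R ⧸ I)] :
    IsRegularLocalRing (Localization.AtPrime P ⧸ I.map (algebraMap R (Localization.AtPrime P))) ∧
    ringKrullDim (Localization.AtPrime P ⧸ I.map (algebraMap R (Localization.AtPrime P))) =
      ((P.map (Ideal.Quotient.mk I)).height : WithBot ℕ∞) := by
  classical
  have hsurj : Function.Surjective (Ideal.Quotient.mk I) := Ideal.Quotient.mk_surjective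
  have hPbmax : (P.map (Ideal.Quotient.mk I)).IsMaximal :=
    Ideal.IsMaximal.map_of_surjective_of_ker_le hsurj (by rw [Ideal.mk_ker]; exact hIP)
  have hPbprime : (P.map (Ideal.Quotient.mk I)).IsPrime := hPbmax.isPrime
  have hsub : Algebra.algebraMapSubmonoid (R ⧸ I) P.primeCompl =
      (P.map (Ideal.Quotient.mk I)).primeCompl := by
    ext y
    constructor
    · rintro ⟨z, hz, rfl⟩
      intro hmem
      apply hz
      have h1 : z ∈ (P.map (Ideal.Quotient.mk I)).comap (Ideal.Quotient.mk I) := hmem
      rw [Ideal.comap_map_of_surjective _ hsurj, ← RingHom.ker_eq_comap_bot, Ideal.mk_ker,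
        sup_eq_left.mpr hIP] at h1
      exact h1
    · intro hy
      obtain ⟨z, rfl⟩ := hsurj y
      refine ⟨z, ?_, rfl⟩
      intro hz
      exact hy (Ideal.mem_map_of_mem _ hz)
  have hloc : IsLocalization.AtPrime
      (Localization.AtPrime P ⧸ I.map (algebraMap R (Localization.AtPrime P)))
      (P.map (Ideal.Quotient.mk I)) := by
    have := (inferInstance : IsLocalization (Algebra.algebraMapSubmonoid (R ⧸ I) P.primeCompl)
      (Localization.AtPrime P ⧸ I.map (algebraMap R (Localization.AtPrime P))))
    rw [hsub] at this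
    exact this
  refine ⟨?_, IsLocalization.AtPrime.ringKrullDim_eq_height (P.map (Ideal.Quotient.mk I)) _⟩
  have hft : Algebra.FiniteType k (R ⧸ I) :=
    Algebra.FiniteType.of_surjective (Ideal.Quotient.mkₐ k I) (Ideal.Quotient.mkₐ_surjective k I)
  have hreg : IsRegularLocalRing (Localization.AtPrime (P.map (Ideal.Quotient.mk I))) := by
    rw [Groth.Agent.S2116.result (k := k) (P.map (Ideal.Quotient.mk I))]
    have h2 : Algebra.FormallySmooth (R ⧸ I) (Localization.AtPrime (P.map (Ideal.Quotient.mk I))) :=
      .of_isLocalization (P.map (Ideal.Quotient.mk I)).primeCompl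
    exact Algebra.FormallySmooth.comp k (R ⧸ I) _
  let e := IsLocalization.algEquiv (P.map (Ideal.Quotient.mk I)).primeCompl
    (Localization.AtPrime (P.map (Ideal.Quotient.mk I)))
    (Localization.AtPrime P ⧸ I.map (algebraMap R (Localization.AtPrime P)))
  exact IsRegularLocalRing.of_ringEquiv e.toRingEquiv

omit [IsAlgClosed k] in
include k in
/-- In a finitely generated domain over a field all maximal ideals have height the dimension. -/
theorem height_eq_ringKrullDim_of_isMaximal [IsDomain R] (P : Ideal R) [hP : P.IsMaximal] :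
    (P.height : WithBot ℕ∞) = ringKrullDim R := by
  apply le_antisymm (Ideal.height_le_ringKrullDim_of_ne_top hP.ne_top)
  have hbot : (⊥ : Ideal R).IsPrime := Ideal.isPrime_bot
  have h := Groth.Agent.Lib.Helper87.CMVertex.ringKrullDim_quotient_le_height_of_isMaximal k R ⊥ P hP bot_le
  rwa [ringKrullDim_eq_of_ringEquiv (RingEquiv.quotientBot R)] at h

end RegQuot

end Groth.Agent.Lib.Helper59.FreeOrbitReg
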