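import Mathlib
import Groth.Prelude.Def_ArtFun

/-!
# Freeness from injectivity on small extensions (helper59)

`R` Artinian local with residue field `k`, `M` a finite `R`-module such that `M ⊗ ker p → M ⊗ A'`
is injective for every small extension `p : A' → A`.  Then `M` is flat, hence free.
The proof uses only the small extensions `R/J' → R/J` with `J' ⋖ J ≤ m`.
-/

set_option autoImplicit false
universe u

open CategoryTheory TensorProduct IsLocalRing Function

namespace Groth.Agent.Lib.Helper59.FreeSmallExt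

open ArtFun

variable {R : Type u} [CommRing R] [IsArtinianRing R] [IsLocalRing R]
variable {k : Type u} [Field k] [Algebra R k]

section Objects

variable (hk : Function.Surjective (algebraMap R k))
include hk

theorem ker_algebraMap_eq : RingHom.ker (algebraMap R k) = maximalIdeal R := by
  have hmax : (RingHom.ker (algebraMap R k)).IsMaximal :=
    RingHom.ker_isMaximal_of_surjective (algebraMap R k) hk
  exact IsLocalRing.eq_maximalIdeal hmax

theorem algebraMap_eq_zero_of_mem {J : Ideal R} (hJ : J ≤ maximalIdeal R) (a : R) (ha : a ∈ J) :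
    (Algebra.ofId R k) a = 0 := by
  have : a ∈ RingHom.ker (algebraMap R k) := by rw [ker_algebraMap_eq hk]; exact hJ ha
  exact this

end Objects

/-- The residue map of `R ⧸ J` for `J ≤ m`. -/
noncomputable def resQ (hk : Function.Surjective (algebraMap R k)) (J : Ideal R)
    (hJ : J ≤ maximalIdeal R) : R ⧸ J →ₐ[R] k :=
  Ideal.Quotient.liftₐ J (Algebra.ofId R k) (algebraMap_eq_zero_of_mem hk hJ)

theorem resQ_mk (hk : Function.Surjective (algebraMap R k)) (J : Ideal R)
    (hJ : J ≤ maximalIdeal R) (a : R) :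
    resQ hk J hJ (Ideal.Quotient.mk J a) = algebraMap R k a := rfl

theorem resQ_surjective (hk : Function.Surjective (algebraMap R k)) (J : Ideal R)
    (hJ : J ≤ maximalIdeal R) : Function.Surjective (resQ hk J hJ) := fun y => by
  obtain ⟨a, rfl⟩ := hk y
  exact ⟨Ideal.Quotient.mk J a, rfl⟩

theorem isLocalRing_quot (J : Ideal R) (hJ : J ≤ maximalIdeal R) : IsLocalRing (R ⧸ J) := by
  haveI : Nontrivial (R ⧸ J) := by
    rw [Ideal.Quotient.nontrivial_iff]
    rintro rfl
    exact (maximalIdeal.isMaximal R).ne_top (top_le_iff.mp hJ)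
  exact IsLocalRing.of_surjective' (Ideal.Quotient.mk J) Ideal.Quotient.mk_surjective

/-- `R ⧸ J` as an object of `Art R k`. -/
noncomputable def obj (hk : Function.Surjective (algebraMap R k)) (J : Ideal R)
    (hJ : J ≤ maximalIdeal R) : Art R k :=
  haveI := isLocalRing_quot J hJ
  Art.of (R ⧸ J) (resQ hk J hJ) (resQ_surjective hk J hJ)

/-- The projection `R ⧸ J' → R ⧸ J` as a morphism of `Art R k`. -/
noncomputable def proj (hk : Function.Surjective (algebraMap R k)) {J' J : Ideal R} (hle : J' ≤ J)
    (hJ : J ≤ maximalIdeal R) : obj hk J' (hle.trans hJ) ⟶ obj hk J hJ :=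
  Art.homMk (Ideal.Quotient.factorₐ R hle) (by
    apply AlgHom.ext
    intro x
    obtain ⟨a, rfl⟩ := Ideal.Quotient.mk_surjective x
    rfl)

/-- The quotient map `R → R ⧸ J`, with values in the carrier of `obj`. -/
noncomputable def mkO (hk : Function.Surjective (algebraMap R k)) (J : Ideal R)
    (hJ : J ≤ maximalIdeal R) : R →ₐ[R] (obj hk J hJ) := Ideal.Quotient.mkₐ R J

theorem mkO_surjective (hk : Function.Surjective (algebraMap R k)) (J : Ideal R)
    (hJ : J ≤ maximalIdeal R) : Function.Surjective (mkO hk J hJ) :=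
  Ideal.Quotient.mk_surjective

theorem mkO_eq_zero_iff (hk : Function.Surjective (algebraMap R k)) (J : Ideal R)
    (hJ : J ≤ maximalIdeal R) (a : R) : mkO hk J hJ a = 0 ↔ a ∈ J :=
  Ideal.Quotient.eq_zero_iff_mem

theorem proj_mkO (hk : Function.Surjective (algebraMap R k)) {J' J : Ideal R} (hle : J' ≤ J)
    (hJ : J ≤ maximalIdeal R) (a : R) :
    (proj hk hle hJ).toAlgHom (mkO hk J' (hle.trans hJ) a) = mkO hk J hJ a := rfl

theorem mem_ker_proj (hk : Function.Surjective (algebraMap R k)) {J' J : Ideal R} (hle : J' ≤ J)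
    (hJ : J ≤ maximalIdeal R) (a : R) :
    mkO hk J' (hle.trans hJ) a ∈ RingHom.ker (proj hk hle hJ).toAlgHom ↔ a ∈ J := by
  rw [RingHom.mem_ker]
  change (proj hk hle hJ).toAlgHom (mkO hk J' (hle.trans hJ) a) = 0 ↔ _
  rw [proj_mkO]
  exact mkO_eq_zero_iff hk J hJ a

section Cov

variable {J' J : Ideal R} (hcov : J' ⋖ J)
include hcov

theorem sup_span_eq {x : R} (hxJ : x ∈ J) (hxJ' : x ∉ J') : J' ⊔ Ideal.span {x} = J := by
  have hle : J' ⊔ Ideal.span {x} ≤ J :=
    sup_le hcov.le ((Ideal.span_singleton_le_iff_mem (I := J)).mpr hxJ)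
  have hlt : J' < J' ⊔ Ideal.span {x} := by
    refine lt_of_le_of_ne le_sup_left fun h => hxJ' ?_
    rw [h]
    exact Ideal.mem_sup_right (Ideal.mem_span_singleton_self x)
  by_contra hne
  exact hcov.2 hlt (lt_of_le_of_ne hle hne)

theorem max_smul_le (hJ : J ≤ maximalIdeal R) : maximalIdeal R • J ≤ J' := by
  by_contra hnot
  have hle : J' ⊔ maximalIdeal R • J ≤ J := sup_le hcov.le Submodule.smul_le_right
  have hlt : J' < J' ⊔ maximalIdeal R • J := by
    refine lt_of_le_of_ne le_sup_left fun h => hnot ?_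
    rw [h]
    exact le_sup_right
  have heq : J' ⊔ maximalIdeal R • J = J := by
    by_contra hne
    exact hcov.2 hlt (lt_of_le_of_ne hle hne)
  have hfg : (J : Submodule R R).FG := IsNoetherian.noetherian J
  have := Submodule.le_of_le_smul_of_le_jacobson_bot (N := J') (N' := J) hfg
    (IsLocalRing.maximalIdeal_le_jacobson ⊥) heq.ge
  exact hcov.lt.not_ge this

theorem isSmallExt_proj (hk : Function.Surjective (algebraMap R k)) (hJ : J ≤ maximalIdeal R) :
    Art.IsSmallExt (proj hk hcov.le hJ) := by
  obtain ⟨x, hxJ, hxJ'⟩ := SetLike.exists_of_lt hcov.lt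
  have hJ'm : J' ≤ maximalIdeal R := hcov.le.trans hJ
  refine ⟨?_, ?_, ?_, ?_⟩
  · exact Ideal.Quotient.factor_surjective hcov.le
  · intro h0
    have hx : mkO hk J' hJ'm x ∈ RingHom.ker (proj hk hcov.le hJ).toAlgHom :=
      (mem_ker_proj hk hcov.le hJ x).mpr hxJ
    rw [h0, Ideal.mem_bot] at hx
    exact hxJ' ((mkO_eq_zero_iff hk J' hJ'm x).mp hx)
  · refine ⟨⟨mkO hk J' hJ'm x, ?_⟩⟩
    apply le_antisymm
    · intro y hy
      obtain ⟨a, rfl⟩ := mkO_surjective hk J' hJ'm y
      have ha : a ∈ J := (mem_ker_proj hk hcov.le hJ a).mp hy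
      rw [← sup_span_eq hcov hxJ hxJ'] at ha
      obtain ⟨j, hj, z, hz, rfl⟩ := Submodule.mem_sup.mp ha
      obtain ⟨r, rfl⟩ := Ideal.mem_span_singleton'.mp hz
      rw [map_add, (mkO_eq_zero_iff hk J' hJ'm j).mpr hj, zero_add, map_mul]
      exact Ideal.mul_mem_left _ _ (Ideal.mem_span_singleton_self _)
    · rw [Submodule.span_singleton_le_iff_mem]
      exact (mem_ker_proj hk hcov.le hJ x).mpr hxJ
  · rw [eq_bot_iff, Ideal.mul_le]
    intro u hu y hy
    obtain ⟨r, rfl⟩ := mkO_surjective hk J' hJ'm u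
    obtain ⟨a, rfl⟩ := mkO_surjective hk J' hJ'm y
    have ha : a ∈ J := (mem_ker_proj hk hcov.le hJ a).mp hy
    have hr : r ∈ maximalIdeal R := by
      rw [IsLocalRing.mem_maximalIdeal, mem_nonunits_iff]
      intro hunit
      exact ((IsLocalRing.mem_maximalIdeal _).mp hu) (hunit.map (mkO hk J' hJ'm))
    rw [Ideal.mem_bot, ← map_mul]
    exact (mkO_eq_zero_iff hk J' hJ'm _).mpr
      (max_smul_le hcov hJ (Submodule.smul_mem_smul hr ha))

end Cov

section Chase

variable {M : Type u} [AddCommGroup M] [Module R M]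

/-- The induction step: injectivity for `J'` and the hypothesis for the small extension
`R/J' → R/J` give injectivity for `J`. -/
theorem step (hk : Function.Surjective (algebraMap R k)) {J' J : Ideal R} (hle : J' ≤ J)
    (hJ : J ≤ maximalIdeal R)
    (hinj : Function.Injective (LinearMap.lTensor M
      (((RingHom.ker (proj hk hle hJ).toAlgHom).restrictScalars R).subtype)))
    (hJ' : Function.Injective (LinearMap.lTensor M J'.subtype)) :
    Function.Injective (LinearMap.lTensor M J.subtype) := by
  have hJ'm : J' ≤ maximalIdeal R := hle.trans hJ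
  set K : Submodule R (obj hk J' hJ'm) :=
    (RingHom.ker (proj hk hle hJ).toAlgHom).restrictScalars R with hK
  let mkL : R →ₗ[R] (obj hk J' hJ'm) := (mkO hk J' hJ'm).toLinearMap
  let f1 : J' →ₗ[R] J := Submodule.inclusion hle
  let f2 : J →ₗ[R] K := LinearMap.codRestrict K (mkL ∘ₗ J.subtype) (fun y => by
    change mkO hk J' hJ'm (y : R) ∈ RingHom.ker (proj hk hle hJ).toAlgHom
    exact (mem_ker_proj hk hle hJ _).mpr y.2)
  have hex : Function.Exact f1 f2 := by
    intro y
    constructor
    · intro hy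
      have h0 : mkO hk J' hJ'm (y : R) = 0 := congrArg Subtype.val hy
      have hm : (y : R) ∈ J' := (mkO_eq_zero_iff hk J' hJ'm _).mp h0
      exact ⟨⟨y, hm⟩, Subtype.ext rfl⟩
    · rintro ⟨w, rfl⟩
      apply Subtype.ext
      change mkO hk J' hJ'm (w : R) = 0
      exact (mkO_eq_zero_iff hk J' hJ'm _).mpr w.2
  have hsurj : Function.Surjective f2 := by
    rintro ⟨y, hy⟩
    obtain ⟨a, rfl⟩ := mkO_surjective hk J' hJ'm y
    have ha : a ∈ J := (mem_ker_proj hk hle hJ a).mp hy
    exact ⟨⟨a, ha⟩, Subtype.ext rfl⟩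
  have hexT := lTensor_exact M hex hsurj
  have hcomm : K.subtype ∘ₗ f2 = mkL ∘ₗ J.subtype := LinearMap.subtype_comp_codRestrict _ _ _
  have hcomm2 : J.subtype ∘ₗ f1 = J'.subtype := by
    ext w; rfl
  rw [injective_iff_map_eq_zero]
  intro z hz
  have h1 : LinearMap.lTensor M K.subtype (LinearMap.lTensor M f2 z) = 0 := by
    rw [← LinearMap.comp_apply, ← LinearMap.lTensor_comp, hcomm, LinearMap.lTensor_comp,
      LinearMap.comp_apply, hz, map_zero]
  have h2 : LinearMap.lTensor M f2 z = 0 := hinj (by rw [h1, map_zero])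
  obtain ⟨w, rfl⟩ := (hexT z).mp h2
  have h3 : LinearMap.lTensor M J'.subtype w = 0 := by
    rw [← hcomm2, LinearMap.lTensor_comp, LinearMap.comp_apply, hz]
  have h4 : w = 0 := hJ' (by rw [h3, map_zero])
  rw [h4, map_zero]

theorem lTensor_injective_of_smallExt (hk : Function.Surjective (algebraMap R k))
    (h : ∀ (A' A : ArtFun.Art R k) (p : A' ⟶ A), ArtFun.Art.IsSmallExt p →
      Function.Injective
        (LinearMap.lTensor M (((RingHom.ker p.toAlgHom).restrictScalars R).subtype)))
    (J : Ideal R) : Function.Injective (LinearMap.lTensor M J.subtype) := by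
  induction J using WellFoundedLT.induction with
  | ind J ih =>
    by_cases hJ : J ≤ maximalIdeal R
    · by_cases hbot : J = ⊥
      · subst hbot
        haveI : Subsingleton (M ⊗[R] (⊥ : Ideal R)) := by
          haveI : Subsingleton (⊥ : Ideal R) := by
            refine ⟨fun a b => Subtype.ext ?_⟩
            rw [(Submodule.mem_bot R).mp a.2, (Submodule.mem_bot R).mp b.2]
          infer_instance
        exact Function.injective_of_subsingleton _
      · have hmin : ¬ IsMin J := fun hm => hbot (hm.eq_bot)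
        obtain ⟨J', hcov⟩ := exists_covBy_of_wellFoundedGT hmin
        exact step hk hcov.le hJ (h _ _ _ (isSmallExt_proj hcov hk hJ)) (ih J' hcov.lt)
    · have htop : J = ⊤ := by
        by_contra hne
        exact hJ (IsLocalRing.le_maximalIdeal hne)
      subst htop
      have hbij : Function.Bijective ((⊤ : Ideal R).subtype) :=
        ⟨Submodule.injective_subtype _, fun x => ⟨⟨x, Submodule.mem_top⟩, rfl⟩⟩
      let e : (⊤ : Ideal R) ≃ₗ[R] R := LinearEquiv.ofBijective _ hbij
      have : LinearMap.lTensor M (⊤ : Ideal R).subtype = (LinearEquiv.lTensor M e).toLinearMap := by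
        ext m x; rfl
      rw [this]
      exact (LinearEquiv.lTensor M e).injective

theorem free_of_smallExt [Module.Finite R M] (hk : Function.Surjective (algebraMap R k))
    (h : ∀ (A' A : ArtFun.Art R k) (p : A' ⟶ A), ArtFun.Art.IsSmallExt p →
      Function.Injective
        (LinearMap.lTensor M (((RingHom.ker p.toAlgHom).restrictScalars R).subtype))) :
    Module.Free R M := by
  haveI : Module.Flat R M :=
    Module.Flat.iff_lTensor_injective'.mpr (lTensor_injective_of_smallExt hk h)
  exact Module.free_of_flat_of_isLocalRing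

end Chase

end Groth.Agent.Lib.Helper59.FreeSmallExt
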