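import Mathlib
import Groth.Agent.Lib.Helper59.DeformIdeal3
import Groth.Agent.Lib.Helper59.FlatSeq
import Groth.Agent.Lib.Helper59.HBLift
import Groth.Agent.H34.HilbertBurch
import Groth.Agent.Lib.Helper66.HilbertBurchB

/-!
# Deformations of Hilbert–Burch presentations along a nilpotent ideal (helper59)

`R` a ring, `𝔞 ⊆ R` a nilpotent ideal, `S` a flat Noetherian `R`-algebra, `I ⊆ S` with `S/I` flat
over `R`.  If the image of `I` in `S/𝔞S` is the ideal of maximal minors of an `(r+1) × r` matrix `φb`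
with `0 → (S/𝔞S)^r → (S/𝔞S)^{r+1} → S/𝔞S` exact, then `φb` lifts to a matrix `φ` over `S` with the
same properties for `I`.
-/

set_option autoImplicit false
universe u
open scoped TensorProduct
open Function

namespace Groth.Agent.Lib.Helper59.HBDeform

open Groth.Agent.Lib.Helper59.DeformIdeal Groth.Agent.Lib.Helper59.HBLift

variable {R : Type u} [CommRing R] (𝔞 : Ideal R) {S : Type u} [CommRing S] [Algebra R S]

section LemmaM

variable {P : Type u} [AddCommGroup P] [Module R P] [Module S P] [IsScalarTower R S P]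

theorem exists_mult_eq_of_mem_smul_top (x : P)
    (hx : x ∈ (𝔞.map (algebraMap R S)) • (⊤ : Submodule S P)) :
    ∃ z : P ⊗[R] ↥𝔞, mult 𝔞 P z = x := by
  have key : ∀ b ∈ 𝔞.map (algebraMap R S), ∀ p : P, ∃ z : P ⊗[R] ↥𝔞, mult 𝔞 P z = b • p := by
    intro b hb
    unfold Ideal.map at hb
    induction hb using Submodule.span_induction with
    | mem b hb =>
      obtain ⟨a, ha, rfl⟩ := hb
      intro p
      exact ⟨p ⊗ₜ ⟨a, ha⟩, by rw [mult_tmul, algebraMap_smul]⟩
    | zero => intro p; exact ⟨0, by rw [map_zero, zero_smul]⟩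
    | add b b' _ _ hb hb' =>
      intro p
      obtain ⟨z, hz⟩ := hb p
      obtain ⟨z', hz'⟩ := hb' p
      exact ⟨z + z', by rw [map_add, hz, hz', add_smul]⟩
    | smul s b _ hb =>
      intro p
      obtain ⟨z, hz⟩ := hb (s • p)
      exact ⟨z, by rw [hz, smul_eq_mul, mul_comm, mul_smul]⟩
  refine Submodule.smul_induction_on hx (fun b hb p _ => key b hb p) ?_
  rintro x y ⟨z, hz⟩ ⟨z', hz'⟩
  exact ⟨z + z', by rw [map_add, hz, hz']⟩

/-- For a submodule with `R`-flat quotient, `N ∩ 𝔞P = 𝔞N`. -/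
theorem mem_smul_of_mem_inf (N : Submodule S P) [Module.Flat R (P ⧸ N)] {x : P} (hx : x ∈ N)
    (hxa : x ∈ (𝔞.map (algebraMap R S)) • (⊤ : Submodule S P)) :
    x ∈ (𝔞.map (algebraMap R S)) • N := by
  obtain ⟨z, rfl⟩ := exists_mult_eq_of_mem_smul_top 𝔞 x hxa
  let q : P →ₗ[R] (P ⧸ N) := (Submodule.mkQ N).restrictScalars R
  have h1 : LinearMap.rTensor ↥𝔞 q z = 0 := by
    apply mult_injective 𝔞 (P ⧸ N)
    rw [mult_rTensor, map_zero]
    exact (Submodule.Quotient.mk_eq_zero N).mpr hx
  have hex := rTensor_exact ↥𝔞 (LinearMap.exact_subtype_mkQ (N.restrictScalars R))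
    (Submodule.mkQ_surjective _)
  obtain ⟨s, rfl⟩ := (hex z).mp h1
  clear h1 hx hxa
  induction s using TensorProduct.induction_on with
  | zero => simp
  | tmul n a =>
    rw [LinearMap.rTensor_tmul, mult_tmul]
    change (a : R) • (n : P) ∈ _
    rw [← algebraMap_smul S (a : R) (n : P)]
    exact Submodule.smul_mem_smul (Ideal.mem_map_of_mem _ a.2) n.2
  | add s s' hs hs' =>
    rw [map_add, map_add]
    exact add_mem hs hs'

end LemmaM

section Nilp

variable {𝔞}

theorem map_le_jacobson (h𝔞 : IsNilpotent 𝔞) :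
    𝔞.map (algebraMap R S) ≤ Ideal.jacobson (⊥ : Ideal S) := by
  obtain ⟨n, hn⟩ := h𝔞
  refine le_trans ?_ Ideal.radical_le_jacobson
  intro x hx
  refine ⟨n, ?_⟩
  have h1 : x ^ n ∈ (𝔞.map (algebraMap R S)) ^ n := Ideal.pow_mem_pow hx n
  rw [← Ideal.map_pow, hn] at h1
  have h2 : (0 : Ideal R) = ⊥ := rfl
  rw [h2, Ideal.map_bot] at h1
  exact h1

theorem isUnit_of_sub_one_mem (h𝔞 : IsNilpotent 𝔞) {a : S}
    (ha : a - 1 ∈ 𝔞.map (algebraMap R S)) : IsUnit a := by
  obtain ⟨n, hn⟩ := h𝔞
  have h1 : (a - 1) ^ n ∈ (𝔞.map (algebraMap R S)) ^ n := Ideal.pow_mem_pow ha n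
  rw [← Ideal.map_pow, hn] at h1
  have h2 : (0 : Ideal R) = ⊥ := rfl
  rw [h2, Ideal.map_bot, Ideal.mem_bot] at h1
  have h3 : IsNilpotent (a - 1) := ⟨n, h1⟩
  have := h3.isUnit_add_one
  rwa [sub_add_cancel] at this

end Nilp

section Gens

variable {𝔞}

/-- A flat lift of an ideal is generated by lifts of generators (nilpotent version). -/
theorem eq_span_of_map_eq [IsNoetherianRing S] (h𝔞 : IsNilpotent 𝔞) (I : Ideal S)
    [Module.Flat R (S ⧸ I)] {n : ℕ} (f : Fin n → S) (hf : ∀ i, f i ∈ I)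
    (hmap : I.map (Ideal.Quotient.mk (𝔞.map (algebraMap R S))) =
      Ideal.span (Set.range fun i => Ideal.Quotient.mk (𝔞.map (algebraMap R S)) (f i))) :
    I = Ideal.span (Set.range f) := by
  have hle : Ideal.span (Set.range f) ≤ I := by
    rw [Ideal.span_le]
    rintro _ ⟨i, rfl⟩
    exact hf i
  refine le_antisymm ?_ hle
  have hmap' : (Ideal.span (Set.range f)).map (Ideal.Quotient.mk (𝔞.map (algebraMap R S))) =
      Ideal.span (Set.range fun i => Ideal.Quotient.mk (𝔞.map (algebraMap R S)) (f i)) := by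
    rw [Ideal.map_span, ← Set.range_comp]
    rfl
  refine Submodule.le_of_le_smul_of_le_jacobson_bot (I := 𝔞.map (algebraMap R S))
    (IsNoetherian.noetherian _) (map_le_jacobson h𝔞) ?_
  intro x hx
  have h1 : Ideal.Quotient.mk (𝔞.map (algebraMap R S)) x ∈
      (Ideal.span (Set.range f)).map (Ideal.Quotient.mk (𝔞.map (algebraMap R S))) := by
    rw [hmap', ← hmap]
    exact Ideal.mem_map_of_mem _ hx
  obtain ⟨y, hy, hyx⟩ := (Ideal.mem_map_iff_of_surjective _ Ideal.Quotient.mk_surjective).mp h1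
  have h2 : x - y ∈ 𝔞.map (algebraMap R S) * I := by
    refine mem_mul_of_mem_inf 𝔞 I (I.sub_mem hx (hle hy)) ?_
    rw [← Ideal.Quotient.eq_zero_iff_mem, map_sub, hyx, sub_self]
  have : x = y + (x - y) := by ring
  rw [this]
  exact Submodule.add_mem_sup hy h2

/-- Lifting relations: a matrix of relations modulo `𝔞` lifts to a matrix of relations. -/
theorem exists_matrix_lift (I : Ideal S) [Module.Flat R (S ⧸ I)] {n m : ℕ} (f : Fin n → S)
    (hI : I = Ideal.span (Set.range f))
    (φb : Matrix (Fin n) (Fin m) (S ⧸ 𝔞.map (algebraMap R S)))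
    (hrel : ∀ j, ∑ i, φb i j * Ideal.Quotient.mk (𝔞.map (algebraMap R S)) (f i) = 0) :
    ∃ φ : Matrix (Fin n) (Fin m) S,
      φ.map (Ideal.Quotient.mk (𝔞.map (algebraMap R S))) = φb ∧ ∀ j, ∑ i, φ i j * f i = 0 := by
  classical
  choose φt hφt using fun i j => Ideal.Quotient.mk_surjective (φb i j)
  have hfI : ∀ i, f i ∈ I := fun i => by rw [hI]; exact Ideal.subset_span ⟨i, rfl⟩
  have hc : ∀ j, ∃ e : Fin n → S, (∀ i, e i ∈ 𝔞.map (algebraMap R S)) ∧
      ∑ i, e i * f i = ∑ i, φt i j * f i := by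
    intro j
    have h1 : ∑ i, φt i j * f i ∈ I := I.sum_mem fun i _ => I.mul_mem_left _ (hfI i)
    have h2 : ∑ i, φt i j * f i ∈ 𝔞.map (algebraMap R S) := by
      rw [← Ideal.Quotient.eq_zero_iff_mem, map_sum, ← hrel j]
      refine Finset.sum_congr rfl fun i _ => ?_
      rw [map_mul, hφt]
    have h3 := mem_mul_of_mem_inf 𝔞 I h1 h2
    rw [hI, ← smul_eq_mul, Ideal.span, Submodule.mem_ideal_smul_span_iff_exists_sum] at h3
    obtain ⟨e, he, hsum⟩ := h3
    refine ⟨e, he, ?_⟩
    rw [← hsum, Finsupp.sum_fintype e (fun i c => c • f i) (fun i => zero_smul _ _)]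
    rfl
  choose e he hsum using hc
  refine ⟨Matrix.of fun i j => φt i j - e j i, ?_, ?_⟩
  · ext i j
    rw [Matrix.map_apply, Matrix.of_apply, map_sub, hφt,
      Ideal.Quotient.eq_zero_iff_mem.mpr (he j i), sub_zero]
  · intro j
    simp only [Matrix.of_apply, sub_mul, Finset.sum_sub_distrib]
    rw [hsum j, sub_self]

end Gens

section Exact

variable {𝔞}

theorem linearCombination_mulVec_of_rel {n m : ℕ} (f : Fin n → S) (φ : Matrix (Fin n) (Fin m) S)
    (hrel : ∀ j, ∑ i, φ i j * f i = 0) (u : Fin m → S) :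
    Fintype.linearCombination S f (φ.mulVecLin u) = 0 := by
  rw [Fintype.linearCombination_apply]
  simp only [Matrix.mulVecLin_apply, Matrix.mulVec, dotProduct, smul_eq_mul, Finset.sum_mul]
  rw [Finset.sum_comm]
  apply Finset.sum_eq_zero
  intro j _
  calc ∑ i, φ i j * u j * f i = u j * ∑ i, φ i j * f i := by
        rw [Finset.mul_sum]; refine Finset.sum_congr rfl fun i _ => ?_; ring
    _ = 0 := by rw [hrel j, mul_zero]

theorem mk_linearCombination {n : ℕ} (f w : Fin n → S) :
    Ideal.Quotient.mk (𝔞.map (algebraMap R S)) (Fintype.linearCombination S f w) =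
      Fintype.linearCombination (S ⧸ 𝔞.map (algebraMap R S))
        (fun i => Ideal.Quotient.mk (𝔞.map (algebraMap R S)) (f i))
        (fun i => Ideal.Quotient.mk (𝔞.map (algebraMap R S)) (w i)) := by
  rw [Fintype.linearCombination_apply, Fintype.linearCombination_apply, map_sum]
  refine Finset.sum_congr rfl fun i _ => ?_
  rw [smul_eq_mul, smul_eq_mul, map_mul]

theorem mem_smul_top_of_forall_mem {n : ℕ} (w : Fin n → S)
    (hw : ∀ i, w i ∈ 𝔞.map (algebraMap R S)) :
    w ∈ (𝔞.map (algebraMap R S)) • (⊤ : Submodule S (Fin n → S)) := by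
  classical
  have h1 : w = ∑ i, w i • (Pi.single i (1 : S) : Fin n → S) := by
    funext j
    simp [Finset.sum_apply, Pi.single_apply]
  rw [h1]
  exact Submodule.sum_mem _ fun i _ => Submodule.smul_mem_smul (hw i) Submodule.mem_top

theorem mk_mulVec {n m : ℕ} (φ : Matrix (Fin n) (Fin m) S) (u : Fin m → S) (i : Fin n) :
    Ideal.Quotient.mk (𝔞.map (algebraMap R S)) (φ.mulVec u i) =
      (φ.map (Ideal.Quotient.mk (𝔞.map (algebraMap R S)))).mulVec
        (fun j => Ideal.Quotient.mk (𝔞.map (algebraMap R S)) (u j)) i := by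
  rw [RingHom.map_mulVec]
  rfl

/-- Lifting exactness of `0 → S^m → S^n → I → 0` from `S/𝔞S` to `S`. -/
theorem exact_lift [IsNoetherianRing S] [Module.Flat R S] (h𝔞 : IsNilpotent 𝔞) (I : Ideal S)
    [Module.Flat R (S ⧸ I)] {n m : ℕ} (f : Fin n → S) (hI : I = Ideal.span (Set.range f))
    (φ : Matrix (Fin n) (Fin m) S) (hrel : ∀ j, ∑ i, φ i j * f i = 0)
    (hinj : Injective (φ.map (Ideal.Quotient.mk (𝔞.map (algebraMap R S)))).mulVecLin)
    (hex : LinearMap.range (φ.map (Ideal.Quotient.mk (𝔞.map (algebraMap R S)))).mulVecLin =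
      LinearMap.ker (Fintype.linearCombination (S ⧸ 𝔞.map (algebraMap R S))
        (fun i => Ideal.Quotient.mk (𝔞.map (algebraMap R S)) (f i)))) :
    Injective φ.mulVecLin ∧
      LinearMap.range φ.mulVecLin = LinearMap.ker (Fintype.linearCombination S f) := by
  set πf := Fintype.linearCombination S f with hπf
  have hrangeπ : LinearMap.range πf = I := by
    rw [hπf, Fintype.range_linearCombination, hI]
  have hflatP : ∀ k : ℕ, Module.Flat R (Fin k → S) := fun k => flat_pi k
  -- `I` is flat over `R`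
  have hflatI : Module.Flat R I :=
    FlatSeq.flat_of_exact (I.subtype.restrictScalars R) ((Submodule.mkQ I).restrictScalars R)
      Subtype.val_injective (Submodule.mkQ_surjective I) (LinearMap.exact_subtype_mkQ I)
  have hflatRange : Module.Flat R (LinearMap.range πf) := by
    rw [hrangeπ]; exact hflatI
  -- the quotient by the kernel is flat
  have hflatK : Module.Flat R ((Fin n → S) ⧸ LinearMap.ker πf) :=
    Module.Flat.of_linearEquiv (πf.quotKerEquivRange.restrictScalars R)
  have hjac := map_le_jacobson (S := S) h𝔞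
  -- exactness in the middle
  have hmid : LinearMap.ker πf ≤ LinearMap.range φ.mulVecLin := by
    refine Submodule.le_of_le_smul_of_le_jacobson_bot (I := 𝔞.map (algebraMap R S))
      (IsNoetherian.noetherian _) hjac ?_
    intro w hw
    have hw0 : πf w = 0 := hw
    have h1 : (fun i => Ideal.Quotient.mk (𝔞.map (algebraMap R S)) (w i)) ∈
        LinearMap.range (φ.map (Ideal.Quotient.mk (𝔞.map (algebraMap R S)))).mulVecLin := by
      rw [hex, LinearMap.mem_ker, ← mk_linearCombination, hw0, map_zero]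
    obtain ⟨ub, hub⟩ := h1
    choose u hu using fun j => Ideal.Quotient.mk_surjective (ub j)
    have hφu : πf (φ.mulVecLin u) = 0 := linearCombination_mulVec_of_rel f φ hrel u
    have hw1 : w - φ.mulVecLin u ∈ LinearMap.ker πf := by
      rw [LinearMap.mem_ker, map_sub, hw0, hφu, sub_zero]
    have hw1' : w - φ.mulVecLin u ∈
        (𝔞.map (algebraMap R S)) • (⊤ : Submodule S (Fin n → S)) := by
      apply mem_smul_top_of_forall_mem
      intro i
      rw [← Ideal.Quotient.eq_zero_iff_mem, Pi.sub_apply, map_sub, Matrix.mulVecLin_apply,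
        mk_mulVec, sub_eq_zero]
      have h2 := congrFun hub i
      rw [Matrix.mulVecLin_apply] at h2
      rw [← h2]
      congr 2
      funext j
      exact (hu j).symm
    have h3 := mem_smul_of_mem_inf 𝔞 (LinearMap.ker πf) hw1 hw1'
    have : w = φ.mulVecLin u + (w - φ.mulVecLin u) := by abel
    rw [this]
    exact Submodule.add_mem_sup ⟨u, rfl⟩ h3
  have hrange : LinearMap.range φ.mulVecLin = LinearMap.ker πf := by
    refine le_antisymm ?_ hmid
    rintro _ ⟨u, rfl⟩
    exact linearCombination_mulVec_of_rel f φ hrel u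
  refine ⟨?_, hrange⟩
  -- the kernel of `πf` is flat
  have hflatKer : Module.Flat R (LinearMap.ker πf) :=
    FlatSeq.flat_of_exact ((LinearMap.ker πf).subtype.restrictScalars R)
      (πf.rangeRestrict.restrictScalars R) Subtype.val_injective
      πf.surjective_rangeRestrict (by
        intro y
        constructor
        · intro hy
          have : πf y = 0 := congrArg Subtype.val hy
          exact ⟨⟨y, this⟩, rfl⟩
        · rintro ⟨z, rfl⟩
          exact Subtype.ext z.2)
  have hflatRφ : Module.Flat R (LinearMap.range φ.mulVecLin) := by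
    rw [hrange]; exact hflatKer
  have hflatL : Module.Flat R ((Fin m → S) ⧸ LinearMap.ker φ.mulVecLin) :=
    Module.Flat.of_linearEquiv (φ.mulVecLin.quotKerEquivRange.restrictScalars R)
  have hL : LinearMap.ker φ.mulVecLin ≤ ⊥ := by
    refine Submodule.le_of_le_smul_of_le_jacobson_bot (I := 𝔞.map (algebraMap R S))
      (IsNoetherian.noetherian _) hjac ?_
    intro u hu
    have hu0 : φ.mulVecLin u = 0 := hu
    have h1 : (φ.map (Ideal.Quotient.mk (𝔞.map (algebraMap R S)))).mulVecLin
        (fun j => Ideal.Quotient.mk (𝔞.map (algebraMap R S)) (u j)) = 0 := by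
      funext i
      rw [Matrix.mulVecLin_apply, ← mk_mulVec, ← Matrix.mulVecLin_apply, hu0]
      simp
    have h2 : (fun j => Ideal.Quotient.mk (𝔞.map (algebraMap R S)) (u j)) = 0 :=
      hinj (h1.trans (map_zero _).symm)
    have hu' : u ∈ (𝔞.map (algebraMap R S)) • (⊤ : Submodule S (Fin m → S)) := by
      apply mem_smul_top_of_forall_mem
      intro j
      rw [← Ideal.Quotient.eq_zero_iff_mem]
      exact congrFun h2 j
    have h3 := mem_smul_of_mem_inf 𝔞 (LinearMap.ker φ.mulVecLin) hu hu'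
    exact Submodule.mem_sup_right h3
  rw [← LinearMap.ker_eq_bot]
  exact le_bot_iff.mp hL

end Exact

section HB

variable {T : Type u} [CommRing T] [IsNoetherianRing T] {r : ℕ}

/-- Hilbert–Burch: if `0 → T^r → T^{r+1} → T` is exact with second map `f`, then it is exact with
the signed maximal minors as second map, the ideal of minors contains a regular element and
`f = a • minors`. -/
theorem exists_eq_mul_minor (φ : Matrix (Fin (r + 1)) (Fin r) T) (f : Fin (r + 1) → T)
    (hinj : Injective φ.mulVecLin)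
    (hex : LinearMap.range φ.mulVecLin = LinearMap.ker (Fintype.linearCombination T f)) :
    LinearMap.range φ.mulVecLin = LinearMap.ker (Fintype.linearCombination T (minor φ)) ∧
      (∃ x ∈ Ideal.span (Set.range (minor φ)), IsSMulRegular T x) ∧
      ∃ a : T, ∀ i, f i = a * minor φ i := by
  have hΨ : LinearMap.ker φ.mulVecLin = ⊥ := LinearMap.ker_eq_bot.mpr hinj
  have hdepth := Groth.Agent.H34.HilbertBurch.two_le_depth φ (Fintype.linearCombination T f) hΨ
    hex.symm
  obtain ⟨-, hker, hrange⟩ :=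
    Groth.Agent.Lib.Helper66.HilbertBurch.hilbertBurch_exact φ hdepth 1 (one_mem _)
  have hfun : (fun i : Fin (r + 1) => (1 : T) * ((-1 : T) ^ (i : ℕ) *
      (φ.submatrix i.succAbove id).det)) = minor φ := funext fun i => one_mul _
  rw [hfun] at hker hrange
  have hJ : Ideal.span (Set.range (minor φ)) = CAlgX.minorIdeal φ r := by
    rw [Fintype.range_linearCombination, Ideal.span_singleton_one, Ideal.top_mul] at hrange
    exact hrange
  obtain ⟨x, y, hxJ, hyJ, hxreg, hxy⟩ :=
    Groth.Agent.Lib.Helper66.HilbertBurch.exists_regular_pair (CAlgX.minorIdeal φ r) hdepth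
  set π := Fintype.linearCombination T f with hπ
  set π' := Fintype.linearCombination T (minor φ) with hπ'
  have hrange' : LinearMap.range π' = CAlgX.minorIdeal φ r := by
    rw [← hJ, hπ', Fintype.range_linearCombination]
  have hkk : ∀ w, π' w = 0 → π w = 0 := by
    intro w hw
    have h1 : w ∈ LinearMap.ker π' := hw
    rw [hker, hex] at h1
    exact h1
  refine ⟨hker.symm, ⟨x, hJ ▸ hxJ, hxreg⟩, ?_⟩
  obtain ⟨wx, hwx⟩ : ∃ w, π' w = x := by
    have : x ∈ LinearMap.range π' := by rw [hrange']; exact hxJ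
    exact this
  obtain ⟨wy, hwy⟩ : ∃ w, π' w = y := by
    have : y ∈ LinearMap.range π' := by rw [hrange']; exact hyJ
    exact this
  have h1 : y * π wx = x * π wy := by
    have h0 : π' (y • wx - x • wy) = 0 := by
      rw [map_sub, map_smul, map_smul, hwx, hwy, smul_eq_mul, smul_eq_mul]; ring
    have := hkk _ h0
    rw [map_sub, map_smul, map_smul, smul_eq_mul, smul_eq_mul] at this
    exact sub_eq_zero.mp this
  obtain ⟨a, ha⟩ := hxy _ _ h1
  have h2 : ∀ w, π w = a * π' w := by
    intro w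
    have h0 : π' (x • w - (π' w) • wx) = 0 := by
      rw [map_sub, map_smul, map_smul, hwx, smul_eq_mul, smul_eq_mul]; ring
    have := hkk _ h0
    rw [map_sub, map_smul, map_smul, smul_eq_mul, smul_eq_mul, ha] at this
    apply hxreg
    change x • π w = x • (a * π' w)
    rw [smul_eq_mul, smul_eq_mul]
    linear_combination this
  refine ⟨a, fun i => ?_⟩
  have h3 := h2 (Pi.single i 1)
  rw [hπ, hπ', Fintype.linearCombination_apply_single, Fintype.linearCombination_apply_single,
    one_smul, one_smul] at h3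
  exact h3

end HB

section Core

variable {𝔞}

/-- **Deforming a Hilbert–Burch presentation along a nilpotent ideal.** -/
theorem core [IsNoetherianRing S] [Module.Flat R S] (h𝔞 : IsNilpotent 𝔞) (I : Ideal S)
    [Module.Flat R (S ⧸ I)] {r : ℕ}
    (φb : Matrix (Fin (r + 1)) (Fin r) (S ⧸ 𝔞.map (algebraMap R S)))
    (hIb : I.map (Ideal.Quotient.mk (𝔞.map (algebraMap R S))) =
      Ideal.span (Set.range (minor φb)))
    (hinj : Injective φb.mulVecLin)
    (hex : LinearMap.range φb.mulVecLin =
      LinearMap.ker (Fintype.linearCombination (S ⧸ 𝔞.map (algebraMap R S)) (minor φb))) :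
    ∃ φ : Matrix (Fin (r + 1)) (Fin r) S,
      φ.map (Ideal.Quotient.mk (𝔞.map (algebraMap R S))) = φb ∧
      Ideal.span (Set.range (minor φ)) = I ∧ Injective φ.mulVecLin ∧
      LinearMap.range φ.mulVecLin = LinearMap.ker (Fintype.linearCombination S (minor φ)) := by
  -- lifts of the minors
  have hmem : ∀ i, ∃ x ∈ I, Ideal.Quotient.mk (𝔞.map (algebraMap R S)) x = minor φb i := by
    intro i
    have : minor φb i ∈ I.map (Ideal.Quotient.mk (𝔞.map (algebraMap R S))) := by
      rw [hIb]; exact Ideal.subset_span ⟨i, rfl⟩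
    exact (Ideal.mem_map_iff_of_surjective _ Ideal.Quotient.mk_surjective).mp this
  choose f hfI hf using hmem
  have hfun : (fun i => Ideal.Quotient.mk (𝔞.map (algebraMap R S)) (f i)) = minor φb := funext hf
  have hI : I = Ideal.span (Set.range f) := by
    apply eq_span_of_map_eq h𝔞 I f hfI
    rw [hfun]
    exact hIb
  have hrelb : ∀ j, ∑ i, φb i j * Ideal.Quotient.mk (𝔞.map (algebraMap R S)) (f i) = 0 := by
    intro j
    simp_rw [hf]
    exact sum_mul_minor φb j
  obtain ⟨φ, hφ, hrel⟩ := exists_matrix_lift I f hI φb hrelb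
  obtain ⟨hinjφ, hexφ⟩ := exact_lift h𝔞 I f hI φ hrel (by rw [hφ]; exact hinj)
    (by rw [hφ, hfun]; exact hex)
  obtain ⟨hexm, -, a, ha⟩ := exists_eq_mul_minor φ f hinjφ hexφ
  obtain ⟨-, ⟨xb, hxb, hxbreg⟩, -⟩ := exists_eq_mul_minor φb (minor φb) hinj hex
  -- `a` reduces to `1`
  have hminor : ∀ i, Ideal.Quotient.mk (𝔞.map (algebraMap R S)) (minor φ i) = minor φb i := by
    intro i
    rw [← minor_map, hφ]
  have hkill : ∀ i, (Ideal.Quotient.mk (𝔞.map (algebraMap R S)) a - 1) * minor φb i = 0 := by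
    intro i
    have h1 := congrArg (Ideal.Quotient.mk (𝔞.map (algebraMap R S))) (ha i)
    rw [hf, map_mul, hminor] at h1
    rw [sub_mul, one_mul, ← h1, sub_self]
  have hkillx : (Ideal.Quotient.mk (𝔞.map (algebraMap R S)) a - 1) * xb = 0 := by
    obtain ⟨c, rfl⟩ := Ideal.mem_span_range_iff_exists_fun.mp hxb
    rw [Finset.mul_sum]
    refine Finset.sum_eq_zero fun i _ => ?_
    rw [mul_left_comm, hkill, mul_zero]
  have ha1 : Ideal.Quotient.mk (𝔞.map (algebraMap R S)) a - 1 = 0 := by
    apply hxbreg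
    change xb • _ = xb • (0 : S ⧸ 𝔞.map (algebraMap R S))
    rw [smul_eq_mul, smul_eq_mul, mul_zero, mul_comm]
    exact hkillx
  have haunit : IsUnit a := by
    apply isUnit_of_sub_one_mem h𝔞
    rw [← Ideal.Quotient.eq_zero_iff_mem, map_sub, map_one]
    exact ha1
  refine ⟨φ, hφ, ?_, hinjφ, hexm⟩
  rw [hI]
  apply le_antisymm
  · rw [Ideal.span_le]
    rintro _ ⟨i, rfl⟩
    obtain ⟨u, rfl⟩ := haunit
    have : minor φ i = (↑u⁻¹ : S) * f i := by
      rw [ha i, ← mul_assoc, Units.inv_mul, one_mul]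
    rw [this]
    exact Ideal.mul_mem_left _ _ (Ideal.subset_span ⟨i, rfl⟩)
  · rw [Ideal.span_le]
    rintro _ ⟨i, rfl⟩
    rw [ha i]
    exact Ideal.mul_mem_left _ _ (Ideal.subset_span ⟨i, rfl⟩)

end Core

end Groth.Agent.Lib.Helper59.HBDeform
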