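import Groth.Prelude.Def_HMNum
import Groth.Agent.S18285

/-!
# Limit points of one-parameter subgroups (helper59)

* `hom_ext_of_isIso_hom` : morphisms into an `Over S` object whose structure map is an iso are unique.
* `AMonS_bot_hom_ext` : `A({0})_S` has exactly one `T`-point.
* `isFixedBy_limitPt` : the value at the origin of an equivariant extension is a fixed point.
* `isLimitPt_self` : a fixed point is its own limit.
* `isLimitPt_unique` : limits are unique when `X` is separated over `S`.
-/

set_option autoImplicit false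
universe u
open CategoryTheory CategoryTheory.Limits MonoidalCategory CartesianMonoidalCategory MonObj AlgebraicGeometry Opposite

namespace Groth.Agent.Lib.Helper59.HMLimit

noncomputable section

theorem hom_ext_of_isIso_hom {S : Scheme.{u}} {Y T : Over S} [IsIso Y.hom] (f g : T ⟶ Y) : f = g := by
  apply Over.OverMorphism.ext
  rw [← cancel_mono Y.hom, Over.w, Over.w]

theorem algebraMap_bijective_of_subsingleton (R : Type u) [CommRing R] (N : Type) [Monoid N] [Subsingleton N] :
    Function.Bijective (algebraMap R (MonoidAlgebra R N)) := by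
  have h : ⇑(algebraMap R (MonoidAlgebra R N)) = ⇑(MonoidAlgebra.uniqueAlgEquiv R N (A := R)).symm := by
    funext r
    simp
  rw [h]
  exact (MonoidAlgebra.uniqueAlgEquiv R N (A := R)).symm.bijective

theorem isIso_AMon_hom (R : Type u) [CommRing R] (N : Type) [AddCommMonoid N] [Subsingleton N] :
    IsIso (Magnet.AMon R N).hom := by
  have hb := algebraMap_bijective_of_subsingleton R (Multiplicative N)
  have h1 : IsIso (CommRingCat.ofHom (algebraMap R (MonoidAlgebra R (Multiplicative N)))) :=
    (ConcreteCategory.isIso_iff_bijective _).mpr hb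
  change IsIso (Spec.map (CommRingCat.ofHom (algebraMap R (MonoidAlgebra R (Multiplicative N)))))
  infer_instance

theorem isIso_AMonS_hom (S : Scheme.{u}) (N : Type) [AddCommMonoid N] [Subsingleton N] :
    IsIso (Magnet.AMonS S N).hom := by
  have := isIso_AMon_hom (ULift.{u} ℤ) N
  change IsIso (pullback.snd (Magnet.AMon (ULift.{u} ℤ) N).hom _)
  infer_instance

/-- `A({0})_S` has exactly one `T`-point. -/
theorem AMonS_subsingleton_hom_ext (S : Scheme.{u}) (N : Type) [AddCommMonoid N] [Subsingleton N] {T : Over S}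
    (f g : T ⟶ Magnet.AMonS S N) : f = g := by
  have := isIso_AMonS_hom S N
  exact hom_ext_of_isIso_hom f g

variable {S : Scheme.{u}} {G X : Over S} [GrpObj G]

/-- The origin of the affine line is absorbing for the multiplication action of the multiplicative group. -/
theorem act_origin {T' : Over S} (g : T' ⟶ Red.Gm S) :
    lift g (toUnit T' ≫ HMNum.origin S) ≫ (Magnet.subAct S ℤ HMNum.plus).act = toUnit T' ≫ HMNum.origin S := by
  have h := (Magnet.MonAct.isEquivariant_iff _ _ _).mp (Magnet.isEquivariant_faceMapS S HMNum.isFace_bot) T' g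
    (toUnit T' ≫ η[Magnet.AMonS S ↥(⊥ : AddSubmonoid ℤ)])
  have hsub : Subsingleton ↥(⊥ : AddSubmonoid ℤ) :=
    ⟨fun p q => Subtype.ext ((AddSubmonoid.mem_bot.mp p.2).trans (AddSubmonoid.mem_bot.mp q.2).symm)⟩
  have e : lift g (toUnit T' ≫ η[Magnet.AMonS S ↥(⊥ : AddSubmonoid ℤ)]) ≫
      (Magnet.subAct S ℤ (⊥ : AddSubmonoid ℤ)).act = toUnit T' ≫ η[Magnet.AMonS S ↥(⊥ : AddSubmonoid ℤ)] :=
    AMonS_subsingleton_hom_ext S _ _ _
  rw [← Category.assoc, e] at h
  unfold HMNum.origin
  rw [← Category.assoc (toUnit T'), ← h, Category.assoc]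

/-- The value at the origin of an equivariant extension of an orbit map is a fixed point. -/
theorem isFixedBy_limitPt (a : AlgGrp.Action G X) (l : Red.Gm S ⟶ G) [IsMonHom l] {T : Over S}
    (φ : (HMNum.attrPlus a l).obj (op T)) : HMNum.IsFixedBy a l (HMNum.limitPt φ) := by
  rw [HMNum.isFixedBy_iff]
  intro T' t g
  have hφ := (Magnet.MonAct.mem_eqvHom_iff φ.1).mp φ.2 T' g (toUnit T' ≫ HMNum.origin S) t
  rw [act_origin] at hφ
  have e : t ≫ HMNum.limitPt φ = lift (toUnit T' ≫ HMNum.origin S) t ≫ φ.1 := by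
    rw [HMNum.limitPt_eq, comp_lift_assoc, Category.comp_id, ← Category.assoc,
      toUnit_unique (t ≫ toUnit T) (toUnit T')]
  rw [e, ← hφ]

/-- A fixed point is its own limit: the constant map is an equivariant extension of the (constant) orbit map. -/
theorem isLimitPt_self (a : AlgGrp.Action G X) (l : Red.Gm S ⟶ G) [IsMonHom l] {T : Over S}
    (y : T ⟶ X) (hy : HMNum.IsFixedBy a l y) : HMNum.IsLimitPt a l y y := by
  rw [HMNum.isFixedBy_iff] at hy
  have hmem : Magnet.MonAct.IsEquivariant ((Magnet.subAct S ℤ HMNum.plus).prod (Magnet.MonAct.trivial _ T))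
      (HMNum.gmAct a l) (snd (HMNum.A1 S) T ≫ y) := by
    rw [Magnet.MonAct.mem_eqvHom_iff]
    intro T' g b t
    rw [lift_snd_assoc, lift_snd_assoc, hy]
  let φ : (HMNum.attrPlus a l).obj (op T) := ⟨snd (HMNum.A1 S) T ≫ y, hmem⟩
  refine ⟨φ, ?_, ?_⟩
  · change lift (toUnit T ≫ η[_]) (𝟙 T) ≫ snd _ _ ≫ y = y
    rw [lift_snd_assoc, Category.id_comp]
  · rw [HMNum.limitPt_eq]
    change lift (toUnit T ≫ HMNum.origin S) (𝟙 T) ≫ snd _ _ ≫ y = y
    rw [lift_snd_assoc, Category.id_comp]

theorem IsLimitPt.isFixedBy {a : AlgGrp.Action G X} {l : Red.Gm S ⟶ G} [IsMonHom l] {T : Over S}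
    {x y : T ⟶ X} (h : HMNum.IsLimitPt a l x y) : HMNum.IsFixedBy a l y := by
  obtain ⟨φ, -, rfl⟩ := h
  exact isFixedBy_limitPt a l φ

/-- Limits are unique when `X` is separated over `S`. -/
theorem isLimitPt_unique [IsSeparated X.hom] (a : AlgGrp.Action G X) (l : Red.Gm S ⟶ G) [IsMonHom l] {T : Over S}
    {x y y' : T ⟶ X} (h : HMNum.IsLimitPt a l x y) (h' : HMNum.IsLimitPt a l x y') : y = y' := by
  obtain ⟨φ, hφ, rfl⟩ := h
  obtain ⟨φ', hφ', rfl⟩ := h'
  have := Groth.Agent.S18285.result S ℤ X (HMNum.gmAct a l) HMNum.plus T (hφ.trans hφ'.symm)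
  rw [this]

end

end Groth.Agent.Lib.Helper59.HMLimit
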