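import Groth.Agent.Lib.Helper59.HMLimit
import Groth.Agent.Lib.Helper99.HMConj

/-!
# Translating a point by an element of the parabolic subgroup of a one-parameter subgroup (helper59)

`g₀ ∈ P(l)` means that `u ↦ l(u) g₀ l(u)⁻¹` extends to `f : 𝔸¹ ⟶ G`.

* `conj_equivariant` : `f(u·b) = l(u) f(b) l(u)⁻¹`.
* `isLimitPt_translate` : if `y = lim l(u)·x` then `f(0)·y = lim l(u)·(g₀·x)`.
* `isMu_translate_iff` : `μ(g₀·x, l) = μ(x, l)` over a field.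
-/

set_option autoImplicit false
universe u
open CategoryTheory CategoryTheory.Limits MonoidalCategory CartesianMonoidalCategory MonObj AlgebraicGeometry Opposite

namespace Groth.Agent.Lib.Helper59.HMParab

open Groth.Agent.Lib.Helper59.HMLimit Groth.Agent.Lib.Helper99

noncomputable section

variable {S : Scheme.{u}} {G X : Over S} [GrpObj G]

theorem conj_equivariant [IsSeparated G.hom] (l : Red.Gm S ⟶ G) [IsMonHom l] (g₀ : 𝟙_ (Over S) ⟶ G)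
    (f : HMNum.A1 S ⟶ G) (hf : HMNum.incl S ≫ f = l * (toUnit _ ≫ g₀) * l⁻¹)
    {T' : Over S} (g : T' ⟶ Red.Gm S) (b : T' ⟶ HMNum.A1 S) :
    (lift g b ≫ (Magnet.subAct S ℤ HMNum.plus).act) ≫ f = (g ≫ l) * (b ≫ f) * (g ≫ l)⁻¹ := by
  let F₁ : HMNum.A1 S ⊗ Red.Gm S ⟶ G :=
    lift (snd _ _) (fst _ _) ≫ (Magnet.subAct S ℤ HMNum.plus).act ≫ f
  let F₂ : HMNum.A1 S ⊗ Red.Gm S ⟶ G :=
    (snd _ _ ≫ l) * (fst _ _ ≫ f) * (snd _ _ ≫ l)⁻¹
  have h1 : (HMNum.incl S ▷ Red.Gm S) ≫ F₁ = (HMNum.incl S ▷ Red.Gm S) ≫ F₂ := by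
    apply Magnet.hom_ext_lift₂
    intro T'' h g'
    have e1 : lift h g' ≫ (HMNum.incl S ▷ Red.Gm S) ≫ F₁ = ((g' * h) ≫ HMNum.incl S) ≫ f := by
      rw [lift_whiskerRight_assoc]
      change lift (h ≫ HMNum.incl S) g' ≫ lift (snd _ _) (fst _ _) ≫ (Magnet.subAct S ℤ HMNum.plus).act ≫ f = _
      rw [comp_lift_assoc, lift_snd, lift_fst]
      unfold Magnet.subAct
      rw [Magnet.MonAct.lift_restrict_act_assoc, Magnet.MonAct.lift_regular_act_assoc,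
        MonObj.mul_comp g' h (HMNum.incl S)]
    have e2 : lift h g' ≫ (HMNum.incl S ▷ Red.Gm S) ≫ F₂ =
        (g' ≫ l) * ((h ≫ HMNum.incl S) ≫ f) * (g' ≫ l)⁻¹ := by
      rw [lift_whiskerRight_assoc]
      change lift (h ≫ HMNum.incl S) g' ≫ ((snd _ _ ≫ l) * (fst _ _ ≫ f) * (snd _ _ ≫ l)⁻¹) = _
      rw [MonObj.comp_mul, MonObj.comp_mul, GrpObj.comp_inv, lift_snd_assoc, lift_fst_assoc]
    rw [e1, e2, Category.assoc, Category.assoc, hf, MonObj.comp_mul, MonObj.comp_mul, MonObj.comp_mul,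
      MonObj.comp_mul, GrpObj.comp_inv, GrpObj.comp_inv, MonObj.mul_comp]
    have ht : (g' * h) ≫ toUnit _ = h ≫ toUnit _ := toUnit_unique _ _
    rw [← Category.assoc, ← Category.assoc (h), ht]
    group
  have hdom := Groth.Agent.Lib.Helper7.MagnetDominant.isSchemeTheoreticallyDominant_AMonS_map S
    HMNum.plus.subtype Subtype.val_injective (Red.Gm S)
  have h2 : F₁ = F₂ :=
    Groth.Agent.Lib.Helper7.SchDominant.ext_of_isSchemeTheoreticallyDominant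
      (HMNum.incl S ▷ Red.Gm S) F₁ F₂ h1
  have h3 := congrArg (fun F => lift b g ≫ F) h2
  change lift b g ≫ lift (snd _ _) (fst _ _) ≫ (Magnet.subAct S ℤ HMNum.plus).act ≫ f =
    lift b g ≫ ((snd _ _ ≫ l) * (fst _ _ ≫ f) * (snd _ _ ≫ l)⁻¹) at h3
  rw [comp_lift_assoc, lift_snd, lift_fst, MonObj.comp_mul, MonObj.comp_mul, GrpObj.comp_inv, lift_snd_assoc,
    lift_fst_assoc] at h3
  rw [Category.assoc]
  exact h3

/-- If `y = lim l(u)·x` and `g₀ ∈ P(l)` with extension `f`, then `f(0)·y = lim l(u)·(g₀·x)`. -/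
theorem isLimitPt_translate [IsSeparated G.hom] (a : AlgGrp.Action G X) (l : Red.Gm S ⟶ G) [IsMonHom l]
    (g₀ : 𝟙_ (Over S) ⟶ G) (f : HMNum.A1 S ⟶ G) (hf : HMNum.incl S ≫ f = l * (toUnit _ ≫ g₀) * l⁻¹)
    (x y : 𝟙_ (Over S) ⟶ X) (h : HMNum.IsLimitPt a l x y) :
    HMNum.IsLimitPt a l (lift g₀ x ≫ a.act) (lift (HMNum.origin S ≫ f) y ≫ a.act) := by
  obtain ⟨φ, hφx, hφy⟩ := h
  have hφ := φ.2
  rw [Magnet.MonAct.mem_eqvHom_iff] at hφ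
  have hmem : Magnet.MonAct.IsEquivariant
      ((Magnet.subAct S ℤ HMNum.plus).prod (Magnet.MonAct.trivial _ (𝟙_ (Over S))))
      (HMNum.gmAct a l) (lift (fst (HMNum.A1 S) (𝟙_ (Over S)) ≫ f) φ.1 ≫ a.act) := by
    rw [Magnet.MonAct.mem_eqvHom_iff]
    intro T' g b t
    rw [comp_lift_assoc, lift_fst_assoc, hφ, comp_lift_assoc, lift_fst_assoc,
      Magnet.MonAct.lift_restrict_act, Magnet.MonAct.lift_restrict_act, Magnet.MonAct.ofAction_act,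
      ← act_mul, ← act_mul, conj_equivariant l g₀ f hf g b]
    congr 2
    group
  let ψ : (HMNum.attrPlus a l).obj (op (𝟙_ (Over S))) :=
    ⟨lift (fst (HMNum.A1 S) (𝟙_ (Over S)) ≫ f) φ.1 ≫ a.act, hmem⟩
  refine ⟨ψ, ?_, ?_⟩
  · change lift (toUnit (𝟙_ (Over S)) ≫ η[_]) (𝟙 (𝟙_ (Over S))) ≫
      lift (fst (HMNum.A1 S) (𝟙_ (Over S)) ≫ f) φ.1 ≫ a.act = _
    have h1 : lift (toUnit (𝟙_ (Over S)) ≫ η[_]) (𝟙 (𝟙_ (Over S))) ≫ φ.1 = x := hφx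
    have h2 : (toUnit (𝟙_ (Over S)) ≫ η[HMNum.A1 S]) ≫ f = g₀ := by
      have e : (toUnit (𝟙_ (Over S)) ≫ η[HMNum.A1 S]) =
          (1 : 𝟙_ (Over S) ⟶ Red.Gm S) ≫ HMNum.incl S := by
        rw [MonObj.one_comp, Hom.one_def]
      rw [e, Category.assoc, hf, MonObj.comp_mul, MonObj.comp_mul, GrpObj.comp_inv, MonObj.one_comp]
      rw [← Category.assoc, toUnit_unique ((1 : 𝟙_ (Over S) ⟶ Red.Gm S) ≫ toUnit _) (𝟙 _), Category.id_comp]
      group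
    rw [comp_lift_assoc, lift_fst_assoc, h1, h2]
  · rw [HMNum.limitPt_eq] at hφy
    refine (HMNum.limitPt_eq (a := a) (l := l) ψ).trans ?_
    change lift (toUnit (𝟙_ (Over S)) ≫ HMNum.origin S) (𝟙 (𝟙_ (Over S))) ≫
      lift (fst (HMNum.A1 S) (𝟙_ (Over S)) ≫ f) φ.1 ≫ a.act = _
    rw [comp_lift_assoc, lift_fst_assoc, hφy, toUnit_unique (toUnit (𝟙_ (Over S))) (𝟙 _), Category.id_comp]

/-- The value at the origin of the extension commutes with the one-parameter subgroup. -/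
theorem origin_comm [IsSeparated G.hom] (l : Red.Gm S ⟶ G) [IsMonHom l]
    (g₀ : 𝟙_ (Over S) ⟶ G) (f : HMNum.A1 S ⟶ G) (hf : HMNum.incl S ≫ f = l * (toUnit _ ≫ g₀) * l⁻¹)
    (T' : Over S) (t : T' ⟶ 𝟙_ (Over S)) (g : T' ⟶ Red.Gm S) :
    g ≫ l = (t ≫ (HMNum.origin S ≫ f)⁻¹)⁻¹ * (g ≫ l) * (t ≫ (HMNum.origin S ≫ f)⁻¹) := by
  have h := conj_equivariant l g₀ f hf g (toUnit T' ≫ HMNum.origin S)
  rw [act_origin] at h
  have ht : t = toUnit T' := toUnit_unique _ _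
  subst ht
  rw [GrpObj.comp_inv, inv_inv, ← Category.assoc]
  rw [Category.assoc] at h
  have h' : (toUnit T' ≫ HMNum.origin S) ≫ f = toUnit T' ≫ HMNum.origin S ≫ f := Category.assoc _ _ _
  rw [h']
  set c := toUnit T' ≫ HMNum.origin S ≫ f with hc
  -- h : c = (g ≫ l) * c * (g ≫ l)⁻¹
  calc g ≫ l = ((g ≫ l) * c * (g ≫ l)⁻¹) * (g ≫ l) * c⁻¹ := by group
    _ = c * (g ≫ l) * c⁻¹ := by rw [← h]

end

section field

variable {k : Type u} [Field k] {G X : Over (Spec (CommRingCat.of k))} [GrpObj G]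

/-- `μ(x, l) = m → μ(g₀·x, l) = m` for `g₀ ∈ P(l)`. -/
theorem isMu_translate [IsSeparated G.hom] {a : AlgGrp.Action G X} (B : GLinSh.LinBun G a)
    (l : Red.Gm (Spec (CommRingCat.of k)) ⟶ G) [IsMonHom l]
    (g₀ : 𝟙_ (Over (Spec (CommRingCat.of k))) ⟶ G)
    (f : HMNum.A1 (Spec (CommRingCat.of k)) ⟶ G)
    (hf : HMNum.incl (Spec (CommRingCat.of k)) ≫ f = l * (toUnit _ ≫ g₀) * l⁻¹)
    (x : 𝟙_ (Over (Spec (CommRingCat.of k))) ⟶ X) (m : ℤ) (h : HMNum.IsMu B l x m) :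
    HMNum.IsMu B l (lift g₀ x ≫ a.act) m := by
  obtain ⟨y, hy, hw⟩ := h
  refine ⟨lift (HMNum.origin _ ≫ f) y ≫ a.act, isLimitPt_translate a l g₀ f hf x y hy, ?_⟩
  have := hasFibreWeight_conj B l l (HMNum.origin _ ≫ f)⁻¹ (origin_comm l g₀ f hf) y (-m) hw
  rwa [inv_inv] at this

/-- `μ(g₀·x, l) = m ↔ μ(x, l) = m` for `g₀ ∈ P(l)`. -/
theorem isMu_translate_iff [IsSeparated G.hom] {a : AlgGrp.Action G X} (B : GLinSh.LinBun G a)
    (l : Red.Gm (Spec (CommRingCat.of k)) ⟶ G) [IsMonHom l]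
    (g₀ : 𝟙_ (Over (Spec (CommRingCat.of k))) ⟶ G)
    (f : HMNum.A1 (Spec (CommRingCat.of k)) ⟶ G)
    (hf : HMNum.incl (Spec (CommRingCat.of k)) ≫ f = l * (toUnit _ ≫ g₀) * l⁻¹)
    (x : 𝟙_ (Over (Spec (CommRingCat.of k))) ⟶ X) (m : ℤ) :
    HMNum.IsMu B l (lift g₀ x ≫ a.act) m ↔ HMNum.IsMu B l x m := by
  refine ⟨fun h => ?_, isMu_translate B l g₀ f hf x m⟩
  have hf' : HMNum.incl (Spec (CommRingCat.of k)) ≫ f⁻¹ = l * (toUnit _ ≫ g₀⁻¹) * l⁻¹ := by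
    rw [GrpObj.comp_inv, hf, GrpObj.comp_inv]
    group
  have := isMu_translate B l g₀⁻¹ f⁻¹ hf' (lift g₀ x ≫ a.act) m h
  rwa [act_inv_act] at this

end field

end Groth.Agent.Lib.Helper59.HMParab
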