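import Mathlib.CategoryTheory.Triangulated.TStructure.Heart
import Mathlib.CategoryTheory.Triangulated.TStructure.TruncLEGT
import Mathlib.CategoryTheory.Triangulated.TStructure.AbelianSubcategory
import Mathlib.CategoryTheory.Triangulated.Triangulated
import Mathlib.CategoryTheory.Abelian.Basic

set_option autoImplicit false
universe v u v' u'
open CategoryTheory CategoryTheory.Limits CategoryTheory.Pretriangulated CategoryTheory.Triangulated
open ZeroObject

namespace Groth.Agent.Lib.Helper59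

variable {C : Type u} [Category.{v} C] [Preadditive C] [HasZeroObject C] [HasShift C ℤ]
  [∀ n : ℤ, (shiftFunctor C n).Additive] [Pretriangulated C] (t : TStructure C)
  {H : Type u'} [Category.{v'} H] [Preadditive H] [t.Heart H]

include t in
theorem heart_exists_isZero : ∃ Z : H, IsZero Z := by
  have h0 : t.heart (0 : C) := by
    rw [t.mem_heart_iff]; exact ⟨inferInstance, inferInstance⟩
  rw [← t.essImage_ιHeart H] at h0
  obtain ⟨Z, ⟨e⟩⟩ := h0
  refine ⟨Z, ?_⟩
  rw [IsZero.iff_id_eq_zero]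
  apply (t.ιHeart (H := H)).map_injective
  exact (IsZero.of_iso (isZero_zero C) e).eq_of_src _ _

set_option backward.defeqAttrib.useBackward true in
set_option backward.isDefEq.respectTransparency false in
include t in
theorem heart_hasBinaryBiproducts : HasBinaryBiproducts H := ⟨fun X Y => by
  have hXY : t.heart (t.ιHeart.obj X ⊞ t.ιHeart.obj Y) := by
    rw [t.mem_heart_iff]
    exact ⟨t.isLE₂ _ (binaryBiproductTriangle_distinguished _ _) 0
        (show t.IsLE (t.ιHeart.obj X) 0 from inferInstance)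
        (show t.IsLE (t.ιHeart.obj Y) 0 from inferInstance),
      t.isGE₂ _ (binaryBiproductTriangle_distinguished _ _) 0
        (show t.IsGE (t.ιHeart.obj X) 0 from inferInstance)
        (show t.IsGE (t.ιHeart.obj Y) 0 from inferInstance)⟩
  rw [← t.essImage_ιHeart H] at hXY
  obtain ⟨Z, ⟨e⟩⟩ := hXY
  have htot : (t.ιHeart (H := H)).preimage (e.hom ≫ biprod.fst) ≫
        (t.ιHeart (H := H)).preimage (biprod.inl ≫ e.inv) +
      (t.ιHeart (H := H)).preimage (e.hom ≫ biprod.snd) ≫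
        (t.ιHeart (H := H)).preimage (biprod.inr ≫ e.inv) = 𝟙 Z := by
    apply (t.ιHeart (H := H)).map_injective
    rw [CategoryTheory.Functor.map_id]
    simp only [Functor.map_add, Functor.map_comp, Functor.map_preimage]
    have h1 : 𝟙 ((t.ιHeart (H := H)).obj Z) =
        e.hom ≫ (biprod.fst ≫ biprod.inl + biprod.snd ≫ biprod.inr) ≫ e.inv := by
      rw [biprod.total]; simp
    rw [h1, Preadditive.add_comp, Preadditive.comp_add]
    simp only [Category.assoc]
  exact hasBinaryBiproduct_of_total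
    { pt := Z
      fst := t.ιHeart.preimage (e.hom ≫ biprod.fst)
      snd := t.ιHeart.preimage (e.hom ≫ biprod.snd)
      inl := t.ιHeart.preimage (biprod.inl ≫ e.inv)
      inr := t.ιHeart.preimage (biprod.inr ≫ e.inv)
      inl_fst := (t.ιHeart (H := H)).map_injective (by simp)
      inl_snd := (t.ιHeart (H := H)).map_injective (by simp)
      inr_fst := (t.ιHeart (H := H)).map_injective (by simp)
      inr_snd := (t.ιHeart (H := H)).map_injective (by simp) } htot⟩

include t in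
theorem heart_hasFiniteProducts : HasFiniteProducts H := by
  have : HasZeroObject H := ⟨heart_exists_isZero t⟩
  have : HasBinaryBiproducts H := heart_hasBinaryBiproducts t
  exact hasFiniteProducts_of_has_binary_and_terminal

theorem heart_hom_shift_neg ⦃X Y : H⦄ ⦃n : ℤ⦄
    (f : (t.ιHeart (H := H)).obj X ⟶ ((t.ιHeart (H := H)).obj Y)⟦n⟧) (hn : n < 0) : f = 0 := by
  have : t.IsGE (((t.ιHeart (H := H)).obj Y)⟦n⟧) (-n) := t.isGE_shift _ 0 n (-n) (by omega)
  exact t.zero f 0 (-n) (by omega)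

set_option backward.defeqAttrib.useBackward true in
set_option backward.isDefEq.respectTransparency false in
theorem heart_admissible [IsTriangulated C] :
    AbelianSubcategory.admissibleMorphism (t.ιHeart (H := H)) = ⊤ := by
  ext X₁ X₂ f₁
  simp only [MorphismProperty.top_apply, iff_true]
  intro X₃ f₂ f₃ hT
  have hrot := rot_of_distTriang _ hT
  have hLE : t.IsLE X₃ 0 := by
    refine t.isLE₂ _ hrot 0 (show t.IsLE ((t.ιHeart (H := H)).obj X₂) 0 from inferInstance) ?_
    have : t.IsLE (((t.ιHeart (H := H)).obj X₁)⟦(1 : ℤ)⟧) (-1) :=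
      t.isLE_shift _ 0 1 (-1) (by omega)
    exact t.isLE_of_le (((t.ιHeart (H := H)).obj X₁)⟦(1 : ℤ)⟧) (-1) 0 (by omega)
  have hGE : t.IsGE X₃ (-1) := by
    refine t.isGE₂ _ hrot (-1) ?_ ?_
    · exact t.isGE_of_ge ((t.ιHeart (H := H)).obj X₂) (-1) 0 (by omega)
    · exact t.isGE_shift ((t.ιHeart (H := H)).obj X₁) 0 1 (-1) (by omega)
  -- K with ι K ≅ (τ<0 X₃)⟦-1⟧
  have hK : t.heart (((t.truncLT 0).obj X₃)⟦(-1 : ℤ)⟧) := by
    rw [t.mem_heart_iff]
    have h1 : t.IsLE ((t.truncLT 0).obj X₃) (-1) := by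
      have := (inferInstance : t.IsLE ((t.truncLT 0).obj X₃) (0 - 1))
      simpa using this
    have h2 : t.IsGE ((t.truncLT 0).obj X₃) (-1) := inferInstance
    exact ⟨t.isLE_shift _ (-1) (-1) 0 (by omega), t.isGE_shift _ (-1) (-1) 0 (by omega)⟩
  have hQ : t.heart ((t.truncGE 0).obj X₃) := by
    rw [t.mem_heart_iff]
    exact ⟨inferInstance, inferInstance⟩
  rw [← t.essImage_ιHeart H] at hK hQ
  obtain ⟨K, ⟨eK⟩⟩ := hK
  obtain ⟨Q, ⟨eQ⟩⟩ := hQ
  -- iso (ι K)⟦1⟧ ≅ τ<0 X₃
  let eK' : ((t.ιHeart (H := H)).obj K)⟦(1 : ℤ)⟧ ≅ (t.truncLT 0).obj X₃ :=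
    (shiftFunctor C (1 : ℤ)).mapIso eK ≪≫ (shiftEquiv C (1 : ℤ)).counitIso.app _
  have hdist := t.triangleLTGE_distinguished 0 X₃
  refine ⟨K, Q, eK'.hom ≫ (t.truncLTι 0).app X₃, (t.truncGEπ 0).app X₃ ≫ eQ.inv,
    eQ.hom ≫ (t.truncGEδLT 0).app X₃ ≫ (shiftFunctor C (1 : ℤ)).map eK'.inv, ?_⟩
  refine isomorphic_distinguished _ hdist _ ?_
  refine Triangle.isoMk _ _ eK' (Iso.refl _) eQ ?_ ?_ ?_
  · dsimp; simp
  · dsimp; simp
  · dsimp; simp

end Groth.Agent.Lib.Helper59
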