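import Mathlib
import Groth.Agent.Lib.Helper38.SerreVanishPn
import Groth.Agent.Lib.Helper1.HHTools
import Groth.Agent.Lib.Helper45.SectionHom
import Groth.Agent.Lib.Helper17.PnVanish

/-!
# Extensions of twisting sheaves on `P^n`, `n ≥ 2`, split (helper59)

* `exists_section_of_subsingleton_HH_one`: a short exact sequence `0 → A → F → O → 0` with
  `H¹(X, A) = 0` has a section of `F → O`.
* `nonempty_splitting`: on `P^n_R`, `n ≥ 2`, every short exact sequence with first term `≅ O(a)` and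
  third term `≅ O(b)` splits.
-/

set_option autoImplicit false
universe u
open AlgebraicGeometry CategoryTheory Limits Opposite TopologicalSpace

namespace Groth.Agent.Lib.Helper59.TwistSplit

open Groth.Agent.Lib.Helper17
open Groth.Agent.Lib.Helper38.SerreVanishPn Groth.Agent.Lib.Helper38.TwistEquiv

section General

variable {X : Scheme.{u}}

theorem exists_section_of_subsingleton_HH_one {A F : X.Modules} (i : A ⟶ F)
    (p : F ⟶ Coh.structureModule X) (w : i ≫ p = 0)
    (hex : (ShortComplex.mk i p w).ShortExact) (h1 : Subsingleton (Coh.HH X A 1)) :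
    ∃ s : Coh.structureModule X ⟶ F, s ≫ p = 𝟙 _ := by
  obtain ⟨t, ht⟩ := Groth.Agent.Lib.Helper1.exists_lift_sections_of_subsingleton_HH_one
    hex h1 (show Γ(Coh.structureModule X, ⊤) from (1 : Γ(X, ⊤)))
  refine ⟨Groth.Agent.Lib.Helper45.SectionHom.sectionHom F t, ?_⟩
  apply (SheafOfModules.unitHomEquiv _).injective
  apply (Groth.Agent.Lib.Helper45.SummandFree.sectionsEquiv (R := X.ringCatSheaf)
      (T := (⊤ : X.Opens)) Limits.isTerminalTop _).injective
  have e2 := Groth.Agent.Lib.Helper45.SectionHom.sectionHom_app_top_one F t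
  change p.app ⊤ ((Groth.Agent.Lib.Helper45.SectionHom.sectionHom F t).app ⊤
        (1 : Γ(X, ⊤))) = (1 : Γ(X, ⊤))
  rw [e2]
  exact ht

end General

section Pn

variable (n : ℕ) (R : Type u) [CommRing R]

theorem nonempty_splitting (hn : 2 ≤ n) (a b : ℤ)
    (S : ShortComplex (CohB1.ProjSpace n R).Modules) (hS : S.ShortExact)
    (ha : S.X₁ ≅ Twist.twistProjSpace n R a) (hb : S.X₃ ≅ Twist.twistProjSpace n R b) :
    Nonempty S.Splitting := by
  have := isEquivalence_tw n R (-b)
  have hS' : (S.map (tw n R (-b))).ShortExact := shortExact_tw n R (-b) hS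
  let e₁ : (tw n R (-b)).obj S.X₁ ≅ Twist.twistProjSpace n R (a + -b) :=
    (tw n R (-b)).mapIso ha ≪≫ twistTensorIso n R a (-b)
  let e₃ : (tw n R (-b)).obj S.X₃ ≅ Coh.structureModule (CohB1.ProjSpace n R) :=
    (tw n R (-b)).mapIso hb ≪≫ twistInvIso n R b (-b) (add_neg_cancel b)
  have w : (e₁.inv ≫ (tw n R (-b)).map S.f) ≫ ((tw n R (-b)).map S.g ≫ e₃.hom) = 0 := by
    rw [Category.assoc, ← Category.assoc ((tw n R (-b)).map S.f), ← Functor.map_comp, S.zero,
      Functor.map_zero, zero_comp, comp_zero]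
  have iso : S.map (tw n R (-b)) ≅
      ShortComplex.mk (e₁.inv ≫ (tw n R (-b)).map S.f) ((tw n R (-b)).map S.g ≫ e₃.hom) w :=
    ShortComplex.isoMk e₁ (Iso.refl _) e₃
      ((e₁.hom_inv_id_assoc _).trans (Category.comp_id _).symm) (Category.id_comp _)
  have hS'' : (ShortComplex.mk (e₁.inv ≫ (tw n R (-b)).map S.f)
      ((tw n R (-b)).map S.g ≫ e₃.hom) w).ShortExact :=
    ShortComplex.shortExact_of_iso iso hS'
  have h1 : Subsingleton (Coh.HH (CohB1.ProjSpace n R) (Twist.twistProjSpace n R (a + -b)) 1) :=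
    PnVanish.subsingleton_HH n R (a + -b) 1 (by simp) (by rintro ⟨h, -⟩; omega)
  obtain ⟨σ, hσ⟩ := exists_section_of_subsingleton_HH_one _ _ w hS'' h1
  have hσ' : (e₃.hom ≫ σ) ≫ (tw n R (-b)).map S.g = 𝟙 _ := by
    have h2 : σ ≫ (tw n R (-b)).map S.g = e₃.inv := by
      rw [← cancel_mono e₃.hom, Category.assoc, hσ, e₃.inv_hom_id]
    rw [Category.assoc, h2, e₃.hom_inv_id]
  obtain ⟨τ, hτ⟩ := (tw n R (-b)).map_surjective (e₃.hom ≫ σ)
  have hτg : τ ≫ S.g = 𝟙 _ := by
    apply (tw n R (-b)).map_injective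
    rw [Functor.map_comp, hτ, hσ', CategoryTheory.Functor.map_id]
  exact ⟨ShortComplex.Splitting.ofExactOfSection S hS.exact τ hτg hS.mono_f⟩

end Pn

end Groth.Agent.Lib.Helper59.TwistSplit
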