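import Mathlib
import Groth.Agent.Lib.Helper59.P1Curve
import Groth.Agent.Lib.Helper59.TwistSplit
import Groth.Agent.Lib.Helper93.CurveTwist
import Groth.Agent.Lib.Helper17.HZero
import Groth.Agent.S10960

/-!
# Grothendieck's splitting theorem on the projective line (helper59)

Every finite locally free module of rank `r` on `P^1_k` is a direct sum of twisting sheaves
(`exists_iso_sigma_twists`).  Ingredients: helper67's saturation and degree bound on regular proper
curves, `Pic(P^1) = ℤ` (helper17), the twist equivalence (helper38) and `H^1(P^1, O(m)) = 0` for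
`m ≥ -1` (helper17).
-/

set_option autoImplicit false
set_option linter.style.haveILetI false
universe u
open AlgebraicGeometry CategoryTheory Limits Opposite TopologicalSpace

namespace Groth.Agent.Lib.Helper59.P1Split

open Groth.Agent.Lib.Helper17 Groth.Agent.Lib.Helper67
open Groth.Agent.Lib.Helper38.SerreVanishPn Groth.Agent.Lib.Helper38.TwistEquiv
open Groth.Agent.Lib.Helper59.P1Curve

section General

/-- two maps out of the structure sheaf agreeing on the global section `1` are equal -/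
theorem unit_hom_ext {Y : Scheme.{u}} {F : Y.Modules} (f g : Coh.structureModule Y ⟶ F)
    (h : f.app ⊤ (1 : Γ(Y, ⊤)) = g.app ⊤ (1 : Γ(Y, ⊤))) : f = g := by
  apply (SheafOfModules.unitHomEquiv _).injective
  apply (Groth.Agent.Lib.Helper45.SummandFree.sectionsEquiv (R := Y.ringCatSheaf)
      (T := (⊤ : Y.Opens)) Limits.isTerminalTop _).injective
  exact h

/-- `∐_{Fin (n+1)} f ≅ f 0 ⨿ ∐_{Fin n} f ∘ succ` -/
noncomputable def sigmaFinSuccIso {C : Type*} [Category C] [HasFiniteCoproducts C] {n : ℕ}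
    (f : Fin (n + 1) → C) : ∐ f ≅ f 0 ⨿ ∐ (fun i : Fin n => f i.succ) :=
  (coproductIsCoproduct f).coconePointUniqueUpToIso
    (extendCofanIsColimit f (coproductIsCoproduct _) (coprodIsCoprod _ _))

theorem exists_perm_antitone {r : ℕ} (d : Fin r → ℤ) :
    ∃ σ : Equiv.Perm (Fin r), Antitone (d ∘ σ) := by
  refine ⟨Fin.revPerm.trans (Tuple.sort d), ?_⟩
  intro i j hij
  have h := Tuple.monotone_sort d (Fin.rev_le_rev.mpr hij)
  simpa [Function.comp] using h

end General

variable (k : Type u) [Field k]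

/-- lifting maps from `O(b)` along an epimorphism with kernel `O(a)`, `b ≤ a + 1` -/
theorem exists_lift {S : ShortComplex (CohB1.ProjSpace 1 k).Modules} (hS : S.ShortExact)
    {a b : ℤ} (ea : S.X₁ ≅ Twist.twistProjSpace 1 k a) (hab : b ≤ a + 1)
    (φ : Twist.twistProjSpace 1 k b ⟶ S.X₃) :
    ∃ ψ : Twist.twistProjSpace 1 k b ⟶ S.X₂, ψ ≫ S.g = φ := by
  haveI := isEquivalence_tw 1 k (-b)
  have hS' : (S.map (tw 1 k (-b))).ShortExact := shortExact_tw 1 k (-b) hS
  let e₁ : (tw 1 k (-b)).obj S.X₁ ≅ Twist.twistProjSpace 1 k (a + -b) :=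
    (tw 1 k (-b)).mapIso ea ≪≫ twistTensorIso 1 k a (-b)
  let eb : (tw 1 k (-b)).obj (Twist.twistProjSpace 1 k b) ≅
      Coh.structureModule (CohB1.ProjSpace 1 k) := twistInvIso 1 k b (-b) (add_neg_cancel b)
  have h1 : Subsingleton (Coh.HH (CohB1.ProjSpace 1 k) ((S.map (tw 1 k (-b))).X₁) 1) :=
    subsingleton_HH_of_iso k e₁ 1
      (PnVanish.subsingleton_HH 1 k (a + -b) 1 (by simp) (by
        rintro ⟨-, h⟩
        push_cast at h
        omega))
  obtain ⟨s, hs⟩ : ∃ s : Γ((tw 1 k (-b)).obj S.X₂, ⊤), ((tw 1 k (-b)).map S.g).app ⊤ s =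
      (eb.inv ≫ (tw 1 k (-b)).map φ).app ⊤ (1 : Γ(CohB1.ProjSpace 1 k, ⊤)) :=
    Groth.Agent.Lib.Helper1.exists_lift_sections_of_subsingleton_HH_one hS' h1
      ((eb.inv ≫ (tw 1 k (-b)).map φ).app ⊤ (1 : Γ(CohB1.ProjSpace 1 k, ⊤)))
  have hσ : Groth.Agent.Lib.Helper45.SectionHom.sectionHom ((tw 1 k (-b)).obj S.X₂) s ≫
      (tw 1 k (-b)).map S.g = eb.inv ≫ (tw 1 k (-b)).map φ := by
    apply unit_hom_ext
    change ((tw 1 k (-b)).map S.g).app ⊤
      ((Groth.Agent.Lib.Helper45.SectionHom.sectionHom ((tw 1 k (-b)).obj S.X₂) s).app ⊤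
        (1 : Γ(CohB1.ProjSpace 1 k, ⊤))) = _
    rw [Groth.Agent.Lib.Helper45.SectionHom.sectionHom_app_top_one]
    exact hs
  obtain ⟨ψ, hψ⟩ := (tw 1 k (-b)).map_surjective
    (eb.hom ≫ Groth.Agent.Lib.Helper45.SectionHom.sectionHom ((tw 1 k (-b)).obj S.X₂) s)
  refine ⟨ψ, (tw 1 k (-b)).map_injective ?_⟩
  rw [Functor.map_comp, hψ, Category.assoc, hσ, eb.hom_inv_id_assoc]

/-- there are no nonzero maps `O(a) → O(b)` for `b < a` -/
theorem hom_twist_eq_zero {a b : ℤ} (hab : b < a)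
    (φ : Twist.twistProjSpace 1 k a ⟶ Twist.twistProjSpace 1 k b) : φ = 0 := by
  by_contra hφ
  have h := (SmCurve.deg_le_of_ne_zero k (CohB1.ProjSpace 1 k) (hdim k) (rank_one_twist k 1 a)
    (rank_one_twist k 1 b) φ hφ).1
  rw [deg_twist, deg_twist] at h
  omega

/-- there is a nonzero map `O(a) → O(b)` for `a ≤ b` -/
theorem exists_ne_zero_hom {a b : ℤ} (hab : a ≤ b) :
    ∃ μ : Twist.twistProjSpace 1 k a ⟶ Twist.twistProjSpace 1 k b, μ ≠ 0 := by
  -- a nonzero global section of `O(b - a)`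
  have hgood := CurveCoh.isGood_of_coh k (CohB1.ProjSpace 1 k) (hdim k) _
    (FinCoh.isCoh_twist 1 k (b + -a))
  have he := EulerLES.euler_eq k hgood
  rw [euler_twist] at he
  haveI := hgood.1 0
  have hpos : 0 < Module.finrank k
      (Coh.HH (CohB1.ProjSpace 1 k) (Twist.twistProjSpace 1 k (b + -a)) 0) := by
    have : (0 : ℤ) ≤ Module.finrank k
      (Coh.HH (CohB1.ProjSpace 1 k) (Twist.twistProjSpace 1 k (b + -a)) 1) := Int.natCast_nonneg _
    omega
  haveI : Nontrivial (Coh.HH (CohB1.ProjSpace 1 k) (Twist.twistProjSpace 1 k (b + -a)) 0) :=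
    Module.nontrivial_of_finrank_pos (R := k) hpos
  obtain ⟨x, hx⟩ := exists_ne (0 : Coh.HH (CohB1.ProjSpace 1 k) (Twist.twistProjSpace 1 k (b + -a)) 0)
  set s := HZero.hh0Equiv (Twist.twistProjSpace 1 k (b + -a)) x with hs
  have hs0 : s ≠ 0 := by
    intro h0
    apply hx
    apply (HZero.hh0Equiv (Twist.twistProjSpace 1 k (b + -a))).injective
    rw [← hs, h0, map_zero]
  set σ := Groth.Agent.Lib.Helper45.SectionHom.sectionHom (Twist.twistProjSpace 1 k (b + -a)) s
    with hσdef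
  have hσ0 : σ ≠ 0 := by
    intro h0
    apply hs0
    have h1 := Groth.Agent.Lib.Helper45.SectionHom.sectionHom_app_top_one
      (Twist.twistProjSpace 1 k (b + -a)) s
    rw [← hσdef, h0, Scheme.Modules.Hom.zero_app] at h1
    exact h1.symm
  -- transport along the twist equivalence
  haveI := isEquivalence_tw 1 k (-a)
  let eA : (tw 1 k (-a)).obj (Twist.twistProjSpace 1 k a) ≅
      Coh.structureModule (CohB1.ProjSpace 1 k) := twistInvIso 1 k a (-a) (add_neg_cancel a)
  let eB : (tw 1 k (-a)).obj (Twist.twistProjSpace 1 k b) ≅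
      Twist.twistProjSpace 1 k (b + -a) := twistTensorIso 1 k b (-a)
  obtain ⟨μ, hμ⟩ := (tw 1 k (-a)).map_surjective (eA.hom ≫ σ ≫ eB.inv)
  refine ⟨μ, fun h0 => hσ0 ?_⟩
  rw [h0, Functor.map_zero] at hμ
  have h2 : σ = eA.inv ≫ (eA.hom ≫ σ ≫ eB.inv) ≫ eB.hom := by simp
  rw [h2, ← hμ, zero_comp, comp_zero]

end Groth.Agent.Lib.Helper59.P1Split
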