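import Mathlib
import Groth.Agent.Lib.Helper59.GenericStalk

/-!
# Block-triangular maps between direct sums of line bundles (helper59)

Additivity of stalk maps of `O_X`-modules, the projections of a finite coproduct, and
`not_staircase`: on an integral scheme there is no monomorphism `∐ L ⟶ ∐ M` between coproducts of
`r` rank-one locally free modules all of whose components `L i ⟶ M l` with `i ≤ j ≤ l` vanish.
-/

set_option autoImplicit false
set_option linter.style.haveILetI false
universe u
open AlgebraicGeometry CategoryTheory Limits Opposite TopologicalSpace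

namespace Groth.Agent.Lib.Helper59.Staircase

open Groth.Agent.Lib.Helper49 Groth.Agent.Lib.Helper59.GenericStalk

variable {Y : Scheme.{u}}

section StalkLinear

variable {M N P : Y.Modules}

theorem stalkMapLinear_apply (f : M ⟶ N) (x : Y) (a : ↑(M.presheaf.stalk x)) :
    stalkMapLinear f x a = (stalkMap f x).hom a := rfl

theorem stalkMapLinear_comp (f : M ⟶ N) (g : N ⟶ P) (x : Y) :
    stalkMapLinear (f ≫ g) x = (stalkMapLinear g x).comp (stalkMapLinear f x) := by
  refine LinearMap.ext fun a => ?_
  obtain ⟨U, hxU, s, rfl⟩ := TopCat.Presheaf.exists_germ_eq M.presheaf a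
  rw [LinearMap.comp_apply, stalkMapLinear_apply, stalkMapLinear_apply, stalkMapLinear_apply,
    stalkMap_germ, stalkMap_germ, stalkMap_germ]
  rfl

theorem stalkMapLinear_id (x : Y) : stalkMapLinear (𝟙 M) x = LinearMap.id := by
  refine LinearMap.ext fun a => ?_
  obtain ⟨U, hxU, s, rfl⟩ := TopCat.Presheaf.exists_germ_eq M.presheaf a
  rw [stalkMapLinear_apply, stalkMap_germ]
  rfl

theorem stalkMapLinear_zero (x : Y) : stalkMapLinear (0 : M ⟶ N) x = 0 := by
  refine LinearMap.ext fun a => ?_
  obtain ⟨U, hxU, s, rfl⟩ := TopCat.Presheaf.exists_germ_eq M.presheaf a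
  rw [stalkMapLinear_apply, stalkMap_germ, Scheme.Modules.Hom.zero_app]
  simp

theorem stalkMapLinear_add (f g : M ⟶ N) (x : Y) :
    stalkMapLinear (f + g) x = stalkMapLinear f x + stalkMapLinear g x := by
  refine LinearMap.ext fun a => ?_
  obtain ⟨U, hxU, s, rfl⟩ := TopCat.Presheaf.exists_germ_eq M.presheaf a
  rw [LinearMap.add_apply, stalkMapLinear_apply, stalkMapLinear_apply, stalkMapLinear_apply,
    stalkMap_germ, stalkMap_germ, stalkMap_germ, Scheme.Modules.Hom.add_app]
  simp

theorem stalkMapLinear_sum {ι : Type*} (s : Finset ι) (f : ι → (M ⟶ N)) (x : Y) :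
    stalkMapLinear (∑ i ∈ s, f i) x = ∑ i ∈ s, stalkMapLinear (f i) x := by
  classical
  induction s using Finset.induction_on with
  | empty => simp [stalkMapLinear_zero]
  | insert a s ha ih => rw [Finset.sum_insert ha, Finset.sum_insert ha, stalkMapLinear_add, ih]

end StalkLinear

section Proj

variable {r : ℕ} (M : Fin r → Y.Modules)

/-- the projections of a finite coproduct -/
noncomputable def proj (l : Fin r) : ∐ M ⟶ M l :=
  Sigma.desc (fun l' => if h : l' = l then eqToHom (congrArg M h) else 0)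

theorem ι_proj_self (l : Fin r) : Sigma.ι M l ≫ proj M l = 𝟙 _ := by
  simp [proj]

theorem ι_proj_ne {l l' : Fin r} (h : l' ≠ l) : Sigma.ι M l' ≫ proj M l = 0 := by
  simp [proj, h]

theorem sum_proj_ι : ∑ l : Fin r, proj M l ≫ Sigma.ι M l = 𝟙 (∐ M) := by
  apply Sigma.hom_ext
  intro l'
  rw [Preadditive.comp_sum, Category.comp_id]
  rw [Finset.sum_eq_single l']
  · rw [← Category.assoc, ι_proj_self, Category.id_comp]
  · intro l _ hl
    rw [← Category.assoc, ι_proj_ne M (Ne.symm hl), zero_comp]
  · intro h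
    exact absurd (Finset.mem_univ l') h

end Proj

section Main

variable [IsIntegral Y] {r : ℕ}

theorem not_staircase (L M : Fin r → Y.Modules)
    (hL : ∀ i, FlatMod.IsFinLocFreeOfRank 1 (L i)) (hM : ∀ i, FlatMod.IsFinLocFreeOfRank 1 (M i))
    (θ : ∐ L ⟶ ∐ M) [Mono θ] (j : Fin r)
    (hz : ∀ i l, i ≤ j → j ≤ l → ∀ φ : L i ⟶ M l, φ = 0) : False := by
  classical
  letI : Field (Y.presheaf.stalk (genericPoint Y)) :=
    inferInstanceAs (Field Y.functionField)
  -- generators of the rank one stalks
  have hv : ∀ i, ∃ v : ↑((L i).presheaf.stalk (genericPoint Y)), v ≠ 0 := fun i => by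
    obtain ⟨f1, g1, r1⟩ := stalk_of_rank (hL i) (genericPoint Y)
    obtain ⟨v, hv0, -⟩ := finrank_eq_one_iff'.mp r1
    exact ⟨v, hv0⟩
  choose v hv0 using hv
  have hw : ∀ l, ∃ w : ↑((M l).presheaf.stalk (genericPoint Y)),
      ∀ y, ∃ c : Y.presheaf.stalk (genericPoint Y), c • w = y := fun l => by
    obtain ⟨f1, g1, r1⟩ := stalk_of_rank (hM l) (genericPoint Y)
    obtain ⟨w, -, hw⟩ := finrank_eq_one_iff'.mp r1
    exact ⟨w, hw⟩
  choose w hw using hw
  -- the vectors
  let u : Fin r → ↑((∐ L).presheaf.stalk (genericPoint Y)) := fun i =>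
    stalkMapLinear (Sigma.ι L i) (genericPoint Y) (v i)
  have hu : LinearIndependent (Y.presheaf.stalk (genericPoint Y)) u := by
    rw [linearIndependent_iff']
    intro s g hg i₀ hi₀
    have h1 := congrArg (stalkMapLinear (proj L i₀) (genericPoint Y)) hg
    rw [map_sum, map_zero] at h1
    rw [Finset.sum_eq_single i₀] at h1
    · rw [map_smul] at h1
      have h2 : stalkMapLinear (proj L i₀) (genericPoint Y) (u i₀) = v i₀ := by
        change (stalkMapLinear (proj L i₀) (genericPoint Y)).comp
          (stalkMapLinear (Sigma.ι L i₀) (genericPoint Y)) (v i₀) = v i₀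
        rw [← stalkMapLinear_comp, ι_proj_self, stalkMapLinear_id]
        rfl
      rw [h2] at h1
      exact (smul_eq_zero.mp h1).resolve_right (hv0 i₀)
    · intro i _ hi
      rw [map_smul]
      have h2 : stalkMapLinear (proj L i₀) (genericPoint Y) (u i) = 0 := by
        change (stalkMapLinear (proj L i₀) (genericPoint Y)).comp
          (stalkMapLinear (Sigma.ι L i) (genericPoint Y)) (v i) = 0
        rw [← stalkMapLinear_comp, ι_proj_ne L hi, stalkMapLinear_zero]
        rfl
      rw [h2, smul_zero]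
    · intro h
      exact absurd hi₀ h
  have hinj : Function.Injective (stalkMapLinear θ (genericPoint Y)) :=
    stalkMap_injective_of_mono θ (genericPoint Y)
  let x : ↥(Finset.Iic j) → ↑((∐ M).presheaf.stalk (genericPoint Y)) := fun i =>
    stalkMapLinear θ (genericPoint Y) (u i)
  have hx : LinearIndependent (Y.presheaf.stalk (genericPoint Y)) x := by
    have h1 : LinearIndependent (Y.presheaf.stalk (genericPoint Y))
        (fun i : ↥(Finset.Iic j) => u i) := hu.comp _ Subtype.val_injective
    exact h1.map' _ (LinearMap.ker_eq_bot.mpr hinj)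
  let y : ↥(Finset.Iio j) → ↑((∐ M).presheaf.stalk (genericPoint Y)) := fun l =>
    stalkMapLinear (Sigma.ι M l) (genericPoint Y) (w l)
  have hspan : Set.range x ≤ Submodule.span (Y.presheaf.stalk (genericPoint Y)) (Set.range y) := by
    rintro _ ⟨⟨i, hi⟩, rfl⟩
    have hij : i ≤ j := Finset.mem_Iic.mp hi
    -- decompose
    have h1 : Sigma.ι L i ≫ θ = ∑ l : Fin r, ((Sigma.ι L i ≫ θ) ≫ proj M l) ≫ Sigma.ι M l := by
      simp_rw [Category.assoc (Sigma.ι L i ≫ θ)]
      rw [← Preadditive.comp_sum, sum_proj_ι, Category.comp_id]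
    have h2 : x ⟨i, hi⟩ = ∑ l : Fin r, stalkMapLinear (Sigma.ι M l) (genericPoint Y)
        (stalkMapLinear ((Sigma.ι L i ≫ θ) ≫ proj M l) (genericPoint Y) (v i)) := by
      have e1 : x ⟨i, hi⟩ = stalkMapLinear (Sigma.ι L i ≫ θ) (genericPoint Y) (v i) := by
        change (stalkMapLinear θ (genericPoint Y)).comp
          (stalkMapLinear (Sigma.ι L i) (genericPoint Y)) (v i) = _
        rw [← stalkMapLinear_comp]
      rw [e1]
      conv_lhs => rw [h1]
      rw [stalkMapLinear_sum, LinearMap.sum_apply]
      refine Finset.sum_congr rfl fun l _ => ?_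
      rw [stalkMapLinear_comp]
      rfl
    change x ⟨i, hi⟩ ∈ _
    rw [h2]
    refine Submodule.sum_mem _ fun l _ => ?_
    by_cases hl : l < j
    · obtain ⟨c, hc⟩ := hw l
        (stalkMapLinear ((Sigma.ι L i ≫ θ) ≫ proj M l) (genericPoint Y) (v i))
      rw [← hc, map_smul]
      exact Submodule.smul_mem _ _ (Submodule.subset_span ⟨⟨l, Finset.mem_Iio.mpr hl⟩, rfl⟩)
    · rw [hz i l hij (not_lt.mp hl) ((Sigma.ι L i ≫ θ) ≫ proj M l), stalkMapLinear_zero]
      simp
  have hcard := linearIndependent_le_span' x hx (Set.range y) hspan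
  rw [Cardinal.mk_fintype, Nat.cast_le] at hcard
  have h3 : Fintype.card ↥(Set.range y) ≤ Fintype.card ↥(Finset.Iio j) := Fintype.card_range_le y
  rw [Fintype.card_coe, Fin.card_Iio] at h3
  rw [Fintype.card_coe, Fin.card_Iic] at hcard
  omega

end Main

end Groth.Agent.Lib.Helper59.Staircase
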