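import Mathlib
import Groth.Agent.Lib.Helper59.P1Split
import Groth.Agent.Lib.Helper59.Staircase
import Groth.Agent.Lib.Helper17.HHLinFunct

/-!
# Cohomology of finite coproducts, and of the twisting sheaves on the projective line (helper59)

* `hhSigmaEquiv`: `H^p(X, ∐ N) ≃ Π H^p(X, N i)` for a finite family.
* `finrank_HH_twist_zero`, `finrank_HH_twist_one`: `h⁰(P^1, O(m)) = max (m+1) 0`,
  `h¹(P^1, O(m)) = max (-m-1) 0`.
-/

set_option autoImplicit false
universe u
open AlgebraicGeometry CategoryTheory Limits Opposite TopologicalSpace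

namespace Groth.Agent.Lib.Helper59.P1Coh

open Groth.Agent.Lib.Helper17 Groth.Agent.Lib.Helper17.HHLinLES Groth.Agent.Lib.Helper67
open Groth.Agent.Lib.Helper38.SerreVanishPn Groth.Agent.Lib.Helper59.P1Curve
open Groth.Agent.Lib.Helper59.P1Split

section Sigma

variable (A : Type u) [CommRing A] {X : Scheme.{u}} [X.Over (Spec (CommRingCat.of A))]

/-- cohomology of a finite coproduct -/
noncomputable def hhSigmaEquiv {n : ℕ} (N : Fin n → X.Modules) (p : ℕ) :
    Coh.HH X (∐ N) p ≃ₗ[A] (∀ i, Coh.HH X (N i) p) where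
  toFun y i := Canon.HHlin A (Staircase.proj N i) p y
  invFun z := ∑ i, Canon.HHlin A (Sigma.ι N i) p (z i)
  map_add' y y' := by
    funext i
    exact map_add _ _ _
  map_smul' a y := by
    funext i
    exact map_smul _ _ _
  left_inv y := by
    have h1 := congrArg (fun φ => Canon.HHlin A φ p y) (Staircase.sum_proj_ι N)
    simp only [HHlin_sum, HHlin_comp, HHlin_id, LinearMap.sum_apply, LinearMap.comp_apply,
      LinearMap.id_apply] at h1
    exact h1
  right_inv z := by
    funext j
    change Canon.HHlin A (Staircase.proj N j) p (∑ i, Canon.HHlin A (Sigma.ι N i) p (z i)) = z j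
    rw [map_sum, Finset.sum_eq_single j]
    · have h1 := congrArg (fun φ => Canon.HHlin A φ p (z j)) (Staircase.ι_proj_self N j)
      simp only [HHlin_comp, HHlin_id, LinearMap.comp_apply, LinearMap.id_apply] at h1
      exact h1
    · intro i _ hij
      have h1 := congrArg (fun φ => Canon.HHlin A φ p (z i)) (Staircase.ι_proj_ne N hij)
      simp only [HHlin_comp, HHlin_zero, LinearMap.comp_apply, LinearMap.zero_apply] at h1
      exact h1
    · intro h
      exact absurd (Finset.mem_univ j) h

end Sigma

section Field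

variable (k : Type u) [Field k] {X : Scheme.{u}} [X.Over (Spec (CommRingCat.of k))]

theorem finrank_HH_sigma {n : ℕ} (N : Fin n → X.Modules) (p : ℕ)
    (hfin : ∀ i, Module.Finite k (Coh.HH X (N i) p)) :
    Module.finrank k (Coh.HH X (∐ N) p) = ∑ i, Module.finrank k (Coh.HH X (N i) p) := by
  rw [(hhSigmaEquiv k N p).finrank_eq, Module.finrank_pi_fintype]

end Field

variable (k : Type u) [Field k]

theorem isGood_twist (m : ℤ) :
    EulerLES.IsGood k (CohB1.ProjSpace 1 k) (Twist.twistProjSpace 1 k m) :=
  CurveCoh.isGood_of_coh k (CohB1.ProjSpace 1 k) (hdim k) _ (FinCoh.isCoh_twist 1 k m)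

/-- `H⁰(P^1, O(m)) = 0` for `m < 0` -/
theorem subsingleton_HH_zero_twist {m : ℤ} (hm : m < 0) :
    Subsingleton (Coh.HH (CohB1.ProjSpace 1 k) (Twist.twistProjSpace 1 k m) 0) := by
  have key : ∀ x : Coh.HH (CohB1.ProjSpace 1 k) (Twist.twistProjSpace 1 k m) 0, x = 0 := by
    intro x
    apply (HZero.hh0Equiv (Twist.twistProjSpace 1 k m)).injective
    rw [map_zero]
    set s := HZero.hh0Equiv (Twist.twistProjSpace 1 k m) x
    have h0 : (twistZeroIso 1 k).hom ≫
        Groth.Agent.Lib.Helper45.SectionHom.sectionHom (Twist.twistProjSpace 1 k m) s = 0 :=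
      hom_twist_eq_zero k hm _
    have h1 : Groth.Agent.Lib.Helper45.SectionHom.sectionHom (Twist.twistProjSpace 1 k m) s = 0 := by
      rw [← cancel_epi (twistZeroIso 1 k).hom, h0, comp_zero]
    have h2 := Groth.Agent.Lib.Helper45.SectionHom.sectionHom_app_top_one
      (Twist.twistProjSpace 1 k m) s
    rw [h1, Scheme.Modules.Hom.zero_app] at h2
    exact h2.symm
  exact ⟨fun x y => (key x).trans (key y).symm⟩

theorem finrank_HH_twist_zero (m : ℤ) :
    Module.finrank k (Coh.HH (CohB1.ProjSpace 1 k) (Twist.twistProjSpace 1 k m) 0) =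
      (m + 1).toNat := by
  have hg := isGood_twist k m
  have he := EulerLES.euler_eq k hg
  rw [euler_twist] at he
  rcases lt_or_ge m 0 with hm | hm
  · have := subsingleton_HH_zero_twist k hm
    rw [Module.finrank_zero_of_subsingleton]
    omega
  · have : Subsingleton (Coh.HH (CohB1.ProjSpace 1 k) (Twist.twistProjSpace 1 k m) 1) :=
      PnVanish.subsingleton_HH 1 k m 1 (by simp) (by
        rintro ⟨-, h⟩
        push_cast at h
        omega)
    rw [Module.finrank_zero_of_subsingleton (M := Coh.HH (CohB1.ProjSpace 1 k)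
      (Twist.twistProjSpace 1 k m) 1)] at he
    omega

theorem finrank_HH_twist_one (m : ℤ) :
    Module.finrank k (Coh.HH (CohB1.ProjSpace 1 k) (Twist.twistProjSpace 1 k m) 1) =
      (-m - 1).toNat := by
  have hg := isGood_twist k m
  have he := EulerLES.euler_eq k hg
  rw [euler_twist, finrank_HH_twist_zero] at he
  omega

end Groth.Agent.Lib.Helper59.P1Coh
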