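import Mathlib
import Groth.Agent.Lib.Helper59.P1Split

/-!
# Grothendieck's splitting theorem on the projective line: existence (helper59)
-/

set_option autoImplicit false
set_option linter.style.haveILetI false
universe u
open AlgebraicGeometry CategoryTheory Limits Opposite TopologicalSpace

namespace Groth.Agent.Lib.Helper59.P1Split

open Groth.Agent.Lib.Helper17 Groth.Agent.Lib.Helper67
open Groth.Agent.Lib.Helper38.SerreVanishPn Groth.Agent.Lib.Helper38.TwistEquiv
open Groth.Agent.Lib.Helper59.P1Curve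

variable (k : Type u) [Field k]

theorem exists_iso_sigma_twists (r : ℕ) :
    ∀ (E : (CohB1.ProjSpace 1 k).Modules), FlatMod.IsFinLocFreeOfRank r E →
      ∃ d : Fin r → ℤ,
        Nonempty (E ≅ ∐ fun i : Fin r => Twist.twistProjSpace 1 k (d i)) := by
  induction r with
  | zero =>
    intro E hE
    refine ⟨fun i => i.elim0, ⟨?_⟩⟩
    have hz : IsZero E := SmCurve.isZero_of_rank_zero hE
    have hz' : IsZero (∐ fun i : Fin 0 => Twist.twistProjSpace 1 k ((fun i => i.elim0) i)) := by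
      rw [IsZero.iff_id_eq_zero]
      apply Sigma.hom_ext
      intro i
      exact i.elim0
    exact hz.iso hz'
  | succ r ih =>
    intro E hE
    have hEc : Coh.IsCoh E := CurveDeg.isCoh_of_rank hE
    have hElf : FlatMod.IsFinLocFree E := CurveDeg.isFinLocFree_of_rank hE
    -- (1) a rank one submodule
    obtain ⟨m, k', p, hp⟩ := FinCoh.exists_epi 1 k E hEc
    have hnz : ¬ IsZero E := SmCurve.not_isZero_of_rank_pos _ (Nat.succ_pos r) hE
    have hp0 : p ≠ 0 := by
      intro h0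
      apply hnz
      haveI := hp
      exact IsZero.of_epi_eq_zero p h0
    obtain ⟨j₀, hj₀⟩ : ∃ j, Sigma.ι (fun _ : Fin k' => Twist.twistProjSpace 1 k (-(m : ℤ))) j ≫ p ≠ 0 := by
      by_contra hcon
      push Not at hcon
      exact hp0 (Sigma.hom_ext _ _ (fun j => by rw [hcon j, comp_zero]))
    have hφ₀ : Mono (Sigma.ι (fun _ : Fin k' => Twist.twistProjSpace 1 k (-(m : ℤ))) j₀ ≫ p) :=
      Groth.Agent.Lib.Helper93.CurveTwist.mono_of_ne_zero_of_rank_one
        (rank_one_twist k 1 _) hElf _ hj₀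
    -- (2) a rank one submodule of maximal degree
    obtain ⟨N, hN⟩ := SmCurve.exists_deg_bound k (CohB1.ProjSpace 1 k) (hdim k) (hreg k 1) hE
    let P : ℤ → Prop := fun z => ∃ (L : (CohB1.ProjSpace 1 k).Modules) (j : L ⟶ E), Mono j ∧
      FlatMod.IsFinLocFreeOfRank 1 L ∧ Curv2.deg k (CohB1.ProjSpace 1 k) L 1 = z
    obtain ⟨δ, ⟨L, j, hj, hL, hδ⟩, hmax⟩ : ∃ δ, P δ ∧ ∀ z, P z → z ≤ δ :=
      Int.exists_greatest_of_bdd
        ⟨N, fun z ⟨L, j, hj, hL, hz⟩ => hz ▸ hN L 1 j hj hL⟩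
        ⟨_, _, _, hφ₀, rank_one_twist k 1 _, rfl⟩
    -- (3) saturation
    haveI := hj
    obtain ⟨L', j', a, hj', haj, hL', hF, -, -, hle, -⟩ :=
      SmCurve.exists_saturation k (CohB1.ProjSpace 1 k) (hreg k 1) (hdim k) hE hL j
    have hδ' : Curv2.deg k (CohB1.ProjSpace 1 k) L' 1 = δ :=
      le_antisymm (hmax _ ⟨L', j', hj', hL', rfl⟩) (hδ ▸ hle)
    -- (4) `L' ≅ O(d)`
    obtain ⟨d, ⟨eL⟩, -⟩ := Groth.Agent.S10960.result k 1 le_rfl L' (invertible_of_rank_one hL')
    have hdδ : δ = d := by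
      rw [← hδ', SmCurve.deg_eq_of_iso k (CohB1.ProjSpace 1 k) eL 1, deg_twist]
    -- (5) the quotient splits by induction
    have hF' : FlatMod.IsFinLocFreeOfRank r (cokernel j') := by
      simpa using hF
    obtain ⟨b, ⟨eF⟩⟩ := ih (cokernel j') hF'
    haveI := hj'
    have hS : (ShortComplex.mk j' (cokernel.π j') (cokernel.condition j')).ShortExact :=
      ⟨ShortComplex.exact_of_g_is_cokernel _ (cokernelIsCokernel _)⟩
    -- (6) no nonzero map `O(d+1) → E`, hence `b i ≤ d`
    have hno : ∀ ψ : Twist.twistProjSpace 1 k (d + 1) ⟶ E, ψ = 0 := by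
      intro ψ
      by_contra hψ
      have hm := Groth.Agent.Lib.Helper93.CurveTwist.mono_of_ne_zero_of_rank_one
        (rank_one_twist k 1 (d + 1)) hElf ψ hψ
      have := hmax _ ⟨_, ψ, hm, rank_one_twist k 1 (d + 1), rfl⟩
      rw [deg_twist, hdδ] at this
      omega
    have hb : ∀ i, b i ≤ d := by
      intro i
      by_contra hi
      push Not at hi
      obtain ⟨μ, hμ⟩ := exists_ne_zero_hom k (a := d + 1) (b := b i) (by omega)
      obtain ⟨ψ, hψ⟩ := exists_lift k hS eL (le_refl _)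
        (μ ≫ Sigma.ι (fun i : Fin r => Twist.twistProjSpace 1 k (b i)) i ≫ eF.inv)
      rw [hno ψ, zero_comp] at hψ
      apply hμ
      have h1 : μ ≫ Sigma.ι (fun i : Fin r => Twist.twistProjSpace 1 k (b i)) i = 0 := by
        rw [← cancel_mono eF.inv, Category.assoc, ← hψ, zero_comp]
      exact (cancel_mono (Sigma.ι (fun i : Fin r => Twist.twistProjSpace 1 k (b i)) i)).mp
        (h1.trans zero_comp.symm)
    -- (7) the sequence splits
    choose σ hσ using fun i => exists_lift k hS eL (show b i ≤ d + 1 by have := hb i; omega)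
      (Sigma.ι (fun i : Fin r => Twist.twistProjSpace 1 k (b i)) i ≫ eF.inv)
    have hsec : (eF.hom ≫ Sigma.desc σ) ≫ cokernel.π j' = 𝟙 _ := by
      have h1 : Sigma.desc σ ≫ cokernel.π j' = eF.inv := by
        apply Sigma.hom_ext
        intro i
        rw [← Category.assoc, Sigma.ι_desc]
        exact hσ i
      rw [Category.assoc, h1, eF.hom_inv_id]
    let sp := ShortComplex.Splitting.ofExactOfSection _ hS.exact (eF.hom ≫ Sigma.desc σ) hsec
      hS.mono_f
    -- (8) assemble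
    refine ⟨Fin.cons d b, ⟨sp.isoBinaryBiproduct ≪≫ biprod.mapIso eL eF ≪≫
      biprod.isoCoprod _ _ ≪≫ ?_⟩⟩
    refine ?_ ≪≫ (sigmaFinSuccIso
      (fun i : Fin (r + 1) => Twist.twistProjSpace 1 k ((Fin.cons d b : Fin (r + 1) → ℤ) i))).symm
    exact coprod.mapIso (Iso.refl _)
      (Sigma.mapIso fun i => eqToIso (by simp))

/-- every vector bundle on `P^1_k` is a direct sum of twists, with non-increasing twists -/
theorem exists_antitone_iso (r : ℕ) (E : (CohB1.ProjSpace 1 k).Modules)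
    (hE : FlatMod.IsFinLocFreeOfRank r E) :
    ∃ d : Fin r → ℤ, Antitone d ∧
      Nonempty (E ≅ ∐ fun i : Fin r => Twist.twistProjSpace 1 k (d i)) := by
  obtain ⟨d, ⟨e⟩⟩ := exists_iso_sigma_twists k r E hE
  obtain ⟨σ, hσ⟩ := exists_perm_antitone d
  exact ⟨d ∘ σ, hσ,
    ⟨e ≪≫ (Sigma.reindex σ (fun i : Fin r => Twist.twistProjSpace 1 k (d i))).symm⟩⟩

end Groth.Agent.Lib.Helper59.P1Split
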