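import Mathlib
import Groth.Agent.Lib.Helper59.P1Coh
import Groth.Agent.Lib.Helper59.P1Exist
import Groth.Agent.Lib.Helper59.DoubleCoverTrace
import Groth.Agent.Lib.Helper11.ProjFormula
import Groth.Agent.Lib.Helper11.PullbackTensor
import Groth.Agent.Lib.Helper38.PnDimOne
import Groth.Agent.Lib.Helper17.TwistLoc
import Groth.Agent.Lib.Helper49.FinrankFree
import Groth.Agent.Lib.Helper54.Reduced

/-!
# Sections of powers of the `g^1_2` on a hyperelliptic curve (helper59)

For a double cover `f : C ⟶ P^1_k` of a proper curve with `h⁰(O_C) = 1` and `h¹(O_C) = g`, the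
direct image `f_* O_C` is `O ⊕ O(-g-1)` (splitting theorem on `P^1`), and by the projection formula
`h⁰(C, (f^* O(1))^{⊗ r}) = r + 1` for `r ≤ g`.
-/

set_option autoImplicit false
universe u
open AlgebraicGeometry CategoryTheory Limits Opposite TopologicalSpace

namespace Groth.Agent.Lib.Helper59.HypH0

open Groth.Agent.Lib.Helper17 Groth.Agent.Lib.Helper67
open Groth.Agent.Lib.Helper38.SerreVanishPn Groth.Agent.Lib.Helper59.P1Curve
open Groth.Agent.Lib.Helper59.P1Split Groth.Agent.Lib.Helper59.P1Coh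

/-- smooth morphisms have geometrically reduced fibres (helper26's argument) -/
theorem geometricallyReduced_of_smooth {X Y : Scheme.{u}} (f : X ⟶ Y) [Smooth f] :
    GeometricallyReduced f := by
  refine ⟨fun K _ y Z fst snd h => ?_⟩
  have : Smooth snd := MorphismProperty.of_isPullback (P := @Smooth) h inferInstance
  exact Groth.Agent.Lib.Helper54.isReduced_of_smooth_scheme snd

variable (k : Type u) [Field k]

theorem finrank_h0_tensorPow_pullback (C : Scheme.{u}) [C.Over (Spec (CommRingCat.of k))]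
    [IsProper (C ↘ Spec (CommRingCat.of k))]
    (h0 : Module.finrank k (Coh.HH C (Coh.structureModule C) 0) = 1) (g : ℕ)
    (hg : Curv2.genus k C = g)
    (f : C ⟶ CohB1.ProjSpace 1 k)
    (hf : f ≫ ((CohB1.ProjSpace 1 k) ↘ Spec (CommRingCat.of k)) = C ↘ Spec (CommRingCat.of k))
    [IsFinite f] [Flat f]
    (hrk : ∀ y : ↥(CohB1.ProjSpace 1 k), Scheme.Hom.finrank f y = 2) (r : ℕ) (hr : r ≤ g) :
    Module.finrank k (Coh.HH C (CohB1.tensorPow
      ((Scheme.Modules.pullback f).obj (Twist.twistProjSpace 1 k 1)) r) 0) = r + 1 := by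
  have hlfp : LocallyOfFinitePresentation f :=
    LocallyOfFinitePresentation.iff_locallyOfFiniteType.mpr inferInstance
  have hA : FlatMod.IsFinLocFreeOfRank 2
      ((Scheme.Modules.pushforward f).obj (Coh.structureModule C)) :=
    ((Groth.Agent.Lib.Helper49.isFinLocFreeOfDeg_iff f 2).mp
      ⟨⟨inferInstance, inferInstance, hlfp⟩, hrk⟩).2
  have hAff : IsAffineHom f := inferInstance
  obtain ⟨d, hd, ⟨eA⟩⟩ := exists_antitone_iso k 2 _ hA
  have cC : Coh.IsCoh (Coh.structureModule C) :=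
    Groth.Agent.Lib.Helper45.RefHullStalk.isCoh_structureModule _
  have : (Coh.structureModule C).IsQuasicoherent := cC.1
  -- the splitting type of `f_* O_C`
  have e0 : Module.finrank k (Coh.HH (CohB1.ProjSpace 1 k)
      (∐ fun i : Fin 2 => Twist.twistProjSpace 1 k (d i)) 0) = 1 :=
    (TensZero.finrank_HH_eq_of_iso k eA 0).symm.trans
      ((AffPush.pushEdgeEquiv f k hf (Coh.structureModule C) 0).finrank_eq.trans h0)
  have e1 : Module.finrank k (Coh.HH (CohB1.ProjSpace 1 k)
      (∐ fun i : Fin 2 => Twist.twistProjSpace 1 k (d i)) 1) = g :=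
    (TensZero.finrank_HH_eq_of_iso k eA 1).symm.trans
      ((AffPush.pushEdgeEquiv f k hf (Coh.structureModule C) 1).finrank_eq.trans hg)
  rw [finrank_HH_sigma k _ 0 (fun i => (isGood_twist k _).1 0), Fin.sum_univ_two,
    finrank_HH_twist_zero, finrank_HH_twist_zero] at e0
  rw [finrank_HH_sigma k _ 1 (fun i => (isGood_twist k _).1 1), Fin.sum_univ_two,
    finrank_HH_twist_one, finrank_HH_twist_one] at e1
  have hd01 : d 1 ≤ d 0 := hd (by decide : (0 : Fin 2) ≤ 1)
  have hd0 : d 0 = 0 := by omega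
  have hd1 : d 1 = -(g : ℤ) - 1 := by omega
  -- `L^r ≅ f^* O(r)`
  have hO1 : PicF.IsInvertible (Twist.twistProjSpace 1 k 1) :=
    TwistTensor.isInvertible_twist (CohB1.polyGrading 1 k) (FinCoh.iSup_basicOpen_deg_one 1 k) 1
  let eL : CohB1.tensorPow ((Scheme.Modules.pullback f).obj (Twist.twistProjSpace 1 k 1)) r ≅
      (Scheme.Modules.pullback f).obj (Twist.twistProjSpace 1 k (r : ℤ)) :=
    (Groth.Agent.Lib.Helper11.PullbackTensor.pullbackTensorPowIso f hO1 r).symm ≪≫
      (Scheme.Modules.pullback f).mapIso (Groth.Agent.Lib.Helper38.PnDimOne.powIso 1 k r)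
  rw [TensZero.finrank_HH_eq_of_iso k eL 0]
  have cr : Coh.IsCoh (Twist.twistProjSpace 1 k (r : ℤ)) := FinCoh.isCoh_twist 1 k r
  have : (Twist.twistProjSpace 1 k (r : ℤ)).IsQuasicoherent := cr.1
  have : ((Scheme.Modules.pullback f).obj (Twist.twistProjSpace 1 k (r : ℤ))).IsQuasicoherent :=
    Groth.Agent.Lib.Helper16.FlatPull.isQuasicoherent_pullback f _
  rw [← (AffPush.pushEdgeEquiv f k hf
    ((Scheme.Modules.pullback f).obj (Twist.twistProjSpace 1 k (r : ℤ))) 0).finrank_eq]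
  -- projection formula
  have hiso := Groth.Agent.Lib.Helper11.ProjFormula.isIso_pfMap f (Twist.twistProjSpace 1 k (r : ℤ))
    (CurveDeg.isFinLocFree_of_rank hA)
  let ePF := @asIso _ _ _ _ (Groth.Agent.Lib.Helper11.ProjFormula.pfMap f
    (Twist.twistProjSpace 1 k (r : ℤ))) hiso
  rw [← TensZero.finrank_HH_eq_of_iso k ePF 0]
  -- distribute the twist over the splitting
  have := isEquivalence_tw 1 k (r : ℤ)
  let F2 : Fin 2 → (CohB1.ProjSpace 1 k).Modules := fun i => Twist.twistProjSpace 1 k (d i)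
  let eT₁ : CohB1.tensorMod (Twist.twistProjSpace 1 k (r : ℤ))
      ((Scheme.Modules.pushforward f).obj (Coh.structureModule C)) ≅
      (tw 1 k (r : ℤ)).obj ((Scheme.Modules.pushforward f).obj (Coh.structureModule C)) :=
    Groth.Agent.Lib.Helper17.TwistLoc.tensorModComm _ _
  let eT₂ : (tw 1 k (r : ℤ)).obj ((Scheme.Modules.pushforward f).obj (Coh.structureModule C)) ≅
      (tw 1 k (r : ℤ)).obj (∐ F2) := (tw 1 k (r : ℤ)).mapIso eA
  let eT₃ : (tw 1 k (r : ℤ)).obj (∐ F2) ≅ ∐ fun i => (tw 1 k (r : ℤ)).obj (F2 i) :=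
    PreservesCoproduct.iso (tw 1 k (r : ℤ)) F2
  let eT₄ : (∐ fun i => (tw 1 k (r : ℤ)).obj (F2 i)) ≅
      ∐ fun i : Fin 2 => Twist.twistProjSpace 1 k (d i + (r : ℤ)) :=
    Sigma.mapIso fun i => twistTensorIso 1 k (d i) (r : ℤ)
  let eT := eT₁ ≪≫ eT₂ ≪≫ eT₃ ≪≫ eT₄
  rw [TensZero.finrank_HH_eq_of_iso k eT 0,
    finrank_HH_sigma k _ 0 (fun i => (isGood_twist k _).1 0), Fin.sum_univ_two,
    finrank_HH_twist_zero, finrank_HH_twist_zero, hd0, hd1]
  omega

end Groth.Agent.Lib.Helper59.HypH0
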