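import Groth.Agent.Lib.Helper59.FiberTrans

/-! # Conjugating inertia along a translate -/

set_option autoImplicit false
universe u
open CategoryTheory MonoidalCategory CartesianMonoidalCategory MonObj AlgebraicGeometry
open CoactBr

namespace Groth.Agent.Lib.Helper59.InertiaConj

variable {R A B : Type u} [CommRing R] [CommRing A] [CommRing B] [HopfAlgebra R A] [Algebra R B]
  [HopfRep.Comod R A B] [GLin.IsCoactAlg R A B]

/-- `k` fixes `X` iff `G⁻¹ k G` fixes `X · G`. -/
theorem fix_conj_iff {T : Over (Spec (CommRingCat.of R))} (X : T ⟶ sp R B) (G k : T ⟶ sp R A) :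
    lift k X ≫ (action R A B).act = X ↔
      lift (G⁻¹ * k * G) (lift X G ≫ ract R A B) ≫ (action R A B).act = lift X G ≫ ract R A B := by
  have e : G * (G⁻¹ * k * G)⁻¹ = k⁻¹ * G := by group
  have e1 : lift k X ≫ (action R A B).act = lift X k⁻¹ ≫ ract R A B := lift_action_act k X
  have e2 : lift (G⁻¹ * k * G) (lift X G ≫ ract R A B) ≫ (action R A B).act =
      lift (lift X k⁻¹ ≫ ract R A B) G ≫ ract R A B := by
    rw [lift_action_act (G⁻¹ * k * G) (lift X G ≫ ract R A B), lift_ract_ract X G, e,
      lift_ract_ract X k⁻¹ G]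
  rw [e1, e2]
  constructor
  · intro h; rw [h]
  · intro h
    have h2 := congrArg (fun Y => lift Y G⁻¹ ≫ ract R A B) h
    have h3 : ∀ Y : T ⟶ sp R B, lift (lift Y G ≫ ract R A B) G⁻¹ ≫ ract R A B = Y := by
      intro Y
      rw [lift_ract_ract Y G G⁻¹, mul_inv_cancel, lift_one_ract]
    simp only [h3] at h2
    exact h2

/-- The point of a translate is the right translate of the point. -/
theorem pt_trans {K : Type u} [Field K] [Algebra R K] (x : B →ₐ[R] K) (gam : A →ₐ[R] K) :
    pt (FiberTrans.trans R A B x gam) = lift (pt x) (pt gam) ≫ ract R A B :=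
  (lift_pt_ract x gam).symm

/-- The hypothesis on invariants, from bijectivity of the structure map. -/
theorem hinv_of_bijective (hC : Function.Bijective (algebraMap R (GLin.invariants R A B))) :
    ∀ c ∈ GLin.invariants R A B, ∃ c₀ : R, algebraMap R B c₀ = c := by
  intro c hc
  obtain ⟨c₀, hc₀⟩ := hC.2 ⟨c, hc⟩
  exact ⟨c₀, congrArg Subtype.val hc₀⟩

end Groth.Agent.Lib.Helper59.InertiaConj
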