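import Groth.Agent.Lib.Helper59.OrbitFF
import Groth.Prelude.Def_ComodSub

/-! # Orbits of unipotent affine groups on affine schemes are closed

For a commutative Hopf algebra `A` over a field `k` all of whose non-zero finite-dimensional
comodules have a non-zero fixed vector, a commutative `k`-algebra `R` with a multiplicative
coaction of `A`, and a rational point `x` of `Spec R`, the image of the orbit map
`Spec A → Spec R` is closed.  No finiteness is needed.

The argument: for a prime `p` of `R` containing the kernel `I` of the orbit map, the largest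
subcomodule of `R` inside `p` is `I` (a bigger one would map onto a non-zero subcomodule of `A`,
which contains a non-zero fixed vector, i.e. a non-zero constant, so it would contain `1`).
Hence the orbit map of the residue point of `p` has kernel `I` as well, so both orbit maps hit
a common minimal prime over `I`, and translating shows that `p` lies in the orbit of `x`. -/

set_option autoImplicit false
set_option linter.style.haveILetI false
set_option linter.unusedSectionVars false
universe u v
open TensorProduct WithConv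

namespace Groth.Agent.Lib.Helper59.UnipOrbit

open Groth.Agent.Lib.Helper59.LinRed Groth.Agent.Lib.Helper84.Points
open Groth.Agent.Lib.Helper93.Comod Groth.Agent.Lib.Helper59.OrbitFF

section Fixed

variable {k : Type u} [Field k] {A : Type v} [CommRing A] [Bialgebra k A]

/-- In a comodule over a unipotent bialgebra every non-zero subcomodule contains a non-zero
fixed vector. -/
theorem exists_fixed_of_isSubcomod (hU : HopfRep.IsUnipotent k A)
    {V : Type v} [AddCommGroup V] [Module k V] [c : HopfRep.Comod k A V]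
    (M : Submodule k V) (hM : HopfRep.IsSubcomod (k := k) (A := A) M) (hne : M ≠ ⊥) :
    ∃ v ∈ M, v ≠ 0 ∧ HopfRep.Comod.coact (k := k) (A := A) v = v ⊗ₜ[k] (1 : A) := by
  obtain ⟨m, hmM, hm0⟩ := Submodule.exists_mem_ne_zero_of_ne_bot hne
  obtain ⟨W, hWfin, hmW, hW⟩ := Groth.Agent.H40.exists_finite_subcomod_mem (k := k) (C := A) m
  have hW' : HopfRep.IsSubcomod (k := k) (A := A) (W ⊓ M) := isSubcomod_inf W M hW hM
  haveI : Module.Finite k ↥(W ⊓ M) := Submodule.finiteDimensional_inf_left W M
  haveI : Nontrivial ↥(W ⊓ M) :=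
    ⟨⟨⟨m, hmW, hmM⟩, 0, fun h => hm0 (congrArg Subtype.val h)⟩⟩
  have h1 := @hU ↥(W ⊓ M) _ _ (ComodSub.Comod.restr c (W ⊓ M) hW') inferInstance inferInstance
  obtain ⟨w, hw, hw0⟩ := Submodule.exists_mem_ne_zero_of_ne_bot h1
  refine ⟨(w : V), w.2.2, fun h => hw0 (Subtype.ext h), ?_⟩
  have h2 : (ComodSub.Comod.restr c (W ⊓ M) hW').coact w = w ⊗ₜ[k] (1 : A) := hw
  have h3 := ComodSub.restr_coact_coe c (W ⊓ M) hW' w
  rw [h2, LinearMap.rTensor_tmul] at h3
  exact h3.symm

/-- A fixed vector of the regular comodule is a constant. -/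
theorem eq_counit_smul_one_of_fixed {a : A}
    (ha : Coalgebra.comul (R := k) a = a ⊗ₜ[k] (1 : A)) :
    a = Coalgebra.counit (R := k) a • (1 : A) := by
  have h1 := Coalgebra.rTensor_counit_comul (R := k) a
  rw [ha, LinearMap.rTensor_tmul] at h1
  have h2 := congrArg (TensorProduct.lid k A) h1
  rw [TensorProduct.lid_tmul, TensorProduct.lid_tmul, one_smul] at h2
  exact h2.symm

end Fixed

section Core

variable {k : Type u} [Field k] {A : Type u} [CommRing A] [HopfAlgebra k A]
variable {R : Type u} [CommRing R] [Algebra k R] [HopfRep.Comod k A R] [GLin.IsCoactAlg k A R]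

variable (A) in
/-- The largest subcomodule contained in a subspace. -/
def core (P : Submodule k R) : Submodule k R where
  carrier := {f | ∀ φ : A →ₗ[k] k, dualAct A R φ f ∈ P}
  add_mem' := by
    intro a b ha hb φ
    rw [map_add]
    exact P.add_mem (ha φ) (hb φ)
  zero_mem' := by
    intro φ
    rw [map_zero]
    exact P.zero_mem
  smul_mem' := by
    intro c a ha φ
    rw [map_smul]
    exact P.smul_mem c (ha φ)

theorem mem_core {P : Submodule k R} {f : R} :
    f ∈ core A P ↔ ∀ φ : A →ₗ[k] k, dualAct A R φ f ∈ P := Iff.rfl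

theorem core_le (P : Submodule k R) : core A P ≤ P := by
  intro f hf
  have := hf (Coalgebra.counit (R := k) (A := A))
  rwa [dualAct_counit] at this

theorem isSubcomod_core (P : Submodule k R) :
    HopfRep.IsSubcomod (k := k) (A := A) (core A P) := by
  rw [isSubcomod_iff]
  intro φ f hf ψ
  rw [dualAct_dualAct]
  exact hf _

theorem le_core {N P : Submodule k R} (hN : HopfRep.IsSubcomod (k := k) (A := A) N)
    (h : N ≤ P) : N ≤ core A P :=
  fun f hf φ => h ((isSubcomod_iff N).mp hN φ f hf)

theorem orbitHom_eq_zero_iff (x : R →ₐ[k] k) (f : R) :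
    GLin.orbitHom k A x f = 0 ↔ f ∈ core A (LinearMap.ker x.toLinearMap) :=
  orbitAlg_eq_zero_iff (GLin.IsCoactAlg.coact_mul (k := k) (A := A) (R := R))
    (GLin.IsCoactAlg.coact_one (k := k) (A := A) (R := R)) x f

/-- Over a unipotent group, a subspace `P` not containing `1` and containing the kernel of the
orbit map of `x` has that kernel as its largest subcomodule. -/
theorem core_eq_of_le (hU : HopfRep.IsUnipotent k A) (x : R →ₐ[k] k) (P : Submodule k R)
    (hP : core A (LinearMap.ker x.toLinearMap) ≤ P) (h1 : (1 : R) ∉ P) :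
    core A P = core A (LinearMap.ker x.toLinearMap) := by
  have hle : core A (LinearMap.ker x.toLinearMap) ≤ core A P := le_core (isSubcomod_core _) hP
  refine le_antisymm ?_ hle
  by_contra hnot
  obtain ⟨n, hnN, hnI⟩ := Set.not_subset.mp hnot
  set o : R →ₗ[k] A := (GLin.orbitHom k A x).toLinearMap with ho
  have hM : HopfRep.IsSubcomod (k := k) (A := A) ((core A P).map o) :=
    isSubcomod_map o (isComodHom_orbitHom x) _ (isSubcomod_core P)
  have hne : (core A P).map o ≠ ⊥ := by
    intro h
    have h2 : o n ∈ (core A P).map o := Submodule.mem_map_of_mem hnN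
    rw [h, Submodule.mem_bot] at h2
    exact hnI ((orbitHom_eq_zero_iff x n).mp h2)
  obtain ⟨b, hbM, hb0, hbfix⟩ := exists_fixed_of_isSubcomod hU _ hM hne
  obtain ⟨n', hn'N, rfl⟩ := hbM
  have hconst := eq_counit_smul_one_of_fixed (k := k) (a := o n') hbfix
  set c : k := Coalgebra.counit (R := k) (o n') with hc
  have hc0 : c ≠ 0 := by
    intro h
    rw [h, zero_smul] at hconst
    exact hb0 hconst
  have h3 : o (c⁻¹ • n' - 1) = 0 := by
    rw [map_sub, map_smul, hconst, smul_smul, inv_mul_cancel₀ hc0, one_smul, ho,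
      AlgHom.toLinearMap_apply, map_one, sub_self]
  have h4 : c⁻¹ • n' - 1 ∈ core A P := hle ((orbitHom_eq_zero_iff x _).mp h3)
  have h5 : (1 : R) ∈ core A P := by
    have := (core A P).sub_mem ((core A P).smul_mem c⁻¹ hn'N) h4
    rwa [sub_sub_cancel] at this
  exact h1 (core_le P h5)

variable {L : Type u} [CommRing L] [Algebra k L]

variable (A) in
/-- The orbit map of an `L`-valued point of `Spec R`. -/
noncomputable def orbitHomL (z : R →ₐ[k] L) : R →ₐ[k] L ⊗[k] A :=
  (Algebra.TensorProduct.map z (AlgHom.id k A)).comp (GLin.coactAlgHom k A R)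

theorem orbitHomL_apply (z : R →ₐ[k] L) (f : R) :
    orbitHomL A z f = z.toLinearMap.rTensor A (HopfRep.Comod.coact (k := k) (A := A) f) := rfl

theorem orbitHomL_eq_zero_iff (z : R →ₐ[k] L) (f : R) :
    orbitHomL A z f = 0 ↔ f ∈ core A (LinearMap.ker z.toLinearMap) := by
  rw [orbitHomL_apply, mem_core]
  constructor
  · intro h φ
    rw [LinearMap.mem_ker, dualAct_apply, ← rid_lTensor_rTensor, h, map_zero, map_zero]
  · intro h
    apply eq_zero_of_forall_lTensor_eq_zero
    intro φ
    rw [rid_lTensor_rTensor]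
    exact h φ

/-- Over a unipotent group, the orbit map of a point in the orbit closure of `x` has the same
kernel as the orbit map of `x`. -/
theorem ker_orbitHomL_eq [Nontrivial L] (hU : HopfRep.IsUnipotent k A) (x : R →ₐ[k] k)
    (z : R →ₐ[k] L) (hz : RingHom.ker (GLin.orbitHom k A x) ≤ RingHom.ker z) :
    RingHom.ker (orbitHomL A z) = RingHom.ker (GLin.orbitHom k A x) := by
  have h := core_eq_of_le hU x (LinearMap.ker z.toLinearMap)
    (fun f hf => hz ((orbitHom_eq_zero_iff x f).mpr hf))
    (by
      rw [LinearMap.mem_ker, AlgHom.toLinearMap_apply, map_one]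
      exact one_ne_zero)
  ext f
  rw [RingHom.mem_ker, RingHom.mem_ker, orbitHomL_eq_zero_iff, orbitHom_eq_zero_iff, h]

end Core

section CommonPoint

/-- Two algebra maps out of `R` with the same proper kernel can be equalised by maps to a common
field: both induced maps on spectra hit a minimal prime over the kernel. -/
theorem exists_common_field {k : Type*} [CommRing k] {R H₁ H₂ : Type u} [CommRing R]
    [CommRing H₁] [CommRing H₂] [Algebra k R] [Algebra k H₁] [Algebra k H₂]
    (f₁ : R →ₐ[k] H₁) (f₂ : R →ₐ[k] H₂)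
    (hker : RingHom.ker f₁ = RingHom.ker f₂) (hne : RingHom.ker f₁ ≠ ⊤) :
    ∃ (Ω : Type u) (_ : Field Ω) (_ : Algebra k Ω) (g₁ : H₁ →ₐ[k] Ω) (g₂ : H₂ →ₐ[k] Ω),
      g₁.comp f₁ = g₂.comp f₂ := by
  obtain ⟨m, hm, hIm⟩ := Ideal.exists_le_maximal _ hne
  haveI := hm.isPrime
  obtain ⟨P, hPmin, -⟩ := Ideal.exists_minimalPrimes_le hIm
  haveI hPprime : P.IsPrime := hPmin.1.1
  obtain ⟨q₁, hq₁prime, -, hq₁⟩ :=
    Ideal.exists_comap_eq_of_mem_minimalPrimes (I := (⊥ : Ideal H₁)) f₁.toRingHom P hPmin
  have hPmin₂ : P ∈ (RingHom.ker f₂).minimalPrimes := hker ▸ hPmin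
  obtain ⟨q₂, hq₂prime, -, hq₂⟩ :=
    Ideal.exists_comap_eq_of_mem_minimalPrimes (I := (⊥ : Ideal H₂)) f₂.toRingHom P hPmin₂
  let φ₁ : P.ResidueField →+* q₁.ResidueField :=
    Ideal.ResidueField.map P q₁ f₁.toRingHom hq₁.symm
  let φ₂ : P.ResidueField →+* q₂.ResidueField :=
    Ideal.ResidueField.map P q₂ f₂.toRingHom hq₂.symm
  letI : Algebra P.ResidueField q₁.ResidueField := φ₁.toAlgebra
  letI : Algebra P.ResidueField q₂.ResidueField := φ₂.toAlgebra
  haveI : Nontrivial (q₁.ResidueField ⊗[P.ResidueField] q₂.ResidueField) :=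
    Algebra.TensorProduct.nontrivial_of_algebraMap_injective_of_flat_left
      (R := P.ResidueField) q₁.ResidueField q₂.ResidueField
      (algebraMap P.ResidueField q₂.ResidueField).injective
  obtain ⟨M, hM⟩ := Ideal.exists_maximal (q₁.ResidueField ⊗[P.ResidueField] q₂.ResidueField)
  letI : Field ((q₁.ResidueField ⊗[P.ResidueField] q₂.ResidueField) ⧸ M) :=
    Ideal.Quotient.field M
  let G₁ : H₁ →+* (q₁.ResidueField ⊗[P.ResidueField] q₂.ResidueField) ⧸ M :=
    (Ideal.Quotient.mk M).comp
      ((Algebra.TensorProduct.includeLeftRingHom).comp (algebraMap H₁ q₁.ResidueField))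
  let G₂ : H₂ →+* (q₁.ResidueField ⊗[P.ResidueField] q₂.ResidueField) ⧸ M :=
    (Ideal.Quotient.mk M).comp
      ((Algebra.TensorProduct.includeRight
        (R := P.ResidueField) (A := q₁.ResidueField) (B := q₂.ResidueField)).toRingHom.comp
        (algebraMap H₂ q₂.ResidueField))
  have hcomm : ∀ r : R, G₁ (f₁ r) = G₂ (f₂ r) := by
    intro r
    have e₁ : algebraMap H₁ q₁.ResidueField (f₁ r) =
        algebraMap P.ResidueField q₁.ResidueField (algebraMap R P.ResidueField r) :=
      (Ideal.ResidueField.map_algebraMap P q₁ f₁.toRingHom hq₁.symm r).symm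
    have e₂ : algebraMap H₂ q₂.ResidueField (f₂ r) =
        algebraMap P.ResidueField q₂.ResidueField (algebraMap R P.ResidueField r) :=
      (Ideal.ResidueField.map_algebraMap P q₂ f₂.toRingHom hq₂.symm r).symm
    change Ideal.Quotient.mk M (algebraMap H₁ q₁.ResidueField (f₁ r) ⊗ₜ 1) =
      Ideal.Quotient.mk M (1 ⊗ₜ algebraMap H₂ q₂.ResidueField (f₂ r))
    rw [e₁, e₂, Algebra.algebraMap_eq_smul_one, Algebra.algebraMap_eq_smul_one (A := q₂.ResidueField),
      TensorProduct.smul_tmul]
  letI : Algebra k ((q₁.ResidueField ⊗[P.ResidueField] q₂.ResidueField) ⧸ M) :=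
    (G₁.comp (algebraMap k H₁)).toAlgebra
  refine ⟨_, inferInstance, inferInstance, { G₁ with commutes' := fun c => rfl },
    { G₂ with commutes' := fun c => ?_ }, ?_⟩
  · change G₂ (algebraMap k H₂ c) = G₁ (algebraMap k H₁ c)
    rw [← f₁.commutes c, ← f₂.commutes c, hcomm]
  · ext r
    exact hcomm r

end CommonPoint

section PtAct

variable {k : Type u} [Field k] {A : Type u} [CommRing A] [HopfAlgebra k A]
variable {R : Type u} [CommRing R] [Algebra k R] [HopfRep.Comod k A R] [GLin.IsCoactAlg k A R]
variable {Ω : Type u} [CommRing Ω] [Algebra k Ω]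

/-- An `Ω`-valued point `y` of `Spec R` moved by an `Ω`-valued point `u` of the group. -/
noncomputable def ptAct (y : R →ₐ[k] Ω) (u : Pt k A Ω) : R →ₐ[k] Ω :=
  (Algebra.TensorProduct.lift y u.ofConv (fun _ _ => Commute.all _ _)).comp
    (GLin.coactAlgHom k A R)

theorem ptAct_apply (y : R →ₐ[k] Ω) (u : Pt k A Ω) (f : R) :
    ptAct y u f = Algebra.TensorProduct.lift y u.ofConv (fun _ _ => Commute.all _ _)
      (HopfRep.Comod.coact (k := k) (A := A) f) := rfl

theorem ptAct_mul (y : R →ₐ[k] Ω) (u v : Pt k A Ω) :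
    ptAct (ptAct y u) v = ptAct y (u * v) := by
  ext f
  have hco := LinearMap.congr_fun (HopfRep.Comod.coassoc (k := k) (A := A) (V := R)) f
  simp only [LinearMap.comp_apply, LinearEquiv.coe_coe] at hco
  have claim1 : ∀ t : R ⊗[k] A,
      Algebra.TensorProduct.lift (ptAct y u) v.ofConv (fun _ _ => Commute.all _ _) t =
        Algebra.TensorProduct.lift y
          (Algebra.TensorProduct.lift u.ofConv v.ofConv (fun _ _ => Commute.all _ _))
          (fun _ _ => Commute.all _ _)
          (TensorProduct.assoc k R A A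
            ((HopfRep.Comod.coact (k := k) (A := A) (V := R)).rTensor A t)) := by
    intro t
    induction t using TensorProduct.induction_on with
    | zero => simp
    | tmul r a =>
      rw [Algebra.TensorProduct.lift_tmul, ptAct_apply, LinearMap.rTensor_tmul]
      generalize HopfRep.Comod.coact (k := k) (A := A) r = s
      induction s using TensorProduct.induction_on with
      | zero => simp
      | tmul r' a' =>
        rw [TensorProduct.assoc_tmul, Algebra.TensorProduct.lift_tmul,
          Algebra.TensorProduct.lift_tmul, Algebra.TensorProduct.lift_tmul, mul_assoc]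
      | add s₁ s₂ h₁ h₂ => rw [map_add, add_mul, h₁, h₂, TensorProduct.add_tmul, map_add, map_add]
    | add t₁ t₂ h₁ h₂ => rw [map_add, h₁, h₂, map_add, map_add, map_add]
  have claim2 : ∀ t : R ⊗[k] A,
      Algebra.TensorProduct.lift y (u * v).ofConv (fun _ _ => Commute.all _ _) t =
        Algebra.TensorProduct.lift y
          (Algebra.TensorProduct.lift u.ofConv v.ofConv (fun _ _ => Commute.all _ _))
          (fun _ _ => Commute.all _ _)
          ((Coalgebra.comul (R := k) (A := A)).lTensor R t) := by
    intro t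
    induction t using TensorProduct.induction_on with
    | zero => simp
    | tmul r a =>
      rw [Algebra.TensorProduct.lift_tmul, LinearMap.lTensor_tmul,
        Algebra.TensorProduct.lift_tmul, mul_apply]
    | add t₁ t₂ h₁ h₂ => rw [map_add, h₁, h₂, map_add, map_add]
  rw [ptAct_apply, claim1, hco, ← claim2, ← ptAct_apply]

theorem ptAct_one (y : R →ₐ[k] Ω) : ptAct y (1 : Pt k A Ω) = y := by
  ext f
  have hc := LinearMap.congr_fun (HopfRep.Comod.counit_comp (k := k) (A := A) (V := R)) f
  simp only [LinearMap.comp_apply, LinearMap.flip_apply, TensorProduct.mk_apply] at hc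
  have claim : ∀ t : R ⊗[k] A,
      Algebra.TensorProduct.lift y (1 : Pt k A Ω).ofConv (fun _ _ => Commute.all _ _) t =
        y (TensorProduct.rid k R ((Coalgebra.counit (R := k) (A := A)).lTensor R t)) := by
    intro t
    induction t using TensorProduct.induction_on with
    | zero => simp
    | tmul r a =>
      rw [Algebra.TensorProduct.lift_tmul, one_apply, LinearMap.lTensor_tmul,
        TensorProduct.rid_tmul, map_smul, Algebra.smul_def, mul_comm]
    | add t₁ t₂ h₁ h₂ => rw [map_add, h₁, h₂, map_add, map_add, map_add]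
  rw [ptAct_apply, claim, hc, TensorProduct.rid_tmul, one_smul]

/-- A point of the group evaluated on the orbit map of `x` is `x` moved by that point. -/
theorem apply_orbitHom_eq_ptAct (x : R →ₐ[k] k) (g : Pt k A Ω) (f : R) :
    g.ofConv (GLin.orbitHom k A x f) = ptAct ((Algebra.ofId k Ω).comp x) g f := by
  have claim : ∀ t : R ⊗[k] A,
      g.ofConv (Algebra.TensorProduct.lid k A (Algebra.TensorProduct.map x (AlgHom.id k A) t)) =
        Algebra.TensorProduct.lift ((Algebra.ofId k Ω).comp x) g.ofConv
          (fun _ _ => Commute.all _ _) t := by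
    intro t
    induction t using TensorProduct.induction_on with
    | zero => simp
    | tmul r a =>
      rw [Algebra.TensorProduct.map_tmul, Algebra.TensorProduct.lid_tmul, map_smul,
        Algebra.TensorProduct.lift_tmul, Algebra.smul_def]
      rfl
    | add t₁ t₂ h₁ h₂ => rw [map_add, map_add, map_add, h₁, h₂, map_add]
  exact claim _

variable {L : Type u} [CommRing L] [Algebra k L]

theorem apply_orbitHomL_eq_ptAct (z : R →ₐ[k] L) (h' : L ⊗[k] A →ₐ[k] Ω) (f : R) :
    h' (orbitHomL A z f) =
      ptAct ((h'.comp Algebra.TensorProduct.includeLeft).comp z)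
        (toConv (h'.comp Algebra.TensorProduct.includeRight) : Pt k A Ω) f := by
  have claim : ∀ t : R ⊗[k] A,
      h' (Algebra.TensorProduct.map z (AlgHom.id k A) t) =
        Algebra.TensorProduct.lift ((h'.comp Algebra.TensorProduct.includeLeft).comp z)
          (h'.comp Algebra.TensorProduct.includeRight) (fun _ _ => Commute.all _ _) t := by
    intro t
    induction t using TensorProduct.induction_on with
    | zero => simp
    | tmul r a =>
      rw [Algebra.TensorProduct.map_tmul, Algebra.TensorProduct.lift_tmul]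
      simp only [AlgHom.comp_apply, Algebra.TensorProduct.includeLeft_apply,
        Algebra.TensorProduct.includeRight_apply, AlgHom.id_apply]
      rw [← map_mul, Algebra.TensorProduct.tmul_mul_tmul, mul_one, one_mul]
    | add t₁ t₂ h₁ h₂ => rw [map_add, map_add, h₁, h₂, map_add]
  exact claim _

/-- If the orbit of `x` and the orbit of the `L`-valued point `z` share a point over a field,
then `z` is (after extending scalars) a translate of `x`. -/
theorem exists_point_of_common (x : R →ₐ[k] k) (z : R →ₐ[k] L) (g : A →ₐ[k] Ω)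
    (h' : L ⊗[k] A →ₐ[k] Ω)
    (hcomm : g.comp (GLin.orbitHom k A x) = h'.comp (orbitHomL A z)) :
    ∃ u : A →ₐ[k] Ω, u.comp (GLin.orbitHom k A x) =
      (h'.comp Algebra.TensorProduct.includeLeft).comp z := by
  set h : Pt k A Ω := toConv (h'.comp Algebra.TensorProduct.includeRight) with hh
  set G : Pt k A Ω := toConv g with hG
  have e1 : ptAct ((Algebra.ofId k Ω).comp x) G =
      ptAct ((h'.comp Algebra.TensorProduct.includeLeft).comp z) h := by
    ext f
    rw [← apply_orbitHom_eq_ptAct, ← apply_orbitHomL_eq_ptAct]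
    exact AlgHom.congr_fun hcomm f
  refine ⟨(G * h⁻¹).ofConv, ?_⟩
  ext f
  rw [AlgHom.comp_apply, apply_orbitHom_eq_ptAct, ← ptAct_mul, e1, ptAct_mul, mul_inv_cancel,
    ptAct_one]

end PtAct

section Main

variable {k : Type u} [Field k] {A : Type u} [CommRing A] [HopfAlgebra k A]
variable {R : Type u} [CommRing R] [Algebra k R] [HopfRep.Comod k A R] [GLin.IsCoactAlg k A R]

/-- **Closedness of unipotent orbits.**  For a unipotent affine group `Spec A` over a field `k`
acting on an affine `k`-scheme `Spec R`, the orbit of every rational point is closed. -/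
theorem isClosedOrbit_of_isUnipotent (hU : HopfRep.IsUnipotent k A) (x : R →ₐ[k] k) :
    GLin.IsClosedOrbit k A x := by
  set φ : R →ₐ[k] A := GLin.orbitHom k A x with hφ
  have hclos := PrimeSpectrum.closure_range_comap (f := φ.toRingHom)
  change IsClosed (Set.range (PrimeSpectrum.comap φ.toRingHom))
  suffices hsub : PrimeSpectrum.zeroLocus (RingHom.ker φ.toRingHom : Set R) ⊆
      Set.range (PrimeSpectrum.comap φ.toRingHom) by
    have : Set.range (PrimeSpectrum.comap φ.toRingHom) =
        PrimeSpectrum.zeroLocus (RingHom.ker φ.toRingHom : Set R) :=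
      Set.Subset.antisymm (hclos ▸ subset_closure) hsub
    rw [this]
    exact PrimeSpectrum.isClosed_zeroLocus _
  intro p hp
  have hp' : RingHom.ker φ ≤ p.asIdeal := hp
  let z : R →ₐ[k] p.asIdeal.ResidueField := IsScalarTower.toAlgHom k R p.asIdeal.ResidueField
  have hzker : ∀ f : R, z f = 0 ↔ f ∈ p.asIdeal := fun f =>
    Ideal.algebraMap_residueField_eq_zero
  have hz : RingHom.ker φ ≤ RingHom.ker z := fun f hf => (hzker f).mpr (hp' hf)
  have hker := ker_orbitHomL_eq hU x z hz
  have hne : RingHom.ker φ ≠ ⊤ := by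
    intro h
    have h1 : (1 : R) ∈ RingHom.ker φ := h ▸ Submodule.mem_top
    rw [RingHom.mem_ker, map_one] at h1
    have h2 := congrArg (Coalgebra.counit (R := k) (A := A)) h1
    rw [Bialgebra.counit_one, map_zero] at h2
    exact one_ne_zero h2
  obtain ⟨Ω, _, _, g, h', hcomm⟩ := exists_common_field φ (orbitHomL A z) hker.symm hne
  obtain ⟨u, hu⟩ := exists_point_of_common x z g h' hcomm
  refine ⟨⟨RingHom.ker u, RingHom.ker_isPrime u⟩, ?_⟩
  apply PrimeSpectrum.ext
  ext f
  change φ f ∈ RingHom.ker u ↔ f ∈ p.asIdeal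
  rw [RingHom.mem_ker, ← hzker]
  have h3 : u (φ f) = (h'.comp Algebra.TensorProduct.includeLeft) (z f) :=
    AlgHom.congr_fun hu f
  rw [h3]
  exact map_eq_zero_iff _ (RingHom.injective
    ((h'.comp Algebra.TensorProduct.includeLeft : p.asIdeal.ResidueField →ₐ[k] Ω) :
      p.asIdeal.ResidueField →+* Ω))

end Main

end Groth.Agent.Lib.Helper59.UnipOrbit
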