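import Groth.Agent.Lib.Helper59.InertiaConj
import Groth.Agent.Lib.Helper59.UnipOrbit
import Mathlib.AlgebraicGeometry.Morphisms.Flat
import Mathlib.AlgebraicGeometry.PullbackCarrier

/-! # Extending the base field of a test scheme, and a common algebraically closed field -/

set_option autoImplicit false
universe u
open CategoryTheory MonoidalCategory CartesianMonoidalCategory MonObj AlgebraicGeometry Limits
open CoactBr

namespace Groth.Agent.Lib.Helper59.InertiaCover

variable {R : Type u} [CommRing R]

/-- Two fields over `R` with the same kernel embed into a common algebraically closed field. -/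
theorem exists_common_algClosed {K₁ K₂ : Type u} [Field K₁] [Algebra R K₁] [Field K₂] [Algebra R K₂]
    (hq : RingHom.ker (algebraMap R K₁) = RingHom.ker (algebraMap R K₂)) :
    ∃ (Ω : Type u) (_ : Field Ω) (_ : IsAlgClosed Ω) (_ : Algebra R Ω),
      Nonempty (K₁ →ₐ[R] Ω) ∧ Nonempty (K₂ →ₐ[R] Ω) := by
  have hne : RingHom.ker (Algebra.ofId R K₁) ≠ ⊤ := by
    intro h
    have h1 : (1 : R) ∈ RingHom.ker (Algebra.ofId R K₁) := h ▸ Submodule.mem_top
    rw [RingHom.mem_ker, map_one] at h1
    exact one_ne_zero h1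
  obtain ⟨Ω, _, _, g₁, g₂, -⟩ := Groth.Agent.Lib.Helper59.UnipOrbit.exists_common_field
    (k := R) (Algebra.ofId R K₁) (Algebra.ofId R K₂) hq hne
  refine ⟨AlgebraicClosure Ω, inferInstance, inferInstance, inferInstance, ⟨?_⟩, ⟨?_⟩⟩
  · exact (IsScalarTower.toAlgHom R Ω (AlgebraicClosure Ω)).comp g₁
  · exact (IsScalarTower.toAlgHom R Ω (AlgebraicClosure Ω)).comp g₂

/-- A test scheme over `Spec K` is covered (by an epimorphism) by one over `Spec Ω`, for a field
extension `Ω` of `K`. -/
theorem exists_cover {K Ω : Type u} [Field K] [Field Ω] [Algebra R K] [Algebra R Ω]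
    (j : K →ₐ[R] Ω) {T : Over (Spec (CommRingCat.of R))} (h : T ⟶ sp R K) :
    ∃ (T' : Over (Spec (CommRingCat.of R))) (π : T' ⟶ T) (h' : T' ⟶ sp R Ω),
      Epi π ∧ π ≫ h = h' ≫ pt j := by
  let f : (sp R Ω).left ⟶ (sp R K).left := (pt j).left
  have hflat : Flat f := by
    show Flat (Spec.map (CommRingCat.ofHom j.toRingHom))
    rw [Flat.SpecMap_iff]
    algebraize [j.toRingHom]
    show Module.Flat K Ω
    infer_instance
  have hsurj : Surjective f := by
    show Surjective (Spec.map (CommRingCat.ofHom j.toRingHom))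
    rw [surjective_iff]
    intro y
    obtain ⟨x⟩ : Nonempty (Spec (CommRingCat.of Ω)) := inferInstance
    exact ⟨x, Subsingleton.elim _ _⟩
  let T' : Over (Spec (CommRingCat.of R)) := Over.mk (pullback.fst h.left f ≫ T.hom)
  let π : T' ⟶ T := Over.homMk (pullback.fst h.left f) rfl
  have hw : pullback.snd h.left f ≫ (sp R Ω).hom = T'.hom := by
    have h1 : f ≫ (sp R K).hom = (sp R Ω).hom := Over.w (pt j)
    have h2 : h.left ≫ (sp R K).hom = T.hom := Over.w h
    show _ = pullback.fst h.left f ≫ T.hom
    rw [← h1, ← h2, ← Category.assoc, ← Category.assoc]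
    exact congrArg (· ≫ (sp R K).hom) pullback.condition.symm
  let h' : T' ⟶ sp R Ω := Over.homMk (pullback.snd h.left f) hw
  refine ⟨T', π, h', ?_, ?_⟩
  · have : Epi (pullback.fst h.left f) := Flat.epi_of_flat_of_surjective _
    exact (Over.forget _).epi_of_epi_map this
  · apply Over.OverMorphism.ext
    show pullback.fst h.left f ≫ h.left = pullback.snd h.left f ≫ (pt j).left
    exact pullback.condition

end Groth.Agent.Lib.Helper59.InertiaCover
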