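import Groth.Agent.Lib.Helper59.InertiaCover

/-! # Free actions and trivial inertia -/

set_option autoImplicit false
universe u
open TensorProduct

namespace Groth.Agent.Lib.Helper59.InertiaFree

section Core

variable (R A B : Type u) [CommRing R] [CommRing A] [HopfAlgebra R A] [CommRing B] [Algebra R B]
  [HopfRep.Comod R A B] [GLin.IsCoactAlg R A B]

/-- The ideal of the stabilizer subscheme of `X × G`. -/
def stabIdeal : Ideal (B ⊗[R] A) :=
  Ideal.span (Set.range fun b : B => GLin.coactAlgHom R A B b - b ⊗ₜ[R] (1 : A))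

/-- The elements of `B ⊗ A` cutting out the unit section. -/
def augElt (a : A) : B ⊗[R] A :=
  (1 : B) ⊗ₜ[R] a - algebraMap R (B ⊗[R] A) (Coalgebra.counit (R := R) a)

variable {R A B}

/-- A pair (point, group element fixing it) kills the stabilizer ideal. -/
theorem stabIdeal_le_ker {C : Type u} [CommRing C] [Algebra R C] (φζ : B →ₐ[R] C) (φg : A →ₐ[R] C)
    (hfix : (Algebra.TensorProduct.lift φζ φg fun _ _ => .all _ _).comp (GLin.coactAlgHom R A B) = φζ) :
    stabIdeal R A B ≤ RingHom.ker (Algebra.TensorProduct.lift φζ φg fun _ _ => .all _ _) := by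
  unfold stabIdeal
  rw [Ideal.span_le]
  rintro _ ⟨b, rfl⟩
  have h1 := AlgHom.congr_fun hfix b
  rw [AlgHom.comp_apply] at h1
  rw [SetLike.mem_coe, RingHom.mem_ker, map_sub, h1, Algebra.TensorProduct.lift_tmul, map_one,
    mul_one, sub_self]

theorem eq_counit_of_fix {C : Type u} [CommRing C] [Algebra R C] (φζ : B →ₐ[R] C) (φg : A →ₐ[R] C)
    (hfix : (Algebra.TensorProduct.lift φζ φg fun _ _ => .all _ _).comp (GLin.coactAlgHom R A B) = φζ)
    (hJ : ∀ a : A, augElt R A B a ∈ stabIdeal R A B) :
    φg = (Algebra.ofId R C).comp (Bialgebra.counitAlgHom R A) := by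
  apply AlgHom.ext
  intro a
  have h1 := stabIdeal_le_ker φζ φg hfix (hJ a)
  rw [RingHom.mem_ker] at h1
  unfold augElt at h1
  rw [map_sub, Algebra.TensorProduct.lift_tmul, map_one, one_mul, AlgHom.commutes, sub_eq_zero] at h1
  rw [h1]
  rfl

variable (R A B)

/-- The unit section `B ⊗ A → B`. -/
noncomputable def unitSec : B ⊗[R] A →ₐ[R] B :=
  Algebra.TensorProduct.lift (AlgHom.id R B) ((Algebra.ofId R B).comp (Bialgebra.counitAlgHom R A))
    fun _ _ => .all _ _

theorem unitSec_eq (t : B ⊗[R] A) :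
    unitSec R A B t = TensorProduct.rid R B ((Coalgebra.counit (R := R) (A := A)).lTensor B t) := by
  induction t using TensorProduct.induction_on with
  | zero => simp
  | tmul b a =>
    unfold unitSec
    rw [Algebra.TensorProduct.lift_tmul]
    simp [Algebra.ofId_apply, Algebra.algebraMap_eq_smul_one]
  | add y z hy hz => simp only [map_add, hy, hz]

theorem unitSec_coact (b : B) : unitSec R A B (GLin.coactAlgHom R A B b) = b := by
  rw [unitSec_eq]
  have h := CoactBr.comod_counit_apply (k := R) (A := A) b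
  have e : (GLin.coactAlgHom R A B b) = HopfRep.Comod.coact (k := R) (A := A) b := rfl
  rw [e, h]
  simp

theorem stabIdeal_le_ker_unitSec : stabIdeal R A B ≤ RingHom.ker (unitSec R A B) := by
  unfold stabIdeal
  rw [Ideal.span_le]
  rintro _ ⟨b, rfl⟩
  rw [SetLike.mem_coe, RingHom.mem_ker, map_sub, unitSec_coact]
  unfold unitSec
  rw [Algebra.TensorProduct.lift_tmul, map_one, mul_one, AlgHom.id_apply, sub_self]

end Core

/-- A submodule of a finite module which generates modulo every maximal ideal is everything. -/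
theorem eq_top_of_forall_maximal_sup_smul {B M : Type*} [CommRing B] [AddCommGroup M] [Module B M]
    [Module.Finite B M] (P : Submodule B M)
    (h : ∀ m : Ideal B, m.IsMaximal → P ⊔ m • (⊤ : Submodule B M) = ⊤) : P = ⊤ := by
  by_contra hP
  have hAnn : Module.annihilator B (M ⧸ P) ≠ ⊤ := by
    intro htop
    apply hP
    rw [← Submodule.Quotient.subsingleton_iff]
    refine ⟨fun q q' => ?_⟩
    have h1 : (1 : B) ∈ Module.annihilator B (M ⧸ P) := htop ▸ Submodule.mem_top
    rw [Module.mem_annihilator] at h1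
    rw [← one_smul B q, ← one_smul B q', h1 q, h1 q']
  obtain ⟨m, hm, hle⟩ := Ideal.exists_le_maximal _ hAnn
  have hm' := h m hm
  have hQ : (⊤ : Submodule B (M ⧸ P)) ≤ m • (⊤ : Submodule B (M ⧸ P)) := by
    intro q _
    obtain ⟨x, rfl⟩ := Submodule.mkQ_surjective P q
    have hx : x ∈ P ⊔ m • (⊤ : Submodule B M) := by rw [hm']; exact Submodule.mem_top
    obtain ⟨p, hp, t, ht, rfl⟩ := Submodule.mem_sup.mp hx
    have hp0 : P.mkQ p = 0 := (Submodule.Quotient.mk_eq_zero P).mpr hp
    rw [map_add, hp0, zero_add]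
    have h2 : P.mkQ t ∈ Submodule.map P.mkQ (m • (⊤ : Submodule B M)) := Submodule.mem_map_of_mem ht
    rw [Submodule.map_smul''] at h2
    exact Submodule.smul_mono (le_refl m) le_top h2
  obtain ⟨r, hr1, hr2⟩ := Submodule.exists_sub_one_mem_and_smul_eq_zero_of_fg_of_le_smul m
    (⊤ : Submodule B (M ⧸ P)) (Module.finite_def.mp inferInstance) hQ
  have hr : r ∈ m := hle ((Module.mem_annihilator).mpr fun q => hr2 q Submodule.mem_top)
  apply hm.ne_top
  rw [Ideal.eq_top_iff_one]
  have : (1 : B) = r - (r - 1) := by ring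
  rw [this]
  exact m.sub_mem hr hr1


section Nak

variable (R A B : Type u) [CommRing R] [CommRing A] [HopfAlgebra R A] [CommRing B] [Algebra R B]
  [HopfRep.Comod R A B] [GLin.IsCoactAlg R A B]

/-- If the unit section is cut out by the stabilizer modulo every maximal ideal of `B`, it is cut
out by the stabilizer. -/
theorem augElt_mem_of_forall_maximal [Module.Finite R A]
    (h : ∀ m : Ideal B, m.IsMaximal → ∀ a : A,
      augElt R A B a ∈ stabIdeal R A B ⊔ Ideal.map (algebraMap B (B ⊗[R] A)) m) :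
    ∀ a : A, augElt R A B a ∈ stabIdeal R A B := by
  let P : Submodule B (B ⊗[R] A) :=
    (stabIdeal R A B).restrictScalars B ⊔ LinearMap.range (Algebra.linearMap B (B ⊗[R] A))
  have hscal : ∀ r : R, algebraMap R (B ⊗[R] A) r ∈ P := by
    intro r
    apply Submodule.mem_sup_right
    refine ⟨algebraMap R B r, ?_⟩
    rw [Algebra.linearMap_apply, Algebra.TensorProduct.algebraMap_apply,
      Algebra.TensorProduct.algebraMap_apply, Algebra.algebraMap_self_apply]
  have hP : P = ⊤ := by
    apply eq_top_of_forall_maximal_sup_smul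
    intro m hm
    rw [eq_top_iff]
    intro t _
    have h1 : ∀ a : A, (1 : B) ⊗ₜ[R] a ∈ P ⊔ m • (⊤ : Submodule B (B ⊗[R] A)) := by
      intro a
      have e : (1 : B) ⊗ₜ[R] a = augElt R A B a +
          algebraMap R (B ⊗[R] A) (Coalgebra.counit (R := R) a) := by
        unfold augElt; ring
      rw [e]
      apply Submodule.add_mem
      · obtain ⟨j, hj, t, ht, hjt⟩ := Submodule.mem_sup.mp (h m hm a)
        rw [← hjt]
        apply Submodule.add_mem
        · exact Submodule.mem_sup_left (Submodule.mem_sup_left hj)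
        · apply Submodule.mem_sup_right
          rw [Ideal.smul_top_eq_map]
          exact ht
      · exact Submodule.mem_sup_left (hscal _)
    induction t using TensorProduct.induction_on with
    | zero => exact Submodule.zero_mem _
    | tmul b a =>
      have e : b ⊗ₜ[R] a = b • ((1 : B) ⊗ₜ[R] a) := by
        rw [TensorProduct.smul_tmul', smul_eq_mul, mul_one]
      rw [e]
      exact Submodule.smul_mem _ _ (h1 a)
    | add y z hy hz => exact Submodule.add_mem _ (hy Submodule.mem_top) (hz Submodule.mem_top)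
  intro a
  have h1 : (1 : B) ⊗ₜ[R] a ∈ P := hP ▸ Submodule.mem_top
  obtain ⟨j, hj, t, ⟨b₀, rfl⟩, hjt⟩ := Submodule.mem_sup.mp h1
  have hj0 : unitSec R A B j = 0 := stabIdeal_le_ker_unitSec R A B hj
  have h2 := congrArg (unitSec R A B) hjt
  rw [map_add, hj0, zero_add, Algebra.linearMap_apply, Algebra.TensorProduct.algebraMap_apply,
    Algebra.algebraMap_self_apply] at h2
  unfold unitSec at h2
  rw [Algebra.TensorProduct.lift_tmul, Algebra.TensorProduct.lift_tmul, map_one, map_one, mul_one,
    one_mul, AlgHom.id_apply] at h2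
  have h3 : augElt R A B a = j := by
    unfold augElt
    rw [← hjt, Algebra.linearMap_apply, Algebra.TensorProduct.algebraMap_apply,
      Algebra.TensorProduct.algebraMap_apply, Algebra.algebraMap_self_apply, h2]
    simp [Algebra.ofId_apply]
  rw [h3]
  exact hj

end Nak


open CategoryTheory MonoidalCategory CartesianMonoidalCategory MonObj AlgebraicGeometry Limits Opposite
open CoactBr

open Groth.Agent.Lib.Helper59

section Transport

variable (R A B : Type u) [CommRing R] [CommRing A] [HopfAlgebra R A]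
  [Module.Finite R A] [Module.Projective R A]
  [CommRing B] [Algebra R B] [HopfRep.Comod R A B] [GLin.IsCoactAlg R A B]

/-- Triviality of inertia is transported between points over the same point of the quotient. -/
theorem inertia_transport {K₁ K₂ : Type u}
    (hinv : ∀ c ∈ GLin.invariants R A B, ∃ c₀ : R, algebraMap R B c₀ = c)
    [Field K₁] [Algebra R K₁] [Field K₂] [Algebra R K₂]
    (hq : RingHom.ker (algebraMap R K₁) = RingHom.ker (algebraMap R K₂))
    (x₁ : B →ₐ[R] K₁) (x₂ : B →ₐ[R] K₂)
    (h₁ : ∀ (T : Over (Spec (CommRingCat.of R))) (h : T ⟶ CoactBr.sp R K₁) (g : T ⟶ CoactBr.sp R A),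
      lift g (h ≫ CoactBr.pt x₁) ≫ (CoactBr.action R A B).act = h ≫ CoactBr.pt x₁ → g = 1)
    (T : Over (Spec (CommRingCat.of R))) (h : T ⟶ CoactBr.sp R K₂) (g : T ⟶ CoactBr.sp R A)
    (hg : lift g (h ≫ CoactBr.pt x₂) ≫ (CoactBr.action R A B).act = h ≫ CoactBr.pt x₂) :
    g = 1 := by
  obtain ⟨Ω, _, _, _, ⟨j₁⟩, ⟨j₂⟩⟩ := InertiaCover.exists_common_algClosed (R := R) hq
  obtain ⟨gam, hgam⟩ := FiberTrans.exists_trans_eq_of_projective R A B hinv
    (j₁.comp x₁) (j₂.comp x₂)
  obtain ⟨T', π, h', hepi, hcomm⟩ := InertiaCover.exists_cover j₂ h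
  have e2 : π ≫ h ≫ CoactBr.pt x₂ =
      lift ((h' ≫ CoactBr.pt j₁) ≫ CoactBr.pt x₁) (h' ≫ CoactBr.pt gam) ≫ CoactBr.ract R A B := by
    rw [← Category.assoc, hcomm, Category.assoc, ← CoactBr.pt_comp, hgam,
      InertiaConj.pt_trans, comp_lift_assoc, CoactBr.pt_comp, Category.assoc]
  have hg' : lift (π ≫ g) (π ≫ h ≫ CoactBr.pt x₂) ≫ (CoactBr.action R A B).act =
      π ≫ h ≫ CoactBr.pt x₂ := by
    rw [← comp_lift_assoc, hg]
  rw [e2] at hg'
  set G : T' ⟶ CoactBr.sp R A := h' ≫ CoactBr.pt gam with hG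
  have ek : G⁻¹ * (G * (π ≫ g) * G⁻¹) * G = π ≫ g := by group
  rw [← ek] at hg'
  have h3 := (InertiaConj.fix_conj_iff
    ((h' ≫ CoactBr.pt j₁) ≫ CoactBr.pt x₁) G (G * (π ≫ g) * G⁻¹)).mpr hg'
  have h4 := h₁ T' (h' ≫ CoactBr.pt j₁) (G * (π ≫ g) * G⁻¹) h3
  have h5 : π ≫ g = 1 := by
    have : π ≫ g = G⁻¹ * (G * (π ≫ g) * G⁻¹) * G := ek.symm
    rw [this, h4]
    group
  rw [← MonObj.comp_one π] at h5
  exact (cancel_epi π).mp h5

end Transport

section RightForm

variable {R A B : Type u} [CommRing R] [CommRing A] [HopfAlgebra R A]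
  [CommRing B] [Algebra R B] [HopfRep.Comod R A B] [GLin.IsCoactAlg R A B]

/-- Fixing a point for the left action, in terms of the right action. -/
theorem fix_iff_right {T : Over (Spec (CommRingCat.of R))} (ζ : T ⟶ sp R B) (g : T ⟶ sp R A) :
    lift g ζ ≫ (action R A B).act = ζ ↔ lift ζ g ≫ ract R A B = ζ := by
  rw [lift_action_act g ζ]
  constructor
  · intro h
    have h2 := congrArg (fun Y => lift Y g ≫ ract R A B) h
    simp only [lift_ract_ract ζ g⁻¹ g, inv_mul_cancel, lift_one_ract] at h2
    exact h2.symm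
  · intro h
    have h2 := congrArg (fun Y => lift Y g⁻¹ ≫ ract R A B) h
    simp only [lift_ract_ract ζ g g⁻¹, mul_inv_cancel, lift_one_ract] at h2
    exact h2.symm

end RightForm

section Aff

variable {R : Type u} [CommRing R]

/-- Every scheme over `Spec R` has an affinization through which all its points of affine
`R`-schemes factor uniquely. -/
theorem exists_affinization (T : Over (Spec (CommRingCat.of R))) :
    ∃ (C : Type u) (_ : CommRing C) (_ : Algebra R C) (a : T ⟶ sp R C),
      ∀ (D : Type u) [CommRing D] [Algebra R D],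
        Function.Bijective (fun φ : D →ₐ[R] C => a ≫ pt φ) := by
  let adj := algΓAlgSpecAdjunction (CommRingCat.of R)
  let X : CommAlgCat R := ((algΓ (CommRingCat.of R)).obj T).unop
  refine ⟨X, inferInstance, inferInstance, adj.unit.app T, ?_⟩
  intro D _ _
  let e1 : (D →ₐ[R] X) ≃ ((algΓ (CommRingCat.of R)).obj T ⟶ op (CommAlgCat.of R D)) :=
    { toFun := fun φ => (CommAlgCat.ofHom φ).op
      invFun := fun f => f.unop.hom
      left_inv := fun φ => rfl
      right_inv := fun f => rfl }
  have h : (fun φ : D →ₐ[R] X => adj.unit.app T ≫ pt φ) =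
      (adj.homEquiv T (op (CommAlgCat.of R D))) ∘ e1 := by
    funext φ
    rw [Function.comp_apply, Adjunction.homEquiv_unit]
    rfl
  have hb := (adj.homEquiv T (op (CommAlgCat.of R D))).bijective.comp e1.bijective
  rw [← h] at hb
  exact hb

end Aff

section Scheme

variable {R A B : Type u} [CommRing R] [CommRing A] [HopfAlgebra R A] [CommRing B] [Algebra R B]
  [HopfRep.Comod R A B] [GLin.IsCoactAlg R A B]

/-- If the stabilizer cuts out the unit section, the action is free. -/
theorem free_of_augElt_mem (hJ : ∀ a : A, augElt R A B a ∈ stabIdeal R A B)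
    (T : Over (Spec (CommRingCat.of R))) (ζ : T ⟶ sp R B) (g : T ⟶ sp R A)
    (hfix : lift ζ g ≫ ract R A B = ζ) : g = 1 := by
  obtain ⟨C, _, _, a, hbij⟩ := exists_affinization T
  obtain ⟨φζ, hζ⟩ := (hbij B).2 ζ
  obtain ⟨φg, hg⟩ := (hbij A).2 g
  change a ≫ pt φζ = ζ at hζ
  change a ≫ pt φg = g at hg
  subst hζ hg
  have h1 : lift (a ≫ pt φζ) (a ≫ pt φg) ≫ ract R A B =
      a ≫ pt ((Algebra.TensorProduct.lift φζ φg fun _ _ => .all _ _).comp (GLin.coactAlgHom R A B)) := by
    rw [← comp_lift_assoc, lift_pt_ract]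
  have h2 := (hbij B).1 (h1.symm.trans hfix)
  rw [eq_counit_of_fix φζ φg h2 hJ, ← one_eq_pt, MonObj.comp_one]

/-- Trivial inertia at the point `B → B ⧸ m` puts the unit section in the stabilizer modulo `m`. -/
theorem augElt_mem_of_inertia (m : Ideal B)
    (hm : ∀ (T : Over (Spec (CommRingCat.of R))) (h : T ⟶ sp R (B ⧸ m)) (g : T ⟶ sp R A),
      lift (h ≫ pt (Ideal.Quotient.mkₐ R m)) g ≫ ract R A B = h ≫ pt (Ideal.Quotient.mkₐ R m) → g = 1)
    (a : A) :
    augElt R A B a ∈ stabIdeal R A B ⊔ Ideal.map (algebraMap B (B ⊗[R] A)) m := by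
  set I : Ideal (B ⊗[R] A) := stabIdeal R A B ⊔ Ideal.map (algebraMap B (B ⊗[R] A)) m with hI
  let q : B ⊗[R] A →ₐ[R] (B ⊗[R] A) ⧸ I := Ideal.Quotient.mkₐ R I
  have hq0 : ∀ t ∈ I, q t = 0 := fun t ht => Ideal.Quotient.eq_zero_iff_mem.mpr ht
  let iot : B ⧸ m →ₐ[R] (B ⊗[R] A) ⧸ I :=
    Ideal.Quotient.liftₐ m (q.comp Algebra.TensorProduct.includeLeft) (by
      intro b hb
      rw [AlgHom.comp_apply]
      apply hq0
      apply Ideal.mem_sup_right
      exact Ideal.mem_map_of_mem _ hb)
  let φg : A →ₐ[R] (B ⊗[R] A) ⧸ I := q.comp Algebra.TensorProduct.includeRight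
  have hiot : iot.comp (Ideal.Quotient.mkₐ R m) = q.comp Algebra.TensorProduct.includeLeft := by
    apply AlgHom.ext
    intro b
    rfl
  have hlift : Algebra.TensorProduct.lift (q.comp Algebra.TensorProduct.includeLeft) φg
      (fun _ _ => .all _ _) = q := by
    apply Algebra.TensorProduct.ext'
    intro b a'
    rw [Algebra.TensorProduct.lift_tmul]
    show q (b ⊗ₜ 1) * q (1 ⊗ₜ a') = _
    rw [← map_mul, Algebra.TensorProduct.tmul_mul_tmul, _root_.mul_one, _root_.one_mul]
  have hfix : lift (pt iot ≫ pt (Ideal.Quotient.mkₐ R m)) (pt φg) ≫ ract R A B =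
      pt iot ≫ pt (Ideal.Quotient.mkₐ R m) := by
    rw [← pt_comp, lift_pt_ract, hiot, hlift]
    congr 1
    apply AlgHom.ext
    intro b
    rw [AlgHom.comp_apply, AlgHom.comp_apply, ← sub_eq_zero, ← map_sub]
    apply hq0
    apply Ideal.mem_sup_left
    exact Ideal.subset_span ⟨b, rfl⟩
  have h1 := hm _ (pt iot) (pt φg) hfix
  rw [one_eq_pt] at h1
  have h2 := AlgHom.congr_fun (pt_injective h1) a
  have h3 : q (augElt R A B a) = 0 := by
    unfold augElt
    rw [map_sub, sub_eq_zero, AlgHom.commutes]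
    exact h2
  exact Ideal.Quotient.eq_zero_iff_mem.mp h3

end Scheme

section Integral

open Groth.Agent.Lib.Helper86.HopfInv

variable (k : Type u) [CommRing k] (A : Type u) [CommRing A] [HopfAlgebra k A]
  [Module.Free k A] [Module.Finite k A]
  (B : Type u) [CommRing B] [Algebra k B] [HopfRep.Comod k A B] [GLin.IsCoactAlg k A B]

/-- If every invariant is a scalar, `B` is integral over the base. -/
theorem isIntegral_of_hinv
    (hinv : ∀ c ∈ GLin.invariants k A B, ∃ c₀ : k, algebraMap k B c₀ = c) :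
    Algebra.IsIntegral k B := by
  refine ⟨fun b => ?_⟩
  have hl : chi k A B (GLin.coactAlgHom k A B b) ∈ Polynomial.lifts (algebraMap k B) := by
    rw [Polynomial.lifts_iff_coeff_lifts]
    intro n
    obtain ⟨c₀, hc₀⟩ := hinv _ (coeff_chi_mem_invariants k A B b n)
    exact ⟨c₀, hc₀⟩
  obtain ⟨q, hq, -, hqm⟩ := Polynomial.lifts_and_natDegree_eq_and_monic hl (chi_monic k A B _)
  refine ⟨q, hqm, ?_⟩
  rw [← Polynomial.eval_map, hq]
  have := aeval_chi_coact k A B b
  rwa [Polynomial.aeval_def, Polynomial.eval₂_eq_eval_map, Algebra.algebraMap_self,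
    Polynomial.map_id] at this

end Integral

section Final

variable (R A B K : Type u) [CommRing R] [IsLocalRing R] [CommRing A] [HopfAlgebra R A]
  [Module.Flat R A] [Module.Finite R A]
  [CommRing B] [Algebra R B] [HopfRep.Comod R A B] [GLin.IsCoactAlg R A B]

/-- Over a local base with quotient the base, trivial inertia at a point over the closed point
makes the action free. -/
theorem free_of_inertia_of_isLocalRing
    (hC : Function.Bijective (algebraMap R (GLin.invariants R A B)))
    [Field K] [Algebra R K] (hK : RingHom.ker (algebraMap R K) = IsLocalRing.maximalIdeal R)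
    (x : B →ₐ[R] K)
    (hx : ∀ (T : Over (Spec (CommRingCat.of R))) (h : T ⟶ CoactBr.sp R K) (g : T ⟶ CoactBr.sp R A),
        lift g (h ≫ CoactBr.pt x) ≫ (CoactBr.action R A B).act = h ≫ CoactBr.pt x → g = 1)
    (T : Over (Spec (CommRingCat.of R))) (ζ : T ⟶ CoactBr.sp R B) (g : T ⟶ CoactBr.sp R A)
    (hfix : lift g ζ ≫ (CoactBr.action R A B).act = ζ) : g = 1 := by
  have hfree : Module.Free R A := Module.free_of_flat_of_isLocalRing
  have hproj : Module.Projective R A := inferInstance
  have hinv := InertiaConj.hinv_of_bijective hC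
  have hint : Algebra.IsIntegral R B := isIntegral_of_hinv R A B hinv
  have hJ : ∀ a : A, augElt R A B a ∈ stabIdeal R A B := by
    apply augElt_mem_of_forall_maximal R A B
    intro m hm a
    apply augElt_mem_of_inertia m _ a
    intro T' h' g' hfix'
    let _ : Field (B ⧸ m) := Ideal.Quotient.field m
    have hq : RingHom.ker (algebraMap R K) = RingHom.ker (algebraMap R (B ⧸ m)) := by
      rw [hK]
      have h1 : RingHom.ker (algebraMap R (B ⧸ m)) = Ideal.comap (algebraMap R B) m := by
        ext r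
        rw [RingHom.mem_ker, Ideal.mem_comap, ← Ideal.Quotient.eq_zero_iff_mem]
        rfl
      rw [h1]
      have : (Ideal.comap (algebraMap R B) m).IsMaximal :=
        Ideal.isMaximal_comap_of_isIntegral_of_isMaximal m
      exact (IsLocalRing.eq_maximalIdeal this).symm
    exact inertia_transport R A B hinv hq x (Ideal.Quotient.mkₐ R m) hx T' h' g'
      ((fix_iff_right _ g').mpr hfix')
  exact free_of_augElt_mem hJ T ζ g ((fix_iff_right ζ g).mp hfix)

end Final

end Groth.Agent.Lib.Helper59.InertiaFree
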