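import Groth.Agent.Lib.Helper59.InertiaFree
import Groth.Agent.Lib.Helper59.FiberTrans2
import Mathlib.RingTheory.Localization.BaseChange
import Mathlib.RingTheory.Localization.Integral
import Mathlib.RingTheory.LocalRing.Module
import Mathlib.RingTheory.Ideal.GoingUp

/-! # Openness of the locus of trivial inertia (finite locally free group actions) -/

set_option autoImplicit false
universe u
open TensorProduct

namespace Groth.Agent.Lib.Helper59.InertiaOpen

open Groth.Agent.Lib.Helper59

section Transport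

open CategoryTheory MonoidalCategory CartesianMonoidalCategory MonObj AlgebraicGeometry Limits Opposite
open CoactBr

variable (R A B : Type u) [CommRing R] [CommRing A] [HopfAlgebra R A]
  [Module.Finite R A] [Module.Projective R A]
  [CommRing B] [Algebra R B] [HopfRep.Comod R A B] [GLin.IsCoactAlg R A B]

/-- Triviality of inertia is transported between points with the same image in the quotient. -/
theorem inertia_transport' {K₁ K₂ : Type u}
    [Field K₁] [Algebra R K₁] [Field K₂] [Algebra R K₂]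
    (x₁ : B →ₐ[R] K₁) (x₂ : B →ₐ[R] K₂)
    (hq : RingHom.ker (x₁.comp (GLin.invariants R A B).val) =
      RingHom.ker (x₂.comp (GLin.invariants R A B).val))
    (h₁ : ∀ (T : Over (Spec (CommRingCat.of R))) (h : T ⟶ CoactBr.sp R K₁) (g : T ⟶ CoactBr.sp R A),
      lift g (h ≫ CoactBr.pt x₁) ≫ (CoactBr.action R A B).act = h ≫ CoactBr.pt x₁ → g = 1)
    (T : Over (Spec (CommRingCat.of R))) (h : T ⟶ CoactBr.sp R K₂) (g : T ⟶ CoactBr.sp R A)
    (hg : lift g (h ≫ CoactBr.pt x₂) ≫ (CoactBr.action R A B).act = h ≫ CoactBr.pt x₂) :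
    g = 1 := by
  have hne : RingHom.ker (x₁.comp (GLin.invariants R A B).val) ≠ ⊤ := by
    intro htop
    have h1 : (1 : GLin.invariants R A B) ∈ RingHom.ker (x₁.comp (GLin.invariants R A B).val) :=
      htop ▸ Submodule.mem_top
    rw [RingHom.mem_ker, map_one] at h1
    exact one_ne_zero h1
  obtain ⟨Ω₀, _, _, g₁, g₂, hcomm⟩ := UnipOrbit.exists_common_field
    (k := R) (x₁.comp (GLin.invariants R A B).val) (x₂.comp (GLin.invariants R A B).val) hq hne
  let Ω := AlgebraicClosure Ω₀
  let j₁ : K₁ →ₐ[R] Ω := (IsScalarTower.toAlgHom R Ω₀ Ω).comp g₁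
  let j₂ : K₂ →ₐ[R] Ω := (IsScalarTower.toAlgHom R Ω₀ Ω).comp g₂
  have hagree : ∀ c ∈ GLin.invariants R A B, (j₁.comp x₁) c = (j₂.comp x₂) c := by
    intro c hc
    have h2 := AlgHom.congr_fun hcomm ⟨c, hc⟩
    show (IsScalarTower.toAlgHom R Ω₀ Ω) (g₁ (x₁ c)) = (IsScalarTower.toAlgHom R Ω₀ Ω) (g₂ (x₂ c))
    exact congrArg _ h2
  obtain ⟨gam, hgam⟩ := FiberTrans.exists_trans_eq_of_projective' R A B
    (j₁.comp x₁) (j₂.comp x₂) hagree
  obtain ⟨T', π, h', hepi, hcomm'⟩ := InertiaCover.exists_cover j₂ h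
  have e2 : π ≫ h ≫ CoactBr.pt x₂ =
      lift ((h' ≫ CoactBr.pt j₁) ≫ CoactBr.pt x₁) (h' ≫ CoactBr.pt gam) ≫ CoactBr.ract R A B := by
    rw [← Category.assoc, hcomm', Category.assoc, ← CoactBr.pt_comp, hgam,
      InertiaConj.pt_trans, comp_lift_assoc, CoactBr.pt_comp, Category.assoc]
  have hg' : lift (π ≫ g) (π ≫ h ≫ CoactBr.pt x₂) ≫ (CoactBr.action R A B).act =
      π ≫ h ≫ CoactBr.pt x₂ := by
    rw [← comp_lift_assoc, hg]
  rw [e2] at hg'
  set G : T' ⟶ CoactBr.sp R A := h' ≫ CoactBr.pt gam with hG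
  have ek : G⁻¹ * (G * (π ≫ g) * G⁻¹) * G = π ≫ g := by group
  rw [← ek] at hg'
  have h3 := (InertiaConj.fix_conj_iff
    ((h' ≫ CoactBr.pt j₁) ≫ CoactBr.pt x₁) G (G * (π ≫ g) * G⁻¹)).mpr hg'
  have h4 := h₁ T' (h' ≫ CoactBr.pt j₁) (G * (π ≫ g) * G⁻¹) h3
  have h5 : π ≫ g = 1 := by
    have : π ≫ g = G⁻¹ * (G * (π ≫ g) * G⁻¹) * G := ek.symm
    rw [this, h4]
    group
  rw [← MonObj.comp_one π] at h5
  exact (cancel_epi π).mp h5

end Transport

section Integral

open Groth.Agent.Lib.Helper86.HopfInv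

/-- An element integral over a subring all of whose elements come from `T` is integral over `T`. -/
theorem isIntegral_of_forall_mem_range {T S : Type*} [CommRing T] [CommRing S] [Algebra T S]
    (S₀ : Subring S) (h : ∀ z ∈ S₀, z ∈ Set.range (algebraMap T S)) (x : S)
    (hx : ∃ p : Polynomial S, p.Monic ∧ (∀ n, p.coeff n ∈ S₀) ∧ p.eval x = 0) : IsIntegral T x := by
  obtain ⟨p, hpm, hpc, hp0⟩ := hx
  have hl : p ∈ Polynomial.lifts (algebraMap T S) := by
    rw [Polynomial.lifts_iff_coeff_lifts]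
    intro n
    exact h _ (hpc n)
  obtain ⟨q, hq, -, hqm⟩ := Polynomial.lifts_and_natDegree_eq_and_monic hl hpm
  refine ⟨q, hqm, ?_⟩
  rw [← Polynomial.eval_map, hq]
  exact hp0

end Integral

section Local

open Groth.Agent.Lib.Helper86.HopfInv

variable (R A B : Type u) [CommRing R] [CommRing A] [HopfAlgebra R A] [Module.Finite R A]
  [Module.Projective R A]
  [CommRing B] [Algebra R B] [HopfRep.Comod R A B] [GLin.IsCoactAlg R A B]

attribute [local instance] Algebra.TensorProduct.rightAlgebra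

variable (𝔪 : Ideal R) [𝔪.IsPrime]

local notation "C" => GLin.invariants R A B
local notation "R'" => Localization.AtPrime 𝔪
local notation "B'" => (Localization.AtPrime 𝔪) ⊗[R] B
local notation "C'" => (Localization.AtPrime 𝔪) ⊗[R] (GLin.invariants R A B)

/-- Locally on the base, every element of `B` has a multiple integral over the invariants. -/
theorem exists_smul_isIntegral (b : B) :
    ∃ t ∈ 𝔪.primeCompl, IsIntegral (GLin.invariants R A B) (t • b) := by
  have _ : Module.Flat R R' := IsLocalization.flat R' 𝔪.primeCompl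
  have _ : Module.Free R' (R' ⊗[R] A) := Module.free_of_flat_of_isLocalRing
  let _ : HopfRep.Comod R' (R' ⊗[R] A) B' := CoactBr.Comod.baseChange R R' A B
  have _ : GLin.IsCoactAlg R' (R' ⊗[R] A) B' := CoactBr.isCoactAlg_baseChange R R' A B
  have hint := isIntegral_invariants R' (R' ⊗[R] A) B' ((1 : R') ⊗ₜ[R] b)
  let φ : C' →ₐ[R'] B' := Algebra.TensorProduct.map (AlgHom.id R' R') (GLin.invariants R A B).val
  let _ : Algebra C' B' := φ.toRingHom.toAlgebra
  have _ : IsScalarTower C B B' := inferInstance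
  have _ : IsScalarTower C C' B' := IsScalarTower.of_algebraMap_eq fun c => by
    show (1 : R') ⊗ₜ[R] (c : B) = φ ((1 : R') ⊗ₜ[R] c)
    rw [Algebra.TensorProduct.map_tmul]
    rfl
  have hA : IsIntegral C' ((1 : R') ⊗ₜ[R] b : B') := by
    obtain ⟨p, hpm, hp0⟩ := hint
    refine isIntegral_of_forall_mem_range (GLin.invariants R' (R' ⊗[R] A) B').toSubring ?_ _
      ⟨p.map (algebraMap _ B'), hpm.map _, ?_, ?_⟩
    · intro z hz
      have h1 : z ∈ @HopfRep.fixedPts R' (R' ⊗[R] A) _ _ _ B' _ _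
          (CoactBr.Comod.baseChange R R' A B) := hz
      rw [Groth.Agent.Lib.Helper84.ComodBC.fixedPts_baseChange, Submodule.baseChange_eq_span] at h1
      have key : ∀ z ∈ Submodule.span R' (⇑(TensorProduct.mk R R' B 1) ''
          (HopfRep.fixedPts R A B : Set B)), z ∈ Set.range (algebraMap C' B') := by
        intro z hz
        induction hz using Submodule.span_induction with
        | mem x hx =>
          obtain ⟨m, hm, rfl⟩ := hx
          exact ⟨(1 : R') ⊗ₜ[R] (⟨m, hm⟩ : C), by
            show φ ((1 : R') ⊗ₜ[R] (⟨m, hm⟩ : C)) = _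
            rw [Algebra.TensorProduct.map_tmul]
            rfl⟩
        | zero => exact ⟨0, map_zero _⟩
        | add x y _ _ hx hy =>
          obtain ⟨a, ha⟩ := hx
          obtain ⟨c, hc⟩ := hy
          exact ⟨a + c, by rw [map_add, ha, hc]⟩
        | smul r x _ hx =>
          obtain ⟨a, ha⟩ := hx
          refine ⟨r • a, ?_⟩
          show φ (r • a) = r • x
          rw [map_smul]
          exact congrArg _ ha
      exact key z h1
    · intro n
      rw [Polynomial.coeff_map]
      exact (p.coeff n).2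
    · rw [Polynomial.eval_map]
      exact hp0
  obtain ⟨⟨_, t, ht, rfl⟩, hB⟩ := IsIntegral.exists_multiple_integral_of_isLocalization
    (Algebra.algebraMapSubmonoid C 𝔪.primeCompl) ((1 : R') ⊗ₜ[R] b : B') hA
  have e1 : (⟨algebraMap R C t, t, ht, rfl⟩ : Algebra.algebraMapSubmonoid C 𝔪.primeCompl) •
      ((1 : R') ⊗ₜ[R] b : B') = algebraMap B B' (t • b) := by
    rw [Submonoid.smul_def, Algebra.smul_def]
    show algebraMap B B' (algebraMap C B (algebraMap R C t)) * _ = _
    rw [← IsScalarTower.algebraMap_apply R C B, map_mul,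
      Algebra.TensorProduct.right_algebraMap_apply b]
  rw [e1] at hB
  have hloc : IsLocalization (Algebra.algebraMapSubmonoid B (Algebra.algebraMapSubmonoid C 𝔪.primeCompl)) B' := by
    have h2 : Algebra.algebraMapSubmonoid B (Algebra.algebraMapSubmonoid C 𝔪.primeCompl) =
        Algebra.algebraMapSubmonoid B 𝔪.primeCompl := by
      unfold Algebra.algebraMapSubmonoid
      ext z
      constructor
      · rintro ⟨_, ⟨r, hr, rfl⟩, rfl⟩
        exact ⟨r, hr, rfl⟩
      · rintro ⟨r, hr, rfl⟩
        exact ⟨_, ⟨r, hr, rfl⟩, rfl⟩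
    rw [h2]
    infer_instance
  obtain ⟨_, ⟨t₂, ht₂, rfl⟩, hC⟩ := IsLocalization.exists_isIntegral_smul_of_isIntegral_map
    (R := C) (S := B) (Sₘ := B') (Algebra.algebraMapSubmonoid C 𝔪.primeCompl) (x := t • b) hB
  refine ⟨t₂ * t, 𝔪.primeCompl.mul_mem ht₂ ht, ?_⟩
  have e2 : (t₂ * t) • b = (algebraMap R C t₂) • (t • b) := by
    rw [mul_smul, algebraMap_smul]
  rw [e2]
  exact hC

/-- `B` is integral over the invariants of a finite locally free group scheme. -/
theorem isIntegral_invariants_of_projective :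
    Algebra.IsIntegral (GLin.invariants R A B) B := by
  refine ⟨fun b => ?_⟩
  let I : Ideal R :=
    { carrier := {r | IsIntegral (GLin.invariants R A B) (r • b)}
      zero_mem' := by
        show IsIntegral (GLin.invariants R A B) ((0 : R) • b)
        rw [zero_smul]
        exact isIntegral_zero
      add_mem' := by
        intro r s hr hs
        show IsIntegral (GLin.invariants R A B) ((r + s) • b)
        rw [add_smul]
        exact IsIntegral.add hr hs
      smul_mem' := by
        intro c r hr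
        show IsIntegral (GLin.invariants R A B) ((c • r) • b)
        rw [smul_eq_mul, mul_smul]
        exact IsIntegral.smul c hr }
  have hI : I = ⊤ := by
    by_contra hne
    obtain ⟨m, hm, hle⟩ := Ideal.exists_le_maximal I hne
    have _ : m.IsPrime := hm.isPrime
    obtain ⟨t, ht, hint⟩ := exists_smul_isIntegral R A B m b
    exact ht (hle hint)
  have h1 : (1 : R) ∈ I := hI ▸ Submodule.mem_top
  have h2 : IsIntegral (GLin.invariants R A B) ((1 : R) • b) := h1
  rwa [one_smul] at h2

end Local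

open Groth.Agent.Lib.Helper59.InertiaFree

section AtPoint

variable (R A B : Type u) [CommRing R] [CommRing A] [HopfAlgebra R A] [CommRing B] [Algebra R B]
  [HopfRep.Comod R A B] [GLin.IsCoactAlg R A B]

/-- The ideal of the stabilizer of the point `x`, in `κ ⊗ A`. -/
def stabIdealAt {κ : Type u} [CommRing κ] [Algebra R κ] (x : B →ₐ[R] κ) : Ideal (κ ⊗[R] A) :=
  Ideal.span (Set.range fun b : B =>
    Algebra.TensorProduct.map x (AlgHom.id R A) (GLin.coactAlgHom R A B b) - x b ⊗ₜ[R] (1 : A))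

/-- The elements of `κ ⊗ A` cutting out the unit. -/
def augEltAt (κ : Type u) [CommRing κ] [Algebra R κ] (a : A) : κ ⊗[R] A :=
  (1 : κ) ⊗ₜ[R] a - algebraMap R (κ ⊗[R] A) (Coalgebra.counit (R := R) a)

end AtPoint

section AtPointScheme

open CategoryTheory MonoidalCategory CartesianMonoidalCategory MonObj AlgebraicGeometry Limits Opposite
open CoactBr

variable {R A B : Type u} [CommRing R] [CommRing A] [HopfAlgebra R A] [CommRing B] [Algebra R B]
  [HopfRep.Comod R A B] [GLin.IsCoactAlg R A B]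

/-- Trivial inertia at `x` puts the unit section in the stabilizer ideal at `x`. -/
theorem augEltAt_mem_of_inertia {κ : Type u} [CommRing κ] [Algebra R κ] (x : B →ₐ[R] κ)
    (hx : ∀ (T : Over (Spec (CommRingCat.of R))) (h : T ⟶ sp R κ) (g : T ⟶ sp R A),
      lift (h ≫ pt x) g ≫ ract R A B = h ≫ pt x → g = 1)
    (a : A) : augEltAt R A κ a ∈ stabIdealAt R A B x := by
  set I : Ideal (κ ⊗[R] A) := stabIdealAt R A B x with hI
  let q : κ ⊗[R] A →ₐ[R] (κ ⊗[R] A) ⧸ I := Ideal.Quotient.mkₐ R I
  have hq0 : ∀ t ∈ I, q t = 0 := fun t ht => Ideal.Quotient.eq_zero_iff_mem.mpr ht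
  let iot : κ →ₐ[R] (κ ⊗[R] A) ⧸ I := q.comp Algebra.TensorProduct.includeLeft
  let φg : A →ₐ[R] (κ ⊗[R] A) ⧸ I := q.comp Algebra.TensorProduct.includeRight
  have hlift : Algebra.TensorProduct.lift (iot.comp x) φg (fun _ _ => .all _ _) =
      q.comp (Algebra.TensorProduct.map x (AlgHom.id R A)) := by
    apply Algebra.TensorProduct.ext'
    intro b a'
    rw [Algebra.TensorProduct.lift_tmul]
    show q (x b ⊗ₜ 1) * q (1 ⊗ₜ a') = q (Algebra.TensorProduct.map x (AlgHom.id R A) (b ⊗ₜ a'))
    rw [← map_mul, Algebra.TensorProduct.tmul_mul_tmul, _root_.mul_one, _root_.one_mul,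
      Algebra.TensorProduct.map_tmul, AlgHom.id_apply]
  have hfix : lift (pt iot ≫ pt x) (pt φg) ≫ ract R A B = pt iot ≫ pt x := by
    rw [← pt_comp, lift_pt_ract, hlift]
    congr 1
    apply AlgHom.ext
    intro b
    rw [AlgHom.comp_apply, AlgHom.comp_apply, AlgHom.comp_apply, ← sub_eq_zero]
    show q _ - q (x b ⊗ₜ 1) = 0
    rw [← map_sub]
    apply hq0
    exact Ideal.subset_span ⟨b, rfl⟩
  have h1 := hx _ (pt iot) (pt φg) hfix
  rw [one_eq_pt] at h1
  have h2 := AlgHom.congr_fun (pt_injective h1) a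
  have h3 : q (augEltAt R A κ a) = 0 := by
    unfold augEltAt
    rw [map_sub, sub_eq_zero, AlgHom.commutes]
    exact h2
  exact Ideal.Quotient.eq_zero_iff_mem.mp h3

end AtPointScheme


section Theta

variable {R A B : Type u} [CommRing R] [CommRing A] [HopfAlgebra R A] [CommRing B] [Algebra R B]
  [HopfRep.Comod R A B] [GLin.IsCoactAlg R A B]
  (κ : Type u) [CommRing κ] [Algebra R κ] [Algebra B κ] [IsScalarTower R B κ]
  (P : Submodule B (B ⊗[R] A))

/-- The comparison map `κ ⊗_R A → κ ⊗_B ((B ⊗_R A) / P)`. -/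
noncomputable def theta : κ ⊗[R] A →ₗ[R] κ ⊗[B] ((B ⊗[R] A) ⧸ P) :=
  TensorProduct.lift (LinearMap.mk₂ R (fun (c : κ) (a : A) => c ⊗ₜ[B] P.mkQ ((1 : B) ⊗ₜ[R] a))
    (fun c₁ c₂ a => by rw [TensorProduct.add_tmul])
    (fun r c a => by rw [TensorProduct.smul_tmul'])
    (fun c a₁ a₂ => by rw [TensorProduct.tmul_add, map_add, TensorProduct.tmul_add])
    (fun r c a => by rw [TensorProduct.tmul_smul, LinearMap.map_smul_of_tower, TensorProduct.tmul_smul]))

theorem theta_tmul (c : κ) (a : A) :
    theta κ P (c ⊗ₜ[R] a) = c ⊗ₜ[B] P.mkQ ((1 : B) ⊗ₜ[R] a) := rfl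

theorem theta_mul_map (c : κ) (a : A) (w : B ⊗[R] A) :
    theta κ P ((c ⊗ₜ[R] a) * Algebra.TensorProduct.map (IsScalarTower.toAlgHom R B κ) (AlgHom.id R A) w) =
      c ⊗ₜ[B] P.mkQ (((1 : B) ⊗ₜ[R] a) * w) := by
  induction w using TensorProduct.induction_on with
  | zero => simp
  | tmul b a' =>
    rw [Algebra.TensorProduct.map_tmul, Algebra.TensorProduct.tmul_mul_tmul,
      Algebra.TensorProduct.tmul_mul_tmul, theta_tmul, one_mul, AlgHom.id_apply,
      IsScalarTower.coe_toAlgHom']
    have e1 : (b ⊗ₜ[R] (a * a') : B ⊗[R] A) = b • ((1 : B) ⊗ₜ[R] (a * a')) := by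
      rw [TensorProduct.smul_tmul', smul_eq_mul, mul_one]
    rw [e1, map_smul, TensorProduct.tmul_smul, TensorProduct.smul_tmul', Algebra.smul_def,
      mul_comm]
  | add y z hy hz => rw [map_add, mul_add, map_add, hy, hz, mul_add, map_add, TensorProduct.tmul_add]

/-- If inertia is trivial at the point `B → κ`, the quotient `(B ⊗ A)/P` vanishes at that point. -/
theorem subsingleton_tensor_quotient (hJ : ∀ j ∈ stabIdeal R A B, j ∈ P)
    (h1 : (1 : B ⊗[R] A) ∈ P)
    (haug : ∀ a : A, augEltAt R A κ a ∈ stabIdealAt R A B (IsScalarTower.toAlgHom R B κ)) :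
    Subsingleton (κ ⊗[B] ((B ⊗[R] A) ⧸ P)) := by
  let N : Ideal (κ ⊗[R] A) :=
    { carrier := {z | ∀ t, theta κ P (t * z) = 0}
      zero_mem' := by
        intro t
        rw [mul_zero, map_zero]
      add_mem' := by
        intro y z hy hz t
        rw [mul_add, map_add, hy t, hz t, add_zero]
      smul_mem' := by
        intro s z hz t
        rw [smul_eq_mul, ← mul_assoc]
        exact hz (t * s) }
  have hgen : ∀ b : B, (Algebra.TensorProduct.map (IsScalarTower.toAlgHom R B κ) (AlgHom.id R A)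
      (GLin.coactAlgHom R A B b) - (IsScalarTower.toAlgHom R B κ) b ⊗ₜ[R] (1 : A)) ∈ N := by
    intro b t
    induction t using TensorProduct.induction_on with
    | zero => rw [zero_mul, map_zero]
    | tmul c a =>
      have e : (IsScalarTower.toAlgHom R B κ) b ⊗ₜ[R] (1 : A) =
          Algebra.TensorProduct.map (IsScalarTower.toAlgHom R B κ) (AlgHom.id R A) (b ⊗ₜ[R] 1) := by
        rw [Algebra.TensorProduct.map_tmul, map_one]
      rw [e, mul_sub, map_sub, theta_mul_map, theta_mul_map, ← TensorProduct.tmul_sub, ← map_sub,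
        ← mul_sub]
      have hj : ((1 : B) ⊗ₜ[R] a) * (GLin.coactAlgHom R A B b - b ⊗ₜ[R] 1) ∈ P :=
        hJ _ (Ideal.mul_mem_left _ _ (Ideal.subset_span ⟨b, rfl⟩))
      have h0 : P.mkQ (((1 : B) ⊗ₜ[R] a) * (GLin.coactAlgHom R A B b - b ⊗ₜ[R] 1)) = 0 :=
        (Submodule.Quotient.mk_eq_zero P).mpr hj
      rw [h0, TensorProduct.tmul_zero]
    | add y z hy hz => rw [add_mul, map_add, hy, hz, add_zero]
  have hle : stabIdealAt R A B (IsScalarTower.toAlgHom R B κ) ≤ N :=
    Ideal.span_le.mpr (by rintro _ ⟨b, rfl⟩; exact hgen b)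
  have h0 : ∀ a : A, (1 : κ) ⊗ₜ[B] P.mkQ ((1 : B) ⊗ₜ[R] a) = 0 := by
    intro a
    have h2 := hle (haug a) 1
    rw [one_mul] at h2
    unfold augEltAt at h2
    rw [map_sub, sub_eq_zero, theta_tmul] at h2
    rw [h2, Algebra.algebraMap_eq_smul_one, map_smul, Algebra.TensorProduct.one_def, theta_tmul]
    have h3 : P.mkQ ((1 : B) ⊗ₜ[R] (1 : A)) = 0 := by
      rw [← Algebra.TensorProduct.one_def]
      exact (Submodule.Quotient.mk_eq_zero P).mpr h1
    rw [h3, TensorProduct.tmul_zero, smul_zero]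
  have hz : ∀ z : κ ⊗[B] ((B ⊗[R] A) ⧸ P), z = 0 := by
    intro z
    induction z using TensorProduct.induction_on with
    | zero => rfl
    | tmul c q =>
      obtain ⟨m, rfl⟩ := P.mkQ_surjective q
      induction m using TensorProduct.induction_on with
      | zero => rw [map_zero, TensorProduct.tmul_zero]
      | tmul b a =>
        have e1 : (b ⊗ₜ[R] a : B ⊗[R] A) = b • ((1 : B) ⊗ₜ[R] a) := by
          rw [TensorProduct.smul_tmul', smul_eq_mul, mul_one]
        rw [e1, map_smul, ← TensorProduct.smul_tmul]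
        have e2 : (b • c) ⊗ₜ[B] P.mkQ ((1 : B) ⊗ₜ[R] a) =
            (b • c) • ((1 : κ) ⊗ₜ[B] P.mkQ ((1 : B) ⊗ₜ[R] a)) := by
          rw [TensorProduct.smul_tmul', smul_eq_mul, mul_one]
        rw [e2, h0, smul_zero]
      | add y z hy hz => rw [map_add, TensorProduct.tmul_add, hy, hz, add_zero]
    | add y z hy hz => rw [hy, hz, add_zero]
  exact ⟨fun z z' => by rw [hz z, hz z']⟩

end Theta


section Spread

open CategoryTheory MonoidalCategory CartesianMonoidalCategory MonObj AlgebraicGeometry Limits Opposite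
open CoactBr

variable (R A B K : Type u) [CommRing R] [CommRing A] [HopfAlgebra R A]
  [Module.Finite R A] [Module.Projective R A]
  [CommRing B] [Algebra R B] [HopfRep.Comod R A B] [GLin.IsCoactAlg R A B]
  [Field K] [Algebra R K]

/-- If inertia is trivial at the point `x`, some invariant function not vanishing at `x` kills the
obstruction to freeness. -/
theorem exists_smul_augElt_mem (x : B →ₐ[R] K)
    (hx : ∀ (T : Over (Spec (CommRingCat.of R))) (h : T ⟶ CoactBr.sp R K) (g : T ⟶ CoactBr.sp R A),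
        lift g (h ≫ CoactBr.pt x) ≫ (CoactBr.action R A B).act = h ≫ CoactBr.pt x → g = 1) :
    ∃ f ∈ GLin.invariants R A B, x f ≠ 0 ∧
      ∀ a : A, f • augElt R A B a ∈ stabIdeal R A B := by
  have hint : Algebra.IsIntegral (GLin.invariants R A B) B :=
    isIntegral_invariants_of_projective R A B
  let P : Submodule B (B ⊗[R] A) :=
    (stabIdeal R A B).restrictScalars B ⊔ LinearMap.range (Algebra.linearMap B (B ⊗[R] A))
  have hJP : ∀ j ∈ stabIdeal R A B, j ∈ P := fun j hj => Submodule.mem_sup_left hj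
  have h1P : (1 : B ⊗[R] A) ∈ P := Submodule.mem_sup_right ⟨1, by rw [Algebra.linearMap_apply, map_one]⟩
  -- Claim 1
  have claim1 : ∃ f ∈ GLin.invariants R A B, x f ≠ 0 ∧
      f ∈ Module.annihilator B ((B ⊗[R] A) ⧸ P) := by
    by_contra hcon
    push Not at hcon
    let 𝔮 : Ideal (GLin.invariants R A B) := RingHom.ker (x.comp (GLin.invariants R A B).val)
    have h𝔮 : 𝔮.IsPrime := RingHom.ker_isPrime _
    have hle : (Module.annihilator B ((B ⊗[R] A) ⧸ P)).comap
        (algebraMap (GLin.invariants R A B) B) ≤ 𝔮 := by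
      intro c hc
      rw [RingHom.mem_ker]
      by_contra hne
      exact hcon c c.2 hne hc
    obtain ⟨𝔓, h𝔓le, h𝔓prime, h𝔓comap⟩ :=
      Ideal.exists_ideal_over_prime_of_isIntegral 𝔮 _ hle
    have hsupp : (⟨𝔓, h𝔓prime⟩ : PrimeSpectrum B) ∈ Module.support B ((B ⊗[R] A) ⧸ P) :=
      Module.mem_support_iff_of_finite.mpr h𝔓le
    rw [Module.mem_support_iff_nontrivial_residueField_tensorProduct] at hsupp
    have hq : RingHom.ker (x.comp (GLin.invariants R A B).val) =
        RingHom.ker ((IsScalarTower.toAlgHom R B 𝔓.ResidueField).comp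
          (GLin.invariants R A B).val) := by
      show 𝔮 = _
      rw [← h𝔓comap]
      ext c
      rw [Ideal.mem_comap, RingHom.mem_ker]
      show _ ↔ algebraMap B 𝔓.ResidueField (c : B) = 0
      rw [← RingHom.mem_ker, Ideal.ker_algebraMap_residueField]
      rfl
    have hx' := inertia_transport' R A B x (IsScalarTower.toAlgHom R B 𝔓.ResidueField) hq hx
    have haug : ∀ a : A, augEltAt R A 𝔓.ResidueField a ∈
        stabIdealAt R A B (IsScalarTower.toAlgHom R B 𝔓.ResidueField) := by
      intro a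
      apply augEltAt_mem_of_inertia
      intro T h g hfix
      exact hx' T h g ((fix_iff_right _ g).mpr hfix)
    have hsub := subsingleton_tensor_quotient 𝔓.ResidueField P hJP h1P haug
    exact not_subsingleton _ hsub
  obtain ⟨f, hfC, hfx, hfann⟩ := claim1
  refine ⟨f, hfC, hfx, ?_⟩
  intro a
  rw [Module.mem_annihilator] at hfann
  have h2 := hfann (P.mkQ ((1 : B) ⊗ₜ[R] a))
  rw [← map_smul, Submodule.mkQ_apply, Submodule.Quotient.mk_eq_zero] at h2
  obtain ⟨j, hj, t, ⟨b₀, rfl⟩, hjt⟩ := Submodule.mem_sup.mp h2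
  have hj0 : unitSec R A B j = 0 := stabIdeal_le_ker_unitSec R A B hj
  have h3 := congrArg (unitSec R A B) hjt
  rw [map_add, hj0, zero_add, Algebra.linearMap_apply, Algebra.TensorProduct.algebraMap_apply,
    Algebra.algebraMap_self_apply, TensorProduct.smul_tmul', smul_eq_mul, _root_.mul_one] at h3
  unfold unitSec at h3
  rw [Algebra.TensorProduct.lift_tmul, Algebra.TensorProduct.lift_tmul, map_one, _root_.mul_one,
    AlgHom.id_apply, AlgHom.id_apply] at h3
  have h4 : f • augElt R A B a = j := by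
    unfold augElt
    rw [smul_sub, ← hjt, Algebra.linearMap_apply, Algebra.TensorProduct.algebraMap_apply,
      Algebra.TensorProduct.algebraMap_apply, Algebra.algebraMap_self_apply, h3]
    simp [Algebra.ofId_apply, Algebra.smul_def]
  rw [h4]
  exact hj

end Spread

end Groth.Agent.Lib.Helper59.InertiaOpen
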