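import Groth.Agent.Lib.Helper59.InertiaOpen
import Mathlib.AlgebraicGeometry.Morphisms.FinitePresentation

/-! # Spreading out trivial inertia to a principal open of the quotient -/

set_option autoImplicit false
universe u
open TensorProduct

namespace Groth.Agent.Lib.Helper59.InertiaOpen

open Groth.Agent.Lib.Helper59 Groth.Agent.Lib.Helper59.InertiaFree

section FreeOver

open CategoryTheory MonoidalCategory CartesianMonoidalCategory MonObj AlgebraicGeometry Limits Opposite
open CoactBr

variable {R A B : Type u} [CommRing R] [CommRing A] [HopfAlgebra R A]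
  [CommRing B] [Algebra R B] [HopfRep.Comod R A B] [GLin.IsCoactAlg R A B]

/-- Freeness over the principal open `D(f)` of the quotient. -/
theorem free_of_smul_augElt_mem (f : GLin.invariants R A B)
    (hJ : ∀ a : A, (f : B) • augElt R A B a ∈ stabIdeal R A B)
    (T : Over (Spec (CommRingCat.of R))) (ζ : T ⟶ sp R B)
    (t : T.left ⟶ Spec (CommRingCat.of (Localization.Away f)))
    (ht : t ≫ Spec.map (CommRingCat.ofHom (algebraMap (GLin.invariants R A B) (Localization.Away f))) =
      ζ.left ≫ Spec.map (CommRingCat.ofHom (GLin.invariants R A B).val.toRingHom))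
    (g : T ⟶ sp R A) (hfix : lift ζ g ≫ ract R A B = ζ) : g = 1 := by
  obtain ⟨D, _, _, a, hbij⟩ := exists_affinization T
  obtain ⟨φζ, hζ⟩ := (hbij B).2 ζ
  obtain ⟨φg, hg⟩ := (hbij A).2 g
  change a ≫ pt φζ = ζ at hζ
  change a ≫ pt φg = g at hg
  subst hζ hg
  -- the lift to `D(f)` as a morphism over `Spec R`
  have hw : t ≫ (sp R (Localization.Away f)).hom = T.hom := by
    have e1 : (sp R (Localization.Away f)).hom =
        Spec.map (CommRingCat.ofHom (algebraMap (GLin.invariants R A B) (Localization.Away f))) ≫
          Spec.map (CommRingCat.ofHom (algebraMap R (GLin.invariants R A B))) := by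
      rw [← Spec.map_comp, ← CommRingCat.ofHom_comp, ← IsScalarTower.algebraMap_eq]
      rfl
    have e2 : Spec.map (CommRingCat.ofHom (GLin.invariants R A B).val.toRingHom) ≫
        Spec.map (CommRingCat.ofHom (algebraMap R (GLin.invariants R A B))) = (sp R B).hom := by
      rw [← Spec.map_comp, ← CommRingCat.ofHom_comp]
      rfl
    calc t ≫ (sp R (Localization.Away f)).hom
        = (t ≫ Spec.map (CommRingCat.ofHom (algebraMap (GLin.invariants R A B) (Localization.Away f)))) ≫
            Spec.map (CommRingCat.ofHom (algebraMap R (GLin.invariants R A B))) := by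
          rw [e1, Category.assoc]
      _ = ((a ≫ pt φζ).left ≫ Spec.map (CommRingCat.ofHom (GLin.invariants R A B).val.toRingHom)) ≫
            Spec.map (CommRingCat.ofHom (algebraMap R (GLin.invariants R A B))) := by rw [ht]
      _ = (a ≫ pt φζ).left ≫ (Spec.map (CommRingCat.ofHom (GLin.invariants R A B).val.toRingHom) ≫
            Spec.map (CommRingCat.ofHom (algebraMap R (GLin.invariants R A B)))) := Category.assoc _ _ _
      _ = (a ≫ pt φζ).left ≫ (sp R B).hom := congrArg ((a ≫ pt φζ).left ≫ ·) e2
      _ = T.hom := Over.w (a ≫ pt φζ)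
  let t' : T ⟶ sp R (Localization.Away f) := Over.homMk t hw
  obtain ⟨ψ, hψ⟩ := (hbij (Localization.Away f)).2 t'
  change a ≫ pt ψ = t' at hψ
  have hcomp : a ≫ pt (ψ.comp (IsScalarTower.toAlgHom R (GLin.invariants R A B) (Localization.Away f))) =
      a ≫ pt (φζ.comp (GLin.invariants R A B).val) := by
    rw [pt_comp, pt_comp, ← Category.assoc, ← Category.assoc, hψ]
    apply Over.OverMorphism.ext
    exact ht
  have hψf : ψ (algebraMap _ _ f) = φζ (f : B) :=
    AlgHom.congr_fun ((hbij (GLin.invariants R A B)).1 hcomp) f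
  have hunit : IsUnit (φζ (f : B)) := by
    rw [← hψf]
    exact (IsLocalization.Away.algebraMap_isUnit f).map ψ
  have h1 : lift (a ≫ pt φζ) (a ≫ pt φg) ≫ ract R A B =
      a ≫ pt ((Algebra.TensorProduct.lift φζ φg fun _ _ => .all _ _).comp (GLin.coactAlgHom R A B)) := by
    rw [← comp_lift_assoc, lift_pt_ract]
  have h2 := (hbij B).1 (h1.symm.trans hfix)
  have hker := stabIdeal_le_ker φζ φg h2
  have hφg : φg = (Algebra.ofId R D).comp (Bialgebra.counitAlgHom R A) := by
    apply AlgHom.ext
    intro a'
    have h3 := hker (hJ a')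
    rw [RingHom.mem_ker, Algebra.smul_def, map_mul, Algebra.TensorProduct.algebraMap_apply,
      Algebra.algebraMap_self_apply, Algebra.TensorProduct.lift_tmul, map_one, _root_.mul_one] at h3
    have h4 := (hunit.mul_right_eq_zero).mp h3
    unfold augElt at h4
    rw [map_sub, Algebra.TensorProduct.lift_tmul, map_one, _root_.one_mul, AlgHom.commutes,
      sub_eq_zero] at h4
    rw [h4]
    rfl
  rw [hφg, ← one_eq_pt, MonObj.comp_one]

end FreeOver

section Forward

open CategoryTheory MonoidalCategory CartesianMonoidalCategory MonObj AlgebraicGeometry Limits Opposite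
open CoactBr

variable (R A B K : Type u) [CommRing R] [CommRing A] [HopfAlgebra R A]
  [Module.Finite R A] [Module.Projective R A]
  [CommRing B] [Algebra R B] [HopfRep.Comod R A B] [GLin.IsCoactAlg R A B]
  [Field K] [Algebra R K]

/-- Trivial inertia at `x` spreads out to freeness over a principal open neighbourhood of the image
of `x` in the quotient. -/
theorem exists_flat_lfp_free_of_inertia (x : B →ₐ[R] K)
    (hx : ∀ (T : Over (Spec (CommRingCat.of R))) (h : T ⟶ CoactBr.sp R K) (g : T ⟶ CoactBr.sp R A),
        lift g (h ≫ CoactBr.pt x) ≫ (CoactBr.action R A B).act = h ≫ CoactBr.pt x → g = 1) :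
    ∃ (Y' : Scheme.{u}) (c : Y' ⟶ Spec (CommRingCat.of (GLin.invariants R A B))),
        Flat c ∧ LocallyOfFinitePresentation c ∧
        (∃ y' : Y', c.base y' =
          (Spec.map (CommRingCat.ofHom (x.toRingHom.comp (GLin.invariants R A B).val.toRingHom))).base
            (IsLocalRing.closedPoint K)) ∧
        ∀ (T : Over (Spec (CommRingCat.of R))) (ζ : T ⟶ CoactBr.sp R B),
          (∃ t : T.left ⟶ Y', t ≫ c = ζ.left ≫ Spec.map (CommRingCat.ofHom (GLin.invariants R A B).val.toRingHom)) →
          ∀ g : T ⟶ CoactBr.sp R A, lift g ζ ≫ (CoactBr.action R A B).act = ζ → g = 1 := by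
  obtain ⟨f, hfC, hfx, hJ⟩ := exists_smul_augElt_mem R A B K x hx
  let fC : GLin.invariants R A B := ⟨f, hfC⟩
  refine ⟨Spec (CommRingCat.of (Localization.Away fC)),
    Spec.map (CommRingCat.ofHom (algebraMap (GLin.invariants R A B) (Localization.Away fC))),
    ?_, ?_, ?_, ?_⟩
  · rw [Flat.SpecMap_iff]
    show (algebraMap (GLin.invariants R A B) (Localization.Away fC)).Flat
    rw [RingHom.flat_algebraMap_iff]
    exact IsLocalization.flat _ (Submonoid.powers fC)
  · rw [HasRingHomProperty.Spec_iff (P := @LocallyOfFinitePresentation)]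
    show (algebraMap (GLin.invariants R A B) (Localization.Away fC)).FinitePresentation
    rw [RingHom.finitePresentation_algebraMap]
    exact IsLocalization.Away.finitePresentation fC
  · set y := (Spec.map (CommRingCat.ofHom (x.toRingHom.comp (GLin.invariants R A B).val.toRingHom))).base
      (IsLocalRing.closedPoint K) with hy
    have hmem : y ∈ Set.range (PrimeSpectrum.comap
        (algebraMap (GLin.invariants R A B) (Localization.Away fC))) := by
      rw [PrimeSpectrum.localization_away_comap_range (Localization.Away fC) fC]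
      show fC ∉ y.asIdeal
      intro hmem
      have h1 : (x.toRingHom.comp (GLin.invariants R A B).val.toRingHom) fC ∈
          IsLocalRing.maximalIdeal K := hmem
      rw [IsLocalRing.maximalIdeal_eq_bot, Ideal.mem_bot] at h1
      exact hfx h1
    obtain ⟨y', hy'⟩ := hmem
    exact ⟨y', hy'⟩
  · rintro T ζ ⟨t, ht⟩ g hfix
    exact free_of_smul_augElt_mem fC hJ T ζ t ht g ((fix_iff_right ζ g).mp hfix)

end Forward

end Groth.Agent.Lib.Helper59.InertiaOpen
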