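import Groth.Agent.Lib.Helper59.InertiaOpen2
import Mathlib.AlgebraicGeometry.ResidueField

/-! # Freeness over a neighbourhood of the image gives trivial inertia -/

set_option autoImplicit false
universe u
open TensorProduct

namespace Groth.Agent.Lib.Helper59.InertiaOpen

open Groth.Agent.Lib.Helper59 Groth.Agent.Lib.Helper59.InertiaFree

section Converse

open CategoryTheory MonoidalCategory CartesianMonoidalCategory MonObj AlgebraicGeometry Limits Opposite
open CoactBr

/-- The image of the point of the spectrum of a field. -/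
theorem asIdeal_specMap_closedPoint {S F : Type u} [CommRing S] [Field F] (φ : S →+* F) :
    ((Spec.map (CommRingCat.ofHom φ)).base (IsLocalRing.closedPoint F)).asIdeal = RingHom.ker φ := by
  ext s
  show φ s ∈ IsLocalRing.maximalIdeal F ↔ _
  rw [IsLocalRing.maximalIdeal_eq_bot, Ideal.mem_bot, RingHom.mem_ker]

variable (R A B K : Type u) [CommRing R] [CommRing A] [HopfAlgebra R A]
  [CommRing B] [Algebra R B] [HopfRep.Comod R A B] [GLin.IsCoactAlg R A B]
  [Field K] [Algebra R K]

/-- Freeness over a scheme over the quotient whose image contains the image of `x` gives trivial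
inertia at `x`. -/
theorem inertia_of_free_over (x : B →ₐ[R] K)
    (Y' : Scheme.{u}) (c : Y' ⟶ Spec (CommRingCat.of (GLin.invariants R A B)))
    (y' : Y') (hy' : c.base y' =
      (Spec.map (CommRingCat.ofHom (x.toRingHom.comp (GLin.invariants R A B).val.toRingHom))).base
        (IsLocalRing.closedPoint K))
    (hfree : ∀ (T : Over (Spec (CommRingCat.of R))) (ζ : T ⟶ CoactBr.sp R B),
      (∃ t : T.left ⟶ Y', t ≫ c = ζ.left ≫ Spec.map (CommRingCat.ofHom (GLin.invariants R A B).val.toRingHom)) →
      ∀ g : T ⟶ CoactBr.sp R A, lift g ζ ≫ (CoactBr.action R A B).act = ζ → g = 1)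
    (T : Over (Spec (CommRingCat.of R))) (h : T ⟶ CoactBr.sp R K) (g : T ⟶ CoactBr.sp R A)
    (hg : lift g (h ≫ CoactBr.pt x) ≫ (CoactBr.action R A B).act = h ≫ CoactBr.pt x) : g = 1 := by
  -- the residue field point of `Y'`
  let m : Spec (Y'.residueField y') ⟶ Spec (CommRingCat.of (GLin.invariants R A B)) :=
    Y'.fromSpecResidueField y' ≫ c
  let ψ : GLin.invariants R A B →+* Y'.residueField y' := (Spec.preimage m).hom
  have hψ : Spec.map (CommRingCat.ofHom ψ) = m := Spec.map_preimage m
  let ξ : GLin.invariants R A B →+* K := x.toRingHom.comp (GLin.invariants R A B).val.toRingHom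
  have hker : RingHom.ker ξ = RingHom.ker ψ := by
    rw [← asIdeal_specMap_closedPoint ξ, ← asIdeal_specMap_closedPoint ψ, hψ, ← hy']
    congr 1
    show c.base y' = c.base ((Y'.fromSpecResidueField y').base _)
    rw [Scheme.fromSpecResidueField_apply]
  let _ : Algebra (GLin.invariants R A B) K := ξ.toAlgebra
  let _ : Algebra (GLin.invariants R A B) (Y'.residueField y') := ψ.toAlgebra
  have hne : RingHom.ker (Algebra.ofId (GLin.invariants R A B) K) ≠ ⊤ := by
    intro htop
    have h1 : (1 : GLin.invariants R A B) ∈ RingHom.ker (Algebra.ofId (GLin.invariants R A B) K) :=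
      htop ▸ Submodule.mem_top
    rw [RingHom.mem_ker, map_one] at h1
    exact one_ne_zero h1
  obtain ⟨Ω, _, _, j₁, j₂, -⟩ := UnipOrbit.exists_common_field
    (k := GLin.invariants R A B) (Algebra.ofId (GLin.invariants R A B) K)
    (Algebra.ofId (GLin.invariants R A B) (Y'.residueField y')) hker hne
  let _ : Algebra R Ω :=
    ((algebraMap (GLin.invariants R A B) Ω).comp (algebraMap R (GLin.invariants R A B))).toAlgebra
  let j₁' : K →ₐ[R] Ω :=
    { j₁.toRingHom with
      commutes' := fun r => by
        have e : algebraMap R K r = algebraMap (GLin.invariants R A B) K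
            (algebraMap R (GLin.invariants R A B) r) := by
          show algebraMap R K r = x (algebraMap R B r)
          rw [x.commutes]
        show j₁ (algebraMap R K r) = _
        rw [e, j₁.commutes]
        rfl }
  obtain ⟨T', π, h', hepi, hcomm⟩ := InertiaCover.exists_cover j₁' h
  let t : T'.left ⟶ Y' :=
    h'.left ≫ Spec.map (CommRingCat.ofHom j₂.toRingHom) ≫ Y'.fromSpecResidueField y'
  have ht : t ≫ c = (π ≫ h ≫ pt x).left ≫
      Spec.map (CommRingCat.ofHom (GLin.invariants R A B).val.toRingHom) := by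
    have e1 : π ≫ h ≫ pt x = h' ≫ pt (j₁'.comp x) := by
      rw [← Category.assoc, hcomm, Category.assoc, ← pt_comp]
    rw [e1]
    show (h'.left ≫ Spec.map (CommRingCat.ofHom j₂.toRingHom) ≫ Y'.fromSpecResidueField y') ≫ c =
      (h'.left ≫ Spec.map (CommRingCat.ofHom (j₁'.comp x).toRingHom)) ≫
        Spec.map (CommRingCat.ofHom (GLin.invariants R A B).val.toRingHom)
    have eL : Spec.map (CommRingCat.ofHom j₂.toRingHom) ≫ m =
        Spec.map (CommRingCat.ofHom (j₂.toRingHom.comp ψ)) := by
      rw [← hψ, ← Spec.map_comp, ← CommRingCat.ofHom_comp]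
    have eR : Spec.map (CommRingCat.ofHom (j₁'.comp x).toRingHom) ≫
        Spec.map (CommRingCat.ofHom (GLin.invariants R A B).val.toRingHom) =
        Spec.map (CommRingCat.ofHom ((j₁'.comp x).toRingHom.comp
          (GLin.invariants R A B).val.toRingHom)) := by
      rw [← Spec.map_comp, ← CommRingCat.ofHom_comp]
    have eq : j₂.toRingHom.comp ψ =
        (j₁'.comp x).toRingHom.comp (GLin.invariants R A B).val.toRingHom := by
      ext c₀
      show j₂ (algebraMap _ _ c₀) = j₁ (algebraMap _ _ c₀)
      rw [j₂.commutes, j₁.commutes]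
    rw [Category.assoc, Category.assoc, Category.assoc]
    congr 1
    exact eL.trans ((congrArg (fun φ => Spec.map (CommRingCat.ofHom φ)) eq).trans eR.symm)
  have hg' : lift (π ≫ g) (π ≫ h ≫ pt x) ≫ (action R A B).act = π ≫ h ≫ pt x := by
    rw [← comp_lift_assoc, hg]
  have h5 := hfree T' (π ≫ h ≫ pt x) ⟨t, ht⟩ (π ≫ g) hg'
  rw [← MonObj.comp_one π] at h5
  exact (cancel_epi π).mp h5

end Converse

end Groth.Agent.Lib.Helper59.InertiaOpen
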