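import Groth.Agent.Lib.Helper59.DeformIdeal
import Mathlib.LinearAlgebra.TensorProduct.RightExactness

/-! # Infinitesimal automorphisms of a flat extension of modules -/

set_option autoImplicit false
universe u
open scoped TensorProduct

namespace Groth.Agent.Lib.Helper59.InfAut

open Groth.Agent.Lib.Helper59.DeformIdeal

variable {C' : Type u} [CommRing C'] (𝔪 J : Ideal C')
  {A' : Type u} [CommRing A'] [Algebra C' A'] {M' : Type u} [AddCommGroup M'] [Module A' M']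
  [Module C' M'] [IsScalarTower C' A' M']

/-- The submodule `𝔪 M'`. -/
abbrev Nsub (M' : Type u) [AddCommGroup M'] [Module A' M'] : Submodule A' M' :=
  (𝔪.map (algebraMap C' A')) • (⊤ : Submodule A' M')

/-- The quotient map `M' → M'/𝔪M'`. -/
abbrev qmap (M' : Type u) [AddCommGroup M'] [Module A' M'] [Module C' M'] [IsScalarTower C' A' M'] :
    M' →ₗ[C'] (M' ⧸ Nsub (A' := A') 𝔪 M') :=
  (Submodule.mkQ (Nsub (A' := A') 𝔪 M')).restrictScalars C'

variable {𝔪 J}

theorem mul_eq_zero_of_mem (hJ : 𝔪 * J = ⊥) {c j : C'} (hc : c ∈ 𝔪) (hj : j ∈ J) : c * j = 0 := by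
  have h : c * j ∈ 𝔪 * J := Ideal.mul_mem_mul hc hj
  rw [hJ] at h
  exact Ideal.mem_bot.mp h

theorem tmul_eq_zero_of_mem (hJ : 𝔪 * J = ⊥) {r : A'} (hr : r ∈ 𝔪.map (algebraMap C' A')) :
    ∀ (m : M') (j : ↥J), (r • m) ⊗ₜ[C'] j = (0 : M' ⊗[C'] ↥J) := by
  unfold Ideal.map at hr
  induction hr using Submodule.span_induction with
  | mem r hr =>
    obtain ⟨c, hc, rfl⟩ := hr
    intro m j
    rw [algebraMap_smul, TensorProduct.smul_tmul]
    have : c • j = 0 := Subtype.ext (mul_eq_zero_of_mem hJ hc j.2)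
    rw [this, TensorProduct.tmul_zero]
  | zero => intro m j; rw [zero_smul, TensorProduct.zero_tmul]
  | add r r' _ _ h h' => intro m j; rw [add_smul, TensorProduct.add_tmul, h, h', add_zero]
  | smul a r _ h => intro m j; rw [smul_eq_mul, mul_comm, mul_smul]; exact h _ _

theorem tmul_eq_zero_of_mem_Nsub (hJ : 𝔪 * J = ⊥) {n : M'} (hn : n ∈ Nsub (A' := A') 𝔪 M')
    (j : ↥J) : n ⊗ₜ[C'] j = (0 : M' ⊗[C'] ↥J) := by
  refine Submodule.smul_induction_on hn (fun r hr m _ => tmul_eq_zero_of_mem hJ hr m j) ?_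
  intro x y hx hy
  rw [TensorProduct.add_tmul, hx, hy, add_zero]

theorem mult_smulA (a : A') (z : M' ⊗[C'] ↥J) : mult J M' (a • z) = a • mult J M' z := by
  induction z using TensorProduct.induction_on with
  | zero => simp
  | tmul m j => rw [TensorProduct.smul_tmul', mult_tmul, mult_tmul, smul_comm]
  | add s s' hs hs' => simp only [smul_add, map_add, hs, hs']

theorem smul_tensor_eq_zero (hJ : 𝔪 * J = ⊥) {r : A'} (hr : r ∈ 𝔪.map (algebraMap C' A'))
    (z : M' ⊗[C'] ↥J) : r • z = 0 := by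
  induction z using TensorProduct.induction_on with
  | zero => simp
  | tmul m j => rw [TensorProduct.smul_tmul', tmul_eq_zero_of_mem hJ hr]
  | add s s' hs hs' => rw [smul_add, hs, hs', add_zero]

theorem smul_mult_eq_zero' (hJ : 𝔪 * J = ⊥) {r : A'} (hr : r ∈ 𝔪.map (algebraMap C' A'))
    (z : M' ⊗[C'] ↥J) : r • mult J M' z = 0 := by
  rw [← mult_smulA, smul_tensor_eq_zero hJ hr, map_zero]

theorem mult_mem (z : M' ⊗[C'] ↥J) :
    mult J M' z ∈ (J.map (algebraMap C' A')) • (⊤ : Submodule A' M') := by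
  induction z using TensorProduct.induction_on with
  | zero => simp
  | tmul m j =>
    rw [mult_tmul, ← algebraMap_smul A' (j : C') m]
    exact Submodule.smul_mem_smul (Ideal.mem_map_of_mem _ j.2) Submodule.mem_top
  | add s s' hs hs' => rw [map_add]; exact Submodule.add_mem _ hs hs'

theorem exists_mult_eq' {y : M'}
    (hy : y ∈ (J.map (algebraMap C' A')) • (⊤ : Submodule A' M')) :
    ∃ z : M' ⊗[C'] ↥J, mult J M' z = y := by
  have key : ∀ r ∈ J.map (algebraMap C' A'), ∀ m : M', ∃ z : M' ⊗[C'] ↥J,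
      mult J M' z = r • m := by
    intro r hr
    unfold Ideal.map at hr
    induction hr using Submodule.span_induction with
    | mem r hr =>
      obtain ⟨c, hc, rfl⟩ := hr
      intro m
      exact ⟨m ⊗ₜ[C'] ⟨c, hc⟩, by rw [mult_tmul, algebraMap_smul]⟩
    | zero => intro m; exact ⟨0, by rw [map_zero, zero_smul]⟩
    | add r r' _ _ h h' =>
      intro m
      obtain ⟨z, hz⟩ := h m
      obtain ⟨z', hz'⟩ := h' m
      exact ⟨z + z', by rw [map_add, hz, hz', add_smul]⟩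
    | smul a r _ h =>
      intro m
      obtain ⟨z, hz⟩ := h (a • m)
      exact ⟨z, by rw [hz, smul_eq_mul, mul_comm, mul_smul]⟩
  refine Submodule.smul_induction_on hy (fun r hr m _ => key r hr m) ?_
  rintro _ _ ⟨z, rfl⟩ ⟨z', rfl⟩
  exact ⟨z + z', map_add _ _ _⟩

theorem rTensor_qmap_smul (a : A') (z : M' ⊗[C'] ↥J) :
    LinearMap.rTensor ↥J (qmap (A' := A') 𝔪 M') (a • z) =
      a • LinearMap.rTensor ↥J (qmap (A' := A') 𝔪 M') z := by
  induction z using TensorProduct.induction_on with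
  | zero => simp
  | tmul m j =>
    rw [TensorProduct.smul_tmul', LinearMap.rTensor_tmul, LinearMap.rTensor_tmul,
      TensorProduct.smul_tmul']
    rfl
  | add s s' hs hs' => simp only [smul_add, map_add, hs, hs']

theorem rTensor_qmap_injective (hJ : 𝔪 * J = ⊥) :
    Function.Injective (LinearMap.rTensor ↥J (qmap (A' := A') 𝔪 M')) := by
  rw [injective_iff_map_eq_zero]
  intro z hz
  have hex := rTensor_exact ↥J
    (LinearMap.exact_subtype_mkQ ((Nsub (A' := A') 𝔪 M').restrictScalars C'))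
    (Submodule.mkQ_surjective _)
  obtain ⟨s, rfl⟩ := (hex z).mp hz
  clear hz
  induction s using TensorProduct.induction_on with
  | zero => simp
  | tmul n j =>
    rw [LinearMap.rTensor_tmul]
    exact tmul_eq_zero_of_mem_Nsub hJ n.2 j
  | add s s' hs hs' => rw [map_add, hs, hs', add_zero]

theorem rTensor_qmap_surjective :
    Function.Surjective (LinearMap.rTensor ↥J (qmap (A' := A') 𝔪 M')) := by
  apply LinearMap.rTensor_surjective
  exact Submodule.mkQ_surjective (Nsub (A' := A') 𝔪 M')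


section Part1

variable (hJ : 𝔪 * J = ⊥) (hle : J ≤ 𝔪) (σ : M' →ₗ[A'] M')
  (hσ : ∀ x : M', σ x - x ∈ (J.map (algebraMap C' A')) • (⊤ : Submodule A' M'))

include hJ hσ in
theorem delta_eq_zero_of_mem {n : M'} (hn : n ∈ Nsub (A' := A') 𝔪 M') : σ n - n = 0 := by
  refine Submodule.smul_induction_on hn (fun r hr m _ => ?_) ?_
  · obtain ⟨z, hz⟩ := exists_mult_eq' (hσ m)
    rw [map_smul, ← smul_sub, ← hz, smul_mult_eq_zero' hJ hr]
  · intro x y hx hy
    have : σ (x + y) - (x + y) = (σ x - x) + (σ y - y) := by rw [map_add]; abel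
    rw [this, hx, hy, add_zero]

include hJ hle hσ in
theorem delta_delta (x : M') : σ (σ x - x) = σ x - x := by
  have h : σ x - x ∈ Nsub (A' := A') 𝔪 M' :=
    Submodule.smul_mono_left (Ideal.map_mono hle) (hσ x)
  exact sub_eq_zero.mp (delta_eq_zero_of_mem hJ σ hσ h)

include hJ hle hσ in
theorem bijective : Function.Bijective σ := by
  rw [Function.bijective_iff_has_inverse]
  refine ⟨fun x => x - (σ x - x), fun x => ?_, fun x => ?_⟩
  · change σ x - (σ (σ x) - σ x) = x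
    rw [← map_sub, delta_delta hJ hle σ hσ]
    abel
  · change σ (x - (σ x - x)) = x
    rw [map_sub, delta_delta hJ hle σ hσ]
    abel

/-- The relation defining the homomorphism attached to `σ`. -/
def Rel (𝔪 : Ideal C') (σ : M' →ₗ[A'] M') (xbar : M' ⧸ Nsub (A' := A') 𝔪 M')
    (v : (M' ⧸ Nsub (A' := A') 𝔪 M') ⊗[C'] ↥J) : Prop :=
  ∃ (x : M') (z : M' ⊗[C'] ↥J), Submodule.mkQ (Nsub (A' := A') 𝔪 M') x = xbar ∧
    mult J M' z = σ x - x ∧ LinearMap.rTensor ↥J (qmap (A' := A') 𝔪 M') z = v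

variable [Module.Flat C' M']

include hJ hσ in
theorem Rel.unique {xbar : M' ⧸ Nsub (A' := A') 𝔪 M'}
    {v w : (M' ⧸ Nsub (A' := A') 𝔪 M') ⊗[C'] ↥J}
    (hv : Rel (J := J) 𝔪 σ xbar v) (hw : Rel (J := J) 𝔪 σ xbar w) : v = w := by
  obtain ⟨x, z, hx, hz, rfl⟩ := hv
  obtain ⟨y, t, hy, ht, rfl⟩ := hw
  have hxy : x - y ∈ Nsub (A' := A') 𝔪 M' := by
    rw [← Submodule.Quotient.mk_eq_zero, Submodule.Quotient.mk_sub, sub_eq_zero]
    exact hx.trans hy.symm
  have h0 := delta_eq_zero_of_mem hJ σ hσ hxy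
  have : z = t := by
    apply mult_injective J M'
    rw [← sub_eq_zero, hz, ht]
    rw [map_sub] at h0
    rw [← h0]; abel
  rw [this]

omit [Module.Flat C' M'] in
theorem Rel.add {xbar ybar : M' ⧸ Nsub (A' := A') 𝔪 M'}
    {v w : (M' ⧸ Nsub (A' := A') 𝔪 M') ⊗[C'] ↥J}
    (hv : Rel (J := J) 𝔪 σ xbar v) (hw : Rel (J := J) 𝔪 σ ybar w) :
    Rel (J := J) 𝔪 σ (xbar + ybar) (v + w) := by
  obtain ⟨x, z, rfl, hz, rfl⟩ := hv
  obtain ⟨y, t, rfl, ht, rfl⟩ := hw
  refine ⟨x + y, z + t, map_add _ _ _, ?_, map_add _ _ _⟩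
  rw [map_add, map_add, hz, ht]; abel

omit [Module.Flat C' M'] in
theorem Rel.smul (a : A') {xbar : M' ⧸ Nsub (A' := A') 𝔪 M'}
    {v : (M' ⧸ Nsub (A' := A') 𝔪 M') ⊗[C'] ↥J}
    (hv : Rel (J := J) 𝔪 σ xbar v) : Rel (J := J) 𝔪 σ (a • xbar) (a • v) := by
  obtain ⟨x, z, rfl, hz, rfl⟩ := hv
  refine ⟨a • x, a • z, map_smul _ _ _, ?_, rTensor_qmap_smul a z⟩
  rw [mult_smulA, hz, map_smul, smul_sub]

omit [Module.Flat C' M'] in
include hσ in
theorem Rel.exists (xbar : M' ⧸ Nsub (A' := A') 𝔪 M') : ∃ v, Rel (J := J) 𝔪 σ xbar v := by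
  obtain ⟨x, rfl⟩ := Submodule.mkQ_surjective _ xbar
  obtain ⟨z, hz⟩ := exists_mult_eq' (hσ x)
  exact ⟨_, x, z, rfl, hz, rfl⟩

include hJ hσ in
theorem existsUnique_tau :
    ∃! τ : (M' ⧸ Nsub (A' := A') 𝔪 M') →ₗ[A'] ((M' ⧸ Nsub (A' := A') 𝔪 M') ⊗[C'] ↥J),
      (∀ (x : M') (z : M' ⊗[C'] ↥J),
        TensorProduct.rid C' M' (LinearMap.lTensor M' (Submodule.subtype J) z) = σ x - x →
        LinearMap.rTensor ↥J
          ((Submodule.mkQ (Nsub (A' := A') 𝔪 M')).restrictScalars C') z =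
            τ (Submodule.mkQ _ x)) := by
  have hex := Rel.exists (J := J) (𝔪 := 𝔪) σ hσ
  let τ : (M' ⧸ Nsub (A' := A') 𝔪 M') →ₗ[A'] ((M' ⧸ Nsub (A' := A') 𝔪 M') ⊗[C'] ↥J) :=
    { toFun := fun x => (hex x).choose
      map_add' := fun x y => Rel.unique hJ σ hσ (hex (x + y)).choose_spec
        (Rel.add σ (hex x).choose_spec (hex y).choose_spec)
      map_smul' := fun a x => Rel.unique hJ σ hσ (hex (a • x)).choose_spec
        (Rel.smul σ a (hex x).choose_spec) }
  refine ⟨τ, fun x z hz => ?_, fun ψ hψ => ?_⟩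
  · exact Rel.unique hJ σ hσ ⟨x, z, rfl, hz, rfl⟩ (hex _).choose_spec
  · refine LinearMap.ext fun xbar => ?_
    obtain ⟨x, z, hx, hz, hv⟩ := (hex xbar).choose_spec
    subst hx
    rw [← hψ x z hz]
    exact hv

end Part1

section Part2

variable (hJ : 𝔪 * J = ⊥) [Module.Flat C' M']
  (τ : (M' ⧸ Nsub (A' := A') 𝔪 M') →ₗ[A'] ((M' ⧸ Nsub (A' := A') 𝔪 M') ⊗[C'] ↥J))

/-- `rTensor q` as an `A'`-linear map. -/
noncomputable def rqA (𝔪 J : Ideal C') (M' : Type u) [AddCommGroup M'] [Module A' M']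
    [Module C' M'] [IsScalarTower C' A' M'] :
    M' ⊗[C'] ↥J →ₗ[A'] (M' ⧸ Nsub (A' := A') 𝔪 M') ⊗[C'] ↥J :=
  { toFun := LinearMap.rTensor ↥J (qmap (A' := A') 𝔪 M')
    map_add' := map_add _
    map_smul' := rTensor_qmap_smul }

/-- `mult` as an `A'`-linear map. -/
noncomputable def multA (J : Ideal C') (M' : Type u) [AddCommGroup M'] [Module A' M']
    [Module C' M'] [IsScalarTower C' A' M'] : M' ⊗[C'] ↥J →ₗ[A'] M' :=
  { toFun := mult J M'
    map_add' := map_add _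
    map_smul' := mult_smulA }

include hJ in
theorem exists_sigma :
    ∃ σ : M' →ₗ[A'] M',
      (∀ x : M', σ x - x ∈ (J.map (algebraMap C' A')) • (⊤ : Submodule A' M')) ∧
      (∀ (x : M') (z : M' ⊗[C'] ↥J),
        TensorProduct.rid C' M' (LinearMap.lTensor M' (Submodule.subtype J) z) = σ x - x →
        LinearMap.rTensor ↥J
          ((Submodule.mkQ (Nsub (A' := A') 𝔪 M')).restrictScalars C') z =
            τ (Submodule.mkQ _ x)) := by
  let e : (M' ⊗[C'] ↥J) ≃ₗ[A'] ((M' ⧸ Nsub (A' := A') 𝔪 M') ⊗[C'] ↥J) :=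
    LinearEquiv.ofBijective (rqA (A' := A') 𝔪 J M')
      ⟨rTensor_qmap_injective hJ, rTensor_qmap_surjective⟩
  let σ : M' →ₗ[A'] M' := LinearMap.id +
    (multA (A' := A') J M') ∘ₗ e.symm.toLinearMap ∘ₗ τ ∘ₗ (Submodule.mkQ (Nsub (A' := A') 𝔪 M'))
  have hσx : ∀ x, σ x - x = mult J M' (e.symm (τ (Submodule.mkQ _ x))) := by
    intro x
    change x + mult J M' (e.symm (τ (Submodule.mkQ _ x))) - x = _
    abel
  refine ⟨σ, fun x => ?_, fun x z hz => ?_⟩
  · rw [hσx]
    exact mult_mem _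
  · have h1 : mult J M' z = mult J M' (e.symm (τ (Submodule.mkQ _ x))) := by
      rw [← hσx]; exact hz
    have h2 := mult_injective J M' h1
    rw [h2]
    exact e.apply_symm_apply _

end Part2

end Groth.Agent.Lib.Helper59.InfAut
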