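import Groth.Prelude.Def_W4bk4grossh1223Act
import Mathlib

/-! # Invariants of an integrally closed domain are integrally closed

For a group functor acting by algebra automorphisms (in the functorial sense of `VecGrp.GMod`)
on an integrally closed domain `A`, the subalgebra of invariants under any subgroup is
integrally closed. -/

set_option autoImplicit false
set_option linter.unusedSectionVars false
universe u
open CategoryTheory MonObj AlgebraicGeometry
open scoped TensorProduct

namespace Groth.Agent.Lib.Helper59.InvIntClosed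

variable {k : Type u} [Field k]
variable {G H : Over (Spec (CommRingCat.of k))} [GrpObj G] [GrpObj H]
variable {A : Type u} [CommRing A] [Algebra k A]

/-- Multiplication by `1 ⊗ b` on `B ⊗ A` is injective when `b` is a non-zero element of a
domain. -/
theorem one_tmul_mul_injective [IsDomain A] (B : Type u) [CommRing B] [Algebra k B] {b : A}
    (hb : b ≠ 0) (t : B ⊗[k] A) (ht : ((1 : B) ⊗ₜ[k] b) * t = 0) : t = 0 := by
  have hinj : Function.Injective (LinearMap.lTensor B (LinearMap.mulLeft k b)) :=
    Module.Flat.lTensor_preserves_injective_linearMap _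
      (fun x y hxy => mul_left_cancel₀ hb hxy)
  have key : ∀ s : B ⊗[k] A, ((1 : B) ⊗ₜ[k] b) * s = LinearMap.lTensor B (LinearMap.mulLeft k b) s := by
    intro s
    induction s using TensorProduct.induction_on with
    | zero => simp
    | tmul b' a' =>
      rw [Algebra.TensorProduct.tmul_mul_tmul, _root_.one_mul, LinearMap.lTensor_tmul,
        LinearMap.mulLeft_apply]
    | add s₁ s₂ h₁ h₂ => rw [mul_add, h₁, h₂, map_add]
  apply hinj
  rw [← key, ht, map_zero]

theorem isIntegrallyClosed_fixedSubalgebra [IsDomain A] [IsIntegrallyClosed A]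
    (ρ : VecGrp.GMod G A) (hρ : ρ.IsMult) (i : H ⟶ G) :
    IsIntegrallyClosed ↥(ρ.fixedSubalgebra hρ i) := by
  set S := ρ.fixedSubalgebra hρ i with hS
  rw [isIntegrallyClosed_iff (FractionRing S)]
  intro x hx
  have hg : Function.Injective ((algebraMap A (FractionRing A)).comp S.val.toRingHom) :=
    (IsFractionRing.injective A (FractionRing A)).comp Subtype.val_injective
  let j : FractionRing S →+* FractionRing A := IsFractionRing.lift hg
  have hj : ∀ s : S, j (algebraMap S (FractionRing S) s) = algebraMap A (FractionRing A) (s : A) :=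
    fun s => IsFractionRing.lift_algebraMap hg s
  have hint : IsIntegral A (j x) := by
    refine IsIntegral.map_of_comp_eq S.val.toRingHom j ?_ hx
    ext s
    exact (hj s).symm
  obtain ⟨c, hc⟩ := (isIntegrallyClosed_iff (FractionRing A)).mp inferInstance hint
  obtain ⟨a, b, hb, rfl⟩ := IsFractionRing.div_surjective (A := S) x
  have hb0 : (b : S) ≠ 0 := nonZeroDivisors.ne_zero hb
  have hbK : algebraMap S (FractionRing S) b ≠ 0 := by
    intro h
    exact hb0 ((IsFractionRing.injective S (FractionRing S)) (h.trans (map_zero _).symm))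
  have hbA : (b : A) ≠ 0 := fun h => hb0 (Subtype.ext h)
  have hmul : (b : A) * c = (a : A) := by
    apply IsFractionRing.injective A (FractionRing A)
    rw [map_mul, hc, map_div₀, hj, hj]
    have : algebraMap A (FractionRing A) (b : A) ≠ 0 := by
      intro h
      exact hbA ((IsFractionRing.injective A (FractionRing A)) (h.trans (map_zero _).symm))
    field_simp
  have hcS : c ∈ S := by
    intro B _ _ h
    have ha := a.2 B h
    have hb' := b.2 B h
    have hm := (hρ B (h ≫ i)).1 ((1 : B) ⊗ₜ[k] (b : A)) ((1 : B) ⊗ₜ[k] c)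
    rw [Algebra.TensorProduct.tmul_mul_tmul, _root_.one_mul, hmul, ha, hb'] at hm
    have h0 : ((1 : B) ⊗ₜ[k] (b : A)) * (ρ.ρ B (h ≫ i) ((1 : B) ⊗ₜ[k] c) - (1 : B) ⊗ₜ[k] c) = 0 := by
      rw [mul_sub, ← hm, Algebra.TensorProduct.tmul_mul_tmul, _root_.one_mul, hmul, sub_self]
    exact sub_eq_zero.mp (one_tmul_mul_injective B hbA _ h0)
  refine ⟨⟨c, hcS⟩, ?_⟩
  have hab : (a : S) = b * ⟨c, hcS⟩ := Subtype.ext hmul.symm
  rw [hab, map_mul]
  field_simp

end Groth.Agent.Lib.Helper59.InvIntClosed
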