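import Mathlib
import Groth.Agent.Lib.Helper85.RegularLocal

/-!
# Regular ⇔ formally smooth for local algebras essentially of finite type with residue field `k`
(helper59)

* `exists_presentation` : a local `k`-algebra essentially of finite type is a quotient of a regular
  local `k`-algebra `P` (a localization of a polynomial ring), formally smooth over `k` with
  `Ω[P⁄k]` finite free.
* `formallySmooth_of_regular` : if `A` is regular local with `k → κ(A)` surjective then `A` is
  formally smooth over `k`.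
-/

set_option autoImplicit false
universe u

open IsLocalRing KaehlerDifferential TensorProduct

namespace Groth.Agent.Lib.Helper59.RegSmooth

section Presentation

theorem exists_presentation (k A : Type u) [Field k] [CommRing A] [IsLocalRing A] [Algebra k A]
    [Algebra.EssFiniteType k A] :
    ∃ (P : Type u) (_ : CommRing P) (_ : Algebra k P) (_ : IsRegularLocalRing P)
      (_ : Algebra.FormallySmooth k P) (_ : Module.Free P Ω[P⁄k]) (_ : Module.Finite P Ω[P⁄k])
      (π : P →ₐ[k] A), Function.Surjective π := by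
  classical
  obtain ⟨σ, hσ⟩ := (Algebra.essFiniteType_iff (R := k) (S := A)).mp inferInstance
  let φ₀ : MvPolynomial σ k →ₐ[k] A := MvPolynomial.aeval (fun i : σ => (i : A))
  have hrange : ∀ a ∈ Algebra.adjoin k (σ : Set A), ∃ p, φ₀ p = a := by
    intro a ha
    have h1 : Algebra.adjoin k (σ : Set A) = φ₀.range := by
      have := Algebra.adjoin_range_eq_range_aeval k (fun i : σ => (i : A))
      rw [← this]
      congr 1
      ext x
      simp
    rw [h1] at ha
    exact ha
  let 𝔮 : Ideal (MvPolynomial σ k) := (maximalIdeal A).comap φ₀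
  haveI : 𝔮.IsPrime := Ideal.comap_isPrime _ _
  have hunit : ∀ y : 𝔮.primeCompl, IsUnit (φ₀ y) := fun y => by
    have h : φ₀ y ∉ maximalIdeal A := y.2
    exact IsLocalRing.notMem_maximalIdeal.mp h
  let π : Localization.AtPrime 𝔮 →ₐ[k] A := IsLocalization.liftAlgHom hunit
  haveI : Algebra.FormallyEtale (MvPolynomial σ k) (Localization.AtPrime 𝔮) :=
    .of_isLocalization 𝔮.primeCompl
  haveI : Algebra.FormallySmooth k (Localization.AtPrime 𝔮) :=
    .comp _ (MvPolynomial σ k) _
  haveI : Module.Free (Localization.AtPrime 𝔮) Ω[Localization.AtPrime 𝔮⁄k] :=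
    .of_equiv (KaehlerDifferential.tensorKaehlerEquivOfFormallyEtale k (MvPolynomial σ k)
      (Localization.AtPrime 𝔮))
  haveI : Module.Finite (Localization.AtPrime 𝔮) Ω[Localization.AtPrime 𝔮⁄k] :=
    .equiv (KaehlerDifferential.tensorKaehlerEquivOfFormallyEtale k (MvPolynomial σ k)
      (Localization.AtPrime 𝔮))
  refine ⟨Localization.AtPrime 𝔮, inferInstance, inferInstance, inferInstance, inferInstance,
    inferInstance, inferInstance, π, ?_⟩
  intro a
  obtain ⟨t, ht, htu, hat⟩ := hσ a
  obtain ⟨p', rfl⟩ := hrange t ht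
  obtain ⟨p, hp⟩ := hrange _ hat
  have hp' : p' ∈ 𝔮.primeCompl := by
    intro hmem
    exact (IsLocalRing.mem_maximalIdeal _).mp hmem htu
  refine ⟨IsLocalization.mk' (Localization.AtPrime 𝔮) p ⟨p', hp'⟩, ?_⟩
  change IsLocalization.lift hunit (IsLocalization.mk' (Localization.AtPrime 𝔮) p ⟨p', hp'⟩) = a
  rw [IsLocalization.lift_mk'_spec]
  change φ₀ p = φ₀ p' * a
  rw [hp, mul_comm]

end Presentation

section Forward

variable {k P A : Type u} [Field k] [CommRing P] [Algebra k P] [CommRing A] [Algebra k A]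

/-- Every element of `κ ⊗[P] I` is of the form `1 ⊗ i` when `P → κ` is surjective. -/
theorem exists_one_tmul {κ : Type u} [CommRing κ] [Algebra P κ]
    (hκ : Function.Surjective (algebraMap P κ)) {M : Type u} [AddCommGroup M] [Module P M]
    (z : κ ⊗[P] M) : ∃ m : M, z = 1 ⊗ₜ m := by
  induction z using TensorProduct.induction_on with
  | zero => exact ⟨0, (TensorProduct.tmul_zero _ _).symm⟩
  | tmul a m =>
    obtain ⟨p, rfl⟩ := hκ a
    refine ⟨p • m, ?_⟩
    rw [TensorProduct.tmul_smul, TensorProduct.smul_tmul', Algebra.smul_def, mul_one]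
  | add x y hx hy =>
    obtain ⟨m, rfl⟩ := hx
    obtain ⟨m', rfl⟩ := hy
    exact ⟨m + m', (TensorProduct.tmul_add _ _ _).symm⟩

theorem formallySmooth_of_regular [IsRegularLocalRing P] [Algebra.FormallySmooth k P]
    [Module.Free P Ω[P⁄k]] [Module.Finite P Ω[P⁄k]] [IsRegularLocalRing A]
    (π : P →ₐ[k] A) (hπ : Function.Surjective π)
    (hres : Function.Surjective (algebraMap k (ResidueField A))) :
    Algebra.FormallySmooth k A := by
  algebraize [π.toRingHom]
  have hPA : Function.Surjective (algebraMap P A) := hπ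
  have hfg : (RingHom.ker (algebraMap P A)).FG := IsNoetherian.noetherian _
  rw [Algebra.FormallySmooth.iff_injective_cotangentComplexBaseChange_residueField P hPA hfg]
  -- the residue field of `A` is formally smooth over `k`
  have hbij : Function.Bijective (algebraMap k (ResidueField A)) :=
    ⟨(algebraMap k (ResidueField A)).injective, hres⟩
  let e : k ≃ₐ[k] ResidueField A := AlgEquiv.ofBijective (Algebra.ofId k _) hbij
  haveI : Algebra.FormallySmooth k (ResidueField A) := Algebra.FormallySmooth.of_equiv e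
  have hPκ : Function.Surjective (algebraMap P (ResidueField A)) := by
    rw [IsScalarTower.algebraMap_eq P A (ResidueField A)]
    exact (IsLocalRing.residue_surjective).comp hPA
  obtain ⟨l, hl⟩ := (Algebra.FormallySmooth.iff_split_injection (R := k) hPκ).mp inferInstance
  have hinj : Function.Injective (kerCotangentToTensor k P (ResidueField A)) := by
    intro x y hxy
    have := congrArg l hxy
    rwa [← LinearMap.comp_apply, ← LinearMap.comp_apply, hl] at this
  -- the kernel of `P → κ(A)` is the maximal ideal of `P`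
  have hker : RingHom.ker (algebraMap P (ResidueField A)) = maximalIdeal P := by
    have hmax : (RingHom.ker (algebraMap P (ResidueField A))).IsMaximal :=
      RingHom.ker_isMaximal_of_surjective _ hPκ
    exact IsLocalRing.eq_maximalIdeal hmax
  have hle : RingHom.ker (algebraMap P A) ≤ RingHom.ker (algebraMap P (ResidueField A)) := by
    intro x hx
    rw [RingHom.mem_ker, IsScalarTower.algebraMap_apply P A (ResidueField A),
      RingHom.mem_ker.mp hx, map_zero]
  have hreg : IsRegularLocalRing (P ⧸ RingHom.ker (algebraMap P A)) :=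
    IsRegularLocalRing.of_ringEquiv (RingHom.quotientKerEquivOfSurjective hPA).symm
  have hinf := Groth.Agent.Lib.Helper85.inf_sq_eq_mul_of_quotient_regular
    (RingHom.ker (algebraMap P A)) hreg
  rw [injective_iff_map_eq_zero]
  intro z hz
  obtain ⟨i, rfl⟩ := exists_one_tmul hPκ z
  rw [cotangentComplexBaseChange_tmul, one_smul] at hz
  have h1 : kerCotangentToTensor k P (ResidueField A)
      (Ideal.toCotangent _ ⟨i.1, hle i.2⟩) = 0 := hz
  have h2 : Ideal.toCotangent _ (⟨i.1, hle i.2⟩ : RingHom.ker (algebraMap P (ResidueField A))) = 0 :=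
    hinj (h1.trans (map_zero _).symm)
  rw [Ideal.toCotangent_eq_zero] at h2
  have h2' : (i : P) ∈ maximalIdeal P ^ 2 := by
    rw [← hker]; exact h2
  have h3 : (i : P) ∈ maximalIdeal P * RingHom.ker (algebraMap P A) := by
    rw [← hinf]
    exact ⟨i.2, h2'⟩
  -- elements of `m * I` die in `κ ⊗ I`
  have key : ∀ x ∈ maximalIdeal P * RingHom.ker (algebraMap P A),
      ∃ hx : x ∈ RingHom.ker (algebraMap P A),
        (1 : ResidueField A) ⊗ₜ[P] (⟨x, hx⟩ : RingHom.ker (algebraMap P A)) = 0 := by
    intro x hx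
    induction hx using Submodule.mul_induction_on' with
    | mem_mul_mem m hm n hn =>
      refine ⟨Ideal.mul_mem_left _ _ hn, ?_⟩
      have : (⟨m * n, Ideal.mul_mem_left _ _ hn⟩ : RingHom.ker (algebraMap P A)) =
          m • (⟨n, hn⟩ : RingHom.ker (algebraMap P A)) := rfl
      rw [this, TensorProduct.tmul_smul, TensorProduct.smul_tmul', Algebra.smul_def, mul_one]
      have hm0 : algebraMap P (ResidueField A) m = 0 := by
        rw [← RingHom.mem_ker, hker]; exact hm
      rw [hm0, TensorProduct.zero_tmul]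
    | add x hx y hy ihx ihy =>
      obtain ⟨hx', ex⟩ := ihx
      obtain ⟨hy', ey⟩ := ihy
      refine ⟨add_mem hx' hy', ?_⟩
      have : (⟨x + y, add_mem hx' hy'⟩ : RingHom.ker (algebraMap P A)) =
          ⟨x, hx'⟩ + ⟨y, hy'⟩ := rfl
      rw [this, TensorProduct.tmul_add, ex, ey, add_zero]
  obtain ⟨_, h4⟩ := key i.1 h3
  exact h4

end Forward

section Converse

variable {k : Type u} [Field k]

/-- `P ⧸ 𝔫^(N+1)` is finite over `k` when the residue field is. -/
theorem finite_quot_pow (P : Type u) [CommRing P] [Algebra k P] [IsLocalRing P]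
    [IsNoetherianRing P] (hresP : Function.Surjective (algebraMap k (ResidueField P))) (N : ℕ) :
    Module.Finite k (P ⧸ maximalIdeal P ^ (N + 1)) := by
  haveI : Module.Finite k (ResidueField P) :=
    Module.Finite.of_surjective (Algebra.linearMap k _) hresP
  have hle : maximalIdeal P ^ (N + 1) ≤ maximalIdeal P := Ideal.pow_le_self (Nat.succ_ne_zero N)
  let f : (P ⧸ maximalIdeal P ^ (N + 1)) →ₐ[k] ResidueField P := Ideal.Quotient.factorₐ k hle
  refine Module.finite_of_surjective_of_ker_le_nilradical f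
    (Ideal.Quotient.factor_surjective hle) ?_ (IsNoetherian.noetherian _)
  intro x hx
  obtain ⟨p, rfl⟩ := Ideal.Quotient.mk_surjective x
  have hp : p ∈ maximalIdeal P := by
    have h0 : f (Ideal.Quotient.mk _ p) = 0 := hx
    exact Ideal.Quotient.eq_zero_iff_mem.mp h0
  rw [mem_nilradical]
  refine ⟨N + 1, ?_⟩
  rw [← map_pow]
  exact Ideal.Quotient.eq_zero_iff_mem.mpr (Ideal.pow_mem_pow hp _)

/-- residue field of a local quotient presentation -/
theorem surjective_residue_of_surjective {P A : Type u} [CommRing P] [Algebra k P] [IsLocalRing P]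
    [CommRing A] [Algebra k A] [IsLocalRing A] (π : P →ₐ[k] A)
    (hres : Function.Surjective (algebraMap k (ResidueField A))) :
    Function.Surjective (algebraMap k (ResidueField P)) := by
  intro y
  obtain ⟨p, rfl⟩ := IsLocalRing.residue_surjective y
  obtain ⟨c, hc⟩ := hres (IsLocalRing.residue A (π p))
  refine ⟨c, ?_⟩
  have h1 : IsLocalRing.residue A (π (algebraMap k P c - p)) = 0 := by
    rw [map_sub, map_sub, AlgHom.commutes, ← hc]
    exact sub_self _
  have h2 : π (algebraMap k P c - p) ∈ maximalIdeal A := (IsLocalRing.residue_eq_zero_iff _).mp h1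
  have h3 : algebraMap k P c - p ∈ maximalIdeal P := by
    rw [IsLocalRing.mem_maximalIdeal, mem_nonunits_iff]
    intro hu
    exact ((IsLocalRing.mem_maximalIdeal _).mp h2) (hu.map π)
  have h4 : IsLocalRing.residue P (algebraMap k P c - p) = 0 :=
    (IsLocalRing.residue_eq_zero_iff _).mpr h3
  rw [map_sub, sub_eq_zero] at h4
  exact h4

variable {A : Type u} [CommRing A] [Algebra k A] [IsLocalRing A]

/-- the lifting property against square-zero ideals of finite local `k`-algebras -/
def Lifting (k A : Type u) [Field k] [CommRing A] [Algebra k A] : Prop :=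
  ∀ (B' : Type u) [CommRing B'] [IsLocalRing B'] [Algebra k B'] [Module.Finite k B']
    (J : Ideal B'), J ^ 2 = ⊥ → ∀ f : A →ₐ[k] B' ⧸ J,
      ∃ g : A →ₐ[k] B', (Ideal.Quotient.mkₐ k J).comp g = f

section MainLemma

variable {P : Type u} [CommRing P] [Algebra k P] [IsLocalRing P] [IsNoetherianRing P]
  (hresP : Function.Surjective (algebraMap k (ResidueField P))) (hL : Lifting k A)
  (π : P →ₐ[k] A) (hπ : Function.Surjective π)
  (hI : RingHom.ker π ≤ maximalIdeal P ^ 2)

include hresP hL hπ hI in
theorem exists_lift_pow (N : ℕ) :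
    ∃ φ : A →ₐ[k] P ⧸ maximalIdeal P ^ (N + 2),
      ∀ p : P, ∃ q ∈ maximalIdeal P ^ 2, φ (π p) = Ideal.Quotient.mk _ (p + q) := by
  induction N with
  | zero =>
    have H : RingHom.ker π.toRingHom ≤
        RingHom.ker (Ideal.Quotient.mkₐ k (maximalIdeal P ^ (0 + 2))).toRingHom := by
      intro x hx
      have hx' : x ∈ maximalIdeal P ^ 2 := hI hx
      exact Ideal.Quotient.eq_zero_iff_mem.mpr hx'
    refine ⟨AlgHom.liftOfSurjective π hπ (Ideal.Quotient.mkₐ k _) H, fun p => ⟨0, zero_mem _, ?_⟩⟩
    rw [AlgHom.liftOfSurjective_apply, add_zero]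
    rfl
  | succ N ih =>
    obtain ⟨φ, hφ⟩ := ih
    have hle : maximalIdeal P ^ (N + 2 + 1) ≤ maximalIdeal P ^ (N + 2) :=
      Ideal.pow_le_pow_right (Nat.le_succ _)
    have hne : maximalIdeal P ^ (N + 2 + 1) ≠ ⊤ := by
      intro h
      have : maximalIdeal P ^ (N + 2 + 1) ≤ maximalIdeal P := Ideal.pow_le_self (Nat.succ_ne_zero _)
      rw [h] at this
      exact (maximalIdeal.isMaximal P).ne_top (top_le_iff.mp this)
    haveI : IsLocalRing (P ⧸ maximalIdeal P ^ (N + 2 + 1)) :=
      Groth.Agent.Lib.Helper85.isLocalRing_quotient _ hne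
    haveI : Module.Finite k (P ⧸ maximalIdeal P ^ (N + 2 + 1)) := finite_quot_pow P hresP _
    let J : Ideal (P ⧸ maximalIdeal P ^ (N + 2 + 1)) :=
      (maximalIdeal P ^ (N + 2)).map (Ideal.Quotient.mkₐ k (maximalIdeal P ^ (N + 2 + 1)))
    have hJ : J ^ 2 = ⊥ := by
      change ((maximalIdeal P ^ (N + 2)).map (Ideal.Quotient.mkₐ k _)) ^ 2 = ⊥
      rw [← Ideal.map_pow, ← pow_mul, eq_bot_iff]
      have h1 : maximalIdeal P ^ ((N + 2) * 2) ≤ maximalIdeal P ^ (N + 2 + 1) :=
        Ideal.pow_le_pow_right (by omega)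
      refine (Ideal.map_mono h1).trans ?_
      rw [Ideal.map_le_iff_le_comap]
      intro x hx
      exact Ideal.Quotient.eq_zero_iff_mem.mpr hx
    let e : ((P ⧸ maximalIdeal P ^ (N + 2 + 1)) ⧸ J) ≃ₐ[k] P ⧸ maximalIdeal P ^ (N + 2) :=
      DoubleQuot.quotQuotEquivQuotOfLEₐ k hle
    obtain ⟨g, hg⟩ := hL (P ⧸ maximalIdeal P ^ (N + 2 + 1)) J hJ (e.symm.toAlgHom.comp φ)
    refine ⟨g, fun p => ?_⟩
    obtain ⟨q, hq, hpq⟩ := hφ p
    obtain ⟨r, hr⟩ := Ideal.Quotient.mk_surjective (g (π p))
    have h1 : Ideal.Quotient.mk J (g (π p)) = e.symm (φ (π p)) := by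
      have := congrArg (fun F : A →ₐ[k] _ => F (π p)) hg
      exact this
    rw [hpq] at h1
    have h2 : e.symm (Ideal.Quotient.mk _ (p + q)) =
        Ideal.Quotient.mk J (Ideal.Quotient.mk _ (p + q)) := by
      change (DoubleQuot.quotQuotEquivQuotOfLEₐ k hle).symm (Ideal.Quotient.mk _ (p + q)) = _
      rw [DoubleQuot.coe_quotQuotEquivQuotOfLEₐ_symm, DoubleQuot.quotQuotEquivQuotOfLE_symm_mk]
      rfl
    rw [h2, ← hr, Ideal.Quotient.eq, ← map_sub] at h1
    obtain ⟨s, hs, hs'⟩ := (Ideal.mem_map_iff_of_surjective _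
      (Ideal.Quotient.mkₐ_surjective k _)).mp h1
    have hs2 : s ∈ maximalIdeal P ^ 2 := Ideal.pow_le_pow_right (by omega) hs
    refine ⟨q + s, add_mem hq hs2, ?_⟩
    rw [← hr]
    have hs'' : Ideal.Quotient.mk (maximalIdeal P ^ (N + 2 + 1)) s =
        Ideal.Quotient.mk _ (r - (p + q)) := hs'
    have : r = p + (q + s) + (r - (p + q) - s) := by ring
    rw [this, map_add, add_eq_left, map_sub, ← hs'', sub_self]

omit [IsNoetherianRing P] in
theorem mem_pow_of_lift {M : ℕ} (φ : A →ₐ[k] P ⧸ maximalIdeal P ^ M)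
    (hφ : ∀ p : P, ∃ q ∈ maximalIdeal P ^ 2, φ (π p) = Ideal.Quotient.mk _ (p + q)) :
    RingHom.ker π ≤ maximalIdeal P ^ M := by
  have hC : ∀ j : ℕ, ∀ y ∈ maximalIdeal P ^ j, ∃ w ∈ maximalIdeal P ^ (j + 1),
      φ (π y) = Ideal.Quotient.mk _ (y + w) := by
    intro j
    induction j with
    | zero =>
      intro y _
      obtain ⟨q, hq, h⟩ := hφ y
      exact ⟨q, Ideal.pow_le_pow_right (by omega) hq, h⟩
    | succ j ih =>
      intro y hy
      rw [pow_succ'] at hy
      induction hy using Submodule.mul_induction_on' with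
      | mem_mul_mem x hx y' hy' =>
        obtain ⟨q, hq, hxq⟩ := hφ x
        obtain ⟨w, hw, hyw⟩ := ih y' hy'
        refine ⟨x * w + q * y' + q * w, ?_, ?_⟩
        · refine add_mem (add_mem ?_ ?_) ?_
          · rw [pow_succ' _ (j + 1)]
            exact Ideal.mul_mem_mul hx hw
          · have : maximalIdeal P ^ (j + 1 + 1) = maximalIdeal P ^ 2 * maximalIdeal P ^ j := by
              rw [← pow_add]; congr 1; omega
            rw [this]
            exact Ideal.mul_mem_mul hq hy'
          · have h1 : q * w ∈ maximalIdeal P ^ 2 * maximalIdeal P ^ (j + 1) :=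
              Ideal.mul_mem_mul hq hw
            rw [← pow_add] at h1
            exact Ideal.pow_le_pow_right (by omega) h1
        · rw [map_mul, map_mul, hxq, hyw, ← map_mul]
          congr 1
          ring
      | add y₁ _ y₂ _ ih₁ ih₂ =>
        obtain ⟨w₁, hw₁, h₁⟩ := ih₁
        obtain ⟨w₂, hw₂, h₂⟩ := ih₂
        refine ⟨w₁ + w₂, add_mem hw₁ hw₂, ?_⟩
        rw [map_add, map_add, h₁, h₂, ← map_add]
        congr 1
        ring
  intro y hy
  have hy0 : φ (π y) = 0 := by rw [RingHom.mem_ker.mp hy, map_zero]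
  have : ∀ j : ℕ, j ≤ M → y ∈ maximalIdeal P ^ j := by
    intro j
    induction j with
    | zero => intro _; simp
    | succ j ih =>
      intro hj
      obtain ⟨w, hw, h⟩ := hC j y (ih (by omega))
      rw [hy0] at h
      have h1 : y + w ∈ maximalIdeal P ^ M := Ideal.Quotient.eq_zero_iff_mem.mp h.symm
      have h2 : y + w ∈ maximalIdeal P ^ (j + 1) := Ideal.pow_le_pow_right hj h1
      have : y = (y + w) - w := by ring
      rw [this]
      exact sub_mem h2 hw
  exact this M le_rfl

include hresP hL hπ hI in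
theorem ker_eq_bot_of_lifting : RingHom.ker π = ⊥ := by
  rw [eq_bot_iff]
  have hne : maximalIdeal P ≠ ⊤ := (maximalIdeal.isMaximal P).ne_top
  rw [← Ideal.iInf_pow_eq_bot_of_isLocalRing (maximalIdeal P) hne]
  intro y hy
  rw [Ideal.mem_iInf]
  intro i
  obtain ⟨φ, hφ⟩ := exists_lift_pow hresP hL π hπ hI i
  exact Ideal.pow_le_pow_right (by omega) (mem_pow_of_lift π φ hφ hy)

end MainLemma

theorem regular_of_lifting_aux (hL : Lifting k A)
    (hres : Function.Surjective (algebraMap k (ResidueField A))) :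
    ∀ (d : ℕ) (P : Type u) [CommRing P] [Algebra k P] [IsRegularLocalRing P],
      (maximalIdeal P).spanFinrank = d → ∀ (π : P →ₐ[k] A), Function.Surjective π →
        IsRegularLocalRing A := by
  intro d
  induction d with
  | zero =>
    intro P _ _ _ hd π hπ
    by_cases hI : RingHom.ker π ≤ maximalIdeal P ^ 2
    · have hker := ker_eq_bot_of_lifting (surjective_residue_of_surjective π hres) hL π hπ hI
      have hinj : Function.Injective π := (RingHom.injective_iff_ker_eq_bot _).mpr hker
      exact IsRegularLocalRing.of_ringEquiv (RingEquiv.ofBijective π ⟨hinj, hπ⟩)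
    · exfalso
      obtain ⟨x, hxI, hx2⟩ := SetLike.not_le_iff_exists.mp hI
      have hx : x ∈ maximalIdeal P :=
        IsLocalRing.le_maximalIdeal (RingHom.ker_ne_top (π : P →+* A)) hxI
      obtain ⟨_, hdim⟩ := Groth.Agent.Lib.Helper85.isRegularLocalRing_quotient_span_singleton x hx hx2
      omega
  | succ d ih =>
    intro P _ _ _ hd π hπ
    by_cases hI : RingHom.ker π ≤ maximalIdeal P ^ 2
    · have hker := ker_eq_bot_of_lifting (surjective_residue_of_surjective π hres) hL π hπ hI
      have hinj : Function.Injective π := (RingHom.injective_iff_ker_eq_bot _).mpr hker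
      exact IsRegularLocalRing.of_ringEquiv (RingEquiv.ofBijective π ⟨hinj, hπ⟩)
    · obtain ⟨x, hxI, hx2⟩ := SetLike.not_le_iff_exists.mp hI
      have hx : x ∈ maximalIdeal P :=
        IsLocalRing.le_maximalIdeal (RingHom.ker_ne_top (π : P →+* A)) hxI
      obtain ⟨hreg', hdim⟩ :=
        Groth.Agent.Lib.Helper85.isRegularLocalRing_quotient_span_singleton x hx hx2
      have hzero : ∀ a ∈ Ideal.span ({x} : Set P), π a = 0 := by
        intro a ha
        have : Ideal.span ({x} : Set P) ≤ RingHom.ker π :=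
          (Ideal.span_singleton_le_iff_mem _).mpr hxI
        exact this ha
      let π' : (P ⧸ Ideal.span ({x} : Set P)) →ₐ[k] A := Ideal.Quotient.liftₐ _ π hzero
      have hπ' : Function.Surjective π' := by
        intro a
        obtain ⟨p, rfl⟩ := hπ a
        exact ⟨Ideal.Quotient.mk _ p, rfl⟩
      exact ih (P ⧸ Ideal.span ({x} : Set P)) (by omega) π' hπ'

theorem regular_of_lifting (hL : Lifting k A)
    (hres : Function.Surjective (algebraMap k (ResidueField A)))
    {P : Type u} [CommRing P] [Algebra k P] [IsRegularLocalRing P] (π : P →ₐ[k] A)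
    (hπ : Function.Surjective π) : IsRegularLocalRing A :=
  regular_of_lifting_aux hL hres _ P rfl π hπ

end Converse

end Groth.Agent.Lib.Helper59.RegSmooth
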