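import Mathlib
import Groth.Agent.Lib.Helper85.RegularLocal
import Groth.Agent.Lib.Helper59.RegSmooth

/-!
# Curvilinear jets detect regularity (helper59)

`S k l = k[X]/(X^l)`.  A local `k`-algebra `B` essentially of finite type with residue field `k`
(`k` infinite) is regular as soon as every `k`-algebra map `B → S k l` (`l ≥ 1`) lifts to
`B → S k (l+1)`.
-/

set_option autoImplicit false
universe u

open Polynomial IsLocalRing

namespace Groth.Agent.Lib.Helper59.JetLift

section Jets

variable (k : Type u) [Field k]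

/-- the truncated polynomial ring `k[X]/(X^l)` -/
abbrev S (l : ℕ) : Type u := k[X] ⧸ Ideal.span {(X : k[X]) ^ l}

theorem span_le {l l' : ℕ} (h : l ≤ l') :
    Ideal.span {(X : k[X]) ^ l'} ≤ Ideal.span {(X : k[X]) ^ l} :=
  Ideal.span_singleton_le_span_singleton.mpr (pow_dvd_pow X h)

/-- the truncation map -/
noncomputable abbrev fac {l l' : ℕ} (h : l ≤ l') : S k l' →ₐ[k] S k l :=
  Ideal.Quotient.factorₐ k (span_le k h)

theorem fac_surjective {l l' : ℕ} (h : l ≤ l') : Function.Surjective (fac k h) :=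
  Ideal.Quotient.factor_surjective (span_le k h)

theorem fac_comp {l l' l'' : ℕ} (h : l ≤ l') (h' : l' ≤ l'') :
    (fac k h).comp (fac k h') = fac k (h.trans h') :=
  Ideal.Quotient.factorₐ_comp k (span_le k h') (span_le k h)

/-- the class of `X` -/
noncomputable def x (l : ℕ) : S k l := Ideal.Quotient.mk _ X

theorem x_pow (l : ℕ) : x k l ^ l = 0 := by
  rw [x, ← map_pow]
  exact Ideal.Quotient.eq_zero_iff_mem.mpr (Ideal.subset_span rfl)

theorem fac_x {l l' : ℕ} (h : l ≤ l') : fac k h (x k l') = x k l := rfl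

/-- the reduction `k[X]/(X^l) → k` for `l ≥ 1` -/
noncomputable def ρ {l : ℕ} (hl : 1 ≤ l) : S k l →ₐ[k] k :=
  Ideal.Quotient.liftₐ _ (Polynomial.aeval (0 : k)) (by
    intro a ha
    obtain ⟨b, rfl⟩ := Ideal.mem_span_singleton.mp ha
    rw [map_mul, map_pow, Polynomial.aeval_X, zero_pow (by omega), zero_mul])

theorem ρ_mk {l : ℕ} (hl : 1 ≤ l) (f : k[X]) : ρ k hl (Ideal.Quotient.mk _ f) = f.eval 0 := by
  change Polynomial.aeval (0 : k) f = _
  rw [Polynomial.coe_aeval_eq_eval]

theorem ρ_x {l : ℕ} (hl : 1 ≤ l) : ρ k hl (x k l) = 0 := by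
  rw [x, ρ_mk, Polynomial.eval_X]

theorem exists_eq_x_mul {l : ℕ} (hl : 1 ≤ l) (s : S k l) (hs : ρ k hl s = 0) :
    ∃ w, s = x k l * w := by
  obtain ⟨f, rfl⟩ := Ideal.Quotient.mk_surjective s
  rw [ρ_mk, ← Polynomial.coeff_zero_eq_eval_zero, ← Polynomial.X_dvd_iff] at hs
  obtain ⟨h, rfl⟩ := hs
  exact ⟨Ideal.Quotient.mk _ h, by rw [x, ← map_mul]⟩

theorem isNilpotent_of_ρ {l : ℕ} (hl : 1 ≤ l) (s : S k l) (hs : ρ k hl s = 0) : IsNilpotent s := by
  obtain ⟨w, rfl⟩ := exists_eq_x_mul k hl s hs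
  exact ⟨l, by rw [mul_pow, x_pow, zero_mul]⟩

theorem ρ_of_isNilpotent {l : ℕ} (hl : 1 ≤ l) (s : S k l) (hs : IsNilpotent s) : ρ k hl s = 0 :=
  (hs.map (ρ k hl)).eq_zero

theorem x_pow_mul {d : ℕ} (s : S k (d + 1)) :
    x k (d + 1) ^ d * s = x k (d + 1) ^ d * algebraMap k _ (ρ k (Nat.le_add_left 1 d) s) := by
  have h0 : ρ k (Nat.le_add_left 1 d) (s - algebraMap k _ (ρ k (Nat.le_add_left 1 d) s)) = 0 := by
    rw [map_sub, AlgHom.commutes]
    exact sub_self _
  obtain ⟨w, hw⟩ := exists_eq_x_mul k _ _ h0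
  have : s = algebraMap k _ (ρ k (Nat.le_add_left 1 d) s) + x k (d + 1) * w := by
    rw [← hw]; ring
  conv_lhs => rw [this]
  rw [mul_add, ← mul_assoc, ← pow_succ, x_pow, zero_mul, add_zero]

theorem eq_zero_of_x_pow_mul {d : ℕ} (a : k)
    (h : x k (d + 1) ^ d * algebraMap k (S k (d + 1)) a = 0) : a = 0 := by
  have h1 : (Ideal.Quotient.mk (Ideal.span {(X : k[X]) ^ (d + 1)})) (X ^ d * C a) = 0 := by
    rw [map_mul, map_pow]
    exact h
  rw [Ideal.Quotient.eq_zero_iff_mem, Ideal.mem_span_singleton, Polynomial.X_pow_dvd_iff] at h1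
  have := h1 d (Nat.lt_succ_self d)
  rwa [mul_comm, Polynomial.coeff_C_mul, Polynomial.coeff_X_pow_self, mul_one] at this

theorem ker_fac_sq {l : ℕ} (hl : 1 ≤ l) :
    RingHom.ker (fac k (Nat.le_succ l) : S k (l + 1) →+* S k l) ^ 2 = ⊥ := by
  have h1 : RingHom.ker (fac k (Nat.le_succ l) : S k (l + 1) →+* S k l) =
      (Ideal.span {(X : k[X]) ^ l}).map (Ideal.Quotient.mk (Ideal.span {(X : k[X]) ^ (l + 1)})) :=
    Ideal.Quotient.factor_ker (span_le k (Nat.le_succ l))
  rw [h1, ← Ideal.map_pow, Ideal.span_singleton_pow, ← pow_mul, eq_bot_iff,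
    Ideal.map_le_iff_le_comap]
  intro y hy
  have : y ∈ Ideal.span {(X : k[X]) ^ (l + 1)} :=
    span_le k (by nlinarith) hy
  exact Ideal.Quotient.eq_zero_iff_mem.mpr this

theorem isNilpotent_of_fac {l : ℕ} (hl : 1 ≤ l) (s : S k (l + 1))
    (h : IsNilpotent (fac k (Nat.le_succ l) s)) : IsNilpotent s := by
  obtain ⟨N, hN⟩ := h
  have h1 : s ^ N ∈ RingHom.ker (fac k (Nat.le_succ l) : S k (l + 1) →+* S k l) := by
    rw [RingHom.mem_ker, map_pow]
    exact hN
  have h2 := Ideal.pow_mem_pow h1 2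
  rw [ker_fac_sq k hl, Ideal.mem_bot] at h2
  exact ⟨N * 2, by rw [pow_mul]; exact h2⟩

/-- a ring map sending a maximal ideal into the nilpotents sends its complement into units -/
theorem isUnit_of_notMem {R T F : Type*} [CommRing R] [CommRing T] [FunLike F R T]
    [RingHomClass F R T] (m : Ideal R) [m.IsMaximal]
    (φ : F) (hφ : ∀ a ∈ m, IsNilpotent (φ a)) {y : R} (hy : y ∉ m) : IsUnit (φ y) := by
  obtain ⟨b, i, hi, hb⟩ := Ideal.IsMaximal.exists_inv ‹m.IsMaximal› hy
  have h1 : φ b * φ y = 1 - φ i := by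
    rw [← map_mul, ← map_one φ, ← hb, map_add]
    ring
  have h2 : IsUnit (φ b * φ y) := by
    rw [h1]
    exact (hφ i hi).isUnit_one_sub
  exact isUnit_of_mul_isUnit_right h2

theorem isNilpotent_ker_fac {l : ℕ} (hl : 1 ≤ l) :
    IsNilpotent (RingHom.ker (fac k (Nat.le_succ l) : S k (l + 1) →+* S k l)) :=
  ⟨2, ker_fac_sq k hl⟩

end Jets

section OneJet

variable {k : Type u} [Field k] {P : Type u} [CommRing P] [Algebra k P] [IsLocalRing P]
  (c : P →ₐ[k] k)

theorem ker_eq : RingHom.ker (c : P →+* k) = maximalIdeal P := by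
  have hs : Function.Surjective (c : P →+* k) := fun a => ⟨algebraMap k P a, by simp⟩
  exact IsLocalRing.eq_maximalIdeal (RingHom.ker_isMaximal_of_surjective _ hs)

theorem apply_eq_zero_of_mem {n : P} (hn : n ∈ maximalIdeal P) : c n = 0 := by
  rw [← ker_eq c] at hn
  exact hn

theorem mem_of_apply_eq_zero {n : P} (hn : c n = 0) : n ∈ maximalIdeal P := by
  rw [← ker_eq c]
  exact hn

theorem sub_mem (p : P) : p - algebraMap k P (c p) ∈ maximalIdeal P := by
  apply mem_of_apply_eq_zero c
  simp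

theorem algHom_unique (c' : P →ₐ[k] k) : c' = c := by
  ext p
  have h := apply_eq_zero_of_mem c' (sub_mem c p)
  simpa [sub_eq_zero] using h

variable (lam : (maximalIdeal P).Cotangent →ₗ[k] k)

/-- the derivation `P → k` attached to a functional on the cotangent space -/
noncomputable def Dfun (p : P) : k :=
  lam ((maximalIdeal P).toCotangent ⟨p - algebraMap k P (c p), sub_mem c p⟩)

theorem Dfun_add (p q : P) : Dfun c lam (p + q) = Dfun c lam p + Dfun c lam q := by
  unfold Dfun
  rw [← map_add, ← map_add]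
  congr 2
  ext
  simp only [map_add, Submodule.coe_add]
  ring

theorem Dfun_smul (a : k) (p : P) : Dfun c lam (a • p) = a * Dfun c lam p := by
  unfold Dfun
  rw [← smul_eq_mul, ← map_smul, ← LinearMap.map_smul_of_tower]
  congr 2
  ext
  simp only [map_smul, smul_eq_mul, Submodule.coe_smul_of_tower, map_mul]
  rw [Algebra.smul_def, Algebra.smul_def]
  ring

theorem Dfun_of_mem {p : P} (hp : p ∈ maximalIdeal P) :
    Dfun c lam p = lam ((maximalIdeal P).toCotangent ⟨p, hp⟩) := by
  unfold Dfun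
  congr 2
  ext
  simp [apply_eq_zero_of_mem c hp]

theorem Dfun_of_mem_sq {p : P} (hp : p ∈ maximalIdeal P ^ 2) : Dfun c lam p = 0 := by
  rw [Dfun_of_mem c lam (Ideal.pow_le_self two_ne_zero hp)]
  have : (maximalIdeal P).toCotangent ⟨p, Ideal.pow_le_self two_ne_zero hp⟩ = 0 := by
    rw [Ideal.toCotangent_eq_zero]; exact hp
  rw [this, map_zero]

theorem Dfun_algebraMap (a : k) : Dfun c lam (algebraMap k P a) = 0 := by
  unfold Dfun
  have : (⟨algebraMap k P a - algebraMap k P (c (algebraMap k P a)), sub_mem c _⟩ :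
      maximalIdeal P) = 0 := by
    ext; simp
  rw [this, map_zero, map_zero]

theorem Dfun_mul (p q : P) :
    Dfun c lam (p * q) = c p * Dfun c lam q + c q * Dfun c lam p := by
  have key : p * q = (p - algebraMap k P (c p)) * (q - algebraMap k P (c q))
      + (c p) • q + (c q) • p - algebraMap k P (c p * c q) := by
    rw [Algebra.smul_def, Algebra.smul_def, map_mul]; ring
  have hsq : (p - algebraMap k P (c p)) * (q - algebraMap k P (c q)) ∈ maximalIdeal P ^ 2 := by
    rw [pow_two]; exact Ideal.mul_mem_mul (sub_mem c p) (sub_mem c q)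
  have hsub : ∀ a b : P, Dfun c lam (a - b) = Dfun c lam a - Dfun c lam b := by
    intro a b
    have := Dfun_add c lam (a - b) b
    rw [sub_add_cancel] at this
    rw [this]; ring
  conv_lhs => rw [key]
  rw [hsub, Dfun_add, Dfun_add, Dfun_smul, Dfun_smul, Dfun_of_mem_sq c lam hsq,
    Dfun_algebraMap]
  ring

/-- the 1-jet attached to a functional on the cotangent space -/
noncomputable def jet1 : P →ₐ[k] S k 2 :=
  AlgHom.ofLinearMap
    { toFun := fun p => algebraMap k (S k 2) (c p) + algebraMap k (S k 2) (Dfun c lam p) * x k 2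
      map_add' := fun p q => by
        rw [map_add, map_add, Dfun_add, map_add]; ring
      map_smul' := fun a p => by
        rw [map_smul, Dfun_smul, RingHom.id_apply, Algebra.smul_def, Algebra.smul_def, map_mul,
          map_mul, Algebra.algebraMap_self_apply]
        ring }
    (by
      change algebraMap k (S k 2) (c 1) + algebraMap k (S k 2) (Dfun c lam 1) * x k 2 = 1
      have : Dfun c lam (1 : P) = 0 := by
        have := Dfun_algebraMap c lam 1
        rwa [map_one] at this
      rw [this, map_zero, zero_mul, add_zero, map_one, map_one])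
    (by
      intro p q
      change algebraMap k (S k 2) (c (p * q)) + algebraMap k (S k 2) (Dfun c lam (p * q)) * x k 2 =
        (algebraMap k (S k 2) (c p) + algebraMap k (S k 2) (Dfun c lam p) * x k 2) *
          (algebraMap k (S k 2) (c q) + algebraMap k (S k 2) (Dfun c lam q) * x k 2)
      have hx : x k 2 * x k 2 = 0 := by rw [← pow_two]; exact x_pow k 2
      rw [Dfun_mul, map_mul, map_add, map_mul, map_mul, map_mul]
      linear_combination (-(algebraMap k (S k 2) (Dfun c lam p) *
        algebraMap k (S k 2) (Dfun c lam q))) * hx)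

theorem jet1_apply (p : P) :
    jet1 c lam p = algebraMap k (S k 2) (c p) + algebraMap k (S k 2) (Dfun c lam p) * x k 2 := rfl

theorem jet1_of_mem {p : P} (hp : p ∈ maximalIdeal P) :
    jet1 c lam p =
      algebraMap k (S k 2) (lam ((maximalIdeal P).toCotangent ⟨p, hp⟩)) * x k 2 := by
  rw [jet1_apply, apply_eq_zero_of_mem c hp, map_zero, zero_add, Dfun_of_mem c lam hp]

theorem jet1_of_mem_sq {p : P} (hp : p ∈ maximalIdeal P ^ 2) : jet1 c lam p = 0 := by
  rw [jet1_apply, apply_eq_zero_of_mem c (Ideal.pow_le_self two_ne_zero hp), map_zero, zero_add,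
    Dfun_of_mem_sq c lam hp, map_zero, zero_mul]

end OneJet

section Main

variable {k : Type u} [Field k] {P : Type u} [CommRing P] [Algebra k P] [IsLocalRing P]

/-- scaling the point of evaluation of a homogeneous polynomial -/
theorem eval₂_mul_of_isHomogeneous {R T ι : Type*} [CommSemiring R] [CommSemiring T] (f : R →+* T)
    (a : T) (w : ι → T) {p : MvPolynomial ι R} {d : ℕ} (hp : p.IsHomogeneous d) :
    MvPolynomial.eval₂ f (fun i => a * w i) p = a ^ d * MvPolynomial.eval₂ f w p := by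
  rw [MvPolynomial.eval₂_eq, MvPolynomial.eval₂_eq, Finset.mul_sum]
  refine Finset.sum_congr rfl fun e he => ?_
  have h1 : ∏ i ∈ e.support, (a * w i) ^ e i = a ^ d * ∏ i ∈ e.support, w i ^ e i := by
    simp_rw [mul_pow]
    rw [Finset.prod_mul_distrib, Finset.prod_pow_eq_pow_sum, ← hp.degree_eq_sum_deg_support he]
  rw [h1]
  ring

/-- generators of the maximal ideal lifting a `k`-basis of the cotangent space -/
theorem exists_gens (k : Type u) [Field k] (P : Type u) [CommRing P] [Algebra k P] [IsLocalRing P]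
    [IsNoetherianRing P] :
    ∃ (ι : Type u) (b : Module.Basis ι k (maximalIdeal P).Cotangent) (t : ι → P)
      (ht : ∀ i, t i ∈ maximalIdeal P),
      (∀ i, (maximalIdeal P).toCotangent ⟨t i, ht i⟩ = b i) ∧
        Ideal.span (Set.range t) = maximalIdeal P := by
  classical
  let b := Module.Basis.ofVectorSpace k (maximalIdeal P).Cotangent
  choose t' ht' using fun i => (maximalIdeal P).toCotangent_surjective (b i)
  refine ⟨_, b, fun i => (t' i : P), fun i => (t' i).2, fun i => ht' i, ?_⟩
  have h1 : Submodule.span P (Set.range t') = ⊤ := by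
    rw [← CotangentSpace.map_eq_top_iff, Submodule.map_span, ← Set.range_comp, eq_top_iff]
    have h2 : ((maximalIdeal P).toCotangent ∘ t') = b := funext ht'
    rw [h2]
    intro y _
    have hy : y ∈ Submodule.span k (Set.range b) := by rw [b.span_eq]; trivial
    exact Submodule.span_le_restrictScalars k P _ hy
  have h3 := congrArg (Submodule.map (maximalIdeal P).subtype) h1
  rw [Submodule.map_span, Submodule.map_top, Submodule.range_subtype, ← Set.range_comp] at h3
  exact h3

/-- the jet lifting property -/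
def JL (k B : Type u) [Field k] [CommRing B] [Algebra k B] : Prop :=
  ∀ (l : ℕ), 1 ≤ l → ∀ φ : B →ₐ[k] S k l, ∃ ψ : B →ₐ[k] S k (l + 1),
    (fac k (Nat.le_succ l)).comp ψ = φ

theorem JL.exists_lift {B : Type u} [CommRing B] [Algebra k B] (hJL : JL k B)
    (φ : B →ₐ[k] S k 2) (l : ℕ) (hl : 2 ≤ l) :
    ∃ ψ : B →ₐ[k] S k l, (fac k hl).comp ψ = φ := by
  induction l, hl using Nat.le_induction with
  | base =>
    refine ⟨φ, ?_⟩
    rw [fac, Ideal.Quotient.factorₐ_refl]
    rfl
  | succ l hl ih =>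
    obtain ⟨ψ, hψ⟩ := ih
    obtain ⟨ψ', hψ'⟩ := hJL l (by omega) ψ
    refine ⟨ψ', ?_⟩
    rw [← hψ, ← hψ', ← AlgHom.comp_assoc, fac_comp]

/-- value of a jet on a homogeneous expression in the generators -/
theorem jet_apply_eval {ι : Type u} {d : ℕ} (hd : 2 ≤ d + 1) (c : P →ₐ[k] k)
    (θ : P →ₐ[k] S k (d + 1)) (t : ι → P) (v : ι → k)
    (hθ : ∀ i, fac k hd (θ (t i)) = algebraMap k (S k 2) (v i) * x k 2)
    (p : MvPolynomial ι P) (hp : p.IsHomogeneous d) :
    θ (MvPolynomial.eval t p) = x k (d + 1) ^ d *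
      algebraMap k _ (MvPolynomial.eval v (MvPolynomial.map (c : P →+* k) p)) := by
  have h1 : ∀ i, ∃ w : S k (d + 1), θ (t i) = x k (d + 1) * w ∧
      ρ k (Nat.le_add_left 1 d) w = v i := by
    intro i
    obtain ⟨f, hf⟩ := Ideal.Quotient.mk_surjective (θ (t i))
    have h2 := hθ i
    rw [← hf] at h2
    have h3 : (Ideal.Quotient.mk (Ideal.span {(X : k[X]) ^ 2})) f =
        (Ideal.Quotient.mk (Ideal.span {(X : k[X]) ^ 2})) (C (v i) * X) := by
      rw [map_mul]
      exact h2
    rw [Ideal.Quotient.eq, Ideal.mem_span_singleton] at h3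
    obtain ⟨h, hh⟩ := h3
    refine ⟨Ideal.Quotient.mk _ (C (v i) + X * h), ?_, ?_⟩
    · rw [← hf, x, ← map_mul]
      congr 1
      linear_combination hh
    · rw [ρ_mk]
      simp
  choose w hw hρw using h1
  have h4 : θ (MvPolynomial.eval t p) =
      MvPolynomial.eval₂ (θ : P →+* S k (d + 1)) (fun i => x k (d + 1) * w i) p := by
    rw [← MvPolynomial.eval₂_id, ← RingHom.coe_coe θ, MvPolynomial.eval₂_comp_left]
    congr 1
    exact funext hw
  rw [h4, eval₂_mul_of_isHomogeneous _ _ _ hp, x_pow_mul]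
  congr 2
  rw [← RingHom.coe_coe (ρ k (Nat.le_add_left 1 d)), MvPolynomial.eval₂_comp_left,
    MvPolynomial.eval_map]
  have h5 : ((ρ k (Nat.le_add_left 1 d) : S k (d + 1) →+* k).comp (θ : P →+* S k (d + 1))) =
      (c : P →+* k) := by
    have := algHom_unique c ((ρ k (Nat.le_add_left 1 d)).comp θ)
    rw [← this]
    rfl
  rw [h5]
  congr 1
  exact funext hρw

variable [IsNoetherianRing P] {B : Type u} [CommRing B] [Algebra k B]

theorem ker_le_pow_succ [Infinite k] (hJL : JL k B) (c : P →ₐ[k] k) (π : P →ₐ[k] B)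
    (hπ : Function.Surjective π) (hI : RingHom.ker π ≤ maximalIdeal P ^ 2) (d : ℕ) (hd : 2 ≤ d)
    (hId : RingHom.ker π ≤ maximalIdeal P ^ d) : RingHom.ker π ≤ maximalIdeal P ^ (d + 1) := by
  classical
  obtain ⟨ι, b, t, ht, htb, hspan⟩ := exists_gens k P
  intro g hg
  have hgd := hId hg
  rw [← hspan, Ideal.mem_span_pow_iff_exists_isHomogeneous] at hgd
  obtain ⟨p, hp, rfl⟩ := hgd
  have hzero : ∀ v : ι → k, MvPolynomial.eval v (MvPolynomial.map (c : P →+* k) p) = 0 := by
    intro v
    let lam : (maximalIdeal P).Cotangent →ₗ[k] k := b.constr k v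
    have H : RingHom.ker π.toRingHom ≤ RingHom.ker (jet1 c lam).toRingHom := by
      intro y hy
      exact jet1_of_mem_sq c lam (hI hy)
    obtain ⟨ψ, hψ⟩ := hJL.exists_lift (AlgHom.liftOfSurjective π hπ (jet1 c lam) H) (d + 1)
      (by omega)
    have hθ : ∀ i, fac k (by omega : 2 ≤ d + 1) ((ψ.comp π) (t i)) =
        algebraMap k (S k 2) (v i) * x k 2 := by
      intro i
      have h1 : fac k (by omega : 2 ≤ d + 1) ((ψ.comp π) (t i)) =
          ((fac k (by omega : 2 ≤ d + 1)).comp ψ) (π (t i)) := rfl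
      rw [h1, hψ, AlgHom.liftOfSurjective_apply, jet1_of_mem c lam (ht i), htb i]
      congr 2
      exact b.constr_basis k v i
    have h2 := jet_apply_eval (by omega : 2 ≤ d + 1) c (ψ.comp π) t v hθ p hp
    have h3 : (ψ.comp π) (MvPolynomial.eval t p) = 0 := by
      rw [AlgHom.comp_apply, RingHom.mem_ker.mp hg, map_zero]
    rw [h3] at h2
    exact eq_zero_of_x_pow_mul k _ h2.symm
  have hmap : MvPolynomial.map (c : P →+* k) p = 0 :=
    (hp.map _).eq_zero_of_forall_eval_eq_zero hzero
  rw [MvPolynomial.eval_eq]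
  refine Ideal.sum_mem _ fun e he => ?_
  rw [pow_succ']
  refine Ideal.mul_mem_mul ?_ ?_
  · apply mem_of_apply_eq_zero c
    have : c (MvPolynomial.coeff e p) = MvPolynomial.coeff e (MvPolynomial.map (c : P →+* k) p) :=
      (MvPolynomial.coeff_map _ _ _).symm
    rw [this, hmap, MvPolynomial.coeff_zero]
  · rw [hp.degree_eq_sum_deg_support he, ← Finset.prod_pow_eq_pow_sum]
    exact Ideal.prod_mem_prod fun i _ => Ideal.pow_mem_pow (ht i) _

theorem ker_eq_bot_of_JL [Infinite k] (hJL : JL k B) (c : P →ₐ[k] k) (π : P →ₐ[k] B)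
    (hπ : Function.Surjective π) (hI : RingHom.ker π ≤ maximalIdeal P ^ 2) :
    RingHom.ker π = ⊥ := by
  have hall : ∀ j : ℕ, RingHom.ker π ≤ maximalIdeal P ^ (j + 2) := by
    intro j
    induction j with
    | zero => exact hI
    | succ j ih => exact ker_le_pow_succ hJL c π hπ hI (j + 2) (by omega) ih
  rw [eq_bot_iff]
  have hne : maximalIdeal P ≠ ⊤ := (maximalIdeal.isMaximal P).ne_top
  rw [← Ideal.iInf_pow_eq_bot_of_isLocalRing (maximalIdeal P) hne]
  intro y hy
  rw [Ideal.mem_iInf]
  intro i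
  exact Ideal.pow_le_pow_right (by omega) (hall i hy)

end Main

section Reduction

variable {k : Type u} [Field k] [Infinite k] {B : Type u} [CommRing B] [Algebra k B]
  [IsLocalRing B]

/-- the residue map of a local `k`-algebra with residue field `k` -/
noncomputable def resHom (hres : Function.Surjective (algebraMap k (ResidueField B))) : B →ₐ[k] k :=
  ((AlgEquiv.ofBijective (Algebra.ofId k (ResidueField B))
    ⟨(algebraMap k (ResidueField B)).injective, hres⟩).symm : ResidueField B →ₐ[k] k).comp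
    (IsScalarTower.toAlgHom k B (ResidueField B))

theorem regular_of_JL_aux (hJL : JL k B) (c : B →ₐ[k] k) :
    ∀ (d : ℕ) (P : Type u) [CommRing P] [Algebra k P] [IsRegularLocalRing P],
      (maximalIdeal P).spanFinrank = d → ∀ (π : P →ₐ[k] B), Function.Surjective π →
        IsRegularLocalRing B := by
  intro d
  induction d with
  | zero =>
    intro P _ _ _ hd π hπ
    by_cases hI : RingHom.ker π ≤ maximalIdeal P ^ 2
    · have hker := ker_eq_bot_of_JL hJL (c.comp π) π hπ hI
      have hinj : Function.Injective π := (RingHom.injective_iff_ker_eq_bot _).mpr hker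
      exact IsRegularLocalRing.of_ringEquiv (RingEquiv.ofBijective π ⟨hinj, hπ⟩)
    · exfalso
      obtain ⟨x, hxI, hx2⟩ := SetLike.not_le_iff_exists.mp hI
      have hx : x ∈ maximalIdeal P :=
        IsLocalRing.le_maximalIdeal (RingHom.ker_ne_top (π : P →+* B)) hxI
      obtain ⟨_, hdim⟩ := Groth.Agent.Lib.Helper85.isRegularLocalRing_quotient_span_singleton x hx hx2
      omega
  | succ d ih =>
    intro P _ _ _ hd π hπ
    by_cases hI : RingHom.ker π ≤ maximalIdeal P ^ 2
    · have hker := ker_eq_bot_of_JL hJL (c.comp π) π hπ hI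
      have hinj : Function.Injective π := (RingHom.injective_iff_ker_eq_bot _).mpr hker
      exact IsRegularLocalRing.of_ringEquiv (RingEquiv.ofBijective π ⟨hinj, hπ⟩)
    · obtain ⟨x, hxI, hx2⟩ := SetLike.not_le_iff_exists.mp hI
      have hx : x ∈ maximalIdeal P :=
        IsLocalRing.le_maximalIdeal (RingHom.ker_ne_top (π : P →+* B)) hxI
      obtain ⟨hreg', hdim⟩ :=
        Groth.Agent.Lib.Helper85.isRegularLocalRing_quotient_span_singleton x hx hx2
      have hzero : ∀ a ∈ Ideal.span ({x} : Set P), π a = 0 := by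
        intro a ha
        have : Ideal.span ({x} : Set P) ≤ RingHom.ker π :=
          (Ideal.span_singleton_le_iff_mem _).mpr hxI
        exact this ha
      let π' : (P ⧸ Ideal.span ({x} : Set P)) →ₐ[k] B := Ideal.Quotient.liftₐ _ π hzero
      have hπ' : Function.Surjective π' := by
        intro a
        obtain ⟨p, rfl⟩ := hπ a
        exact ⟨Ideal.Quotient.mk _ p, rfl⟩
      exact ih (P ⧸ Ideal.span ({x} : Set P)) (by omega) π' hπ'

/-- **Curvilinear jets detect regularity.** -/
theorem regular_of_JL [Algebra.EssFiniteType k B] (hJL : JL k B)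
    (hres : Function.Surjective (algebraMap k (ResidueField B))) : IsRegularLocalRing B := by
  obtain ⟨P, _, _, _, _, _, _, π, hπ⟩ := RegSmooth.exists_presentation k B
  exact regular_of_JL_aux hJL (resHom hres) _ P rfl π hπ

end Reduction

end Groth.Agent.Lib.Helper59.JetLift
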