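import Mathlib
import Groth.Agent.Lib.Helper67.FlatKer
import Groth.Agent.Lib.Helper77.ArtinFlat
import Groth.Agent.Lib.Helper59.AffRigid

/-!
# Lifting a flat quotient along a small extension when the obstruction vanishes (helper59)

Abstract commutative algebra behind "`T² = 0` implies unobstructed".
-/

set_option autoImplicit false
set_option linter.style.haveILetI false
set_option linter.unusedSectionVars false
universe u
open IsLocalRing

namespace Groth.Agent.Lib.Helper59.LiftRel

section vec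

variable {σ : Type u} {X Y : Type u} [CommRing X] [CommRing Y]

/-- apply a ring homomorphism coordinatewise. -/
noncomputable def vmap (φ : X →+* Y) : (σ →₀ X) →+ (σ →₀ Y) :=
  Finsupp.mapRange.addMonoidHom φ.toAddMonoidHom

theorem vmap_apply (φ : X →+* Y) (R : σ →₀ X) (s : σ) : vmap φ R s = φ (R s) := rfl

theorem vmap_single (φ : X →+* Y) (s : σ) (x : X) :
    vmap φ (Finsupp.single s x) = Finsupp.single s (φ x) := by
  unfold vmap
  simp

theorem vmap_smul (φ : X →+* Y) (c : X) (R : σ →₀ X) : vmap φ (c • R) = φ c • vmap φ R := by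
  ext s
  simp [vmap_apply]

theorem vmap_surjective (φ : X →+* Y) (hφ : Function.Surjective φ) :
    Function.Surjective (vmap (σ := σ) φ) :=
  Finsupp.mapRange_surjective φ (map_zero φ) hφ

theorem lc_vmap (φ : X →+* Y) (G : σ → X) (R : σ →₀ X) :
    φ (Finsupp.linearCombination X G R) =
      Finsupp.linearCombination Y (fun s => φ (G s)) (vmap φ R) := by
  induction R using Finsupp.induction_linear with
  | zero => simp
  | add f g hf hg => rw [map_add, map_add, map_add, map_add, hf, hg]
  | single s x =>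
    rw [vmap_single, Finsupp.linearCombination_single, Finsupp.linearCombination_single,
      smul_eq_mul, smul_eq_mul, map_mul]

end vec

section vec2

variable {σ : Type u} {A X Y : Type u} [CommRing A] [CommRing X] [CommRing Y] [Algebra A X]

theorem single_mem_smul_top (𝔞 : Ideal A) (s : σ) (x : X) (hx : x ∈ 𝔞.map (algebraMap A X)) :
    Finsupp.single s x ∈ 𝔞 • (⊤ : Submodule A (σ →₀ X)) := by
  have h1 : x ∈ 𝔞 • (⊤ : Submodule A X) := by
    rw [Ideal.smul_top_eq_map]
    exact hx
  have h2 : (Finsupp.lsingle s : X →ₗ[A] (σ →₀ X)) x ∈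
      Submodule.map (Finsupp.lsingle s : X →ₗ[A] (σ →₀ X)) (𝔞 • (⊤ : Submodule A X)) :=
    Submodule.mem_map_of_mem h1
  rw [Submodule.map_smul''] at h2
  exact Submodule.smul_mono le_rfl le_top h2

/-- a vector all of whose coordinates lie in `𝔞 X` lies in `𝔞 • ⊤`. -/
theorem mem_smul_top_of_vmap_eq_zero (𝔞 : Ideal A) (φ : X →+* Y)
    (hφ : RingHom.ker φ = 𝔞.map (algebraMap A X)) (R : σ →₀ X) (hR : vmap φ R = 0) :
    R ∈ 𝔞 • (⊤ : Submodule A (σ →₀ X)) := by
  rw [← Finsupp.sum_single R]
  refine Submodule.sum_mem _ fun s _ => single_mem_smul_top 𝔞 s (R s) ?_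
  rw [← hφ, RingHom.mem_ker, ← vmap_apply, hR]
  rfl

/-- a vector all of whose coordinates are multiples of `τ` is a multiple of `τ`. -/
theorem exists_eq_smul_of_vmap_eq_zero (φ : X →+* Y) (τ : X)
    (hφ : RingHom.ker φ = Ideal.span {τ}) (R : σ →₀ X) (hR : vmap φ R = 0) :
    ∃ C : σ →₀ X, R = τ • C := by
  classical
  have h : ∀ s, ∃ c, R s = τ * c := by
    intro s
    have h1 : R s ∈ RingHom.ker φ := by
      rw [RingHom.mem_ker, ← vmap_apply, hR]
      rfl
    rw [hφ, Ideal.mem_span_singleton'] at h1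
    obtain ⟨c, hc⟩ := h1
    exact ⟨c, by rw [← hc, mul_comm]⟩
  choose c hc using h
  refine ⟨R.support.sum fun s => Finsupp.single s (c s), ?_⟩
  ext s'
  rw [Finsupp.smul_apply, Finsupp.finsetSum_apply, smul_eq_mul]
  simp only [Finsupp.single_apply]
  rw [Finset.sum_ite_eq']
  by_cases hs : s' ∈ R.support
  · rw [if_pos hs, hc]
  · rw [if_neg hs, mul_zero]
    exact Finsupp.notMem_support_iff.mp hs

end vec2

section main

variable {A' A : Type u} [CommRing A'] [IsLocalRing A'] [IsArtinianRing A'] [CommRing A]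
  [IsLocalRing A]
  {S' S S₀ B B₀ : Type u} [CommRing S'] [CommRing S] [CommRing S₀] [CommRing B] [CommRing B₀]
  [Algebra A' S'] [Module.Flat A' S'] [Algebra A S] [Module.Flat A S] [Algebra A B]
  [Module.Flat A B] [Algebra S₀ B₀] {σ : Type u}

/-- the standing hypotheses. -/
structure Hyp (p : A' →+* A) (t : A') (π : S' →+* S) (ρ₀ : S →+* S₀) (Φ : S →ₐ[A] B)
    (F : σ → S) (F' : σ → S') (f : σ → S₀) (B₀ : Type u) [CommRing B₀] [Algebra S₀ B₀] :
    Prop where
  hp : Function.Surjective p
  ht : ∀ m ∈ maximalIdeal A', m * t = 0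
  htm : t ∈ maximalIdeal A'
  ht0 : t ≠ 0
  hp𝔪 : ∀ m ∈ maximalIdeal A, ∃ m' ∈ maximalIdeal A', p m' = m
  hπ : Function.Surjective π
  hπalg : ∀ a : A', π (algebraMap A' S' a) = algebraMap A S (p a)
  hkerπ : RingHom.ker π = Ideal.span {algebraMap A' S' t}
  hρ₀ : Function.Surjective ρ₀
  hkerρ₀ : RingHom.ker ρ₀ = (maximalIdeal A).map (algebraMap A S)
  hkerρ : RingHom.ker (ρ₀.comp π) = (maximalIdeal A').map (algebraMap A' S')
  hΦ : Function.Surjective Φ
  hF : RingHom.ker (Φ : S →+* B) = Ideal.span (Set.range F)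
  hF' : ∀ s, π (F' s) = F s
  hB₀ : Function.Surjective (algebraMap S₀ B₀)
  hf : ∀ s, ρ₀ (F s) = f s
  hkerB₀ : RingHom.ker (algebraMap S₀ B₀) = Ideal.span (Set.range f)

variable {p : A' →+* A} {t : A'} {π : S' →+* S} {ρ₀ : S →+* S₀} {Φ : S →ₐ[A] B}
  {F : σ → S} {F' : σ → S'} {f : σ → S₀}

namespace Hyp

variable (H : Hyp p t π ρ₀ Φ F F' f B₀)
include H

theorem tau_mul_of_mem {m : A'} (hm : m ∈ maximalIdeal A') :
    algebraMap A' S' m * algebraMap A' S' t = 0 := by
  rw [← map_mul, H.ht m hm, map_zero]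

theorem tau_sq : algebraMap A' S' t * algebraMap A' S' t = 0 := H.tau_mul_of_mem H.htm

theorem tau_mul_of_mem_map {g : S'} (h1 : g ∈ (maximalIdeal A').map (algebraMap A' S')) :
    algebraMap A' S' t * g = 0 := by
  unfold Ideal.map at h1
  induction h1 using Submodule.span_induction with
  | mem x hx =>
    obtain ⟨m, hm, rfl⟩ := hx
    rw [mul_comm]
    exact H.tau_mul_of_mem hm
  | zero => exact mul_zero _
  | add x y _ _ hx hy => rw [mul_add, hx, hy, add_zero]
  | smul c x _ hx => rw [smul_eq_mul, mul_left_comm, hx, mul_zero]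

theorem tau_mul_eq_zero_of_rho {g : S'} (hg : ρ₀ (π g) = 0) : algebraMap A' S' t * g = 0 := by
  apply H.tau_mul_of_mem_map
  rw [← H.hkerρ]
  exact hg

theorem rho_eq_zero_of_tau_mul {g : S'} (hg : algebraMap A' S' t * g = 0) : ρ₀ (π g) = 0 := by
  have h1 := AffRigid.mem_map_maximalIdeal_of_mul_mem (A := A') (B := S') ⊥ t
    (by rw [Ideal.mem_bot]; exact H.ht0) g (by rw [Ideal.map_bot, Ideal.mem_bot]; exact hg)
  rw [← H.hkerρ] at h1
  exact h1

theorem pi_tau : π (algebraMap A' S' t) = 0 := by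
  have : algebraMap A' S' t ∈ RingHom.ker π := by
    rw [H.hkerπ]
    exact Ideal.mem_span_singleton_self _
  exact this

theorem pi_lc (R' : σ →₀ S') :
    π (Finsupp.linearCombination S' F' R') = Finsupp.linearCombination S F (vmap π R') := by
  rw [lc_vmap]
  have h : (fun s => π (F' s)) = F := funext H.hF'
  rw [h]

theorem rho_lc (R' : σ →₀ S') :
    ρ₀ (π (Finsupp.linearCombination S' F' R')) =
      Finsupp.linearCombination S₀ f (vmap (ρ₀.comp π) R') := by
  have h := lc_vmap (ρ₀.comp π) F' R'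
  rw [RingHom.comp_apply] at h
  rw [h]
  have h' : (fun s => (ρ₀.comp π) (F' s)) = f :=
    funext fun s => by rw [RingHom.comp_apply, H.hF' s, H.hf s]
  rw [h']

theorem exists_of_mem_ker_pi {x : S'} (hx : π x = 0) : ∃ g, x = algebraMap A' S' t * g := by
  have h1 : x ∈ RingHom.ker π := hx
  rw [H.hkerπ, Ideal.mem_span_singleton'] at h1
  obtain ⟨g, hg⟩ := h1
  exact ⟨g, by rw [← hg, mul_comm]⟩

end Hyp

theorem vmap_comp {σ : Type u} {X Y Z : Type u} [CommRing X] [CommRing Y] [CommRing Z]
    (φ : X →+* Y) (ψ : Y →+* Z) (R : σ →₀ X) : vmap (ψ.comp φ) R = vmap ψ (vmap φ R) := by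
  ext s
  rfl

namespace Hyp

variable (H : Hyp p t π ρ₀ Φ F F' f B₀)
include H

theorem lc_mem_ker (R : σ →₀ S) : Φ (Finsupp.linearCombination S F R) = 0 := by
  have h1 : Finsupp.linearCombination S F R ∈ Ideal.span (Set.range F) := by
    have : Finsupp.linearCombination S F R ∈ LinearMap.range (Finsupp.linearCombination S F) :=
      ⟨_, rfl⟩
    rw [Finsupp.range_linearCombination] at this
    exact this
  rw [← H.hF] at h1
  exact h1

theorem exists_lc_of_mem_ker {x : S} (hx : Φ x = 0) :
    ∃ R : σ →₀ S, Finsupp.linearCombination S F R = x := by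
  have h1 : x ∈ RingHom.ker (Φ : S →+* B) := hx
  rw [H.hF] at h1
  have h2 : x ∈ LinearMap.range (Finsupp.linearCombination S F) := by
    rw [Finsupp.range_linearCombination]
    exact h1
  exact h2

/-- elements of `𝔪 • ker Φ` are combinations of the `F s` with coefficients in `𝔪 S`. -/
theorem exists_lc_of_mem_smul_ker {x : S}
    (hx : x ∈ maximalIdeal A • LinearMap.ker Φ.toLinearMap) :
    ∃ M : σ →₀ S, Finsupp.linearCombination S F M = x ∧ vmap ρ₀ M = 0 := by
  induction hx using Submodule.smul_induction_on' with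
  | smul m hm k hk =>
    obtain ⟨Rk, rfl⟩ := H.exists_lc_of_mem_ker (LinearMap.mem_ker.mp hk)
    refine ⟨algebraMap A S m • Rk, ?_, ?_⟩
    · rw [map_smul, smul_eq_mul, Algebra.smul_def]
    · have h1 : ρ₀ (algebraMap A S m) = 0 := by
        have : algebraMap A S m ∈ RingHom.ker ρ₀ := by
          rw [H.hkerρ₀]
          exact Ideal.mem_map_of_mem _ hm
        exact this
      rw [vmap_smul, h1, zero_smul]
  | add x _ y _ hx hy =>
    obtain ⟨M1, h1, h1'⟩ := hx
    obtain ⟨M2, h2, h2'⟩ := hy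
    exact ⟨M1 + M2, by rw [map_add, h1, h2], by rw [map_add, h1', h2', add_zero]⟩

/-- relations among the `f s` lift to relations modulo `t`. -/
theorem claim1 (r : σ →₀ S₀) (hr : Finsupp.linearCombination S₀ f r = 0) :
    ∃ (R' : σ →₀ S') (g' : S'), vmap (ρ₀.comp π) R' = r ∧
      Finsupp.linearCombination S' F' R' = algebraMap A' S' t * g' := by
  obtain ⟨R₁, hR₁⟩ := vmap_surjective ρ₀ H.hρ₀ r
  have h1 : ρ₀ (Finsupp.linearCombination S F R₁) = 0 := by
    rw [lc_vmap, funext H.hf, hR₁, hr]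
  have h2 : Finsupp.linearCombination S F R₁ ∈ maximalIdeal A • (⊤ : Submodule A S) := by
    rw [Ideal.smul_top_eq_map, Submodule.restrictScalars_mem, ← H.hkerρ₀]
    exact h1
  have h4 := Groth.Agent.Lib.Helper67.mem_smul_ker_of_flat Φ.toLinearMap H.hΦ (maximalIdeal A) _ h2
    (H.lc_mem_ker R₁)
  obtain ⟨M, hM, hM'⟩ := H.exists_lc_of_mem_smul_ker h4
  obtain ⟨R', hR'⟩ := vmap_surjective π H.hπ (R₁ - M)
  have h5 : π (Finsupp.linearCombination S' F' R') = 0 := by
    rw [H.pi_lc, hR', map_sub, hM, sub_self]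
  obtain ⟨g', hg'⟩ := H.exists_of_mem_ker_pi h5
  refine ⟨R', g', ?_, hg'⟩
  rw [vmap_comp, hR', map_sub, hR₁, hM', sub_zero]

/-- the kernel of `Φ` is flat over `A`. -/
theorem flat_ker : Module.Flat A (LinearMap.ker Φ.toLinearMap) :=
  Groth.Agent.Lib.Helper77.flat_of_flat_of_flat_coker (LinearMap.ker Φ.toLinearMap).subtype
    Φ.toLinearMap Subtype.val_injective H.hΦ (LinearMap.exact_subtype_ker_map _)

/-- the combination map onto the kernel of `Φ`. -/
noncomputable def psi : (σ →₀ S) →ₗ[A] LinearMap.ker Φ.toLinearMap :=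
  LinearMap.codRestrict _ ((Finsupp.linearCombination S F).restrictScalars A)
    (fun R => LinearMap.mem_ker.mpr (H.lc_mem_ker R))

theorem psi_coe (R : σ →₀ S) : ((H.psi R : LinearMap.ker Φ.toLinearMap) : S) =
    Finsupp.linearCombination S F R := rfl

theorem psi_surjective : Function.Surjective H.psi := by
  rintro ⟨x, hx⟩
  obtain ⟨R, hR⟩ := H.exists_lc_of_mem_ker (LinearMap.mem_ker.mp hx)
  exact ⟨R, Subtype.ext hR⟩

/-- elements of `𝔪 • ker j` lift to exact relations among the `F' s`. -/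
theorem exists_lift_of_mem_smul_ker {R : σ →₀ S} (hR : R ∈ maximalIdeal A • LinearMap.ker H.psi) :
    ∃ R'₀ : σ →₀ S', vmap π R'₀ = R ∧ Finsupp.linearCombination S' F' R'₀ = 0 := by
  induction hR using Submodule.smul_induction_on' with
  | smul m hm ρi hρi =>
    obtain ⟨m', hm', rfl⟩ := H.hp𝔪 m hm
    obtain ⟨ρ'i, rfl⟩ := vmap_surjective π H.hπ ρi
    have h1 : Finsupp.linearCombination S F (vmap π ρ'i) = 0 := by
      have := congrArg Subtype.val (LinearMap.mem_ker.mp hρi)
      exact this
    have h2 : π (Finsupp.linearCombination S' F' ρ'i) = 0 := by rw [H.pi_lc, h1]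
    obtain ⟨c, hc⟩ := H.exists_of_mem_ker_pi h2
    refine ⟨algebraMap A' S' m' • ρ'i, ?_, ?_⟩
    · rw [vmap_smul, H.hπalg, ← algebraMap_smul S (p m') (vmap π ρ'i)]
    · rw [map_smul, hc, smul_eq_mul, ← mul_assoc, H.tau_mul_of_mem hm', zero_mul]
  | add x _ y _ hx hy =>
    obtain ⟨M1, h1, h1'⟩ := hx
    obtain ⟨M2, h2, h2'⟩ := hy
    exact ⟨M1 + M2, by rw [map_add, h1, h2], by rw [map_add, h1', h2', add_zero]⟩

/-- well-definedness of the obstruction. -/
theorem claim2 (R' : σ →₀ S') (g' : S') (hR' : vmap (ρ₀.comp π) R' = 0)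
    (hg' : Finsupp.linearCombination S' F' R' = algebraMap A' S' t * g') :
    algebraMap S₀ B₀ (ρ₀ (π g')) = 0 := by
  haveI := H.flat_ker
  have h1 : vmap ρ₀ (vmap π R') = 0 := by rw [← vmap_comp]; exact hR'
  have h2 : vmap π R' ∈ maximalIdeal A • (⊤ : Submodule A (σ →₀ S)) :=
    mem_smul_top_of_vmap_eq_zero (maximalIdeal A) ρ₀ H.hkerρ₀ _ h1
  have h3 : H.psi (vmap π R') = 0 := by
    apply Subtype.ext
    rw [H.psi_coe, ← H.pi_lc, hg', map_mul, H.pi_tau, zero_mul]
    rfl
  have h4 := Groth.Agent.Lib.Helper67.mem_smul_ker_of_flat H.psi H.psi_surjective (maximalIdeal A)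
    _ h2 h3
  obtain ⟨R'₀, hR'₀, hj⟩ := H.exists_lift_of_mem_smul_ker h4
  have h5 : vmap π (R' - R'₀) = 0 := by rw [map_sub, hR'₀, sub_self]
  obtain ⟨C, hC⟩ := exists_eq_smul_of_vmap_eq_zero π _ H.hkerπ _ h5
  have h6 : Finsupp.linearCombination S' F' R' =
      algebraMap A' S' t * Finsupp.linearCombination S' F' C := by
    have : R' = R'₀ + algebraMap A' S' t • C := by rw [← hC]; abel
    rw [this, map_add, hj, zero_add, map_smul, smul_eq_mul]
  have h7 : algebraMap A' S' t * (g' - Finsupp.linearCombination S' F' C) = 0 := by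
    rw [mul_sub, ← hg', ← h6, sub_self]
  have h8 := H.rho_eq_zero_of_tau_mul h7
  rw [map_sub, map_sub, sub_eq_zero] at h8
  rw [h8, H.rho_lc]
  have h9 : Finsupp.linearCombination S₀ f (vmap (ρ₀.comp π) C) ∈
      RingHom.ker (algebraMap S₀ B₀) := by
    rw [H.hkerB₀]
    have : Finsupp.linearCombination S₀ f (vmap (ρ₀.comp π) C) ∈
        LinearMap.range (Finsupp.linearCombination S₀ f) := ⟨_, rfl⟩
    rw [Finsupp.range_linearCombination] at this
    exact this
  exact h9

theorem rho_surjective : Function.Surjective (ρ₀.comp π) := H.hρ₀.comp H.hπ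

theorem exists_obs (r : σ →₀ S₀) (hr : Finsupp.linearCombination S₀ f r = 0) :
    ∃ b : B₀, ∀ (R' : σ →₀ S') (g' : S'), vmap (ρ₀.comp π) R' = r →
      Finsupp.linearCombination S' F' R' = algebraMap A' S' t * g' →
      algebraMap S₀ B₀ (ρ₀ (π g')) = b := by
  obtain ⟨R'₁, g'₁, h1, h2⟩ := H.claim1 r hr
  refine ⟨algebraMap S₀ B₀ (ρ₀ (π g'₁)), fun R' g' h3 h4 => ?_⟩
  have := H.claim2 (R' - R'₁) (g' - g'₁) (by rw [map_sub, h3, h1, sub_self])
    (by rw [map_sub, h4, h2, mul_sub])
  rw [map_sub, map_sub, map_sub, sub_eq_zero] at this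
  exact this

/-- the obstruction, as a function on relations. -/
noncomputable def obs (r : LinearMap.ker (Finsupp.linearCombination S₀ f)) : B₀ :=
  Classical.choose (H.exists_obs r.1 (LinearMap.mem_ker.mp r.2))

theorem obs_spec (r : LinearMap.ker (Finsupp.linearCombination S₀ f)) (R' : σ →₀ S') (g' : S')
    (h1 : vmap (ρ₀.comp π) R' = r.1)
    (h2 : Finsupp.linearCombination S' F' R' = algebraMap A' S' t * g') :
    H.obs r = algebraMap S₀ B₀ (ρ₀ (π g')) :=
  (Classical.choose_spec (H.exists_obs r.1 (LinearMap.mem_ker.mp r.2)) R' g' h1 h2).symm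

/-- the obstruction as a linear map. -/
noncomputable def obsLin : LinearMap.ker (Finsupp.linearCombination S₀ f) →ₗ[S₀] B₀ where
  toFun := H.obs
  map_add' r₁ r₂ := by
    obtain ⟨R1, g1, h1, h1'⟩ := H.claim1 r₁.1 (LinearMap.mem_ker.mp r₁.2)
    obtain ⟨R2, g2, h2, h2'⟩ := H.claim1 r₂.1 (LinearMap.mem_ker.mp r₂.2)
    rw [H.obs_spec r₁ R1 g1 h1 h1', H.obs_spec r₂ R2 g2 h2 h2',
      H.obs_spec (r₁ + r₂) (R1 + R2) (g1 + g2) (by rw [map_add, h1, h2]; rfl)
        (by rw [map_add, h1', h2', mul_add]),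
      map_add, map_add, map_add]
  map_smul' c r := by
    obtain ⟨c', hc'⟩ := H.rho_surjective c
    obtain ⟨R1, g1, h1, h1'⟩ := H.claim1 r.1 (LinearMap.mem_ker.mp r.2)
    rw [H.obs_spec r R1 g1 h1 h1',
      H.obs_spec (c • r) (c' • R1) (c' * g1) (by rw [vmap_smul, hc', h1]; rfl)
        (by rw [map_smul, h1', smul_eq_mul, mul_left_comm]),
      map_mul, map_mul, map_mul, RingHom.id_apply, Algebra.smul_def]
    congr 2

theorem obsLin_apply (r : LinearMap.ker (Finsupp.linearCombination S₀ f)) :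
    H.obsLin r = H.obs r := rfl

theorem triv_le_ker :
    Submodule.span S₀ {y | ∃ a b : σ →₀ S₀, y = Finsupp.linearCombination S₀ f a • b -
      Finsupp.linearCombination S₀ f b • a} ≤ LinearMap.ker (Finsupp.linearCombination S₀ f) := by
  rw [Submodule.span_le]
  rintro _ ⟨a, b, rfl⟩
  rw [SetLike.mem_coe, LinearMap.mem_ker, map_sub, map_smul, map_smul, smul_eq_mul, smul_eq_mul,
    mul_comm, sub_self]

theorem obsLin_triv (r : LinearMap.ker (Finsupp.linearCombination S₀ f))
    (hr : (r : σ →₀ S₀) ∈ Submodule.span S₀ {y | ∃ a b : σ →₀ S₀,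
      y = Finsupp.linearCombination S₀ f a • b - Finsupp.linearCombination S₀ f b • a}) :
    H.obsLin r = 0 := by
  have key : ∀ y (hy : y ∈ Submodule.span S₀ {y | ∃ a b : σ →₀ S₀,
      y = Finsupp.linearCombination S₀ f a • b - Finsupp.linearCombination S₀ f b • a}),
      H.obsLin ⟨y, H.triv_le_ker hy⟩ = 0 := by
    intro y hy
    induction hy using Submodule.span_induction with
    | mem y hy =>
      obtain ⟨a, b, rfl⟩ := hy
      obtain ⟨a', rfl⟩ := vmap_surjective (ρ₀.comp π) H.rho_surjective a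
      obtain ⟨b', rfl⟩ := vmap_surjective (ρ₀.comp π) H.rho_surjective b
      rw [obsLin_apply, H.obs_spec _
        (Finsupp.linearCombination S' F' a' • b' - Finsupp.linearCombination S' F' b' • a') 0
        (by
          rw [map_sub, vmap_smul, vmap_smul, RingHom.comp_apply, RingHom.comp_apply, H.rho_lc,
            H.rho_lc])
        (by
          rw [map_sub, map_smul, map_smul, smul_eq_mul, smul_eq_mul, mul_comm, sub_self,
            mul_zero]),
        map_zero, map_zero, map_zero]
    | zero => exact map_zero H.obsLin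
    | add x y hx hy ihx ihy =>
      have : (⟨x + y, H.triv_le_ker (Submodule.add_mem _ hx hy)⟩ :
          LinearMap.ker (Finsupp.linearCombination S₀ f)) =
          ⟨x, H.triv_le_ker hx⟩ + ⟨y, H.triv_le_ker hy⟩ := rfl
      rw [this, map_add, ihx, ihy, add_zero]
    | smul c x hx ihx =>
      have : (⟨c • x, H.triv_le_ker (Submodule.smul_mem _ c hx)⟩ :
          LinearMap.ker (Finsupp.linearCombination S₀ f)) = c • ⟨x, H.triv_le_ker hx⟩ := rfl
      rw [this, map_smul, ihx, smul_zero]
  exact key r.1 hr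

end Hyp

end main

section flat

variable {A' S' : Type u} [CommRing A'] [IsLocalRing A'] [IsArtinianRing A'] [CommRing S']
  [Algebra A' S'] [Module.Flat A' S']

/-- flatness of a quotient of a flat algebra over an Artinian local ring: `J ∩ 𝔪 S' ⊆ 𝔪 J`. -/
theorem flat_quotient_of_inter (J : Ideal S')
    (h : ∀ x ∈ J, x ∈ (maximalIdeal A').map (algebraMap A' S') →
      x ∈ maximalIdeal A' • (J.restrictScalars A')) :
    Module.Flat A' (S' ⧸ J) := by
  refine Groth.Agent.Lib.Helper77.flat_of_exact_of_lTensor_residueField_injective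
    (J.restrictScalars A').subtype (Ideal.Quotient.mkₐ A' J).toLinearMap
    (Ideal.Quotient.mkₐ_surjective A' J) ?_ ?_
  · intro y
    constructor
    · intro hy
      exact ⟨⟨y, Ideal.Quotient.eq_zero_iff_mem.mp hy⟩, rfl⟩
    · rintro ⟨⟨x, hx⟩, rfl⟩
      exact Ideal.Quotient.eq_zero_iff_mem.mpr hx
  · rw [injective_iff_map_eq_zero]
    intro z hz
    obtain ⟨⟨x, hx⟩, rfl⟩ := Groth.Agent.Lib.Helper77.residue_mk_surjective (A := A')
      (J.restrictScalars A') z
    rw [TensorProduct.mk_apply, LinearMap.lTensor_tmul] at hz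
    have h1 : x ∈ LinearMap.ker (TensorProduct.mk A' (A' ⧸ maximalIdeal A') S' 1) := hz
    rw [LinearMap.ker_tensorProductMk, Ideal.smul_top_eq_map, Submodule.restrictScalars_mem] at h1
    have h2 := h x hx h1
    have h3 : (⟨x, hx⟩ : J.restrictScalars A') ∈
        maximalIdeal A' • (⊤ : Submodule A' (J.restrictScalars A')) := by
      have h4 : maximalIdeal A' • (J.restrictScalars A') =
          Submodule.map (J.restrictScalars A').subtype
            (maximalIdeal A' • (⊤ : Submodule A' (J.restrictScalars A'))) := by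
        rw [Submodule.map_smul'', Submodule.map_subtype_top]
      rw [h4] at h2
      obtain ⟨y, hy, hyx⟩ := h2
      have : y = ⟨x, hx⟩ := Subtype.ext hyx
      rw [← this]
      exact hy
    have h5 : (⟨x, hx⟩ : J.restrictScalars A') ∈
        LinearMap.ker (TensorProduct.mk A' (A' ⧸ maximalIdeal A') (J.restrictScalars A') 1) := by
      rw [LinearMap.ker_tensorProductMk]
      exact h3
    exact h5

end flat

section final

variable {A' A : Type u} [CommRing A'] [IsLocalRing A'] [IsArtinianRing A'] [CommRing A]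
  [IsLocalRing A]
  {S' S S₀ B B₀ : Type u} [CommRing S'] [CommRing S] [CommRing S₀] [CommRing B] [CommRing B₀]
  [Algebra A' S'] [Module.Flat A' S'] [Algebra A S] [Module.Flat A S] [Algebra A B]
  [Module.Flat A B] [Algebra S₀ B₀] {σ : Type u}
  {p : A' →+* A} {t : A'} {π : S' →+* S} {ρ₀ : S →+* S₀} {Φ : S →ₐ[A] B}
  {F : σ → S} {F' : σ → S'} {f : σ → S₀}

theorem lc_sub_mul (G U : σ → S') (c : S') (R : σ →₀ S') :
    Finsupp.linearCombination S' (fun s => G s - c * U s) R =
      Finsupp.linearCombination S' G R - c * Finsupp.linearCombination S' U R := by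
  induction R using Finsupp.induction_linear with
  | zero => simp
  | add x y hx hy => rw [map_add, map_add, map_add, hx, hy]; ring
  | single s x =>
    rw [Finsupp.linearCombination_single, Finsupp.linearCombination_single,
      Finsupp.linearCombination_single, smul_eq_mul, smul_eq_mul, smul_eq_mul]
    ring

theorem algebraMap_lc (v : σ → S₀) (l : σ →₀ S₀) :
    algebraMap S₀ B₀ (Finsupp.linearCombination S₀ v l) =
      Finsupp.linearCombination S₀ (fun s => algebraMap S₀ B₀ (v s)) l :=
  Finsupp.apply_linearCombination S₀ (Algebra.linearMap S₀ B₀) v l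

/-- the main lifting statement. -/
theorem Hyp.exists_flat_lift (H : Hyp p t π ρ₀ Φ F F' f B₀)
    (hT : ∀ h : LinearMap.ker (Finsupp.linearCombination S₀ f) →ₗ[S₀] B₀,
      (∀ r : LinearMap.ker (Finsupp.linearCombination S₀ f),
        (r : σ →₀ S₀) ∈ Submodule.span S₀ {y | ∃ a b : σ →₀ S₀,
          y = Finsupp.linearCombination S₀ f a • b - Finsupp.linearCombination S₀ f b • a} →
        h r = 0) →
      ∃ u : σ → B₀, ∀ r : LinearMap.ker (Finsupp.linearCombination S₀ f),
        h r = Finsupp.linearCombination S₀ u (r : σ →₀ S₀)) :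
    ∃ F'' : σ → S', (∀ s, π (F'' s) = F s) ∧
      Module.Flat A' (S' ⧸ Ideal.span (Set.range F'')) := by
  obtain ⟨u, hu⟩ := hT H.obsLin H.obsLin_triv
  have hsurj : Function.Surjective fun x : S' => algebraMap S₀ B₀ (ρ₀ (π x)) :=
    H.hB₀.comp H.rho_surjective
  choose U hU using fun s => hsurj (u s)
  have hU' : ∀ s, algebraMap S₀ B₀ (ρ₀ (π (U s))) = u s := hU
  refine ⟨fun s => F' s - algebraMap A' S' t * U s, fun s => ?_, ?_⟩
  · rw [map_sub, map_mul, H.pi_tau, zero_mul, sub_zero, H.hF']
  · -- the lifted generators again satisfy the hypotheses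
    have H'' : Hyp p t π ρ₀ Φ F (fun s => F' s - algebraMap A' S' t * U s) f B₀ :=
      { H with hF' := fun s => by rw [map_sub, map_mul, H.pi_tau, zero_mul, sub_zero, H.hF'] }
    apply flat_quotient_of_inter
    intro x hxJ hxm
    have hxr : x ∈ LinearMap.range (Finsupp.linearCombination S'
        (fun s => F' s - algebraMap A' S' t * U s)) := by
      rw [Finsupp.range_linearCombination]
      exact hxJ
    obtain ⟨R, rfl⟩ := hxr
    -- `r = ρ R` is a relation
    have hρx : ρ₀ (π (Finsupp.linearCombination S' (fun s => F' s - algebraMap A' S' t * U s) R))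
        = 0 := by
      have h0 : Finsupp.linearCombination S' (fun s => F' s - algebraMap A' S' t * U s) R ∈
          RingHom.ker (ρ₀.comp π) := by rw [H.hkerρ]; exact hxm
      exact h0
    have hr : Finsupp.linearCombination S₀ f (vmap (ρ₀.comp π) R) = 0 := by
      rw [← H''.rho_lc, hρx]
    obtain ⟨R'₁, g'₁, h1, h2⟩ := H.claim1 _ hr
    -- the obstruction of `r`, computed in two ways
    have h3 : H.obs ⟨_, LinearMap.mem_ker.mpr hr⟩ = algebraMap S₀ B₀ (ρ₀ (π g'₁)) :=
      H.obs_spec ⟨_, LinearMap.mem_ker.mpr hr⟩ R'₁ g'₁ h1 h2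
    have h4 : H.obs ⟨_, LinearMap.mem_ker.mpr hr⟩ =
        algebraMap S₀ B₀ (ρ₀ (π (Finsupp.linearCombination S' U R'₁))) := by
      have h5 := hu ⟨_, LinearMap.mem_ker.mpr hr⟩
      rw [obsLin_apply] at h5
      rw [h5]
      show Finsupp.linearCombination S₀ u (vmap (ρ₀.comp π) R) = _
      rw [← h1]
      have h6 := lc_vmap (ρ₀.comp π) U R'₁
      rw [RingHom.comp_apply] at h6
      rw [h6, algebraMap_lc]
      have h6' : (fun s => algebraMap S₀ B₀ ((ρ₀.comp π) (U s))) = u := funext hU'
      rw [h6']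
    -- hence `g'₁ - ⟨R'₁, U⟩` maps into the ideal of the `f s`
    have h7 : ρ₀ (π (g'₁ - Finsupp.linearCombination S' U R'₁)) ∈
        RingHom.ker (algebraMap S₀ B₀) := by
      rw [RingHom.mem_ker, map_sub, map_sub, map_sub, ← h3, ← h4, sub_self]
    rw [H.hkerB₀] at h7
    have h8 : ρ₀ (π (g'₁ - Finsupp.linearCombination S' U R'₁)) ∈
        LinearMap.range (Finsupp.linearCombination S₀ f) := by
      rw [Finsupp.range_linearCombination]
      exact h7
    obtain ⟨c, hc⟩ := h8
    obtain ⟨C, rfl⟩ := vmap_surjective (ρ₀.comp π) H.rho_surjective c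
    rw [← H''.rho_lc] at hc
    have h9 : algebraMap A' S' t * (Finsupp.linearCombination S'
        (fun s => F' s - algebraMap A' S' t * U s) C -
        (g'₁ - Finsupp.linearCombination S' U R'₁)) = 0 := by
      apply H.tau_mul_eq_zero_of_rho
      rw [map_sub, map_sub, hc, sub_self]
    -- decompose `R`
    have h10 : vmap (ρ₀.comp π) (R - R'₁) = 0 := by rw [map_sub, h1, sub_self]
    have h11 : R - R'₁ ∈ maximalIdeal A' • (⊤ : Submodule A' (σ →₀ S')) :=
      mem_smul_top_of_vmap_eq_zero (maximalIdeal A') (ρ₀.comp π) H.hkerρ _ h10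
    have h12 : algebraMap A' S' t • C ∈ maximalIdeal A' • (⊤ : Submodule A' (σ →₀ S')) := by
      rw [algebraMap_smul]
      exact Submodule.smul_mem_smul H.htm Submodule.mem_top
    have h13 : Finsupp.linearCombination S' (fun s => F' s - algebraMap A' S' t * U s) R =
        Finsupp.linearCombination S' (fun s => F' s - algebraMap A' S' t * U s)
          ((R - R'₁) + algebraMap A' S' t • C) := by
      have e1 : Finsupp.linearCombination S' (fun s => F' s - algebraMap A' S' t * U s) R'₁ =
          algebraMap A' S' t * (g'₁ - Finsupp.linearCombination S' U R'₁) := by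
        rw [lc_sub_mul, h2, mul_sub]
      rw [map_add, map_sub, map_smul, smul_eq_mul, e1]
      linear_combination (-1 : S') * h9
    rw [h13]
    have h14 : Submodule.map ((Finsupp.linearCombination S'
        (fun s => F' s - algebraMap A' S' t * U s)).restrictScalars A')
        (maximalIdeal A' • (⊤ : Submodule A' (σ →₀ S'))) ≤
        maximalIdeal A' • ((Ideal.span (Set.range
          (fun s => F' s - algebraMap A' S' t * U s))).restrictScalars A') := by
      rw [Submodule.map_smul'']
      apply Submodule.smul_mono le_rfl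
      rintro _ ⟨y, -, rfl⟩
      rw [Submodule.restrictScalars_mem]
      have : Finsupp.linearCombination S' (fun s => F' s - algebraMap A' S' t * U s) y ∈
          LinearMap.range (Finsupp.linearCombination S'
            (fun s => F' s - algebraMap A' S' t * U s)) := ⟨_, rfl⟩
      rw [Finsupp.range_linearCombination] at this
      exact this
    exact h14 ⟨_, Submodule.add_mem _ h11 h12, rfl⟩

end final

end Groth.Agent.Lib.Helper59.LiftRel
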