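import Mathlib
import Groth.Agent.Lib.Helper59.H1RegOfRegular
import Groth.Agent.Lib.Helper59.CotTVanish
import Groth.Agent.Lib.Helper59.CotTIndep

/-!
Presentation of a localization `T = S⁻¹R` over `R` by one variable `X_s` and one relation
`s * X_s - 1` per denominator; the relations are regular in every finite subfamily, hence all
relations among them are trivial and `T²(T/R, M) = 0` (helper59).
-/

set_option autoImplicit false
universe u

namespace Groth.Agent.Lib.Helper59.LocPres

open MvPolynomial

section NZD

theorem poly_mem_map_C_of_mul_mem {A : Type*} [CommRing A] (I : Ideal A) (c : A) (p : Polynomial A)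
    (h : (Polynomial.C c * Polynomial.X - 1) * p ∈ I.map (Polynomial.C : A →+* Polynomial A)) :
    p ∈ I.map (Polynomial.C : A →+* Polynomial A) := by
  rw [Ideal.mem_map_C_iff] at h ⊢
  have e : (Polynomial.C c * Polynomial.X - 1) * p = Polynomial.C c * (Polynomial.X * p) - p := by
    ring
  rw [e] at h
  intro n
  induction n with
  | zero =>
    have h0 := h 0
    rw [Polynomial.coeff_sub, Polynomial.coeff_C_mul, Polynomial.coeff_X_mul_zero, mul_zero,
      zero_sub] at h0
    exact (Ideal.neg_mem_iff _).mp h0
  | succ n ih =>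
    have h1 := h (n + 1)
    rw [Polynomial.coeff_sub, Polynomial.coeff_C_mul, Polynomial.coeff_X_mul] at h1
    have h2 : c * p.coeff n ∈ I := I.mul_mem_left _ ih
    have h3 := I.sub_mem h2 h1
    rwa [sub_sub_cancel] at h3

variable {R : Type*} [CommRing R] {σ : Type*}

/-- split off one variable -/
noncomputable def splitEquiv (s : σ) :
    MvPolynomial σ R ≃ₐ[R] Polynomial (MvPolynomial {t // t ≠ s} R) := by
  classical
  exact (MvPolynomial.renameEquiv R (Equiv.optionSubtypeNe s).symm).trans
    (MvPolynomial.optionEquivLeft R _)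

theorem splitEquiv_X_self (s : σ) : splitEquiv (R := R) s (X s) = Polynomial.X := by
  classical
  simp [splitEquiv]

theorem splitEquiv_X_ne (s t : σ) (h : t ≠ s) :
    splitEquiv (R := R) s (X t) = Polynomial.C (X ⟨t, h⟩) := by
  classical
  simp [splitEquiv, Equiv.optionSubtypeNe_symm_of_ne h]

theorem splitEquiv_C (s : σ) (a : R) :
    splitEquiv (R := R) s (C a) = Polynomial.C (C a) := by
  classical
  simp [splitEquiv]

/-- the relation `b t * X t - 1` -/
noncomputable def gen (b : σ → R) (t : σ) : MvPolynomial σ R := C (b t) * X t - 1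

theorem mem_of_gen_mul_mem (b : σ → R) (D : Set σ) (s : σ) (hs : s ∉ D) (p : MvPolynomial σ R)
    (h : gen b s * p ∈ Ideal.span (gen b '' D)) : p ∈ Ideal.span (gen b '' D) := by
  classical
  set J := Ideal.span (gen b '' D) with hJ
  let b' : {t // t ≠ s} → R := fun t => b t.1
  let J₀ : Ideal (MvPolynomial {t // t ≠ s} R) := Ideal.span (gen b' '' {t | t.1 ∈ D})
  let e := splitEquiv (R := R) s
  have hgen : ∀ t (ht : t ≠ s), e (gen b t) = Polynomial.C (gen b' ⟨t, ht⟩) := by
    intro t ht
    simp only [gen, map_sub, map_mul, map_one, e, splitEquiv_C, splitEquiv_X_ne s t ht, b']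
  have h1 : J ≤ (J₀.map (Polynomial.C : _ →+* Polynomial (MvPolynomial {t // t ≠ s} R))).comap
      (e : MvPolynomial σ R →+* _) := by
    rw [hJ, Ideal.span_le]
    rintro _ ⟨t, ht, rfl⟩
    have hts : t ≠ s := fun h => hs (h ▸ ht)
    refine Ideal.mem_comap.mpr ?_
    have h0 : (e : MvPolynomial σ R →+* _) (gen b t) = Polynomial.C (gen b' ⟨t, hts⟩) := hgen t hts
    rw [h0]
    exact Ideal.mem_map_of_mem _ (Ideal.subset_span ⟨⟨t, hts⟩, ht, rfl⟩)
  have h2 : J₀.map (Polynomial.C : _ →+* Polynomial (MvPolynomial {t // t ≠ s} R)) ≤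
      J.comap (e.symm : Polynomial (MvPolynomial {t // t ≠ s} R) →+* MvPolynomial σ R) := by
    rw [Ideal.map_le_iff_le_comap, Ideal.span_le]
    rintro _ ⟨t, ht, rfl⟩
    change e.symm (Polynomial.C (gen b' t)) ∈ J
    rw [← hgen t.1 t.2, AlgEquiv.symm_apply_apply]
    exact Ideal.subset_span ⟨t.1, ht, rfl⟩
  have h3 : e (gen b s * p) ∈ J₀.map Polynomial.C := h1 h
  have h4 : e (gen b s * p) = (Polynomial.C (C (b s)) * Polynomial.X - 1) * e p := by
    simp only [gen, map_sub, map_mul, map_one, e, splitEquiv_C, splitEquiv_X_self]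
  rw [h4] at h3
  have h5 := poly_mem_map_C_of_mul_mem _ _ _ h3
  have h6 := h2 h5
  change e.symm (e p) ∈ J at h6
  rwa [AlgEquiv.symm_apply_apply] at h6

end NZD

section Pres

variable (R : Type u) [CommRing R] (S : Submonoid R) (T : Type u) [CommRing T] [Algebra R T]
  [IsLocalization S T]

/-- the generator attached to `s` is `1/s` -/
noncomputable def locVal (s : S) : T := IsLocalization.mk' T (1 : R) s

theorem aeval_locVal_surjective :
    Function.Surjective (MvPolynomial.aeval (R := R) (locVal R S T)) := by
  intro t
  obtain ⟨a, s, rfl⟩ := IsLocalization.exists_mk'_eq S t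
  refine ⟨C a * X s, ?_⟩
  rw [map_mul, aeval_C, aeval_X, locVal, ← IsLocalization.mk'_eq_mul_mk'_one]

noncomputable def locGens : Algebra.Generators R T S :=
  Algebra.Generators.ofSurjective (locVal R S T) (aeval_locVal_surjective R S T)

/-- the relation `s * X_s - 1` -/
noncomputable def locRel (s : S) : MvPolynomial S R := gen (fun s : S => (s : R)) s

theorem aeval_locRel (s : S) : MvPolynomial.aeval (locVal R S T) (locRel R S s) = 0 := by
  rw [locRel, gen, map_sub, map_mul, map_one, aeval_C, aeval_X, locVal, sub_eq_zero, mul_comm]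
  exact IsLocalization.mk'_spec T 1 s |>.trans (map_one _)

theorem ker_le_span : RingHom.ker (MvPolynomial.aeval (R := R) (locVal R S T)) ≤
    Ideal.span (Set.range (locRel R S)) := by
  set J := Ideal.span (Set.range (locRel R S)) with hJ
  let g : R →+* MvPolynomial S R ⧸ J := (Ideal.Quotient.mk J).comp C
  have hXs : ∀ s : S, g s * Ideal.Quotient.mk J (X s) = 1 := by
    intro s
    change Ideal.Quotient.mk J (C (s : R)) * Ideal.Quotient.mk J (X s) = 1
    rw [← map_mul, ← map_one (Ideal.Quotient.mk J), Ideal.Quotient.eq]
    exact Ideal.subset_span ⟨s, rfl⟩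
  have hg : ∀ s : S, IsUnit (g s) := fun s => IsUnit.of_mul_eq_one _ (hXs s)
  let ψ : T →+* MvPolynomial S R ⧸ J := IsLocalization.lift hg
  have hle : J ≤ RingHom.ker (MvPolynomial.aeval (R := R) (locVal R S T)).toRingHom := by
    rw [hJ, Ideal.span_le]
    rintro _ ⟨s, rfl⟩
    exact aeval_locRel R S T s
  let φ : MvPolynomial S R ⧸ J →+* T :=
    Ideal.Quotient.lift J (MvPolynomial.aeval (R := R) (locVal R S T)).toRingHom hle
  have hcomp : ψ.comp φ = RingHom.id _ := by
    apply Ideal.Quotient.ringHom_ext
    apply MvPolynomial.ringHom_ext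
    · intro r
      change ψ (φ (Ideal.Quotient.mk J (C r))) = Ideal.Quotient.mk J (C r)
      have h1 : φ (Ideal.Quotient.mk J (C r)) = algebraMap R T r := by
        change MvPolynomial.aeval (locVal R S T) (C r) = _
        rw [aeval_C]
      rw [h1]
      exact IsLocalization.lift_eq hg r
    · intro s
      change ψ (φ (Ideal.Quotient.mk J (X s))) = Ideal.Quotient.mk J (X s)
      have h1 : φ (Ideal.Quotient.mk J (X s)) = locVal R S T s := by
        change MvPolynomial.aeval (locVal R S T) (X s) = _
        rw [aeval_X]
      rw [h1]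
      have h2 : g s * ψ (locVal R S T s) = 1 := by
        rw [← IsLocalization.lift_eq (S := T) hg (s : R), ← map_mul, locVal, mul_comm,
          IsLocalization.mk'_spec, map_one, map_one]
      calc ψ (locVal R S T s) = (g s * Ideal.Quotient.mk J (X s)) * ψ (locVal R S T s) := by
            rw [hXs, one_mul]
        _ = Ideal.Quotient.mk J (X s) * (g s * ψ (locVal R S T s)) := by ring
        _ = Ideal.Quotient.mk J (X s) := by rw [h2, mul_one]
  intro p hp
  have h1 : Ideal.Quotient.mk J p = ψ (φ (Ideal.Quotient.mk J p)) := by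
    have := RingHom.congr_fun hcomp (Ideal.Quotient.mk J p)
    exact this.symm
  have h2 : φ (Ideal.Quotient.mk J p) = 0 := hp
  rw [h2, map_zero] at h1
  exact Ideal.Quotient.eq_zero_iff_mem.mp h1

/-- the presentation of a localization: a variable for each denominator `s`, and the relation
`s * X_s - 1`. -/
noncomputable def locPres : Algebra.Presentation R T S S where
  __ := locGens R S T
  relation := locRel R S
  span_range_relation_eq_ker := by
    rw [Algebra.Generators.ker_eq_ker_aeval_val]
    apply le_antisymm
    · rw [Ideal.span_le]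
      rintro _ ⟨s, rfl⟩
      exact aeval_locRel R S T s
    · exact ker_le_span R S T

end Pres

section Reg

open CotT

variable (R : Type u) [CommRing R] (S : Submonoid R)

theorem isWeaklyRegular_map_locRel (l : List S) (hl : l.Nodup) :
    RingTheory.Sequence.IsWeaklyRegular (MvPolynomial S R) (l.map (locRel R S)) := by
  constructor
  intro i hi
  rw [isSMulRegular_quotient_iff_mem_of_smul_mem]
  intro p hp
  have hi' : i < l.length := by simpa using hi
  have htop : (Ideal.ofList ((l.map (locRel R S)).take i) • ⊤ :
      Submodule (MvPolynomial S R) (MvPolynomial S R)) =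
      Ideal.span (gen (fun s : S => (s : R)) '' {t | t ∈ l.take i}) := by
    rw [smul_eq_mul, Ideal.mul_top, Ideal.ofList]
    congr 1
    ext x
    rw [Set.mem_ofPred_eq, ← List.map_take, List.mem_map]
    rfl
  rw [htop] at hp ⊢
  have hget : (l.map (locRel R S))[i] = gen (fun s : S => (s : R)) l[i] := by
    rw [List.getElem_map]
    rfl
  rw [hget, smul_eq_mul] at hp
  refine mem_of_gen_mul_mem _ _ l[i] ?_ p hp
  intro hmem
  obtain ⟨j, hj, hji⟩ := List.mem_take_iff_getElem.mp hmem
  have hj' : j < i := lt_of_lt_of_le hj (min_le_left _ _)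
  have := (hl.getElem_inj_iff).mp hji
  omega

theorem isH1Regular_locRel (l : List S) (hl : l.Nodup) :
    CAlgX.IsH1Regular (fun i : Fin l.length => locRel R S l[i.val]) := by
  have hreg := isWeaklyRegular_map_locRel R S l hl
  have key : ∀ (n : ℕ) (hn : (l.map (locRel R S)).length = n),
      CAlgX.IsH1Regular (fun i : Fin n => (l.map (locRel R S))[i.val]'(by omega)) := by
    intro n hn
    subst hn
    exact Groth.Agent.Lib.Helper59.H1RegOfRegular.isH1Regular_of_isWeaklyRegular _ hreg
  have hH1 := key l.length (List.length_map _)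
  have h2 : (fun i : Fin l.length => (l.map (locRel R S))[i.val]'(by simp)) =
      fun i : Fin l.length => locRel R S l[i.val] := by
    funext i
    rw [List.getElem_map]
  rw [h2] at hH1
  exact hH1

variable (T : Type u) [CommRing T] [Algebra R T] [IsLocalization S T]

theorem rel_locPres (s : S) : rel (locPres R S T) s = locRel R S s := rfl

theorem relKer_le_trivRel (q : relKer (locPres R S T)) :
    (q : relMod (locPres R S T)) ∈ trivRel (locPres R S T) := by
  classical
  let P := locPres R S T
  set l := (q : relMod P).support.toList with hl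
  have hnd : l.Nodup := Finset.nodup_toList _
  have hH1 : CAlgX.IsH1Regular (R := P.toExtension.Ring)
      (fun i : Fin l.length => rel P l[i.val]) := isH1Regular_locRel R S l hnd
  let a : Fin l.length → P.toExtension.Ring := fun i => (q : relMod P) l[i.val]
  have hq : jmap P (q : relMod P) = 0 := q.2
  have hsum : ∑ i : Fin l.length, a i * rel P l[i.val] = 0 := by
    rw [Fin.sum_univ_fun_getElem l
      (fun s : S => (q : relMod P) s * rel P s), hl, Finset.sum_map_toList]
    rw [jmap, Finsupp.linearCombination_apply, Finsupp.sum] at hq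
    exact hq
  have h3 := hH1 a hsum
  let Φ : (Fin l.length → P.toExtension.Ring) →ₗ[P.toExtension.Ring] relMod P :=
    Fintype.linearCombination P.toExtension.Ring (fun i : Fin l.length =>
      (Finsupp.single l[i.val] (1 : P.toExtension.Ring) : relMod P))
  have hΦ : Submodule.span P.toExtension.Ring {v : Fin l.length → P.toExtension.Ring |
      ∃ i j : Fin l.length, v = Pi.single i (rel P l[j.val]) -
        Pi.single j (rel P l[i.val])} ≤ (trivRel P).comap Φ := by
    refine Submodule.span_le.mpr ?_
    rintro _ ⟨i, j, rfl⟩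
    change Φ _ ∈ trivRel P
    rw [map_sub, Fintype.linearCombination_apply_single, Fintype.linearCombination_apply_single]
    refine Submodule.subset_span ⟨Finsupp.single l[j.val] 1, Finsupp.single l[i.val] 1, ?_⟩
    rw [jmap_single, jmap_single, one_mul, one_mul]
  have h4 : Φ a ∈ trivRel P := hΦ h3
  have h5 : Φ a = (q : relMod P) := by
    rw [Fintype.linearCombination_apply]
    have h6 : ∀ i : Fin l.length, a i • (Finsupp.single l[i.val] (1 : P.toExtension.Ring) : relMod P) =
        (fun s : S => (Finsupp.single s ((q : relMod P) s) : relMod P)) l[i.val] := by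
      intro i
      rw [Finsupp.smul_single, smul_eq_mul, mul_one]
    rw [Finset.sum_congr rfl fun i _ => h6 i, Fin.sum_univ_fun_getElem l
      (fun s : S => (Finsupp.single s ((q : relMod P) s) : relMod P)), hl, Finset.sum_map_toList]
    exact Finsupp.sum_single (q : relMod P)
  rw [h5] at h4
  exact h4

end Reg

section Final

open CotT

theorem T2_locPres_subsingleton (R : Type u) [CommRing R] (S : Submonoid R) (T : Type u) [CommRing T]
    [Algebra R T] [IsLocalization S T] (M : Type*) [AddCommGroup M] [Module T M] :
    Subsingleton (T2 (locPres R S T) M) :=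
  Groth.Agent.Lib.Helper59.CotTVanish.T2_subsingleton _ M
    (Groth.Agent.Lib.Helper59.CotTVanish.L2_subsingleton _ (relKer_le_trivRel R S T))

theorem T2_canon_subsingleton (R : Type u) [CommRing R] (S : Submonoid R) (T : Type u) [CommRing T]
    [Algebra R T] [IsLocalization S T] (M : Type u) [AddCommGroup M] [Module T M] :
    Subsingleton (T2 (canon R T) M) := by
  have := T2_locPres_subsingleton R S T M
  obtain ⟨e⟩ := Groth.Agent.Lib.Helper59.CotTIndep.T2_equiv (locPres R S T) (canon R T) M
  exact e.symm.toEquiv.subsingleton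

end Final

end Groth.Agent.Lib.Helper59.LocPres
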