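import Mathlib
import Groth.Prelude.Def_ArtFun4
import Groth.Agent.Lib.Helper59.AffDefAPI
import Groth.Agent.Lib.Helper59.AffDefDual
import Groth.Agent.Lib.Helper67.FlatArtinLocal

/-!
# The deformations `xy = t` of the node (helper59)

For an object `A` of `Art k k` and `t` in its maximal ideal, the ring `A[x,y]/(xy - t)` is ring-level
deformation data of `B₀ = k[x,y]/(xy)`.  Base change, the isomorphisms `xy = t ≅ xy = ut` for `u ≡ 1`,
and the fact that `xy = ε` is a nontrivial first-order deformation.
-/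

set_option autoImplicit false
set_option linter.style.haveILetI false
universe u
open CategoryTheory AlgebraicGeometry IsLocalRing ArtFun

namespace Groth.Agent.Lib.Helper59.NodeDef

open Groth.Agent.Lib.Helper59.AffDefAPI

section general

variable {R R' : Type u} [CommRing R] [CommRing R'] {σ : Type}

/-- the map of quotients of polynomial rings by principal ideals induced by a surjection of
coefficient rings: surjectivity and kernel. -/
theorem quotientMap_facts (p : R →+* R') (hp : Function.Surjective p) (g : MvPolynomial σ R)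
    (J' : Ideal (MvPolynomial σ R')) (hJ' : J' = Ideal.span {MvPolynomial.map p g})
    (π : MvPolynomial σ R ⧸ Ideal.span {g} →+* MvPolynomial σ R' ⧸ J')
    (hπ : ∀ f, π (Ideal.Quotient.mk _ f) = Ideal.Quotient.mk _ (MvPolynomial.map p f)) :
    Function.Surjective π ∧ RingHom.ker π =
      (RingHom.ker p).map (algebraMap R (MvPolynomial σ R ⧸ Ideal.span {g})) := by
  constructor
  · intro y
    obtain ⟨f', rfl⟩ := Ideal.Quotient.mk_surjective y
    obtain ⟨f, rfl⟩ := MvPolynomial.map_surjective p hp f'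
    exact ⟨_, hπ f⟩
  · apply le_antisymm
    · intro x hx
      obtain ⟨f, rfl⟩ := Ideal.Quotient.mk_surjective x
      rw [RingHom.mem_ker, hπ, Ideal.Quotient.eq_zero_iff_mem, hJ', Ideal.mem_span_singleton'] at hx
      obtain ⟨h', hh'⟩ := hx
      obtain ⟨h, rfl⟩ := MvPolynomial.map_surjective p hp h'
      have h1 : f - h * g ∈ RingHom.ker (MvPolynomial.map (σ := σ) p) := by
        rw [RingHom.mem_ker, map_sub, map_mul, hh', sub_self]
      rw [MvPolynomial.ker_map] at h1
      have h2 : Ideal.Quotient.mk (Ideal.span {g}) f = Ideal.Quotient.mk (Ideal.span {g}) (f - h * g) := by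
        rw [map_sub, map_mul, Ideal.Quotient.eq_zero_iff_mem.mpr (Ideal.mem_span_singleton_self g),
          mul_zero, sub_zero]
      rw [h2]
      have h3 : (RingHom.ker p).map (algebraMap R (MvPolynomial σ R ⧸ Ideal.span {g})) =
          ((RingHom.ker p).map (MvPolynomial.C (σ := σ))).map (Ideal.Quotient.mk (Ideal.span {g})) := by
        rw [Ideal.map_map]
        rfl
      rw [h3]
      exact Ideal.mem_map_of_mem _ h1
    · rw [Ideal.map_le_iff_le_comap]
      intro a ha
      rw [Ideal.mem_comap, RingHom.mem_ker]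
      have h1 : algebraMap R (MvPolynomial σ R ⧸ Ideal.span {g}) a =
          Ideal.Quotient.mk _ (MvPolynomial.C a) := rfl
      rw [h1, hπ, MvPolynomial.map_C, (RingHom.mem_ker).mp ha, map_zero, map_zero]

end general

section node

variable {k : Type u} [Field k]

/-- the coordinate ring of the node. -/
abbrev B₀ (k : Type u) [Field k] : Type u :=
  MvPolynomial (Fin 2) k ⧸
    Ideal.span {(MvPolynomial.X 0 * MvPolynomial.X 1 : MvPolynomial (Fin 2) k)}

/-- the equation `xy - t`. -/
noncomputable def gen (R : Type u) [CommRing R] (t : R) : MvPolynomial (Fin 2) R :=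
  MvPolynomial.X 0 * MvPolynomial.X 1 - MvPolynomial.C t

/-- the ring `R[x,y]/(xy - t)`. -/
abbrev Q (R : Type u) [CommRing R] (t : R) : Type u :=
  MvPolynomial (Fin 2) R ⧸ Ideal.span {gen R t}

theorem map_gen {R R' : Type u} [CommRing R] [CommRing R'] (p : R →+* R') (t : R) :
    MvPolynomial.map p (gen R t) = gen R' (p t) := by
  unfold gen
  rw [map_sub, map_mul, MvPolynomial.map_X, MvPolynomial.map_X, MvPolynomial.map_C]

/-- the map `R[x,y]/(xy - t) → R'[x,y]/(xy - t')` induced by `p : R → R'` with `p t = t'`. -/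
noncomputable def qmap {R R' : Type u} [CommRing R] [CommRing R'] (p : R →+* R') (t : R) (t' : R')
    (h : p t = t') : Q R t →+* Q R' t' :=
  Ideal.quotientMap _ (MvPolynomial.map p) (by
    rw [Ideal.span_le, Set.singleton_subset_iff]
    show MvPolynomial.map p (gen R t) ∈ Ideal.span {gen R' t'}
    rw [map_gen, h]
    exact Ideal.mem_span_singleton_self _)

theorem qmap_mk {R R' : Type u} [CommRing R] [CommRing R'] (p : R →+* R') (t : R) (t' : R')
    (h : p t = t') (f : MvPolynomial (Fin 2) R) :
    qmap p t t' h (Ideal.Quotient.mk _ f) = Ideal.Quotient.mk _ (MvPolynomial.map p f) :=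
  Ideal.quotientMap_mk

theorem qmap_facts {R R' : Type u} [CommRing R] [CommRing R'] (p : R →+* R')
    (hp : Function.Surjective p) (t : R) (t' : R') (h : p t = t') :
    Function.Surjective (qmap p t t' h) ∧ RingHom.ker (qmap p t t' h) =
      (RingHom.ker p).map (algebraMap R (Q R t)) :=
  quotientMap_facts p hp (gen R t) _ (by rw [map_gen, h]) (qmap p t t' h) (qmap_mk p t t' h)

theorem map_gen_res (A : Art k k) (t : A) (ht : A.res t = 0) :
    MvPolynomial.map (A.res : A →+* k) (gen A t) = MvPolynomial.X 0 * MvPolynomial.X 1 := by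
  rw [map_gen]
  unfold gen
  have : (A.res : A →+* k) t = 0 := ht
  rw [this, map_zero, sub_zero]

/-- the reduction `A[x,y]/(xy - t) → k[x,y]/(xy)` for `t` in the maximal ideal. -/
noncomputable def qHom (A : Art k k) (t : A) (ht : A.res t = 0) : Q A t →+* B₀ k :=
  Ideal.quotientMap _ (MvPolynomial.map (A.res : A →+* k)) (by
    rw [Ideal.span_le, Set.singleton_subset_iff]
    show MvPolynomial.map (A.res : A →+* k) (gen A t) ∈ Ideal.span {_}
    rw [map_gen_res A t ht]
    exact Ideal.mem_span_singleton_self _)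

theorem qHom_mk (A : Art k k) (t : A) (ht : A.res t = 0) (f : MvPolynomial (Fin 2) A) :
    qHom A t ht (Ideal.Quotient.mk _ f) =
      Ideal.Quotient.mk _ (MvPolynomial.map (A.res : A →+* k) f) :=
  Ideal.quotientMap_mk

theorem qHom_facts (A : Art k k) (t : A) (ht : A.res t = 0) :
    Function.Surjective (qHom A t ht) ∧ RingHom.ker (qHom A t ht) =
      (maximalIdeal A).map (algebraMap A (Q A t)) := by
  have h := quotientMap_facts (A.res : A →+* k) A.res_surjective (gen A t) _
    (by rw [map_gen_res A t ht]) (qHom A t ht) (qHom_mk A t ht)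
  rw [ker_res] at h
  exact h

/-- membership in `𝔪 • ⊤` for polynomials. -/
theorem mem_smul_top_iff (A : Art k k) (f : MvPolynomial (Fin 2) A) :
    f ∈ maximalIdeal A • (⊤ : Submodule A (MvPolynomial (Fin 2) A)) ↔
      MvPolynomial.map (A.res : A →+* k) f = 0 := by
  rw [Ideal.smul_top_eq_map, Submodule.restrictScalars_mem, ← RingHom.mem_ker,
    MvPolynomial.ker_map, ker_res]
  rfl

theorem flat_Q (A : Art k k) (t : A) (ht : A.res t = 0) : Module.Flat A (Q A t) := by
  refine Groth.Agent.Lib.Helper67.flat_of_regMod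
    (LinearMap.mulLeft A (gen A t))
    ((Ideal.Quotient.mkₐ A (Ideal.span {gen A t})).toLinearMap)
    (Ideal.Quotient.mkₐ_surjective A _) ?_ ?_ ?_
  · intro s hs
    have hs' : s ∈ Ideal.span {gen A t} := Ideal.Quotient.eq_zero_iff_mem.mp hs
    rw [Ideal.mem_span_singleton'] at hs'
    obtain ⟨a, ha⟩ := hs'
    exact ⟨a, by rw [LinearMap.mulLeft_apply, mul_comm]; exact ha.symm⟩
  · intro f
    exact Ideal.Quotient.eq_zero_iff_mem.mpr
      (Ideal.mul_mem_right _ _ (Ideal.mem_span_singleton_self _))
  · refine Groth.Agent.Lib.Helper67.regMod_of_regMod_maximalIdeal _ ?_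
    intro f hf
    rw [mem_smul_top_iff] at hf ⊢
    rw [LinearMap.mulLeft_apply, map_mul, map_gen_res A t ht] at hf
    rcases mul_eq_zero.mp hf with h | h
    · exfalso
      rcases mul_eq_zero.mp h with h' | h'
      · exact MvPolynomial.X_ne_zero _ h'
      · exact MvPolynomial.X_ne_zero _ h'
    · exact h

/-- the deformation `xy = t` as ring-level data. -/
noncomputable def nodeDef (A : Art k k) (t : A) (ht : A.res t = 0) : RingDef (B₀ k) A :=
  haveI := flat_Q A t ht
  { B := Q A t
    q := qHom A t ht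
    q_surj := (qHom_facts A t ht).1
    ker_q := (qHom_facts A t ht).2
    q_alg := fun a => by
      have h1 : algebraMap A (Q A t) a = Ideal.Quotient.mk _ (MvPolynomial.C a) := rfl
      rw [h1, qHom_mk, MvPolynomial.map_C]
      rfl }

end node

section compare

variable {k : Type u} [Field k]

/-- base change of `xy = t'` along a surjection is `xy = p t'`. -/
theorem baseChange_nodeDef {A' A : Art k k} (p : A' ⟶ A) (hp : Function.Surjective p)
    (t' : A') (ht' : A'.res t' = 0) (t : A) (h : p t' = t) (ht : A.res t = 0) :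
    Nonempty (((nodeDef A' t' ht').toDefSch.baseChange p).Iso (nodeDef A t ht).toDefSch) := by
  have hfacts := qmap_facts p.toAlgHom.toRingHom hp t' t h
  refine baseChange_iso p hp (nodeDef A' t' ht') (nodeDef A t ht)
    (qmap p.toAlgHom.toRingHom t' t h) ?_ ?_ hfacts.1 hfacts.2.le
  · intro a'
    have h1 : algebraMap A' (Q A' t') a' = Ideal.Quotient.mk _ (MvPolynomial.C a') := rfl
    show qmap p.toAlgHom.toRingHom t' t h (algebraMap A' (Q A' t') a') = _
    rw [h1, qmap_mk, MvPolynomial.map_C]
    rfl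
  · intro b
    obtain ⟨f, rfl⟩ := Ideal.Quotient.mk_surjective b
    show qHom A t ht (qmap p.toAlgHom.toRingHom t' t h (Ideal.Quotient.mk _ f)) =
      qHom A' t' ht' (Ideal.Quotient.mk _ f)
    rw [qmap_mk, qHom_mk, qHom_mk, MvPolynomial.map_map]
    have h2 : (A.res : A →+* k).comp p.toAlgHom.toRingHom = (A'.res : A' →+* k) := by
      ext a
      exact Art.res_app p a
    rw [h2]

/-- scaling the variables. -/
noncomputable def scale {R : Type u} [CommRing R] (c : Fin 2 → R) :
    MvPolynomial (Fin 2) R →ₐ[R] MvPolynomial (Fin 2) R :=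
  MvPolynomial.aeval (fun i => MvPolynomial.C (c i) * MvPolynomial.X i)

theorem scale_X {R : Type u} [CommRing R] (c : Fin 2 → R) (i : Fin 2) :
    scale c (MvPolynomial.X i) = MvPolynomial.C (c i) * MvPolynomial.X i := by
  unfold scale
  rw [MvPolynomial.aeval_X]

theorem scale_C {R : Type u} [CommRing R] (c : Fin 2 → R) (a : R) :
    scale c (MvPolynomial.C a) = MvPolynomial.C a := by
  unfold scale
  rw [MvPolynomial.aeval_C]
  rfl

theorem scale_comp {R : Type u} [CommRing R] (c c' : Fin 2 → R) (h : ∀ i, c i * c' i = 1) :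
    (scale c).comp (scale c') = AlgHom.id R _ := by
  apply MvPolynomial.algHom_ext
  intro i
  rw [AlgHom.comp_apply, scale_X, map_mul, scale_X, scale_C, ← mul_assoc, ← map_mul,
    mul_comm (c' i), h, map_one, one_mul]
  rfl

/-- scaling by units, as an equivalence. -/
noncomputable def scaleEquiv {R : Type u} [CommRing R] (c c' : Fin 2 → R)
    (h : ∀ i, c i * c' i = 1) : MvPolynomial (Fin 2) R ≃ₐ[R] MvPolynomial (Fin 2) R :=
  AlgEquiv.ofAlgHom (scale c) (scale c') (scale_comp c c' h)
    (scale_comp c' c (fun i => by rw [mul_comm]; exact h i))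

theorem scaleEquiv_apply {R : Type u} [CommRing R] (c c' : Fin 2 → R)
    (h : ∀ i, c i * c' i = 1) (f : MvPolynomial (Fin 2) R) :
    scaleEquiv c c' h f = scale c f := rfl

/-- `xy = t` and `xy = ut` are isomorphic deformations when `u ≡ 1`. -/
theorem nodeDef_iso_of_unit (A : Art k k) (t : A) (ht : A.res t = 0) (u : A) (hu : A.res u = 1)
    (ht' : A.res (u * t) = 0) :
    Nonempty ((nodeDef A t ht).toDefSch.Iso (nodeDef A (u * t) ht').toDefSch) := by
  have hunit : IsUnit u := by
    by_contra hnu
    have h1 : u ∈ maximalIdeal A := (IsLocalRing.mem_maximalIdeal u).mpr hnu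
    rw [Art.mem_maximalIdeal_iff, hu] at h1
    exact one_ne_zero h1
  obtain ⟨v, hv⟩ := hunit.exists_left_inv
  have hresv : A.res v = 1 := by
    have := congrArg A.res hv
    rw [map_mul, hu, mul_one, map_one] at this
    exact this
  let c : Fin 2 → A := ![v, 1]
  let c' : Fin 2 → A := ![u, 1]
  have hcc' : ∀ i, c i * c' i = 1 := by
    intro i
    fin_cases i
    · exact hv
    · exact mul_one 1
  have hresc : ∀ i, A.res (c i) = 1 := by
    intro i
    fin_cases i
    · exact hresv
    · exact map_one _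
  have hgen : scale c (gen A t) = MvPolynomial.C v * gen A (u * t) := by
    unfold gen
    rw [map_sub, map_mul, scale_X, scale_X, scale_C]
    have h0 : c 0 = v := rfl
    have h1 : c 1 = 1 := rfl
    have h2 : v * (u * t) = t := by rw [← mul_assoc, hv, one_mul]
    rw [h0, h1, map_one, one_mul, mul_sub, ← map_mul, h2]
    ring
  have hvunit : IsUnit (MvPolynomial.C v : MvPolynomial (Fin 2) A) :=
    (IsUnit.map MvPolynomial.C (IsUnit.of_mul_eq_one u hv))
  let se : MvPolynomial (Fin 2) A ≃+* MvPolynomial (Fin 2) A := (scaleEquiv c c' hcc').toRingEquiv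
  have hse : ∀ f, se f = scale c f := fun f => rfl
  have hIJ : Ideal.span {gen A (u * t)} =
      (Ideal.span {gen A t}).map (se : MvPolynomial (Fin 2) A →+* MvPolynomial (Fin 2) A) := by
    rw [Ideal.map_span, Set.image_singleton]
    show _ = Ideal.span {se (gen A t)}
    rw [hse, hgen, Ideal.span_singleton_mul_left_unit hvunit]
  let φ : Q A t ≃+* Q A (u * t) :=
    Ideal.quotientEquiv (Ideal.span {gen A t}) (Ideal.span {gen A (u * t)}) se hIJ
  have hφ : ∀ f, φ (Ideal.Quotient.mk _ f) = Ideal.Quotient.mk _ (scale c f) := fun f =>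
    Ideal.quotientEquiv_mk (Ideal.span {gen A t}) (Ideal.span {gen A (u * t)}) se hIJ f
  refine iso_of_ringEquiv (nodeDef A t ht) (nodeDef A (u * t) ht') φ ?_ ?_
  · intro a
    have h1 : algebraMap A (Q A t) a = Ideal.Quotient.mk _ (MvPolynomial.C a) := rfl
    show φ (algebraMap A (Q A t) a) = _
    rw [h1, hφ, scale_C]
    rfl
  · intro b
    obtain ⟨f, rfl⟩ := Ideal.Quotient.mk_surjective b
    show qHom A (u * t) ht' (φ (Ideal.Quotient.mk _ f)) = qHom A t ht (Ideal.Quotient.mk _ f)
    rw [hφ, qHom_mk, qHom_mk]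
    congr 1
    have h2 : (MvPolynomial.map (A.res : A →+* k)).comp (scale c).toRingHom =
        MvPolynomial.map (A.res : A →+* k) := by
      apply MvPolynomial.ringHom_ext
      · intro a
        show MvPolynomial.map (A.res : A →+* k) (scale c (MvPolynomial.C a)) = _
        rw [scale_C]
      · intro i
        show MvPolynomial.map (A.res : A →+* k) (scale c (MvPolynomial.X i)) = _
        rw [scale_X, map_mul, MvPolynomial.map_C, MvPolynomial.map_X]
        have : (A.res : A →+* k) (c i) = 1 := hresc i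
        rw [this, map_one, one_mul]
    exact congrArg (fun g => g f) h2

end compare

section firstOrder

variable {k : Type u} [Field k]

open Groth.Agent.Lib.Helper59.AffDefDual

/-- evaluation at the origin on the node. -/
noncomputable def ev₀ : B₀ k →+* k :=
  Ideal.Quotient.lift _ (MvPolynomial.eval (fun _ : Fin 2 => (0 : k))) (by
    intro f hf
    rw [Ideal.mem_span_singleton'] at hf
    obtain ⟨a, rfl⟩ := hf
    rw [map_mul, map_mul, MvPolynomial.eval_X, zero_mul, mul_zero])

theorem ev₀_X (i : Fin 2) : ev₀ (Ideal.Quotient.mk _ (MvPolynomial.X i) : B₀ k) = 0 := by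
  unfold ev₀
  rw [Ideal.Quotient.lift_mk, MvPolynomial.eval_X]

theorem Q_xy (R : Type u) [CommRing R] (t : R) :
    (Ideal.Quotient.mk _ (MvPolynomial.X 0) * Ideal.Quotient.mk _ (MvPolynomial.X 1) : Q R t) =
      algebraMap R (Q R t) t := by
  have h1 : algebraMap R (Q R t) t = Ideal.Quotient.mk _ (MvPolynomial.C t) := rfl
  rw [h1, ← map_mul, Ideal.Quotient.eq]
  exact Ideal.mem_span_singleton_self _

theorem Q_xy_zero (R : Type u) [CommRing R] :
    (Ideal.Quotient.mk _ (MvPolynomial.X 0) * Ideal.Quotient.mk _ (MvPolynomial.X 1) : Q R 0) =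
      0 := by
  rw [Q_xy, map_zero]

theorem qHom_X (A : Art k k) (t : A) (ht : A.res t = 0) (i : Fin 2) :
    qHom A t ht (Ideal.Quotient.mk _ (MvPolynomial.X i)) =
      Ideal.Quotient.mk _ (MvPolynomial.X i) := by
  rw [qHom_mk, MvPolynomial.map_X]

theorem not_iso_aux (R' R : RingDef (B₀ k) (Art.dual k k))
    (x' y' : R'.B) (hxy' : x' * y' = algebraMap (Art.dual k k) R'.B epsD)
    (hqx' : R'.q x' = Ideal.Quotient.mk _ (MvPolynomial.X 0))
    (hqy' : R'.q y' = Ideal.Quotient.mk _ (MvPolynomial.X 1))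
    (x y : R.B) (hxy : x * y = 0)
    (hqx : R.q x = Ideal.Quotient.mk _ (MvPolynomial.X 0))
    (hqy : R.q y = Ideal.Quotient.mk _ (MvPolynomial.X 1)) :
    ¬ Nonempty (R'.toDefSch.Iso R.toDefSch) := by
  rintro ⟨e⟩
  obtain ⟨φ, hA, hq⟩ := exists_ringEquiv_of_iso _ _ e
  have hdiff : ∀ z w : R.B, R.q z = R.q w → ∃ a, z = w + epsB R * a := by
    intro z w hzw
    have h1 : z - w ∈ RingHom.ker R.q := by rw [RingHom.mem_ker, map_sub, hzw, sub_self]
    rw [ker_q_eq, Ideal.mem_span_singleton'] at h1
    obtain ⟨a, ha⟩ := h1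
    exact ⟨a, by linear_combination (-1 : R.B) * ha⟩
  obtain ⟨a, ha⟩ := hdiff (φ x') x (by rw [hq, hqx', hqx])
  obtain ⟨c, hc⟩ := hdiff (φ y') y (by rw [hq, hqy', hqy])
  have h1 : φ x' * φ y' = epsB R := by
    rw [← map_mul, hxy', hA]
    rfl
  have h2 : epsB R * (c * x + a * y - 1) = 0 := by
    have h3 := epsB_mul_self R
    rw [ha, hc] at h1
    linear_combination h1 - hxy - a * c * h3
  have h3 := q_eq_zero_of_epsB_mul R h2
  rw [map_sub, map_add, map_mul, map_mul, hqx, hqy, map_one] at h3
  have h4 := congrArg ev₀ h3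
  rw [map_sub, map_add, map_mul, map_mul, ev₀_X, ev₀_X, mul_zero, mul_zero, add_zero, map_one,
    map_zero, zero_sub] at h4
  exact one_ne_zero (neg_eq_zero.mp h4)

/-- `xy = ε` is not the trivial first-order deformation. -/
theorem nodeDef_eps_not_iso :
    ¬ Nonempty ((nodeDef (Art.dual k k) epsD res_epsD).toDefSch.Iso
      (nodeDef (Art.dual k k) 0 (map_zero _)).toDefSch) := by
  refine not_iso_aux _ _
    (Ideal.Quotient.mk _ (MvPolynomial.X 0) : Q (Art.dual k k) epsD)
    (Ideal.Quotient.mk _ (MvPolynomial.X 1) : Q (Art.dual k k) epsD) ?_ ?_ ?_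
    (Ideal.Quotient.mk _ (MvPolynomial.X 0) : Q (Art.dual k k) 0)
    (Ideal.Quotient.mk _ (MvPolynomial.X 1) : Q (Art.dual k k) 0) ?_ ?_ ?_
  · exact Q_xy _ _
  · exact qHom_X (Art.dual k k) epsD res_epsD 0
  · exact qHom_X (Art.dual k k) epsD res_epsD 1
  · exact Q_xy_zero _
  · exact qHom_X (Art.dual k k) 0 (map_zero _) 0
  · exact qHom_X (Art.dual k k) 0 (map_zero _) 1

end firstOrder

end Groth.Agent.Lib.Helper59.NodeDef
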