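import Mathlib
import Groth.Prelude.Def_ArtFun4
import Groth.Agent.Lib.Helper59.NodeDef
import Groth.Agent.Lib.Helper58.SchlConv
import Groth.Agent.Lib.Helper65.ArtTorsor
import Groth.Agent.Lib.Helper58.TszeArt

/-!
# The deformation functor of the node is not pro-representable (helper59)

The deformations `xy = t` and `xy = (1 + m) t` are isomorphic; over `A ×_{A/(σ)} A ≅ A ×_k k[ε]`
(`σ = m t` a socle element) this produces two distinct classes with the same two projections,
which contradicts left exactness.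
-/

set_option autoImplicit false
set_option linter.style.haveILetI false
universe u
open CategoryTheory AlgebraicGeometry IsLocalRing ArtFun

namespace Groth.Agent.Lib.Helper59.NodeNotProrep

open Groth.Agent.Lib.Helper59.AffDefAPI Groth.Agent.Lib.Helper59.AffDefDual
open Groth.Agent.Lib.Helper59.NodeDef

variable {k : Type u} [Field k]

/-- the deformation functor of the node. -/
noncomputable abbrev F (k : Type u) [Field k] : Art k k ⥤ Type (u + 1) :=
  defFunctor (Λ := k) (Spec (CommRingCat.of (B₀ k)))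
    (Spec.map (CommRingCat.ofHom (algebraMap k (B₀ k))))

/-- the class of `xy = t`. -/
noncomputable def cls (A : Art k k) (t : A) (ht : A.res t = 0) : (F k).obj A :=
  (nodeDef A t ht).toDefSch.cl

theorem cls_congr (A : Art k k) {t t' : A} (h : t = t') (ht : A.res t = 0) (ht' : A.res t' = 0) :
    cls A t ht = cls A t' ht' := by
  subst h
  rfl

theorem map_cls {A' A : Art k k} (p : A' ⟶ A) (hp : Function.Surjective p) (t' : A')
    (ht' : A'.res t' = 0) (t : A) (h : p t' = t) (ht : A.res t = 0) :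
    (F k).map p (cls A' t' ht') = cls A t ht := by
  unfold cls
  rw [defFunctor_map_cl]
  exact Quotient.sound (baseChange_nodeDef p hp t' ht' t h ht)

theorem cls_unit (A : Art k k) (t : A) (ht : A.res t = 0) (u : A) (hu : A.res u = 1)
    (ht' : A.res (u * t) = 0) : cls A t ht = cls A (u * t) ht' :=
  Quotient.sound (nodeDef_iso_of_unit A t ht u hu ht')

theorem cls_eps_ne : cls (Art.dual k k) epsD res_epsD ≠ cls (Art.dual k k) 0 (map_zero _) :=
  fun h => nodeDef_eps_not_iso (Quotient.exact h)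

/-- the abstract criterion. -/
theorem not_prorep_of (A : Art k k) (t m : A) (ht : A.res t = 0) (hm : A.res m = 0)
    (hσ : m * t ≠ 0) (hsoc : ∀ a ∈ maximalIdeal A, a * (m * t) = 0) :
    ¬ IsProrepresentable (F k) := by
  rintro ⟨⟨R, ξ, hu⟩⟩
  have hle := Groth.Agent.Lib.Helper58.Schl.isLeftExact_of_isUniversal ξ hu
  obtain ⟨σ, hσdef⟩ : ∃ σ, σ = m * t := ⟨_, rfl⟩
  rw [← hσdef] at hσ hsoc
  have hσm : σ ∈ maximalIdeal A := by
    rw [Art.mem_maximalIdeal_iff, hσdef, map_mul, ht, mul_zero]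
  have hK : Ideal.span {σ} ≤ maximalIdeal A := by
    rw [Ideal.span_le, Set.singleton_subset_iff]
    exact hσm
  obtain ⟨μ, hμdef⟩ : ∃ μ : A ⟶ Art.quot A (Ideal.span {σ}) hK, μ = Art.quotMk A _ hK := ⟨_, rfl⟩
  have hker : RingHom.ker μ.toAlgHom = Ideal.span {σ} := by
    rw [hμdef]
    exact Ideal.Quotient.mkₐ_ker k _
  have hμ : Art.IsSmallExt μ := by
    refine ⟨?_, ?_, ?_, ?_⟩
    · rw [hμdef]
      exact Art.quotMk_surjective A _ hK
    · rw [hker, Ne, Ideal.span_singleton_eq_bot]
      exact hσ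
    · rw [hker]
      exact ⟨⟨σ, rfl⟩⟩
    · rw [hker, eq_bot_iff, Ideal.mul_le]
      intro a ha b hb
      rw [Ideal.mem_span_singleton'] at hb
      obtain ⟨c, rfl⟩ := hb
      rw [Ideal.mem_bot, mul_left_comm, hsoc a ha, mul_zero]
  obtain ⟨P, q₁, q₂, τ, h₁, h₂⟩ := Groth.Agent.Lib.Helper65.exists_torsor_square μ hμ
  -- surjectivity of the projections
  have hq₁ : Function.Surjective q₁ := by
    intro a
    obtain ⟨b, hb, -⟩ := h₁.surj a a rfl
    exact ⟨b, hb⟩
  have hq₂ : Function.Surjective q₂ := by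
    intro a
    obtain ⟨b, -, hb⟩ := h₁.surj a a rfl
    exact ⟨b, hb⟩
  have hτ : Function.Surjective τ := by
    intro d
    obtain ⟨a, ha⟩ := A.res_surjective ((Art.dual k k).res d)
    obtain ⟨b, -, hb⟩ := h₂.surj a d ha
    exact ⟨b, hb⟩
  -- the two elements
  obtain ⟨c, hc1, hc2⟩ := h₂.surj t epsD (show A.res t = (Art.dual k k).res epsD by
    rw [ht, res_epsD])
  obtain ⟨c', hc'1, hc'2⟩ := h₂.surj t 0 (show A.res t = (Art.dual k k).res 0 by
    rw [ht, map_zero])
  have hc : P.res c = 0 := by rw [← Art.res_app q₁ c, hc1, ht]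
  have hc' : P.res c' = 0 := by rw [← Art.res_app q₁ c', hc'1, ht]
  -- second projections
  have hsecond : ∀ b : P, q₁ b = t → ∀ hb : A.res (q₂ b) = 0, cls A (q₂ b) hb = cls A t ht := by
    intro b hb1 hb
    have h3 : μ (q₁ b) = μ (q₂ b) := h₁.w_apply b
    have h4 : q₂ b - t ∈ RingHom.ker μ.toAlgHom := by
      rw [RingHom.mem_ker, map_sub, ← hb1]
      exact sub_eq_zero.mpr h3.symm
    rw [hker, Ideal.mem_span_singleton'] at h4
    obtain ⟨a, ha⟩ := h4
    have h5 : q₂ b = (1 + a * m) * t := by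
      rw [add_mul, one_mul, mul_assoc, ← hσdef, ha]
      ring
    have h6 : A.res (1 + a * m) = 1 := by
      rw [map_add, map_mul, hm, mul_zero, add_zero, map_one]
    have h7 : A.res ((1 + a * m) * t) = 0 := by rw [← h5]; exact hb
    rw [cls_unit A t ht (1 + a * m) h6 h7]
    exact cls_congr A h5 hb h7
  have hres₂ : ∀ b : P, P.res b = 0 → A.res (q₂ b) = 0 := by
    intro b hb
    rw [Art.res_app q₂ b, hb]
  -- equality of the images
  have e1 : (F k).map q₁ (cls P c hc) = (F k).map q₁ (cls P c' hc') := by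
    rw [map_cls q₁ hq₁ c hc t hc1 ht, map_cls q₁ hq₁ c' hc' t hc'1 ht]
  have e2 : (F k).map q₂ (cls P c hc) = (F k).map q₂ (cls P c' hc') := by
    rw [map_cls q₂ hq₂ c hc (q₂ c) rfl (hres₂ c hc), map_cls q₂ hq₂ c' hc' (q₂ c') rfl (hres₂ c' hc'),
      hsecond c hc1, hsecond c' hc'1]
  have e3 : cls P c hc = cls P c' hc' := by
    apply (hle q₁ q₂ μ μ h₁).1
    exact Subtype.ext (Prod.ext e1 e2)
  have e4 := congrArg ((F k).map τ) e3
  rw [map_cls τ hτ c hc epsD hc2 res_epsD, map_cls τ hτ c' hc' 0 hc'2 (map_zero _)] at e4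
  exact cls_eps_ne e4

section concrete

open Groth.Agent.Lib.Helper58.TszeArt

/-- the object `k[ε₁, ε₂]/(ε₁², ε₂²)`. -/
noncomputable abbrev A₂ (k : Type u) [Field k] : Art k k :=
  tszeArt (Art.dual k k) (Art.dual k k).carrier

theorem not_prorep : ¬ IsProrepresentable (F k) := by
  let t : A₂ k := (TrivSqZeroExt.inl epsD : TrivSqZeroExt (Art.dual k k).carrier (Art.dual k k).carrier)
  let m : A₂ k := (TrivSqZeroExt.inr 1 : TrivSqZeroExt (Art.dual k k).carrier (Art.dual k k).carrier)
  have hmt : m * t = (TrivSqZeroExt.inr epsD :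
      TrivSqZeroExt (Art.dual k k).carrier (Art.dual k k).carrier) := by
    show (TrivSqZeroExt.inr 1 * TrivSqZeroExt.inl epsD :
      TrivSqZeroExt (Art.dual k k).carrier (Art.dual k k).carrier) = _
    rw [TrivSqZeroExt.inr_mul_inl]
    congr 1
    exact one_mul _
  refine not_prorep_of (A₂ k) t m ?_ ?_ ?_ ?_
  · show (Art.dual k k).res (TrivSqZeroExt.fst t) = 0
    exact res_epsD
  · show (Art.dual k k).res (TrivSqZeroExt.fst m) = 0
    exact map_zero _
  · rw [hmt]
    intro h
    exact epsD_ne_zero (TrivSqZeroExt.inr_injective h)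
  · intro a ha
    rw [hmt]
    rw [Art.mem_maximalIdeal_iff] at ha
    have ha' : (Art.dual k k).res (TrivSqZeroExt.fst
        (show TrivSqZeroExt (Art.dual k k).carrier (Art.dual k k).carrier from a)) = 0 := ha
    rw [← Art.mem_maximalIdeal_iff, maximalIdeal_dual, Ideal.mem_span_singleton'] at ha'
    obtain ⟨b, hb⟩ := ha'
    apply TrivSqZeroExt.ext
    · rw [TrivSqZeroExt.fst_mul, TrivSqZeroExt.fst_inr, mul_zero, TrivSqZeroExt.fst_zero]
    · rw [TrivSqZeroExt.snd_mul, TrivSqZeroExt.fst_inr, TrivSqZeroExt.snd_inr, MulOpposite.op_zero,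
        zero_smul, add_zero, TrivSqZeroExt.snd_zero, ← hb, smul_eq_mul, mul_assoc, epsD_mul_self,
        mul_zero]

end concrete

end Groth.Agent.Lib.Helper59.NodeNotProrep
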