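import Mathlib
import Groth.Prelude.Def_ArtFun3
import Groth.Agent.Lib.Helper59.ObsGenHR

/-!
Obstructions lie in (span of tiny-extension obstructions) ⊗ J (helper59).
-/

set_option autoImplicit false
universe u v

namespace Groth.Agent.Lib.Helper59.ObsSpan

open CategoryTheory ArtFun ArtFun.Art IsLocalRing TensorProduct
open Groth.Agent.Lib.Helper59.ObsGenHR

variable {k : Type u} [Field k]
variable {C' C : Art k k} (p : C' ⟶ C) (hp : IsSemismallExt p)
include hp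

/-- multiplication by `c` on the kernel is multiplication by the residue of `c`. -/
theorem mul_eq_res_smul (c x : C') (hx : x ∈ RingHom.ker p.toAlgHom) :
    c * x = algebraMap k C' (C'.res c) * x := by
  obtain ⟨l, hl⟩ := art_scalar_add_nonunit C' c
  have h1 : (c - algebraMap k C' l) * x = 0 := semismall_kill p hp _ _ hl hx
  have h2 : C'.res c = l := by
    have h3 : C'.res (c - algebraMap k C' l) = 0 := by
      rw [← Art.mem_maximalIdeal_iff, mem_maximalIdeal]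
      exact hl
    rw [map_sub, AlgHom.commutes, sub_eq_zero] at h3
    exact h3
  rw [h2]
  rw [sub_mul, sub_eq_zero] at h1
  exact h1

variable {ι : Type*} (ℬ : Module.Basis ι k ↥(RingHom.ker p.toAlgHom)) (b : ι)

/-- the hyperplane ideal: the kernel of the `b`-th coordinate. -/
def hyp : Ideal C' where
  carrier := {x | ∃ hx : x ∈ RingHom.ker p.toAlgHom, ℬ.coord b ⟨x, hx⟩ = 0}
  add_mem' := by
    rintro x y ⟨hx, hx0⟩ ⟨hy, hy0⟩
    refine ⟨Ideal.add_mem _ hx hy, ?_⟩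
    have : (⟨x + y, Ideal.add_mem _ hx hy⟩ : ↥(RingHom.ker p.toAlgHom)) = ⟨x, hx⟩ + ⟨y, hy⟩ := rfl
    rw [this, map_add, hx0, hy0, add_zero]
  zero_mem' := ⟨Ideal.zero_mem _, by
    have : (⟨0, Ideal.zero_mem _⟩ : ↥(RingHom.ker p.toAlgHom)) = 0 := rfl
    rw [this, map_zero]⟩
  smul_mem' := by
    rintro c x ⟨hx, hx0⟩
    refine ⟨Ideal.mul_mem_left _ _ hx, ?_⟩
    have : (⟨c • x, Ideal.mul_mem_left _ _ hx⟩ : ↥(RingHom.ker p.toAlgHom)) =
        (C'.res c) • ⟨x, hx⟩ := by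
      apply Subtype.ext
      show c * x = (C'.res c) • x
      rw [mul_eq_res_smul p hp c x hx, Algebra.smul_def]
    rw [this, map_smul, hx0, smul_zero]

theorem mem_hyp (x : ↥(RingHom.ker p.toAlgHom)) :
    (x : C') ∈ hyp p hp ℬ b ↔ ℬ.coord b x = 0 := by
  constructor
  · rintro ⟨hx, hx0⟩
    exact hx0
  · intro h
    exact ⟨x.2, h⟩

theorem hyp_le_ker : hyp p hp ℬ b ≤ RingHom.ker p.toAlgHom := fun _ hx => hx.1

theorem hyp_le_max : hyp p hp ℬ b ≤ maximalIdeal C' :=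
  (hyp_le_ker p hp ℬ b).trans (ker_le_maximalIdeal p)

/-- the tiny extension `C'/hyp → C`. -/
noncomputable abbrev tb : quot C' (hyp p hp ℬ b) (hyp_le_max p hp ℬ b) ⟶ C :=
  quotFactor (hyp_le_max p hp ℬ b) p (hyp_le_ker p hp ℬ b)

/-- the generator of the kernel of the tiny extension. -/
noncomputable abbrev yb : ↥(RingHom.ker (tb p hp ℬ b).toAlgHom) :=
  kerToQuot (hyp_le_max p hp ℬ b) p (hyp_le_ker p hp ℬ b) (ℬ b)

theorem kerToQuot_eq (j : ↥(RingHom.ker p.toAlgHom)) :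
    kerToQuot (hyp_le_max p hp ℬ b) p (hyp_le_ker p hp ℬ b) j = ℬ.coord b j • yb p hp ℬ b := by
  have h1 : ((j - ℬ.coord b j • ℬ b : ↥(RingHom.ker p.toAlgHom)) : C') ∈ hyp p hp ℬ b := by
    rw [mem_hyp, map_sub, map_smul, Module.Basis.coord_apply, Module.Basis.coord_apply,
      Module.Basis.repr_self, Finsupp.single_eq_same, smul_eq_mul, mul_one, sub_self]
  have h2 := kerToQuot_eq_zero p _ (hyp_le_max p hp ℬ b) (hyp_le_ker p hp ℬ b) _ h1
  rw [map_sub, map_smul, sub_eq_zero] at h2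
  exact h2

theorem kerToQuot_surjective :
    Function.Surjective (kerToQuot (hyp_le_max p hp ℬ b) p (hyp_le_ker p hp ℬ b)) := by
  rintro ⟨z, hz⟩
  obtain ⟨x, rfl⟩ := quotMk_surjective C' _ (hyp_le_max p hp ℬ b) z
  have hx : x ∈ RingHom.ker p.toAlgHom := by
    rw [RingHom.mem_ker] at hz ⊢
    rw [← hz]
    exact (quotFactor_quotMk p _ (hyp_le_max p hp ℬ b) (hyp_le_ker p hp ℬ b) x).symm
  exact ⟨⟨x, hx⟩, rfl⟩

theorem yb_ne_zero : yb p hp ℬ b ≠ 0 := by
  intro h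
  have h1 : ((yb p hp ℬ b : ↥(RingHom.ker (tb p hp ℬ b).toAlgHom)) :
      (quot C' (hyp p hp ℬ b) (hyp_le_max p hp ℬ b))) = 0 := congrArg Subtype.val h
  have h2 : ((ℬ b : ↥(RingHom.ker p.toAlgHom)) : C') ∈ hyp p hp ℬ b :=
    Ideal.Quotient.eq_zero_iff_mem.1 h1
  rw [mem_hyp, Module.Basis.coord_apply, Module.Basis.repr_self, Finsupp.single_eq_same] at h2
  exact one_ne_zero h2

/-- `k ≃ ker (tb)`, `c ↦ c • yb`. -/
noncomputable def ψb : k →ₗ[k] ↥(RingHom.ker (tb p hp ℬ b).toAlgHom) :=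
  LinearMap.toSpanSingleton k _ (yb p hp ℬ b)

theorem ψb_bijective : Function.Bijective (ψb p hp ℬ b) := by
  constructor
  · rw [← LinearMap.ker_eq_bot, LinearMap.ker_eq_bot']
    intro c hc
    have : c • yb p hp ℬ b = 0 := hc
    rcases smul_eq_zero.1 this with h | h
    · exact h
    · exact absurd h (yb_ne_zero p hp ℬ b)
  · intro z
    obtain ⟨j, rfl⟩ := kerToQuot_surjective p hp ℬ b z
    exact ⟨ℬ.coord b j, (kerToQuot_eq p hp ℬ b j).symm⟩

/-- the identification `ker (tb) ≃ k`. -/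
noncomputable def φb : ↥(RingHom.ker (tb p hp ℬ b).toAlgHom) ≃ₗ[k] k :=
  (LinearEquiv.ofBijective (ψb p hp ℬ b) (ψb_bijective p hp ℬ b)).symm

theorem φb_yb : φb p hp ℬ b (yb p hp ℬ b) = 1 := by
  rw [φb, LinearEquiv.symm_apply_eq]
  show yb p hp ℬ b = (1 : k) • yb p hp ℬ b
  rw [one_smul]

theorem tb_semismall : IsSemismallExt (tb p hp ℬ b) :=
  quotFactor_semismall p hp _ (hyp_le_max p hp ℬ b) (hyp_le_ker p hp ℬ b)

theorem tb_small : IsSmallExt (tb p hp ℬ b) := by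
  refine ⟨(tb_semismall p hp ℬ b).1, ?_, ?_, (tb_semismall p hp ℬ b).2⟩
  · intro h
    apply yb_ne_zero p hp ℬ b
    apply Subtype.ext
    have h' : ∀ z, z ∈ RingHom.ker (tb p hp ℬ b).toAlgHom → z = 0 := fun z hz => by
      rw [h] at hz
      exact hz
    exact h' _ (yb p hp ℬ b).2
  · refine ⟨⟨((yb p hp ℬ b : ↥(RingHom.ker (tb p hp ℬ b).toAlgHom)) :
        (quot C' (hyp p hp ℬ b) (hyp_le_max p hp ℬ b))), ?_⟩⟩
    apply le_antisymm
    · intro z hz
      obtain ⟨j, hj⟩ := kerToQuot_surjective p hp ℬ b ⟨z, hz⟩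
      have h1 := kerToQuot_eq p hp ℬ b j
      rw [hj] at h1
      have h2 : z = ℬ.coord b j • ((yb p hp ℬ b : ↥(RingHom.ker (tb p hp ℬ b).toAlgHom)) :
          (quot C' (hyp p hp ℬ b) (hyp_le_max p hp ℬ b))) := congrArg Subtype.val h1
      rw [h2, Algebra.smul_def]
      exact Ideal.mul_mem_left _ _ (Ideal.subset_span rfl)
    · rw [Ideal.submodule_span_eq, Ideal.span_le]
      rintro _ rfl
      exact (yb p hp ℬ b).2

variable {F : Art k k ⥤ Type v} {V : Type u} [AddCommGroup V] [Module k V] (T : ObsTheory F V)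
  (u : F.obj C)

theorem obs_tb (c : ι →₀ V) (hc : (c.sum fun i v => v ⊗ₜ[k] ℬ i) = T.obs p hp u) :
    T.obs (tb p hp ℬ b) (tb_semismall p hp ℬ b) u = c b ⊗ₜ[k] yb p hp ℬ b := by
  classical
  rw [T.obs_quot p hp _ (hyp_le_max p hp ℬ b) (hyp_le_ker p hp ℬ b) (tb_semismall p hp ℬ b) u, ← hc,
    Finsupp.sum, map_sum]
  rw [Finset.sum_eq_single b]
  · rw [LinearMap.lTensor_tmul]
    congr 1
  · intro i _ hib
    rw [LinearMap.lTensor_tmul]
    have : ((kerToQuot (hyp_le_max p hp ℬ b) p (hyp_le_ker p hp ℬ b)).restrictScalars k) (ℬ i) = 0 := by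
      show kerToQuot (hyp_le_max p hp ℬ b) p (hyp_le_ker p hp ℬ b) (ℬ i) = 0
      rw [kerToQuot_eq, Module.Basis.coord_apply, Module.Basis.repr_self, Finsupp.single_eq_of_ne hib.symm,
        zero_smul]
    rw [this, tmul_zero]
  · intro hb
    rw [Finsupp.notMem_support_iff.1 hb, zero_tmul, map_zero]

theorem coeff_mem (c : ι →₀ V) (hc : (c.sum fun i v => v ⊗ₜ[k] ℬ i) = T.obs p hp u) :
    c b ∈ Submodule.span k {v : V | ∃ (B' B : Art k k) (t : B' ⟶ B) (ht : IsSmallExt t)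
      (w : F.obj B) (φ : ↥(RingHom.ker t.toAlgHom) ≃ₗ[k] k),
      v = TensorProduct.rid k V (LinearMap.lTensor V φ.toLinearMap (T.obs t ht.isSemismallExt w))} := by
  refine Submodule.subset_span ⟨_, _, tb p hp ℬ b, tb_small p hp ℬ b, u, φb p hp ℬ b, ?_⟩
  rw [obs_tb p hp ℬ b T u c hc, LinearMap.lTensor_tmul, LinearEquiv.coe_coe, φb_yb,
    TensorProduct.rid_tmul, one_smul]

theorem obs_mem :
    T.obs p hp u ∈ LinearMap.range (LinearMap.rTensor (↥(RingHom.ker p.toAlgHom))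
      (Submodule.span k {v : V | ∃ (B' B : Art k k) (t : B' ⟶ B) (ht : IsSmallExt t)
          (w : F.obj B) (φ : ↥(RingHom.ker t.toAlgHom) ≃ₗ[k] k),
          v = TensorProduct.rid k V (LinearMap.lTensor V φ.toLinearMap
            (T.obs t ht.isSemismallExt w))}).subtype) := by
  classical
  set ℬ := Module.Free.chooseBasis k ↥(RingHom.ker p.toAlgHom) with hℬ
  obtain ⟨c, hc⟩ := TensorProduct.eq_repr_basis_right ℬ (T.obs p hp u)
  rw [← hc, Finsupp.sum]
  refine Submodule.sum_mem _ fun i _ => ?_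
  exact ⟨⟨c i, coeff_mem p hp ℬ i T u c hc⟩ ⊗ₜ ℬ i, rfl⟩

end Groth.Agent.Lib.Helper59.ObsSpan
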