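import Groth.Agent.Lib.Helper59.StableTrans
import Groth.Agent.Lib.Helper84.HopfFFReduced
import Groth.Agent.Lib.Helper84.QuotPrep
import Groth.Agent.S1156

/-! # The orbit map of a closed orbit is faithfully flat

For a rational point `x` of `Spec R` with closed orbit under the affine group `Spec A` (over an
algebraically closed field, `A` reduced, everything finitely generated), the Hopf algebra `A` is
faithfully flat over the image `B` of the orbit map `R → A`.  Consequently a group-like element
`χ` of `A` with `χ - 1` in the stabiliser ideal of `x` lies in `B`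
(`mem_range_orbitHom_of_sub_one_mem_stabIdeal`): characters trivial on the stabiliser are
functions on the orbit. -/

set_option autoImplicit false
set_option linter.style.haveILetI false
universe u
open TensorProduct WithConv

namespace Groth.Agent.Lib.Helper59.OrbitFF

open Groth.Agent.Lib.Helper59.LinRed Groth.Agent.Lib.Helper84.Points Groth.Agent.H40.PtAct
open Groth.Agent.Lib.Helper93.Comod Groth.Agent.Lib.Helper59.StableTrans

section Act

variable {k : Type u} [Field k] {A : Type u} [CommRing A] [HopfAlgebra k A]
variable {R : Type u} [CommRing R] [Algebra k R] [HopfRep.Comod k A R] [GLin.IsCoactAlg k A R]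

/-- The regular coaction of a bialgebra on itself is multiplicative. -/
instance isCoactAlg_regular : GLin.IsCoactAlg k A A where
  coact_one := Bialgebra.comul_one
  coact_mul := Bialgebra.comul_mul

/-- The action of a rational point of the group on the coordinate ring, as an algebra map. -/
noncomputable def actAlg (g : A →ₐ[k] k) : R →ₐ[k] R :=
  (Algebra.TensorProduct.rid k k R).toAlgHom.comp
    ((Algebra.TensorProduct.map (AlgHom.id k R) g).comp (GLin.coactAlgHom k A R))

theorem actAlg_apply (g : A →ₐ[k] k) (f : R) :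
    actAlg g f = HopfRep.Comod.act k A R g f := by
  simp only [actAlg, HopfRep.Comod.act, AlgHom.comp_apply, LinearMap.comp_apply,
    GLin.coactAlgHom_apply]
  generalize HopfRep.Comod.coact (k := k) (A := A) f = t
  induction t using TensorProduct.induction_on with
  | zero => simp
  | tmul r a => simp
  | add a b ha hb => simp only [map_add, ha, hb]

/-- The action of a rational point of the group on the coordinate ring, as an automorphism. -/
noncomputable def actEquiv (g : Pt k A k) : R ≃ₐ[k] R :=
  AlgEquiv.ofAlgHom (actAlg g.ofConv) (actAlg g⁻¹.ofConv)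
    (by ext f; simp only [AlgHom.comp_apply, actAlg_apply, act_act_inv, AlgHom.id_apply])
    (by ext f; simp only [AlgHom.comp_apply, actAlg_apply, act_inv_act, AlgHom.id_apply])

theorem actEquiv_apply (g : Pt k A k) (f : R) :
    actEquiv g f = HopfRep.Comod.act k A R g.ofConv f := actAlg_apply _ f

theorem actEquiv_symm_apply (g : Pt k A k) (f : R) :
    (actEquiv g).symm f = HopfRep.Comod.act k A R g⁻¹.ofConv f := actAlg_apply _ f

/-- `ψ ((id ⊗ φ) Δ a) = (ψ ⊗ φ) Δ a`. -/
theorem apply_dualAct_regular (ψ φ : A →ₗ[k] k) (a : A) :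
    ψ (dualAct A A φ a) = Groth.Agent.H40.convFun ψ φ a := by
  rw [dualAct_apply]
  simp only [Groth.Agent.H40.convFun, LinearMap.comp_apply]
  change ψ ((TensorProduct.rid k A) (φ.lTensor A (Coalgebra.comul (R := k) a))) = _
  generalize Coalgebra.comul (R := k) a = t
  induction t using TensorProduct.induction_on with
  | zero => simp
  | tmul b c => simp [mul_comm]
  | add a b ha hb => simp only [map_add, ha, hb]

/-- The orbit map is a comodule map to the regular comodule. -/
theorem isComodHom_orbitHom (x : R →ₐ[k] k) :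
    Hoch.IsComodHom A (GLin.orbitHom k A x).toLinearMap := by
  rw [isComodHom_iff]
  intro φ r
  rw [← sub_eq_zero, ← Module.forall_dual_apply_eq_zero_iff k]
  intro ψ
  rw [map_sub, sub_eq_zero, apply_dualAct_regular]
  have h1 : ∀ (ψ : A →ₗ[k] k) (f : R), ψ (GLin.orbitHom k A x f) = x (dualAct A R ψ f) :=
    apply_orbitAlg (GLin.IsCoactAlg.coact_mul (k := k) (A := A) (R := R))
      (GLin.IsCoactAlg.coact_one (k := k) (A := A) (R := R)) x
  change Groth.Agent.H40.convFun ψ φ (GLin.orbitHom k A x r) =
    ψ (GLin.orbitHom k A x (dualAct A R φ r))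
  rw [h1, h1, dualAct_dualAct]

/-- Equivariance of the orbit map for the action of rational points. -/
theorem orbitHom_act (x : R →ₐ[k] k) (g : A →ₐ[k] k) (f : R) :
    GLin.orbitHom k A x (HopfRep.Comod.act k A R g f) =
      HopfRep.Comod.act k A A g (GLin.orbitHom k A x f) := by
  rw [act_eq_dualAct, act_eq_dualAct]
  exact (dualAct_comm_of_isComodHom _ (isComodHom_orbitHom x) g.toLinearMap f).symm

/-- A point of the group evaluated on a right translate. -/
theorem apply_act_regular (z h : Pt k A k) (a : A) :
    z.ofConv (HopfRep.Comod.act k A A h.ofConv a) = (z * h).ofConv a := by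
  rw [act_eq_dualAct]
  have := apply_dualAct_regular z.ofConv.toLinearMap h.ofConv.toLinearMap a
  rw [AlgHom.toLinearMap_apply] at this
  rw [this, mul_apply]
  simp only [Groth.Agent.H40.convFun, LinearMap.comp_apply]
  change _ = Algebra.TensorProduct.lift z.ofConv h.ofConv (fun _ _ => Commute.all _ _)
    (Coalgebra.comul (R := k) a)
  generalize Coalgebra.comul (R := k) a = t
  induction t using TensorProduct.induction_on with
  | zero => simp
  | tmul b c => simp
  | add a b ha hb => simp only [map_add, ha, hb]

end Act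

section Generic

open Groth.Agent.Lib.Helper84.HopfFFReduced

/-- Flatness from freeness over one basic open and enough compatible automorphisms. -/
theorem flat_of_translates {B A : Type*} [CommRing B] [CommRing A] [Algebra B A] (g₀ : B)
    [Module.Free (Localization.Away g₀) (LocalizedModule (Submonoid.powers g₀) A)]
    {ι : Type*} (eA : ι → A ≃+* A) (eB : ι → B ≃+* B)
    (h : ∀ i b, algebraMap B A (eB i b) = eA i (algebraMap B A b))
    (hspan : Ideal.span (Set.range fun i => eA i (algebraMap B A g₀)) = ⊤) :
    Module.Flat B A := by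
  have hflat₀ : Module.Flat B (Localization.Away (algebraMap B A g₀)) := flat_away_of_free g₀
  refine Module.flat_of_isLocalized_span A A _ hspan (fun r => Localization.Away r.1)
    (fun r => Algebra.linearMap A (Localization.Away r.1)) ?_
  rintro ⟨_, i, rfl⟩
  exact flat_away_of_equiv (eA i) (eB i) (h i) (algebraMap B A g₀)

end Generic

section Flat

open Groth.Agent.Lib.Helper84.HopfFFTrans

variable {k : Type u} [Field k] {A : Type u} [CommRing A] [HopfAlgebra k A]
variable {R : Type u} [CommRing R] [Algebra k R] [HopfRep.Comod k A R] [GLin.IsCoactAlg k A R]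
variable (x : R →ₐ[k] k)

/-- Right translation by a rational point preserves the image of the orbit map. -/
theorem act_mem_range (g : A →ₐ[k] k) {b : A} (hb : b ∈ (GLin.orbitHom k A x).range) :
    HopfRep.Comod.act k A A g b ∈ (GLin.orbitHom k A x).range := by
  obtain ⟨f, rfl⟩ := hb
  exact ⟨HopfRep.Comod.act k A R g f, orbitHom_act x g f⟩

/-- Right translation restricted to the image of the orbit map. -/
noncomputable def rangeEquiv (g : Pt k A k) :
    (GLin.orbitHom k A x).range ≃+* (GLin.orbitHom k A x).range where
  toFun b := ⟨actEquiv g (b : A), by rw [actEquiv_apply]; exact act_mem_range x _ b.2⟩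
  invFun b := ⟨(actEquiv g).symm (b : A), by
    rw [actEquiv_symm_apply]; exact act_mem_range x _ b.2⟩
  left_inv b := Subtype.ext ((actEquiv g).symm_apply_apply _)
  right_inv b := Subtype.ext ((actEquiv g).apply_symm_apply _)
  map_mul' a b := Subtype.ext (map_mul (actEquiv g) _ _)
  map_add' a b := Subtype.ext (map_add (actEquiv g) _ _)

variable [IsAlgClosed k] [Algebra.FiniteType k A] [IsReduced A]

/-- `A` is flat over the image of the orbit map. -/
theorem flat_range : Module.Flat (GLin.orbitHom k A x).range A := by
  classical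
  set B := (GLin.orbitHom k A x).range with hB
  haveI : Algebra.FiniteType B A := Algebra.FiniteType.of_restrictScalars_finiteType k B A
  haveI : IsReduced B := isReduced_of_injective B.val Subtype.val_injective
  obtain ⟨U, hUo, hUd, hU⟩ :=
    Groth.Agent.Lib.Helper91.generic_freeness_reduced (R := B) (S := A) (M := A)
  haveI : Nontrivial A := (Bialgebra.counitAlgHom k A).toRingHom.domain_nontrivial
  haveI : Nontrivial B := B.val.toRingHom.domain_nontrivial
  obtain ⟨u₀, hu₀⟩ := hUd.nonempty
  obtain ⟨g₀, hg₀u, -, hfree, -, -, -⟩ := hU u₀ hu₀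
  have hg₀ : ¬ IsNilpotent (algebraMap B A g₀) := by
    rintro ⟨n, hn⟩
    rw [← map_pow] at hn
    have hn' : g₀ ^ n = 0 := Subtype.ext hn
    exact hg₀u (u₀.isPrime.mem_of_pow_mem n (hn' ▸ zero_mem _))
  haveI := hfree
  refine flat_of_translates (B := B) (A := A) g₀ (ι := Pt k A k)
    (fun h => (actEquiv h).toRingEquiv) (fun h => rangeEquiv x h) (fun h b => rfl) ?_
  by_contra hne
  obtain ⟨z, hz⟩ := Groth.Agent.Lib.Helper59.exists_algHom_of_ne_top k A _ hne
  obtain ⟨y, hy⟩ := exists_point_ne_zero k A (algebraMap B A g₀) hg₀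
  let h : Pt k A k := (toConv z)⁻¹ * toConv y
  have h1 : z (actEquiv h (algebraMap B A g₀)) = 0 := hz _ (Ideal.subset_span ⟨h, rfl⟩)
  rw [actEquiv_apply] at h1
  have h2 := apply_act_regular (toConv z) h (algebraMap B A g₀)
  rw [ofConv_toConv, mul_inv_cancel_left, ofConv_toConv] at h2
  exact hy (h2 ▸ h1)

end Flat

section FF

variable {k : Type u} [Field k] [IsAlgClosed k] {A : Type u} [CommRing A] [HopfAlgebra k A]
  [Algebra.FiniteType k A] [IsReduced A]
variable {R : Type u} [CommRing R] [Algebra k R] [HopfRep.Comod k A R] [GLin.IsCoactAlg k A R]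
  [Algebra.FiniteType k R]
variable (x : R →ₐ[k] k)

omit [IsReduced A] in
/-- For a closed orbit, every rational point of the image of the orbit map comes from a rational
point of the group. -/
theorem exists_lift (hx : GLin.IsClosedOrbit k A x) (y : (GLin.orbitHom k A x).range →ₐ[k] k) :
    ∃ g : A →ₐ[k] k, ∀ b : (GLin.orbitHom k A x).range, g (b : A) = y b := by
  let z : R →ₐ[k] k := y.comp (GLin.orbitHom k A x).rangeRestrict
  have hz : ∀ f : R, (∀ g : A →ₐ[k] k, x (HopfRep.Comod.act k A R g f) = 0) → z f = 0 := by
    intro f hf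
    have hnil : IsNilpotent (GLin.orbitHom k A x f) :=
      isNilpotent_of_forall_algHom_eq_zero k A _ (fun g => by rw [apply_orbitHom]; exact hf g)
    obtain ⟨n, hn⟩ := hnil
    have h1 : (GLin.orbitHom k A x).rangeRestrict f ^ n = 0 := Subtype.ext hn
    have h2 : z f ^ n = 0 := by
      change y ((GLin.orbitHom k A x).rangeRestrict f) ^ n = 0
      rw [← map_pow, h1, map_zero]
    exact eq_zero_of_pow_eq_zero h2
  obtain ⟨g, hg⟩ := (isClosedOrbit_iff x).mp hx z hz
  refine ⟨g, ?_⟩
  rintro ⟨_, f, rfl⟩
  change g (GLin.orbitHom k A x f) = z f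
  rw [hg f, apply_orbitHom]

/-- **For a closed orbit, `A` is faithfully flat over the image of the orbit map.** -/
theorem faithfullyFlat_range (hx : GLin.IsClosedOrbit k A x) :
    Module.FaithfullyFlat (GLin.orbitHom k A x).range A := by
  haveI := flat_range (A := A) x
  set B := (GLin.orbitHom k A x).range with hB
  haveI : Algebra.FiniteType k B := by
    rw [hB]
    exact Algebra.FiniteType.of_surjective (GLin.orbitHom k A x).rangeRestrict
      (GLin.orbitHom k A x).rangeRestrict_surjective
  refine ⟨?_⟩
  intro 𝔫 h𝔫 htop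
  obtain ⟨y, hy⟩ := Groth.Agent.Lib.Helper59.exists_algHom_ker_eq_of_isMaximal k B 𝔫
  obtain ⟨g, hg⟩ := exists_lift x hx y
  have key : ∀ a ∈ 𝔫 • (⊤ : Submodule B A), g a = 0 := by
    intro a ha
    refine Submodule.smul_induction_on ha ?_ ?_
    · intro n hn a' _
      have h1 : n • a' = (n : A) * a' := rfl
      have h2 : y n = 0 := by
        rw [← hy] at hn
        exact hn
      rw [h1, map_mul, hg, h2, zero_mul]
    · intro a b ha hb
      rw [map_add, ha, hb, add_zero]
  have h1 := key 1 (by rw [htop]; trivial)
  rw [map_one] at h1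
  exact one_ne_zero h1

end FF

section Descent

open Groth.Agent.Lib.Helper84.QuotPrep

variable {k : Type u} [Field k] {A : Type u} [CommRing A] [HopfAlgebra k A]
variable {R : Type u} [CommRing R] [Algebra k R] [HopfRep.Comod k A R] [GLin.IsCoactAlg k A R]
variable (x : R →ₐ[k] k)

theorem comul_orbitHom (f : R) :
    Coalgebra.comul (R := k) (GLin.orbitHom k A x f) =
      (GLin.orbitHom k A x).toLinearMap.rTensor A (HopfRep.Comod.coact (k := k) (A := A) f) :=
  LinearMap.congr_fun (isComodHom_orbitHom x) f

theorem counit_orbitHom (f : R) :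
    Coalgebra.counit (R := k) (GLin.orbitHom k A x f) = x f := by
  have h1 : ∀ (ψ : A →ₗ[k] k) (f : R), ψ (GLin.orbitHom k A x f) = x (dualAct A R ψ f) :=
    apply_orbitAlg (GLin.IsCoactAlg.coact_mul (k := k) (A := A) (R := R))
      (GLin.IsCoactAlg.coact_one (k := k) (A := A) (R := R)) x
  rw [h1, dualAct_counit]

/-- The point `(g, h) ↦ g h⁻¹` of `G ×_{G·x} G` sends the orbit map to the constant `x`. -/
theorem gL_mul_inv_gR_orbitHom (f : R) :
    (gL (k := k) (GLin.orbitHom k A x).range * (gR (k := k) (GLin.orbitHom k A x).range)⁻¹).ofConv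
      (GLin.orbitHom k A x f) = algebraMap k _ (x f) := by
  set B := (GLin.orbitHom k A x).range with hB
  have key : ∀ t : R ⊗[k] A,
      Algebra.TensorProduct.lift (gL (k := k) B).ofConv ((gR (k := k) B)⁻¹).ofConv
        (fun _ _ => Commute.all _ _) ((GLin.orbitHom k A x).toLinearMap.rTensor A t) =
      Algebra.TensorProduct.lift (gR (k := k) B).ofConv ((gR (k := k) B)⁻¹).ofConv
        (fun _ _ => Commute.all _ _) ((GLin.orbitHom k A x).toLinearMap.rTensor A t) := by
    intro t
    induction t using TensorProduct.induction_on with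
    | zero => simp
    | tmul r a =>
      simp only [LinearMap.rTensor_tmul, AlgHom.toLinearMap_apply, Algebra.TensorProduct.lift_tmul]
      rw [gL_eq_gR B (GLin.orbitHom k A x r) ⟨r, rfl⟩]
    | add a b ha hb => simp only [map_add, ha, hb]
  rw [mul_apply, comul_orbitHom, key, ← comul_orbitHom, ← mul_apply, mul_inv_cancel, one_apply,
    counit_orbitHom]

/-- A group-like element congruent to `1` modulo the stabiliser ideal has equal images under the
two maps `A → A ⊗_B A`, `B` the image of the orbit map. -/
theorem gL_eq_gR_of_sub_one_mem_stabIdeal {χ : A} (hχ : IsGroupLikeElem k χ)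
    (h : χ - 1 ∈ GLin.stabIdeal k A x) :
    (gL (k := k) (GLin.orbitHom k A x).range).ofConv χ =
      (gR (k := k) (GLin.orbitHom k A x).range).ofConv χ := by
  set B := (GLin.orbitHom k A x).range with hB
  set p := gL (k := k) B * (gR (k := k) B)⁻¹ with hp
  have hle : GLin.stabIdeal k A x ≤ RingHom.ker (p.ofConv : A →+* A ⊗[B] A) := by
    unfold GLin.stabIdeal
    rw [Ideal.map_le_iff_le_comap]
    intro f hf
    rw [Ideal.mem_comap, RingHom.mem_ker]
    change p.ofConv (GLin.orbitHom k A x f) = 0
    have hf' : x f = 0 := hf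
    rw [hp, gL_mul_inv_gR_orbitHom, hf', map_zero]
  have h1 : p.ofConv χ = 1 := by
    have := hle h
    rw [RingHom.mem_ker] at this
    have h2 : p.ofConv (χ - 1) = 0 := this
    rw [map_sub, map_one, sub_eq_zero] at h2
    exact h2
  have h2 : p.ofConv χ = (gL (k := k) B).ofConv χ *
      (gR (k := k) B).ofConv (HopfAlgebra.antipode k χ) := by
    rw [hp, mul_apply, hχ.comul_eq_tmul_self, Algebra.TensorProduct.lift_tmul, inv_apply]
  rw [h2] at h1
  calc (gL (k := k) B).ofConv χ
      = (gL (k := k) B).ofConv χ * (gR (k := k) B).ofConv (HopfAlgebra.antipode k χ * χ) := by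
        rw [hχ.antipode_mul_cancel, map_one, mul_one]
    _ = (gR (k := k) B).ofConv χ := by
        rw [map_mul, ← mul_assoc, h1, one_mul]

end Descent

section Main

open Groth.Agent.Lib.Helper84.QuotPrep

/-- Faithfully flat descent of elements for a subalgebra. -/
theorem mem_of_tmul_one_eq_one_tmul {k : Type u} [CommRing k] {A : Type u} [CommRing A]
    [Algebra k A] (B : Subalgebra k A) [Module.FaithfullyFlat B A] {a : A}
    (h : a ⊗ₜ[B] (1 : A) = (1 : A) ⊗ₜ[B] a) : a ∈ B := by
  let φ : A ⊗[B] A →ₗ[B] A ⊗[B] (A ⊗[B] B) :=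
    LinearMap.lTensor A ((TensorProduct.rid B A).symm.toLinearMap)
  have h1 := congrArg φ h
  simp only [φ] at h1
  have h2 := Groth.Agent.S1156.result B A B (a ⊗ₜ[B] (1 : B)) (by
    simp only [TensorProduct.mk_apply, LinearMap.lTensor_tmul]
    exact h1.symm)
  obtain ⟨m, hm⟩ := h2
  have h3 := congrArg (TensorProduct.rid B A) hm
  simp only [TensorProduct.mk_apply, TensorProduct.rid_tmul, one_smul] at h3
  rw [← h3]
  have : m • (1 : A) = (m : A) := by rw [Subalgebra.smul_def, smul_eq_mul, mul_one]
  rw [this]
  exact m.2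

variable {k : Type u} [Field k] [IsAlgClosed k] {A : Type u} [CommRing A] [HopfAlgebra k A]
  [Algebra.FiniteType k A] [IsReduced A]
variable {R : Type u} [CommRing R] [Algebra k R] [HopfRep.Comod k A R] [GLin.IsCoactAlg k A R]
  [Algebra.FiniteType k R]

/-- **Characters trivial on the stabiliser are functions on a closed orbit**: for a rational point
`x` with closed orbit, a group-like element `χ` with `χ - 1` in the stabiliser ideal of `x` lies
in the image of the orbit map of `x`. -/
theorem mem_range_orbitHom_of_sub_one_mem_stabIdeal (x : R →ₐ[k] k)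
    (hx : GLin.IsClosedOrbit k A x) {χ : A} (hχ : IsGroupLikeElem k χ)
    (h : χ - 1 ∈ GLin.stabIdeal k A x) : χ ∈ (GLin.orbitHom k A x).range := by
  haveI := faithfullyFlat_range x hx
  apply mem_of_tmul_one_eq_one_tmul
  exact gL_eq_gR_of_sub_one_mem_stabIdeal x hχ h

end Main

end Groth.Agent.Lib.Helper59.OrbitFF
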