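import Mathlib
import Groth.Agent.Lib.Helper59.P1Split
import Groth.Agent.Lib.Helper59.Staircase

/-!
# Grothendieck's splitting theorem on the projective line: uniqueness of the twists (helper59)
-/

set_option autoImplicit false
universe u
open AlgebraicGeometry CategoryTheory Limits Opposite TopologicalSpace

namespace Groth.Agent.Lib.Helper59.P1Split

open Groth.Agent.Lib.Helper59.P1Curve

variable (k : Type u) [Field k]

theorem antitone_unique {r : ℕ} (d e : Fin r → ℤ) (hd : Antitone d) (he : Antitone e)
    (θ : (∐ fun i : Fin r => Twist.twistProjSpace 1 k (d i)) ≅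
      ∐ fun i : Fin r => Twist.twistProjSpace 1 k (e i)) : d = e := by
  funext j
  by_contra hne
  rcases lt_or_gt_of_ne hne with h | h
  · exact Staircase.not_staircase (fun i : Fin r => Twist.twistProjSpace 1 k (e i))
      (fun i : Fin r => Twist.twistProjSpace 1 k (d i))
      (fun i => rank_one_twist k 1 _) (fun i => rank_one_twist k 1 _) θ.inv j
      (fun i l hi hl φ => hom_twist_eq_zero k (by
        have h1 := he hi
        have h2 := hd hl
        omega) φ)
  · exact Staircase.not_staircase (fun i : Fin r => Twist.twistProjSpace 1 k (d i))
      (fun i : Fin r => Twist.twistProjSpace 1 k (e i))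
      (fun i => rank_one_twist k 1 _) (fun i => rank_one_twist k 1 _) θ.hom j
      (fun i l hi hl φ => hom_twist_eq_zero k (by
        have h1 := hd hi
        have h2 := he hl
        omega) φ)

end Groth.Agent.Lib.Helper59.P1Split
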