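import Mathlib

/-!
# Index computations over `ℤ_[ℓ]` (helper59)

* `index_range_pow` : for an injective endomorphism `g`, `[K : g^e K] = [K : gK]^e`.
* `card_quotient_smul_top` : `#(K / ℓK) = ℓ ^ rank K` for `K` free of finite rank over `ℤ_[ℓ]`.
* `torsion_quotient_range` : the main structural lemma used for S18599.
-/

set_option autoImplicit false
universe u
open TensorProduct Pointwise

namespace Groth.Agent.Lib.Helper59.PadicIndex

theorem index_range_pow {R : Type*} [CommRing R] {K : Type*} [AddCommGroup K] [Module R K]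
    (g : Module.End R K) (hg : Function.Injective g) (e : ℕ) :
    (LinearMap.range (g ^ e)).toAddSubgroup.index = (LinearMap.range g).toAddSubgroup.index ^ e := by
  induction e with
  | zero =>
    simp [Module.End.one_eq_id]
  | succ e ih =>
    have h1 : LinearMap.range (g ^ (e + 1)) = (LinearMap.range (g ^ e)).map g := by
      rw [pow_succ', Module.End.mul_eq_comp, LinearMap.range_comp]
    have h2 : (LinearMap.range g) = (⊤ : Submodule R K).map g := by
      rw [Submodule.map_top]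
    have hle : (LinearMap.range (g ^ (e + 1))).toAddSubgroup ≤ (LinearMap.range g).toAddSubgroup := by
      intro x hx
      rw [h1] at hx
      obtain ⟨y, -, rfl⟩ := hx
      exact ⟨y, rfl⟩
    have h3 : (LinearMap.range (g ^ (e + 1))).toAddSubgroup.relIndex (LinearMap.range g).toAddSubgroup =
        (LinearMap.range (g ^ e)).toAddSubgroup.index := by
      rw [h1]
      conv_lhs => rw [h2]
      rw [Submodule.map_toAddSubgroup, Submodule.map_toAddSubgroup]
      rw [AddSubgroup.relIndex_map_map_of_injective _ _ (by exact hg)]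
      simp
    rw [← AddSubgroup.relIndex_mul_index hle, h3, ih, pow_succ]

theorem card_quot_span_p (ℓ : ℕ) [Fact ℓ.Prime] :
    Nat.card (ℤ_[ℓ] ⧸ Ideal.span {(ℓ : ℤ_[ℓ])}) = ℓ := by
  rw [← PadicInt.maximalIdeal_eq_span_p, ← PadicInt.ker_toZMod]
  rw [Nat.card_congr (RingHom.quotientKerEquivOfSurjective
    (ZMod.ringHom_surjective PadicInt.toZMod)).toEquiv]
  simp

theorem card_quotient_smul_top (ℓ : ℕ) [Fact ℓ.Prime] (K : Type*) [AddCommGroup K] [Module ℤ_[ℓ] K]
    [Module.Free ℤ_[ℓ] K] [Module.Finite ℤ_[ℓ] K] :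
    Nat.card (K ⧸ ((ℓ : ℤ_[ℓ]) • (⊤ : Submodule ℤ_[ℓ] K))) = ℓ ^ Module.finrank ℤ_[ℓ] K := by
  rw [← Submodule.ideal_span_singleton_smul]
  let b := Module.finBasis ℤ_[ℓ] K
  let e1 := (quotTensorEquivQuotSMul K (Ideal.span {(ℓ : ℤ_[ℓ])})).symm
  let e2 : (ℤ_[ℓ] ⧸ Ideal.span {(ℓ : ℤ_[ℓ])}) ⊗[ℤ_[ℓ]] K ≃ₗ[ℤ_[ℓ]]
      (ℤ_[ℓ] ⧸ Ideal.span {(ℓ : ℤ_[ℓ])}) ⊗[ℤ_[ℓ]] (Fin (Module.finrank ℤ_[ℓ] K) → ℤ_[ℓ]) :=
    LinearEquiv.lTensor _ b.equivFun
  let e3 := TensorProduct.piScalarRight ℤ_[ℓ] ℤ_[ℓ] (ℤ_[ℓ] ⧸ Ideal.span {(ℓ : ℤ_[ℓ])})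
    (Fin (Module.finrank ℤ_[ℓ] K))
  rw [Nat.card_congr ((e1.trans e2).trans e3).toEquiv, Nat.card_fun, card_quot_span_p]
  simp

section main

variable (ℓ : ℕ) [Fact ℓ.Prime] {M : Type u} [AddCommGroup M] [Module ℤ_[ℓ] M] [Module.Free ℤ_[ℓ] M]
  [Module.Finite ℤ_[ℓ] M]

theorem prime_ne_zero : (ℓ : ℤ_[ℓ]) ≠ 0 := by
  exact_mod_cast (Fact.out : ℓ.Prime).ne_zero

/-- Structural lemma: `f = f P = P f` with `P` idempotent, and `f ^ e = ℓ • (U P)` with `U` a unit commuting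
with `P`.  Then the torsion of `M / f M` is `K / f K` (`K = P M`), killed by `ℓ`, of order `ℓ ^ r` with
`r e = rank K = rank M - rank ker f`. -/
theorem torsion_quotient_range (f P U : Module.End ℤ_[ℓ] M) (hU : IsUnit U) (hP : P * P = P)
    (hfP : f * P = f) (hPf : P * f = f) (hUP : U * P = P * U) (e : ℕ) (he : 0 < e)
    (hfe : f ^ e = (ℓ : ℤ_[ℓ]) • (U * P)) :
    (∀ x ∈ Submodule.torsion ℤ_[ℓ] (M ⧸ LinearMap.range f), (ℓ : ℤ_[ℓ]) • x = 0) ∧
      ∃ r : ℕ, r * e = Module.finrank ℤ_[ℓ] M - Module.finrank ℤ_[ℓ] (LinearMap.ker f) ∧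
        Nat.card (Submodule.torsion ℤ_[ℓ] (M ⧸ LinearMap.range f)) = ℓ ^ r := by
  have hℓ := prime_ne_zero ℓ
  obtain ⟨u, rfl⟩ := hU
  -- pointwise forms
  have hPP : ∀ x, P (P x) = P x := fun x => by
    have := congrArg (fun g : Module.End ℤ_[ℓ] M => g x) hP; simpa using this
  have hfPx : ∀ x, f (P x) = f x := fun x => by
    have := congrArg (fun g : Module.End ℤ_[ℓ] M => g x) hfP; simpa using this
  have hPfx : ∀ x, P (f x) = f x := fun x => by
    have := congrArg (fun g : Module.End ℤ_[ℓ] M => g x) hPf; simpa using this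
  have hUPx : ∀ x, (u : Module.End ℤ_[ℓ] M) (P x) = P ((u : Module.End ℤ_[ℓ] M) x) := fun x => by
    have := congrArg (fun g : Module.End ℤ_[ℓ] M => g x) hUP; simpa using this
  have hfex : ∀ x, (f ^ e) x = (ℓ : ℤ_[ℓ]) • (u : Module.End ℤ_[ℓ] M) (P x) := fun x => by
    have := congrArg (fun g : Module.End ℤ_[ℓ] M => g x) hfe; simpa using this
  have huinv : ∀ x, (u : Module.End ℤ_[ℓ] M) ((↑u⁻¹ : Module.End ℤ_[ℓ] M) x) = x := fun x => by
    exact LinearMap.congr_fun u.mul_inv x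
  have hinvu : ∀ x, (↑u⁻¹ : Module.End ℤ_[ℓ] M) ((u : Module.End ℤ_[ℓ] M) x) = x := fun x => by
    exact LinearMap.congr_fun u.inv_mul x
  have hinvP : ∀ x, (↑u⁻¹ : Module.End ℤ_[ℓ] M) (P x) = P ((↑u⁻¹ : Module.End ℤ_[ℓ] M) x) := fun x => by
    have h := hUPx ((↑u⁻¹ : Module.End ℤ_[ℓ] M) x)
    rw [huinv] at h
    rw [← h, hinvu]
  -- K = P M and g = f|K
  let K : Submodule ℤ_[ℓ] M := LinearMap.range P
  have hK : ∀ x : M, x ∈ K ↔ P x = x := fun x =>
    ⟨fun ⟨y, hy⟩ => by rw [← hy, hPP], fun h => ⟨x, h⟩⟩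
  have hfK : ∀ x ∈ K, f x ∈ K := fun x _ => (hK _).2 (hPfx x)
  let g : Module.End ℤ_[ℓ] K := f.restrict hfK
  have hgcoe : ∀ (n : ℕ) (x : K), (((g ^ n) x : K) : M) = (f ^ n) (x : M) := by
    intro n
    induction n with
    | zero => intro x; simp
    | succ n ih =>
      intro x
      rw [pow_succ', pow_succ', Module.End.mul_apply, Module.End.mul_apply]
      change f (((g ^ n) x : K) : M) = _
      rw [ih]
  have hfinj : ∀ x ∈ K, f x = 0 → x = 0 := by
    intro x hx h0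
    have h1 : (f ^ e) x = 0 := by
      obtain ⟨e', rfl⟩ : ∃ e', e = e' + 1 := ⟨e - 1, by omega⟩
      rw [pow_succ, Module.End.mul_apply, h0, map_zero]
    rw [hfex, (hK x).1 hx] at h1
    have h2 : (u : Module.End ℤ_[ℓ] M) x = 0 := (smul_eq_zero.1 h1).resolve_left hℓ
    have h3 := hinvu x
    rw [h2, map_zero] at h3
    exact h3.symm
  have hginj : Function.Injective g := by
    rw [← LinearMap.ker_eq_bot, LinearMap.ker_eq_bot']
    intro x hx
    have : f (x : M) = 0 := congrArg Subtype.val hx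
    exact Subtype.ext (hfinj x x.2 this)
  have hrange : LinearMap.range (g ^ e) = (ℓ : ℤ_[ℓ]) • (⊤ : Submodule ℤ_[ℓ] K) := by
    apply le_antisymm
    · rintro _ ⟨x, rfl⟩
      rw [Submodule.mem_smul_pointwise_iff_exists]
      have hmem : (u : Module.End ℤ_[ℓ] M) (x : M) ∈ K := by
        rw [hK, ← hUPx, (hK _).1 x.2]
      refine ⟨⟨_, hmem⟩, Submodule.mem_top, ?_⟩
      apply Subtype.ext
      rw [hgcoe, hfex, (hK _).1 x.2]
      rfl
    · intro x hx
      rw [Submodule.mem_smul_pointwise_iff_exists] at hx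
      obtain ⟨y, -, rfl⟩ := hx
      have hmem : (↑u⁻¹ : Module.End ℤ_[ℓ] M) (y : M) ∈ K := by
        rw [hK, ← hinvP, (hK _).1 y.2]
      refine ⟨⟨_, hmem⟩, ?_⟩
      apply Subtype.ext
      rw [hgcoe, hfex]
      change (ℓ : ℤ_[ℓ]) • (u : Module.End ℤ_[ℓ] M) (P ((↑u⁻¹ : Module.End ℤ_[ℓ] M) (y : M))) = _
      rw [← hinvP, huinv, (hK _).1 y.2]
      rfl
  -- the index of g K in K
  have hidx : (LinearMap.range g).toAddSubgroup.index ^ e = ℓ ^ Module.finrank ℤ_[ℓ] K := by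
    rw [← index_range_pow g hginj e, hrange, ← card_quotient_smul_top ℓ K]
    rfl
  obtain ⟨r, hr⟩ : ∃ r, (LinearMap.range g).toAddSubgroup.index = ℓ ^ r := by
    have hdvd : (LinearMap.range g).toAddSubgroup.index ∣ ℓ ^ Module.finrank ℤ_[ℓ] K := by
      rw [← hidx]
      exact dvd_pow_self _ he.ne'
    obtain ⟨r, -, hr⟩ := (Nat.dvd_prime_pow (Fact.out : ℓ.Prime)).1 hdvd
    exact ⟨r, hr⟩
  have hre : r * e = Module.finrank ℤ_[ℓ] K := by
    rw [hr, ← pow_mul] at hidx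
    exact Nat.pow_right_injective (Fact.out : ℓ.Prime).two_le hidx
  -- the comparison map K → M / f M
  let φ : K →ₗ[ℤ_[ℓ]] M ⧸ LinearMap.range f := (LinearMap.range f).mkQ.comp K.subtype
  have hker : LinearMap.ker φ = LinearMap.range g := by
    ext x
    rw [LinearMap.mem_ker]
    change (LinearMap.range f).mkQ (x : M) = 0 ↔ _
    rw [Submodule.mkQ_apply, Submodule.Quotient.mk_eq_zero]
    constructor
    · rintro ⟨m, hm⟩
      refine ⟨⟨P m, (hK _).2 (hPP m)⟩, ?_⟩
      apply Subtype.ext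
      change f (P m) = _
      rw [hfPx, hm]
    · rintro ⟨y, rfl⟩
      exact ⟨(y : M), rfl⟩
  have hle1 : LinearMap.range (g ^ e) ≤ LinearMap.range g := by
    obtain ⟨e', rfl⟩ : ∃ e', e = e' + 1 := ⟨e - 1, by omega⟩
    rintro _ ⟨x, rfl⟩
    rw [pow_succ', Module.End.mul_apply]
    exact ⟨_, rfl⟩
  have hkill : ∀ x : K, (ℓ : ℤ_[ℓ]) • φ x = 0 := by
    intro x
    rw [← map_smul, ← LinearMap.mem_ker, hker]
    apply hle1
    rw [hrange]
    exact Submodule.smul_mem_pointwise_smul _ _ _ Submodule.mem_top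
  have hrangeφ : LinearMap.range φ = Submodule.torsion ℤ_[ℓ] (M ⧸ LinearMap.range f) := by
    apply le_antisymm
    · rintro _ ⟨x, rfl⟩
      rw [Submodule.mem_torsion_iff]
      exact ⟨⟨(ℓ : ℤ_[ℓ]), mem_nonZeroDivisors_of_ne_zero hℓ⟩, hkill x⟩
    · intro x hx
      rw [Submodule.mem_torsion_iff] at hx
      obtain ⟨a, ha⟩ := hx
      obtain ⟨m, rfl⟩ := Submodule.Quotient.mk_surjective _ x
      have ha' : (a : ℤ_[ℓ]) • Submodule.Quotient.mk (p := LinearMap.range f) m = 0 := ha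
      rw [← Submodule.Quotient.mk_smul, Submodule.Quotient.mk_eq_zero] at ha'
      obtain ⟨m', hm'⟩ := ha'
      have h1 : P ((a : ℤ_[ℓ]) • m) = (a : ℤ_[ℓ]) • m := by rw [← hm', hPfx]
      rw [map_smul] at h1
      have h2 : P m = m := smul_right_injective M (nonZeroDivisors.coe_ne_zero a) h1
      exact ⟨⟨m, (hK _).2 h2⟩, rfl⟩
  refine ⟨?_, r, ?_, ?_⟩
  · intro x hx
    rw [← hrangeφ] at hx
    obtain ⟨y, rfl⟩ := hx
    exact hkill y
  · rw [hre]
    have hkerf : LinearMap.ker f = LinearMap.ker P := by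
      ext x
      rw [LinearMap.mem_ker, LinearMap.mem_ker]
      constructor
      · intro hx
        have := hfinj (P x) ((hK _).2 (hPP x)) (by rw [hfPx, hx])
        exact this
      · intro hx
        rw [← hfPx, hx, map_zero]
    rw [hkerf]
    have h1 := Submodule.finrank_quotient_add_finrank (LinearMap.ker P)
    have h2 : Module.finrank ℤ_[ℓ] (M ⧸ LinearMap.ker P) = Module.finrank ℤ_[ℓ] K :=
      P.quotKerEquivRange.finrank_eq
    omega
  · rw [← hrangeφ, ← Nat.card_congr φ.quotKerEquivRange.toEquiv, ← hr]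
    rw [hker]
    rfl

end main


section
variable (ℓ : ℕ) [Fact ℓ.Prime] {M : Type u} [AddCommGroup M] [Module ℤ_[ℓ] M] [Module.Free ℤ_[ℓ] M]


theorem end_cancel (X : Module.End ℤ_[ℓ] M) (h : (ℓ : ℤ_[ℓ]) • X = 0) : X = 0 := by
  apply LinearMap.ext
  intro x
  have h1 : (ℓ : ℤ_[ℓ]) • X x = 0 := by
    have := LinearMap.congr_fun h x
    simpa using this
  exact (smul_eq_zero.1 h1).resolve_left (prime_ne_zero ℓ)

end

theorem three_smul' {R E : Type*} [Semiring R] [AddCommMonoid E] [Module R E] (X : E) :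
    (3 : R) • X = X + X + X := by
  rw [show (3 : R) = 2 + 1 by norm_num, add_smul, two_smul, one_smul]

theorem caseA [Fact (Nat.Prime 2)] {M : Type u} [AddCommGroup M] [Module ℤ_[2] M] [Module.Free ℤ_[2] M] [Module.Finite ℤ_[2] M]
    (a f B : Module.End ℤ_[2] M) (ha : a ^ 2 = 1) (hf : f = a - 1) (hB : f = (2 : ℤ_[2]) • B) :
    (∀ x ∈ Submodule.torsion ℤ_[2] (M ⧸ LinearMap.range f), ((2 : ℕ) : ℤ_[2]) • x = 0) ∧
      ∃ r : ℕ, r * 1 = Module.finrank ℤ_[2] M - Module.finrank ℤ_[2] (LinearMap.ker f) ∧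
        Nat.card (Submodule.torsion ℤ_[2] (M ⧸ LinearMap.range f)) = 2 ^ r := by
  have hB' : f = B + B := by rw [hB, two_smul]
  have ha' : a = 1 + (B + B) := by rw [← hB', hf]; abel
  have h4 : ((2 : ℕ) : ℤ_[2]) • (((2 : ℕ) : ℤ_[2]) • (B * B + B)) = 0 := by
    have : (1 + (B + B)) ^ 2 - 1 = 0 := by rw [← ha', ha, sub_self]
    rw [← this]
    push_cast
    rw [two_smul, two_smul]
    noncomm_ring
  have hBB : B * B = -B := by
    have := end_cancel 2 _ (end_cancel 2 _ h4)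
    exact eq_neg_of_add_eq_zero_left this
  refine torsion_quotient_range 2 f (-B) (-1) isUnit_one.neg ?_ ?_ ?_ ?_ 1 one_pos ?_
  · rw [neg_mul_neg, hBB]
  · rw [hB', mul_neg, add_mul, hBB]; abel
  · rw [hB', neg_mul, mul_add, hBB]; abel
  · simp
  · rw [pow_one, hB]; push_cast; simp

theorem caseB_to_A [Fact (Nat.Prime 2)] {M : Type u} [AddCommGroup M] [Module ℤ_[2] M] [Module.Free ℤ_[2] M] [Module.Finite ℤ_[2] M]
    (a f B : Module.End ℤ_[2] M) (ha : a ^ 2 = 1) (hf : f = a - 1) (hB : f ^ 2 = (4 : ℤ_[2]) • B) :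
    f = (2 : ℤ_[2]) • (-B) := by
  have ha' : a = 1 + f := by rw [hf]; abel
  have h1 : f ^ 2 + (f + f) = 0 := by
    have : (1 + f) ^ 2 - 1 = 0 := by rw [← ha', ha, sub_self]
    rw [← this]
    noncomm_ring
  have h2 : ((2 : ℕ) : ℤ_[2]) • (f + (B + B)) = 0 := by
    rw [hB] at h1
    rw [← h1]
    push_cast
    rw [show (4 : ℤ_[2]) = 2 + 2 by norm_num, add_smul, two_smul, two_smul]
    abel
  have h3 := end_cancel 2 _ h2
  rw [two_smul]
  rw [eq_neg_of_add_eq_zero_left h3]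
  abel

theorem caseC [Fact (Nat.Prime 3)] {M : Type u} [AddCommGroup M] [Module ℤ_[3] M] [Module.Free ℤ_[3] M] [Module.Finite ℤ_[3] M]
    (a f B : Module.End ℤ_[3] M) (hau : IsUnit a) (ha : a ^ 3 = 1) (hf : f = a - 1) (hB : f ^ 2 = (3 : ℤ_[3]) • B) :
    (∀ x ∈ Submodule.torsion ℤ_[3] (M ⧸ LinearMap.range f), ((3 : ℕ) : ℤ_[3]) • x = 0) ∧
      ∃ r : ℕ, r * 2 = Module.finrank ℤ_[3] M - Module.finrank ℤ_[3] (LinearMap.ker f) ∧
        Nat.card (Submodule.torsion ℤ_[3] (M ⧸ LinearMap.range f)) = 3 ^ r := by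
  have ha' : a = 1 + f := by rw [hf]; abel
  have hB' : f * f = B + B + B := by rw [← pow_two, hB, three_smul']
  -- the cubic relation
  have h1 : f * f * f + (f * f + f * f + f * f) + (f + f + f) = 0 := by
    have : (1 + f) ^ 3 - 1 = 0 := by rw [← ha', ha, sub_self]
    rw [← this]
    noncomm_ring
  -- f commutes with B
  have hcomm : f * B = B * f := by
    have h : ((3 : ℕ) : ℤ_[3]) • (f * B - B * f) = 0 := by
      push_cast
      rw [three_smul']
      have e1 : f * (B + B + B) = (B + B + B) * f := by rw [← hB', mul_assoc]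
      rw [mul_add, mul_add, add_mul, add_mul] at e1
      have : f * B - B * f + (f * B - B * f) + (f * B - B * f) = (f * B + f * B + f * B) - (B * f + B * f + B * f) := by
        abel
      rw [this, e1, sub_self]
    exact sub_eq_zero.1 (end_cancel 3 _ h)
  -- f Q = 0 with Q = B + f + 1
  have hfQ : f * (B + f + 1) = 0 := by
    have h : ((3 : ℕ) : ℤ_[3]) • (f * (B + f + 1)) = 0 := by
      push_cast
      rw [three_smul', ← h1]
      have : f * (B + f + 1) + f * (B + f + 1) + f * (B + f + 1) =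
          f * (B + B + B) + (f * f + f * f + f * f) + (f + f + f) := by
        noncomm_ring
      rw [this, ← hB', mul_assoc]
    exact end_cancel 3 _ h
  have hQf : (B + f + 1) * f = 0 := by
    rw [← hfQ, add_mul, add_mul, mul_add, mul_add, hcomm, one_mul, mul_one]
  have hBQ : B * (B + f + 1) = 0 := by
    have h : ((3 : ℕ) : ℤ_[3]) • (B * (B + f + 1)) = 0 := by
      push_cast
      rw [three_smul', ← add_mul, ← add_mul, ← hB', mul_assoc, hfQ, mul_zero]
    exact end_cancel 3 _ h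
  have hQB : (B + f + 1) * B = 0 := by
    rw [← hBQ, add_mul, add_mul, mul_add, mul_add, hcomm, one_mul, mul_one]
  -- P = -(B + f)
  have hUPeq : -(1 + f) * -(B + f) = B := by
    have : -(1 + f) * -(B + f) = B + f * (B + f + 1) := by noncomm_ring
    rw [this, hfQ, add_zero]
  have hU : IsUnit (-(1 + f)) := by rw [← ha']; exact hau.neg
  refine torsion_quotient_range 3 f (-(B + f)) (-(1 + f)) hU ?_ ?_ ?_ ?_ 2 two_pos ?_
  · -- P * P = P
    have : -(B + f) * -(B + f) = -(B + f) + (B * (B + f + 1) + f * (B + f + 1)) := by noncomm_ring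
    rw [this, hBQ, hfQ, add_zero, add_zero]
  · have : f * -(B + f) = f - f * (B + f + 1) := by noncomm_ring
    rw [this, hfQ, sub_zero]
  · have : -(B + f) * f = f - (B + f + 1) * f := by noncomm_ring
    rw [this, hQf, sub_zero]
  · have e1 : -(1 + f) * -(B + f) = B + f + f * B + f * f := by noncomm_ring
    have e2 : -(B + f) * -(1 + f) = B + f + B * f + f * f := by noncomm_ring
    rw [e1, e2, hcomm]
  · rw [hUPeq, hB]; push_cast; rfl

end Groth.Agent.Lib.Helper59.PadicIndex
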