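import Mathlib

/-!
# Extension of places with residue field an algebraically closed field

For a field `K` which is an algebra over an algebraically closed field `k`, and a local subring
`S ⊆ K` containing `k` whose residue field is `k`, there is a valuation subring of `K` dominating
`S` whose residue field is still `k`.
-/

open IsLocalRing

namespace Groth.Agent.Lib.Helper59.PlaceExt

universe u v

variable {k : Type u} {K : Type v} [Field k] [Field K] [Algebra k K]

/-- The image in `K` of the maximal ideal of a local subring. -/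
def maxSet (R : LocalSubring K) : Set K := R.toSubring.subtype '' (maximalIdeal R.toSubring)

lemma mem_maxSet_iff {R : LocalSubring K} {b : K} :
    b ∈ maxSet R ↔ ∃ h : b ∈ R.toSubring, (⟨b, h⟩ : R.toSubring) ∈ maximalIdeal R.toSubring := by
  constructor
  · rintro ⟨⟨b', hb'⟩, hb, rfl⟩
    exact ⟨hb', hb⟩
  · rintro ⟨h, hb⟩
    exact ⟨⟨b, h⟩, hb, rfl⟩

lemma maxSet_subset (R : LocalSubring K) : maxSet R ⊆ R.toSubring := by
  intro b hb
  obtain ⟨h, -⟩ := mem_maxSet_iff.mp hb
  exact h

lemma maxSet_mono {R R' : LocalSubring K} (h : R ≤ R') : maxSet R ⊆ maxSet R' := by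
  intro b hb
  obtain ⟨hbR, hb⟩ := mem_maxSet_iff.mp hb
  obtain ⟨hle, hloc⟩ := h
  refine mem_maxSet_iff.mpr ⟨hle hbR, ?_⟩
  rw [mem_maximalIdeal, mem_nonunits_iff] at hb ⊢
  intro hu
  exact hb (hloc.map_nonunit (⟨b, hbR⟩ : R.toSubring) hu)

variable (k) in
/-- `R` contains `k` and every element of `R` is congruent to a scalar modulo the maximal ideal. -/
def HasResK (R : LocalSubring K) : Prop :=
  (∀ c : k, algebraMap k K c ∈ R.toSubring) ∧
    ∀ a ∈ R.toSubring, ∃ c : k, a - algebraMap k K c ∈ maxSet R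

/-- Upper bounds of nonempty chains of local subrings (w.r.t. domination). -/
lemma exists_chain_ub (s : Set (LocalSubring K)) (H : IsChain (· ≤ ·) s) (y : LocalSubring K)
    (hys : y ∈ s) :
    ∃ U : LocalSubring K, (∀ A ∈ s, A ≤ U) ∧
      ∀ a ∈ U.toSubring, ∃ A ∈ s, a ∈ A.toSubring := by
  have inst : Nonempty s := ⟨⟨y, hys⟩⟩
  have hdir := H.directed.mono_comp _ LocalSubring.toSubring_mono
  refine ⟨@LocalSubring.mk _ _ (⨆ i : s, i.1.toSubring) ⟨?_⟩, ?_, ?_⟩
  · intro ⟨a, ha⟩ ⟨b, hb⟩ e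
    obtain ⟨A, haA : a ∈ A.1.toSubring⟩ := (Subring.mem_iSup_of_directed hdir).mp ha
    obtain ⟨B, hbB : b ∈ B.1.toSubring⟩ := (Subring.mem_iSup_of_directed hdir).mp hb
    obtain ⟨C, hCA, hCB⟩ := hdir A B
    refine (C.1.2.2 (a := ⟨a, hCA haA⟩) (b := ⟨b, hCB hbB⟩) (Subtype.ext congr(($e).1))).imp ?_ ?_
    · exact fun h ↦ h.map (Subring.inclusion (le_iSup (fun i : s ↦ i.1.toSubring) C))
    · exact fun h ↦ h.map (Subring.inclusion (le_iSup (fun i : s ↦ i.1.toSubring) C))
  · intro A hA
    refine ⟨le_iSup (fun i : s ↦ i.1.toSubring) ⟨A, hA⟩, ⟨?_⟩⟩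
    rintro ⟨a, haA⟩ h
    obtain ⟨⟨b, hb⟩, e⟩ := isUnit_iff_exists_inv.mp h
    obtain ⟨B, hbB : b ∈ B.1.toSubring⟩ := (Subring.mem_iSup_of_directed hdir).mp hb
    obtain ⟨C, hCA, hCB⟩ := H.directed ⟨A, hA⟩ B
    apply hCA.2.1
    exact isUnit_iff_exists_inv.mpr ⟨⟨b, hCB.1 hbB⟩, Subtype.ext congr(($e).1)⟩
  · intro a ha
    obtain ⟨A, haA : a ∈ A.1.toSubring⟩ := (Subring.mem_iSup_of_directed hdir).mp ha
    exact ⟨A.1, A.2, haA⟩

lemma hasResK_of_chain (s : Set (LocalSubring K)) (hs : ∀ A ∈ s, HasResK k A)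
    (y : LocalSubring K) (hys : y ∈ s) (U : LocalSubring K) (hU : ∀ A ∈ s, A ≤ U)
    (hU' : ∀ a ∈ U.toSubring, ∃ A ∈ s, a ∈ A.toSubring) : HasResK k U := by
  refine ⟨fun c => (hU y hys).1 ((hs y hys).1 c), fun a ha => ?_⟩
  obtain ⟨A, hA, haA⟩ := hU' a ha
  obtain ⟨c, hc⟩ := (hs A hA).2 a haA
  exact ⟨c, maxSet_mono (hU A hA) hc⟩

lemma le_ofPrime' (R : LocalSubring K) (S' : Subring K) (hRS : R.toSubring ≤ S') (M : Ideal S')
    [M.IsPrime] (hM : (maximalIdeal R.toSubring).map (Subring.inclusion hRS) ≤ M) :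
    R ≤ LocalSubring.ofPrime S' M := by
  refine ⟨hRS.trans (LocalSubring.le_ofPrime ..), ((local_hom_TFAE _).out 2 0).mp ?_⟩
  conv_rhs => rw [← IsLocalization.AtPrime.map_eq_maximalIdeal M]
  refine .trans ?_ (Ideal.map_mono hM)
  rw [Ideal.map_map]; rfl

lemma ofPrime_hasResK (A : Subring K) (M : Ideal A) [M.IsMaximal]
    (hk : ∀ c : k, algebraMap k K c ∈ A)
    (hres : ∀ a : A, ∃ c : k, a - ⟨algebraMap k K c, hk c⟩ ∈ M) :
    HasResK k (LocalSubring.ofPrime A M) := by
  refine ⟨fun c => LocalSubring.le_ofPrime A M (hk c), fun a ha => ?_⟩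
  obtain ⟨r, hr⟩ := (IsLocalization.AtPrime.equivQuotMaximalIdeal M
    (LocalSubring.ofPrime A M).toSubring).surjective (Ideal.Quotient.mk _ ⟨a, ha⟩)
  obtain ⟨r, rfl⟩ := Ideal.Quotient.mk_surjective r
  rw [IsLocalization.AtPrime.equivQuotMaximalIdeal_apply_mk, eq_comm, Ideal.Quotient.eq] at hr
  obtain ⟨c, hc⟩ := hres r
  have h2 : algebraMap A (LocalSubring.ofPrime A M).toSubring (r - ⟨algebraMap k K c, hk c⟩) ∈
      maximalIdeal (LocalSubring.ofPrime A M).toSubring := by
    rw [← IsLocalization.AtPrime.map_eq_maximalIdeal M (LocalSubring.ofPrime A M).toSubring]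
    exact Ideal.mem_map_of_mem _ hc
  refine ⟨c, mem_maxSet_iff.mpr ⟨sub_mem ha (LocalSubring.le_ofPrime A M (hk c)), ?_⟩⟩
  have h3 := add_mem hr h2
  convert h3 using 1
  ext
  change a - algebraMap k K c = (a - (r : K)) + ((r : K) - algebraMap k K c)
  ring

/-- Key lemma: if `R` is maximal among local subrings dominating `S` with residue field `k`, and
the maximal ideal of `R` does not generate the unit ideal in `R[z]`, then `z ∈ R`. -/
lemma mem_of_maximal_of_map_ne_top [IsAlgClosed k] {S R : LocalSubring K}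
    (hR : Maximal (fun R' => S ≤ R' ∧ HasResK k R') R) (z : K)
    (hRS : R.toSubring ≤ (Algebra.adjoin R.toSubring {z}).toSubring)
    (hz : (maximalIdeal R.toSubring).map (Subring.inclusion hRS) ≠ ⊤) :
    z ∈ R.toSubring := by
  obtain ⟨⟨hSR, hk, hres⟩, hmax⟩ := hR
  obtain ⟨M, hMmax, hM⟩ := Ideal.exists_le_maximal _ hz
  have hkS' : ∀ c : k, algebraMap k K c ∈ (Algebra.adjoin R.toSubring {z}).toSubring :=
    fun c => hRS (hk c)
  have hzS' : z ∈ (Algebra.adjoin R.toSubring {z}).toSubring :=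
    Algebra.self_mem_adjoin_singleton _ _
  have hres' : ∀ a : (Algebra.adjoin R.toSubring {z}).toSubring,
      ∃ c : k, a - ⟨algebraMap k K c, hkS' c⟩ ∈ M := by
    let ι : k →+* (Algebra.adjoin R.toSubring {z}).toSubring :=
      (algebraMap k K).codRestrict _ hkS'
    letI := Ideal.Quotient.field M
    letI : Algebra k ((Algebra.adjoin R.toSubring {z}).toSubring ⧸ M) :=
      ((Ideal.Quotient.mk M).comp ι).toAlgebra
    have hmkι : ∀ c : k, algebraMap k ((Algebra.adjoin R.toSubring {z}).toSubring ⧸ M) c =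
        Ideal.Quotient.mk M ⟨algebraMap k K c, hkS' c⟩ := fun c => rfl
    have claim : ∀ (a : K) (ha : a ∈ Algebra.adjoin R.toSubring {z}),
        Ideal.Quotient.mk M ⟨a, ha⟩ ∈
          Algebra.adjoin k {Ideal.Quotient.mk M ⟨z, hzS'⟩} := by
      intro a ha
      induction ha using Algebra.adjoin_induction with
      | mem x hx =>
        obtain rfl : x = z := hx
        exact Algebra.subset_adjoin rfl
      | algebraMap r =>
        obtain ⟨c, hc⟩ := hres r.1 r.2
        obtain ⟨hc1, hc2⟩ := mem_maxSet_iff.mp hc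
        have h1 : Subring.inclusion hRS ⟨r.1 - algebraMap k K c, hc1⟩ ∈ M :=
          hM (Ideal.mem_map_of_mem _ hc2)
        have h2 : Ideal.Quotient.mk M ⟨algebraMap R.toSubring K r,
              Subalgebra.algebraMap_mem (Algebra.adjoin R.toSubring {z}) r⟩ =
            algebraMap k ((Algebra.adjoin R.toSubring {z}).toSubring ⧸ M) c := by
          rw [hmkι, Ideal.Quotient.eq]
          exact h1
        rw [h2]
        exact Subalgebra.algebraMap_mem _ c
      | add x y hx hy hx' hy' =>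
        exact Subalgebra.add_mem _ hx' hy'
      | mul x y hx hy hx' hy' =>
        exact Subalgebra.mul_mem _ hx' hy'
    have htop : Algebra.adjoin k {Ideal.Quotient.mk M ⟨z, hzS'⟩} = ⊤ := by
      refine _root_.eq_top_iff.mpr fun x _ => ?_
      obtain ⟨⟨a, ha⟩, rfl⟩ := Ideal.Quotient.mk_surjective x
      exact claim a ha
    haveI : Algebra.FiniteType k ((Algebra.adjoin R.toSubring {z}).toSubring ⧸ M) :=
      ⟨⟨{Ideal.Quotient.mk M ⟨z, hzS'⟩}, by rw [Finset.coe_singleton]; exact htop⟩⟩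
    haveI : Module.Finite k ((Algebra.adjoin R.toSubring {z}).toSubring ⧸ M) :=
      finite_of_finite_type_of_isJacobsonRing k _
    haveI : Algebra.IsIntegral k ((Algebra.adjoin R.toSubring {z}).toSubring ⧸ M) :=
      Algebra.IsIntegral.of_finite k _
    have hsurj := (IsAlgClosed.algebraMap_bijective_of_isIntegral (k := k)
      (K := (Algebra.adjoin R.toSubring {z}).toSubring ⧸ M)).2
    intro a
    obtain ⟨c, hc⟩ := hsurj (Ideal.Quotient.mk M a)
    refine ⟨c, ?_⟩
    rw [hmkι, eq_comm, Ideal.Quotient.eq] at hc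
    exact hc
  have h1 : R ≤ LocalSubring.ofPrime (Algebra.adjoin R.toSubring {z}).toSubring M :=
    le_ofPrime' R _ hRS M hM
  have h2 := hmax ⟨hSR.trans h1, ofPrime_hasResK _ M hkS' hres'⟩ h1
  exact h2.1 (LocalSubring.le_ofPrime _ _ hzS')

set_option backward.isDefEq.respectTransparency.types false in
/-- A maximal element (w.r.t. domination) among the local subrings dominating `S` with residue
field `k` is a valuation subring. -/
lemma exists_valuationSubring_of_maximal [IsAlgClosed k] {S R : LocalSubring K}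
    (hR : Maximal (fun R' => S ≤ R' ∧ HasResK k R') R) :
    ∃ V : ValuationSubring K, V.toLocalSubring = R := by
  suffices ∀ x ∉ R.toSubring, x⁻¹ ∈ R.toSubring from
    ⟨⟨R.toSubring, fun x ↦ or_iff_not_imp_left.mpr (this x)⟩, rfl⟩
  intro x hx
  have hx0 : x ≠ 0 := fun e ↦ hx (e ▸ zero_mem _)
  let := invertibleOfNonzero hx0
  have hRS : R.toSubring ≤ (Algebra.adjoin R.toSubring {x}).toSubring :=
    fun r hr ↦ Subalgebra.algebraMap_mem (Algebra.adjoin R.toSubring {x}) ⟨r, hr⟩
  have htop : (maximalIdeal R.toSubring).map (Subring.inclusion hRS) = ⊤ := by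
    by_contra h
    exact hx (mem_of_maximal_of_map_ne_top hR x hRS h)
  have ⟨p, hp, hpx⟩ := Algebra.exists_aeval_invOf_eq_zero_of_idealMap_adjoin_sup_span_eq_top x _
    (maximalIdeal.isMaximal R.toSubring).ne_top
    (top_unique <| htop.ge.trans le_self_add)
  have H : IsUnit p.leadingCoeff := of_not_not fun h ↦ by simpa using sub_mem h hp
  have hint : IsIntegral R.toSubring x⁻¹ :=
    ⟨.C H.unit⁻¹.1 * p, by simp [Polynomial.Monic], by simpa using .inr hpx⟩
  have hRS' : R.toSubring ≤ (Algebra.adjoin R.toSubring {x⁻¹}).toSubring :=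
    fun r hr ↦ Subalgebra.algebraMap_mem (Algebra.adjoin R.toSubring {x⁻¹}) ⟨r, hr⟩
  apply mem_of_maximal_of_map_ne_top hR x⁻¹ hRS'
  have : Algebra.IsIntegral R.toSubring (Algebra.adjoin R.toSubring {x⁻¹}) :=
    Algebra.IsIntegral.adjoin (by simpa)
  obtain ⟨Q : Ideal (Algebra.adjoin R.toSubring {x⁻¹}).toSubring, hQ, e⟩ :=
    Ideal.exists_ideal_over_maximal_of_isIntegral
      (S := Algebra.adjoin R.toSubring {x⁻¹}) (maximalIdeal R.toSubring)
      (le_maximalIdeal (by simp))
  intro htop'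
  have hle : (maximalIdeal R.toSubring).map (Subring.inclusion hRS') ≤ Q :=
    Ideal.map_le_iff_le_comap.mpr e.ge
  exact hQ.ne_top (top_unique (htop' ▸ hle))

/-- Extension of places: a local subring `S` of `K` with residue field the algebraically closed
field `k` is dominated by a valuation subring of `K` with residue field `k`. -/
theorem exists_valuationSubring_hasResK [IsAlgClosed k] (S : LocalSubring K)
    (hS : HasResK k S) :
    ∃ V : ValuationSubring K, S ≤ V.toLocalSubring ∧ HasResK k V.toLocalSubring := by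
  obtain ⟨R, hSR, hR⟩ := zorn_le_nonempty₀ {R' : LocalSubring K | S ≤ R' ∧ HasResK k R'}
    (fun c hc hchain y hy => by
      obtain ⟨U, hU, hU'⟩ := exists_chain_ub c hchain y hy
      exact ⟨U, ⟨(hc hy).1.trans (hU y hy),
        hasResK_of_chain c (fun A hA => (hc hA).2) y hy U hU hU'⟩, hU⟩) S ⟨le_rfl, hS⟩
  obtain ⟨V, rfl⟩ := exists_valuationSubring_of_maximal (k := k) (S := S) hR
  exact ⟨V, hR.1.1, hR.1.2⟩

lemma mem_maxSet_ofPrime (A : Subring K) (M : Ideal A) [M.IsPrime] (a : A) (ha : a ∈ M) :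
    (a : K) ∈ maxSet (LocalSubring.ofPrime A M) := by
  refine mem_maxSet_iff.mpr ⟨LocalSubring.le_ofPrime A M a.2, ?_⟩
  have h2 : algebraMap A (LocalSubring.ofPrime A M).toSubring a ∈
      maximalIdeal (LocalSubring.ofPrime A M).toSubring := by
    rw [← IsLocalization.AtPrime.map_eq_maximalIdeal M (LocalSubring.ofPrime A M).toSubring]
    exact Ideal.mem_map_of_mem _ ha
  exact h2

/-- Packaging a valuation subring with residue field `k` as a `k`-algebra with a residue map. -/
theorem exists_res (V : ValuationSubring K) (hV : HasResK k V.toLocalSubring) :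
    ∃ (_ : Algebra k V) (_ : IsScalarTower k V K) (res : V →ₐ[k] k),
      RingHom.ker res = maximalIdeal V ∧
        ∀ (a : V) (c : k), (a : K) - algebraMap k K c ∈ maxSet V.toLocalSubring → res a = c := by
  let alg : Algebra k V := (RingHom.codRestrict (algebraMap k K) V hV.1).toAlgebra
  have tower : IsScalarTower k V K := IsScalarTower.of_algebraMap_eq (fun c => rfl)
  refine ⟨alg, tower, ?_⟩
  have key : ∀ (a : V) (c : k), (a : K) - algebraMap k K c ∈ maxSet V.toLocalSubring →
      residue V a = algebraMap k (ResidueField V) c := by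
    intro a c hc
    obtain ⟨h1, h2⟩ := mem_maxSet_iff.mp hc
    rw [IsScalarTower.algebraMap_apply k V (ResidueField V), ResidueField.algebraMap_eq,
      ← sub_eq_zero, ← map_sub, residue_eq_zero_iff]
    exact h2
  have hbij : Function.Bijective (algebraMap k (ResidueField V)) := by
    refine ⟨(algebraMap k (ResidueField V)).injective, fun x => ?_⟩
    obtain ⟨a, rfl⟩ := IsLocalRing.residue_surjective x
    obtain ⟨c, hc⟩ := hV.2 a.1 a.2
    exact ⟨c, (key a c hc).symm⟩
  let e : k ≃ₐ[k] ResidueField V := AlgEquiv.ofBijective (Algebra.ofId k _) hbij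
  let res : V →ₐ[k] k :=
    (e.symm : ResidueField V →ₐ[k] k).comp (IsScalarTower.toAlgHom k V (ResidueField V))
  refine ⟨res, ?_, ?_⟩
  · ext a
    rw [RingHom.mem_ker]
    change e.symm (residue V a) = 0 ↔ _
    rw [map_eq_zero_iff _ e.symm.injective, residue_eq_zero_iff]
  · intro a c hc
    change e.symm (residue V a) = c
    rw [AlgEquiv.symm_apply_eq]
    exact key a c hc

set_option backward.isDefEq.respectTransparency.types false in
/-- Abstract form of the valuative statement: for `k`-algebra maps `φ : P → A` and `ȳ : P → k`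
with `ker φ ≤ ker ȳ` (`k` algebraically closed), there is a valuation ring `R` over `k` with
residue field `k`, a point `Ξ` of `A` in the fraction field of `R` and an `R`-point `h` of `P`
which is `Ξ ∘ φ` generically and reduces to `ȳ`. -/
theorem place_ext {k : Type u} [Field k] [IsAlgClosed k] {P A : Type u} [CommRing P]
    [CommRing A] [Algebra k P] [Algebra k A]
    (φ : P →ₐ[k] A) (y : P →ₐ[k] k) (hker : RingHom.ker φ ≤ RingHom.ker y) :
    ∃ (R : Type u) (_ : CommRing R) (_ : IsDomain R) (_ : ValuationRing R) (_ : Algebra k R)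
      (res : R →ₐ[k] k) (Ξ : A →ₐ[k] FractionRing R) (h : P →ₐ[k] R),
      RingHom.ker res = IsLocalRing.maximalIdeal R ∧
        (IsScalarTower.toAlgHom k R (FractionRing R)).comp h = Ξ.comp φ ∧
          res.comp h = y := by
  classical
  haveI : (RingHom.ker y).IsPrime := RingHom.ker_isPrime y
  obtain ⟨p, hp, hpy⟩ := Ideal.exists_minimalPrimes_le hker
  have hp' : p ∈ ((⊥ : Ideal A).comap φ.toRingHom).minimalPrimes := hp
  obtain ⟨𝔮, h𝔮prime, -, h𝔮⟩ := Ideal.exists_comap_eq_of_mem_minimalPrimes φ.toRingHom p hp'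
  haveI := h𝔮prime
  let K := FractionRing (A ⧸ 𝔮)
  let ψ : P →ₐ[k] K :=
    (IsScalarTower.toAlgHom k (A ⧸ 𝔮) K).comp ((Ideal.Quotient.mkₐ k 𝔮).comp φ)
  have hψ : ∀ x : P, ψ x = 0 → y x = 0 := by
    intro x hx
    have h1 : algebraMap (A ⧸ 𝔮) K (Ideal.Quotient.mk 𝔮 (φ x)) = 0 := hx
    rw [map_eq_zero_iff _ (IsFractionRing.injective (A ⧸ 𝔮) K), Ideal.Quotient.eq_zero_iff_mem] at h1
    have h2 : x ∈ p := by rw [← h𝔮]; exact h1
    exact hpy h2
  -- the subring `B' = range ψ` of `K` and its maximal ideal `M`, the image of `ker y`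
  let B' : Subring K := ψ.toRingHom.range
  let ρ : P →+* B' := ψ.toRingHom.rangeRestrict
  have hρsurj : Function.Surjective ρ := ψ.toRingHom.rangeRestrict_surjective
  let M : Ideal B' := (RingHom.ker y).map ρ
  have hkerρ : RingHom.ker ρ ≤ RingHom.ker y := by
    intro x hx
    rw [RingHom.mem_ker] at hx ⊢
    apply hψ
    exact congrArg Subtype.val hx
  have hcomap : M.comap ρ = RingHom.ker y := by
    change Ideal.comap ρ ((RingHom.ker y).map ρ) = _
    rw [Ideal.comap_map_of_surjective ρ hρsurj, ← RingHom.ker_eq_comap_bot, sup_eq_left]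
    exact hkerρ
  have hymax : (RingHom.ker y).IsMaximal :=
    RingHom.ker_isMaximal_of_surjective y (fun c => ⟨algebraMap k P c, y.commutes c⟩)
  haveI hMmax : M.IsMaximal := by
    refine (Ideal.map_eq_top_or_isMaximal_of_surjective ρ hρsurj hymax).resolve_left ?_
    intro htop
    have htop' : M = ⊤ := htop
    have : RingHom.ker y = ⊤ := by rw [← hcomap, htop', Ideal.comap_top]
    exact hymax.ne_top this
  have hkB' : ∀ c : k, algebraMap k K c ∈ B' := fun c => ⟨algebraMap k P c, ψ.commutes c⟩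
  have hsub : ∀ x : P, x - algebraMap k P (y x) ∈ RingHom.ker y := by
    intro x
    rw [RingHom.mem_ker, map_sub, AlgHom.commutes]
    exact sub_self _
  have hresB' : ∀ a : B', ∃ c : k, a - ⟨algebraMap k K c, hkB' c⟩ ∈ M := by
    intro a
    obtain ⟨x, rfl⟩ := hρsurj a
    refine ⟨y x, ?_⟩
    have h1 : ρ x - ⟨algebraMap k K (y x), hkB' (y x)⟩ = ρ (x - algebraMap k P (y x)) := by
      rw [map_sub]
      congr 1
      exact Subtype.ext (ψ.commutes (y x)).symm
    rw [h1]
    exact Ideal.mem_map_of_mem _ (hsub x)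
  let S : LocalSubring K := LocalSubring.ofPrime B' M
  have hS : HasResK k S := ofPrime_hasResK B' M hkB' hresB'
  obtain ⟨V, hSV, hV⟩ := exists_valuationSubring_hasResK S hS
  obtain ⟨alg, tower, res, hres, hres'⟩ := exists_res V hV
  have hψV : ∀ x, ψ x ∈ V := fun x => hSV.1 (LocalSubring.le_ofPrime B' M ⟨x, rfl⟩)
  let h : P →ₐ[k] V :=
    { toRingHom := RingHom.codRestrict ψ.toRingHom V hψV
      commutes' := fun c =>
        Subtype.ext ((ψ.commutes c).trans (IsScalarTower.algebraMap_apply k V K c)) }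
  let e : FractionRing V ≃ₐ[V] K := FractionRing.algEquiv V K
  let Ξ : A →ₐ[k] FractionRing V :=
    { toRingHom := (e.symm : K →+* FractionRing V).comp
        ((algebraMap (A ⧸ 𝔮) K).comp (Ideal.Quotient.mk 𝔮))
      commutes' := fun c => by
        have h1 : algebraMap (A ⧸ 𝔮) K (Ideal.Quotient.mk 𝔮 (algebraMap k A c)) =
            algebraMap k K c :=
          ((IsScalarTower.toAlgHom k (A ⧸ 𝔮) K).comp (Ideal.Quotient.mkₐ k 𝔮)).commutes c
        change e.symm (algebraMap (A ⧸ 𝔮) K (Ideal.Quotient.mk 𝔮 (algebraMap k A c))) = _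
        rw [h1, IsScalarTower.algebraMap_apply k V K, e.symm.commutes,
          ← IsScalarTower.algebraMap_apply k V (FractionRing V)] }
  refine ⟨V, inferInstance, inferInstance, inferInstance, alg, res, Ξ, h, hres, ?_, ?_⟩
  · refine AlgHom.ext fun x => ?_
    change algebraMap V (FractionRing V) (h x) = e.symm (algebraMap V K (h x))
    exact (e.symm.commutes (h x)).symm
  · refine AlgHom.ext fun x => hres' (h x) (y x) ?_
    have h1 : ((h x : V) : K) - algebraMap k K (y x) = (ρ (x - algebraMap k P (y x)) : K) := by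
      change ψ x - algebraMap k K (y x) = ψ (x - algebraMap k P (y x))
      rw [map_sub, AlgHom.commutes]
    rw [h1]
    exact maxSet_mono hSV (mem_maxSet_ofPrime B' M _ (Ideal.mem_map_of_mem _ (hsub x)))

end Groth.Agent.Lib.Helper59.PlaceExt
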