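import Mathlib
import Groth.Agent.Lib.Helper59.CotTIndep01

/-!
# From a retraction up to `c` of the cotangent complex to derivations on extensions (helper59)

If `ψ ∘ d = c • id` on `I/I²` for one presentation of `B` over `A`, then every `A`-algebra
extension `E' → C` with square-zero kernel of a quotient `C = B/𝔞B`, with `𝔞 E' = 0`, carries an
`A`-derivation `δ : E' → E'` with values in the kernel and equal to `c` on the kernel.
-/

set_option autoImplicit false
universe u w

open CotT KaehlerDifferential Function TensorProduct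

namespace Groth.Agent.Lib.Helper59.SmoothAwayDer

open Groth.Agent.Lib.Helper59.CotTIndep01

variable {A B : Type u} [CommRing A] [CommRing B] [Algebra A B]

section Star

variable (E : Algebra.Extension.{w} A B)

/-- the linear map `ω ↦ ψ (1 ⊗ ω)` from `Ω_{R/A}` to `I/I²`. -/
noncomputable def linPsi (ψ : E.CotangentSpace →ₗ[B] E.Cotangent) :
    Ω[E.Ring⁄A] →ₗ[E.Ring] E.Cotangent :=
  (ψ.restrictScalars E.Ring) ∘ₗ (TensorProduct.mk E.Ring B Ω[E.Ring⁄A] 1)

theorem linPsi_apply (ψ : E.CotangentSpace →ₗ[B] E.Cotangent) (ω : Ω[E.Ring⁄A]) :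
    linPsi E ψ ω = ψ ((1 : B) ⊗ₜ ω) := rfl

theorem exists_derivation_of_retraction [Module.Projective E.Ring Ω[E.Ring⁄A]] (c : A)
    (ψ : E.CotangentSpace →ₗ[B] E.Cotangent)
    (hψ : ψ ∘ₗ E.cotangentComplex = (algebraMap A B c) • LinearMap.id) :
    ∃ d : Derivation A E.Ring E.Ring,
      (∀ p, d p ∈ E.ker) ∧ ∀ p ∈ E.ker, d p - c • p ∈ E.ker ^ 2 := by
  obtain ⟨l, hl⟩ := Module.projective_lifting_property
    (Algebra.Extension.Cotangent.mk (P := E)) (linPsi E ψ)
    Algebra.Extension.Cotangent.mk_surjective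
  let dI : Derivation A E.Ring E.ker := l.compDer (KaehlerDifferential.D A E.Ring)
  let d : Derivation A E.Ring E.Ring := (Submodule.subtype E.ker).compDer dI
  refine ⟨d, fun p => (dI p).2, fun p hp => ?_⟩
  have h1 : Algebra.Extension.Cotangent.mk (dI p) =
      ψ ((1 : B) ⊗ₜ KaehlerDifferential.D A E.Ring p) :=
    LinearMap.congr_fun hl (KaehlerDifferential.D A E.Ring p)
  have h2 : ψ ((1 : B) ⊗ₜ KaehlerDifferential.D A E.Ring p) =
      (algebraMap A B c) • Algebra.Extension.Cotangent.mk ⟨p, hp⟩ := by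
    rw [← Algebra.Extension.cotangentComplex_mk (P := E) ⟨p, hp⟩]
    exact LinearMap.congr_fun hψ _
  have h3 : Algebra.Extension.Cotangent.mk (dI p - c • ⟨p, hp⟩) = 0 := by
    rw [map_sub, h1, h2, sub_eq_zero]
    rw [← algebraMap_smul E.Ring c (⟨p, hp⟩ : E.ker), map_smul,
      ← algebraMap_smul B (algebraMap A E.Ring c), ← IsScalarTower.algebraMap_apply]
  rw [Algebra.Extension.Cotangent.mk_eq_zero_iff] at h3
  exact h3

end Star

section Descent

variable (E : Algebra.Extension.{w} A B) [Module.Projective E.Ring Ω[E.Ring⁄A]]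
variable {E' C : Type*} [CommRing E'] [CommRing C] [Algebra A E'] [Algebra A C]

/-- descent of the derivation of `exists_derivation_of_retraction` to an extension of a quotient
`B/𝔞B` on which `𝔞` acts by zero. -/
theorem exists_derivation_extension (c : A)
    (ψ : E.CotangentSpace →ₗ[B] E.Cotangent)
    (hψ : ψ ∘ₗ E.cotangentComplex = (algebraMap A B c) • LinearMap.id)
    (p : E' →ₐ[A] C) (hsq : ∀ x y, p x = 0 → p y = 0 → x * y = 0)
    (g : B →ₐ[A] C) (𝔞 : Ideal A) (hker : ∀ b, g b = 0 → b ∈ 𝔞.map (algebraMap A B))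
    (h𝔞 : ∀ a ∈ 𝔞, algebraMap A E' a = 0)
    (f : E.Ring →ₐ[A] E') (hf : Function.Surjective f)
    (hfp : ∀ r, p (f r) = g (algebraMap E.Ring B r)) :
    ∃ δ : Derivation A E' E', (∀ x, p (δ x) = 0) ∧ ∀ x, p x = 0 → δ x = c • x := by
  obtain ⟨d, hd1, hd2⟩ := exists_derivation_of_retraction E c ψ hψ
  have hfi : ∀ i ∈ E.ker, p (f i) = 0 := by
    intro i hi
    rw [hfp, (RingHom.mem_ker).mp hi, map_zero]
  have hI2 : ∀ w ∈ E.ker ^ 2, f w = 0 := by
    intro w hw
    rw [pow_two] at hw
    refine Submodule.mul_induction_on hw ?_ ?_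
    · intro x hx y hy
      rw [map_mul]
      exact hsq _ _ (hfi x hx) (hfi y hy)
    · intro x y hx hy
      rw [map_add, hx, hy, add_zero]
  have hy : ∀ y ∈ 𝔞.map (algebraMap A E.Ring), f y = 0 ∧ f (d y) = 0 := by
    intro y hy
    refine Submodule.span_induction ?_ ?_ ?_ ?_ hy
    · rintro _ ⟨a, ha, rfl⟩
      refine ⟨?_, ?_⟩
      · rw [AlgHom.commutes]
        exact h𝔞 a ha
      · rw [Derivation.map_algebraMap, map_zero]
    · exact ⟨map_zero _, by rw [map_zero, map_zero]⟩
    · rintro x y _ _ ⟨h1, h2⟩ ⟨h3, h4⟩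
      exact ⟨by rw [map_add, h1, h3, add_zero], by rw [map_add, map_add, h2, h4, add_zero]⟩
    · rintro r x _ ⟨h1, h2⟩
      refine ⟨by rw [smul_eq_mul, map_mul, h1, mul_zero], ?_⟩
      rw [smul_eq_mul, Derivation.leibniz, map_add, smul_eq_mul, smul_eq_mul, map_mul, map_mul,
        h1, h2, mul_zero, zero_mul, add_zero]
  have key : ∀ r, p (f r) = 0 → f (d r) = c • f r := by
    intro r hr
    rw [hfp] at hr
    have h1 := hker _ hr
    have h2 : 𝔞.map (algebraMap A B) =
        (𝔞.map (algebraMap A E.Ring)).map (algebraMap E.Ring B) := by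
      rw [Ideal.map_map, ← IsScalarTower.algebraMap_eq]
    rw [h2, Ideal.mem_map_iff_of_surjective _ E.algebraMap_surjective] at h1
    obtain ⟨y, hy𝔞, hyr⟩ := h1
    obtain ⟨hy1, hy2⟩ := hy y hy𝔞
    have hi : r - y ∈ E.ker := by
      rw [Algebra.Extension.ker, RingHom.mem_ker, map_sub, hyr, sub_self]
    have h3 : f (d (r - y)) = c • f (r - y) := by
      have h4 : d (r - y) = c • (r - y) + (d (r - y) - c • (r - y)) := by ring
      rw [h4, map_add, hI2 _ (hd2 _ hi), add_zero, map_smul]
    have h5 : r = (r - y) + y := by ring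
    have h6 : f (r - y) = f r := by rw [map_sub, hy1, sub_zero]
    rw [h5, map_add, map_add, hy2, add_zero, h3, h6, ← h5]
  have hd : ∀ x, f x = 0 → f (d x) = 0 := by
    intro x hx
    rw [key x (by rw [hx, map_zero]), hx, smul_zero]
  refine ⟨Derivation.liftOfSurjective hf hd, fun x => ?_, fun x hx => ?_⟩
  · obtain ⟨r, rfl⟩ := hf x
    rw [Derivation.liftOfSurjective_apply hf hd]
    exact hfi _ (hd1 r)
  · obtain ⟨r, rfl⟩ := hf x
    rw [Derivation.liftOfSurjective_apply hf hd]
    exact key r hx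

end Descent

section Transfer

universe w'

variable {ι : Type w} (G₁ : Algebra.Generators A B ι)

/-- transfer of the retraction up to `c` to another family of generators. -/
theorem exists_retraction_transfer {ι' : Type w'} (G' : Algebra.Generators A B ι') (c : B)
    (ψ : G₁.toExtension.CotangentSpace →ₗ[B] G₁.toExtension.Cotangent)
    (hψ : ψ ∘ₗ G₁.toExtension.cotangentComplex = c • LinearMap.id) :
    ∃ ψ' : G'.toExtension.CotangentSpace →ₗ[B] G'.toExtension.Cotangent,
      ψ' ∘ₗ G'.toExtension.cotangentComplex = c • LinearMap.id := by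
  obtain ⟨eqv⟩ := N1_equiv G'.toExtension.Cotangent
    (Algebra.Generators.defaultHom G₁ G').toExtensionHom
    (Algebra.Generators.defaultHom G' G₁).toExtensionHom
  have hk : ∀ x : N1 G₁.toExtension G'.toExtension.Cotangent, c • x = 0 := by
    intro x
    obtain ⟨φ, rfl⟩ := Submodule.Quotient.mk_surjective _ x
    rw [← Submodule.Quotient.mk_smul, Submodule.Quotient.mk_eq_zero]
    refine ⟨φ ∘ₗ ψ, ?_⟩
    change (φ ∘ₗ ψ) ∘ₗ G₁.toExtension.cotangentComplex = c • φ
    rw [LinearMap.comp_assoc, hψ, LinearMap.comp_smul, LinearMap.comp_id]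
  have h1 : c • (Submodule.Quotient.mk LinearMap.id :
      N1 G'.toExtension G'.toExtension.Cotangent) = 0 := by
    rw [← eqv.apply_symm_apply (Submodule.Quotient.mk LinearMap.id), ← map_smul, hk, map_zero]
  rw [← Submodule.Quotient.mk_smul, Submodule.Quotient.mk_eq_zero] at h1
  obtain ⟨ψ', hψ'⟩ := h1
  exact ⟨ψ', hψ'⟩

end Transfer

section Adapted

variable {E' C : Type u} [CommRing E'] [CommRing C] [Algebra A E'] [Algebra A C]

/-- generators of `B` adapted to a surjection `E' → C` and a surjection `B → C`. -/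
theorem exists_generators_adapted (p : E' →ₐ[A] C) (hp : Function.Surjective p)
    (g : B →ₐ[A] C) (hg : Function.Surjective g) :
    ∃ (J : Type u) (G' : Algebra.Generators A B J) (f : G'.toExtension.Ring →ₐ[A] E'),
      Function.Surjective f ∧ ∀ r, p (f r) = g (algebraMap G'.toExtension.Ring B r) := by
  let J : Type u := {x : E' × B // p x.1 = g x.2}
  let valB : J → B := fun x => x.1.2
  let valE : J → E' := fun x => x.1.1
  have hB : Function.Surjective (MvPolynomial.aeval (R := A) valB) := by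
    intro b
    obtain ⟨e, he⟩ := hp (g b)
    exact ⟨MvPolynomial.X ⟨(e, b), he⟩, by rw [MvPolynomial.aeval_X]⟩
  let G' : Algebra.Generators A B J := Algebra.Generators.ofSurjective valB hB
  let f : G'.toExtension.Ring →ₐ[A] E' := MvPolynomial.aeval (R := A) valE
  refine ⟨J, G', f, ?_, ?_⟩
  · intro e
    obtain ⟨b, hb⟩ := hg (p e)
    exact ⟨MvPolynomial.X ⟨(e, b), hb.symm⟩, MvPolynomial.aeval_X _ _⟩
  · intro r
    have h : p.comp (MvPolynomial.aeval (R := A) valE) =
        g.comp (MvPolynomial.aeval (R := A) valB) := by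
      apply MvPolynomial.algHom_ext
      intro x
      rw [AlgHom.comp_apply, AlgHom.comp_apply, MvPolynomial.aeval_X, MvPolynomial.aeval_X]
      exact x.2
    exact AlgHom.congr_fun h r

end Adapted

section Main

variable {ι : Type w} (G₁ : Algebra.Generators A B ι)
variable {E' C : Type u} [CommRing E'] [CommRing C] [Algebra A E'] [Algebra A C]

/-- If `ψ ∘ d = c • id` on `I/I²` for generators `G₁` of `B` over `A`, then every square-zero
extension `E' → C` of `A`-algebras with `C = B/𝔞B` and `𝔞 E' = 0` has an `A`-derivation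
`δ : E' → E'` into the kernel which is multiplication by `c` on the kernel. -/
theorem exists_derivation (c : A)
    (ψ : G₁.toExtension.CotangentSpace →ₗ[B] G₁.toExtension.Cotangent)
    (hψ : ψ ∘ₗ G₁.toExtension.cotangentComplex = (algebraMap A B c) • LinearMap.id)
    (p : E' →ₐ[A] C) (hp : Function.Surjective p)
    (hsq : ∀ x y, p x = 0 → p y = 0 → x * y = 0)
    (g : B →ₐ[A] C) (hg : Function.Surjective g) (𝔞 : Ideal A)
    (hker : ∀ b, g b = 0 → b ∈ 𝔞.map (algebraMap A B))
    (h𝔞 : ∀ a ∈ 𝔞, algebraMap A E' a = 0) :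
    ∃ δ : Derivation A E' E', (∀ x, p (δ x) = 0) ∧ ∀ x, p x = 0 → δ x = c • x := by
  obtain ⟨J, G', f, hf, hfp⟩ := exists_generators_adapted p hp g hg
  obtain ⟨ψ', hψ'⟩ := exists_retraction_transfer G₁ G' _ ψ hψ
  have : Module.Projective G'.toExtension.Ring Ω[G'.toExtension.Ring⁄A] :=
    inferInstanceAs (Module.Projective (MvPolynomial J A) Ω[MvPolynomial J A⁄A])
  exact exists_derivation_extension G'.toExtension c ψ' hψ' p hsq g 𝔞 hker h𝔞 f hf hfp

end Main

end Groth.Agent.Lib.Helper59.SmoothAwayDer
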