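import Mathlib
import Groth.Agent.Lib.Helper59.AffDeformAlg
import Groth.Agent.Lib.Helper59.AffRigid
import Groth.Agent.Lib.Helper59.SmoothAwayDer
import Groth.Agent.Lib.Helper59.DerSection

/-!
# A rigid non-smooth algebra is not smoothed by a flat family over a curve (helper59)
-/

set_option autoImplicit false
set_option linter.unusedSectionVars false
universe u w

open TensorProduct IsLocalRing

namespace Groth.Agent.Lib.Helper59.RigidNoSmooth

/-- A ring surjecting onto a field with kernel consisting of nilpotents is local. -/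
theorem isLocalRing_of_surjective_field {A K : Type*} [CommRing A] [Field K] (f : A →+* K)
    (hf : Function.Surjective f) (hnil : RingHom.ker f ≤ nilradical A) : IsLocalRing A := by
  have : Nontrivial A := f.domain_nontrivial
  refine IsLocalRing.of_isUnit_or_isUnit_one_sub_self fun a => ?_
  by_cases ha : f a = 0
  · right
    exact (mem_nilradical.mp (hnil ha)).isUnit_one_sub
  · left
    obtain ⟨b, hb⟩ := hf (f a)⁻¹
    have h1 : (1 - a * b) ∈ RingHom.ker f := by
      rw [RingHom.mem_ker, map_sub, map_mul, hb, map_one, mul_inv_cancel₀ ha, sub_self]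
    have h2 : IsUnit (1 - (1 - a * b)) := (mem_nilradical.mp (hnil h1)).isUnit_one_sub
    rw [sub_sub_cancel] at h2
    exact isUnit_of_mul_isUnit_left h2

theorem flat_quotient {A B : Type*} [CommRing A] [CommRing B] [Algebra A B] [Module.Flat A B]
    (𝔞 : Ideal A) : Module.Flat (A ⧸ 𝔞) (B ⧸ 𝔞.map (algebraMap A B)) :=
  Module.Flat.of_linearEquiv
    (Algebra.TensorProduct.quotIdealMapEquivQuotTensor B 𝔞).toLinearEquiv

section Quot

variable {k : Type u} [Field k] {A : Type u} [CommRing A] [Algebra k A]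
  (t : A) (x : A →ₐ[k] k) (hx : RingHom.ker (x : A →+* k) = Ideal.span {t}) (n : ℕ)

/-- the residue map of `A/(t^(n+1))`. -/
noncomputable def resQ : (A ⧸ Ideal.span {t ^ (n + 1)}) →ₐ[k] k :=
  Ideal.Quotient.liftₐ (Ideal.span {t ^ (n + 1)}) x (fun a ha => by
    obtain ⟨b, rfl⟩ := Ideal.mem_span_singleton'.mp ha
    have ht : x t = 0 := by
      have : t ∈ RingHom.ker (x : A →+* k) := by
        rw [hx]; exact Ideal.mem_span_singleton_self t
      exact this
    rw [map_mul, map_pow, ht, zero_pow (Nat.succ_ne_zero n), mul_zero])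

theorem resQ_mk (a : A) : resQ t x hx n (Ideal.Quotient.mk _ a) = x a := rfl

theorem ker_resQ_le : RingHom.ker (resQ t x hx n : _ →+* k) ≤
    nilradical (A ⧸ Ideal.span {t ^ (n + 1)}) := by
  intro a' ha'
  obtain ⟨a, rfl⟩ := Ideal.Quotient.mk_surjective a'
  have h1 : a ∈ RingHom.ker (x : A →+* k) := ha'
  rw [hx] at h1
  obtain ⟨b, rfl⟩ := Ideal.mem_span_singleton'.mp h1
  rw [mem_nilradical]
  refine ⟨n + 1, ?_⟩
  rw [← map_pow, Ideal.Quotient.eq_zero_iff_mem, mul_pow]
  exact Ideal.mul_mem_left _ _ (Ideal.mem_span_singleton_self _)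

include x hx in
theorem isLocalRing_quot : IsLocalRing (A ⧸ Ideal.span {t ^ (n + 1)}) :=
  isLocalRing_of_surjective_field (resQ t x hx n : _ →+* k)
    (fun c => ⟨algebraMap k _ c, (resQ t x hx n).commutes c⟩) (ker_resQ_le t x hx n)

include x hx in
theorem ker_resQ_eq [IsLocalRing (A ⧸ Ideal.span {t ^ (n + 1)})] :
    RingHom.ker (resQ t x hx n : _ →+* k) = maximalIdeal (A ⧸ Ideal.span {t ^ (n + 1)}) := by
  have hsurj : Function.Surjective (resQ t x hx n : _ →+* k) :=
    fun c => ⟨algebraMap k (A ⧸ Ideal.span {t ^ (n + 1)}) c, (resQ t x hx n).commutes c⟩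
  have := RingHom.ker_isMaximal_of_surjective _ hsurj
  exact IsLocalRing.eq_maximalIdeal this

include x hx in
theorem isArtinianRing_quot [IsNoetherianRing A] :
    IsArtinianRing (A ⧸ Ideal.span {t ^ (n + 1)}) := by
  have := isLocalRing_quot t x hx n
  rw [isArtinianRing_iff_isNilpotent_maximalIdeal,
    Ideal.FG.isNilpotent_iff_le_nilradical (IsNoetherian.noetherian _),
    ← ker_resQ_eq t x hx n]
  exact ker_resQ_le t x hx n

end Quot


section Fam

variable {k : Type u} [Field k] {A B B₀ : Type u} [CommRing A] [Algebra k A] [CommRing B]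
  [Algebra A B] [Algebra k B] [IsScalarTower k A B] [CommRing B₀] [Algebra k B₀]

theorem tower_k (𝔞 : Ideal A) : IsScalarTower k (A ⧸ 𝔞) (B ⧸ 𝔞.map (algebraMap A B)) :=
  IsScalarTower.of_algebraMap_eq (fun c => by
    rw [IsScalarTower.algebraMap_apply k A (A ⧸ 𝔞), Ideal.Quotient.algebraMap_eq,
      Ideal.Quotient.algebraMap_quotient_map_quotient, ← IsScalarTower.algebraMap_apply]
    rfl)

variable (t : A) (x : A →ₐ[k] k) (hx : RingHom.ker (x : A →+* k) = Ideal.span {t}) (n : ℕ)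
  (e : (B ⧸ Ideal.span {algebraMap A B t}) ≃ₐ[k] B₀)

theorem map_span_le :
    (Ideal.span {t ^ (n + 1)}).map (algebraMap A B) ≤ Ideal.span {algebraMap A B t} := by
  rw [Ideal.map_span, Set.image_singleton, Ideal.span_singleton_le_iff_mem, map_pow, pow_succ]
  exact Ideal.mul_mem_left _ _ (Ideal.mem_span_singleton_self _)

/-- the reduction map `B/(t^(n+1)) → B₀`. -/
noncomputable def redQ : (B ⧸ (Ideal.span {t ^ (n + 1)}).map (algebraMap A B)) →+* B₀ :=
  (e : (B ⧸ Ideal.span {algebraMap A B t}) →+* B₀).comp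
    (Ideal.Quotient.factor (map_span_le t n))

theorem redQ_mk (b : B) : redQ t n e (Ideal.Quotient.mk _ b) = e (Ideal.Quotient.mk _ b) := rfl

theorem redQ_surjective : Function.Surjective (redQ t n e) := by
  intro b₀
  obtain ⟨y, rfl⟩ := e.surjective b₀
  obtain ⟨b, rfl⟩ := Ideal.Quotient.mk_surjective y
  exact ⟨Ideal.Quotient.mk _ b, rfl⟩

include hx in
theorem redQ_algebraMap (a' : A ⧸ Ideal.span {t ^ (n + 1)}) :
    redQ t n e (algebraMap _ _ a') = algebraMap k B₀ (resQ t x hx n a') := by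
  obtain ⟨a, rfl⟩ := Ideal.Quotient.mk_surjective a'
  rw [Ideal.Quotient.algebraMap_quotient_map_quotient, redQ_mk, resQ_mk, ← e.commutes]
  congr 1
  rw [IsScalarTower.algebraMap_apply k B (B ⧸ Ideal.span {algebraMap A B t}),
    Ideal.Quotient.algebraMap_eq, Ideal.Quotient.eq, IsScalarTower.algebraMap_apply k A B,
    ← map_sub]
  have h1 : a - algebraMap k A (x a) ∈ RingHom.ker (x : A →+* k) := by
    rw [RingHom.mem_ker, map_sub]
    show x a - x (algebraMap k A (x a)) = 0
    rw [x.commutes]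
    exact sub_self _
  rw [hx] at h1
  obtain ⟨b, hb⟩ := Ideal.mem_span_singleton'.mp h1
  rw [← hb, map_mul]
  exact Ideal.mul_mem_left _ _ (Ideal.mem_span_singleton_self _)

include hx in
theorem ker_redQ [IsLocalRing (A ⧸ Ideal.span {t ^ (n + 1)})] :
    RingHom.ker (redQ t n e) =
      (maximalIdeal (A ⧸ Ideal.span {t ^ (n + 1)})).map (algebraMap _ _) := by
  apply le_antisymm
  · intro y hy
    obtain ⟨b, rfl⟩ := Ideal.Quotient.mk_surjective y
    rw [RingHom.mem_ker, redQ_mk] at hy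
    have h1 : Ideal.Quotient.mk (Ideal.span {algebraMap A B t}) b = 0 := by
      apply e.injective
      rw [hy, map_zero]
    rw [Ideal.Quotient.eq_zero_iff_mem] at h1
    obtain ⟨b', rfl⟩ := Ideal.mem_span_singleton'.mp h1
    rw [map_mul]
    apply Ideal.mul_mem_left
    have h2 : Ideal.Quotient.mk ((Ideal.span {t ^ (n + 1)}).map (algebraMap A B))
        (algebraMap A B t) = algebraMap (A ⧸ Ideal.span {t ^ (n + 1)}) _
          (Ideal.Quotient.mk _ t) := rfl
    rw [h2]
    apply Ideal.mem_map_of_mem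
    rw [← ker_resQ_eq t x hx n, RingHom.mem_ker]
    show x t = 0
    have : t ∈ RingHom.ker (x : A →+* k) := by
      rw [hx]; exact Ideal.mem_span_singleton_self t
    exact this
  · rw [Ideal.map_le_iff_le_comap]
    intro a' ha'
    rw [Ideal.mem_comap, RingHom.mem_ker, redQ_algebraMap t x hx n e]
    rw [← ker_resQ_eq t x hx n, RingHom.mem_ker] at ha'
    have : resQ t x hx n a' = 0 := ha'
    rw [this, map_zero]

end Fam

section Ker

variable {k : Type*} [CommRing k] {A' E₀ B₀ : Type*} [CommRing A'] [Algebra k A']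
  [CommRing E₀] [Algebra k E₀] [CommRing B₀] [Algebra k B₀]

/-- the kernel of `A' ⊗ E₀ → A' ⊗ B₀` has square zero if the kernel of `E₀ → B₀` has. -/
theorem sq_zero_map (p₀ : E₀ →ₐ[k] B₀) (hp₀ : Function.Surjective p₀)
    (hsq : ∀ x y, p₀ x = 0 → p₀ y = 0 → x * y = 0) (x y : A' ⊗[k] E₀)
    (hx : Algebra.TensorProduct.map (AlgHom.id k A') p₀ x = 0)
    (hy : Algebra.TensorProduct.map (AlgHom.id k A') p₀ y = 0) : x * y = 0 := by
  have hk := Algebra.TensorProduct.map_ker (R := k) (S := k) (AlgHom.id k A') p₀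
    (fun a => ⟨a, rfl⟩) hp₀
  have h0 : RingHom.ker (AlgHom.id k A') = ⊥ := by
    rw [← le_bot_iff]
    intro a ha
    exact ha
  rw [h0, Ideal.map_bot, bot_sup_eq] at hk
  have hx' : x ∈ RingHom.ker (Algebra.TensorProduct.map (AlgHom.id k A') p₀) := hx
  have hy' : y ∈ RingHom.ker (Algebra.TensorProduct.map (AlgHom.id k A') p₀) := hy
  rw [hk] at hx' hy'
  have h1 : x * y ∈ (RingHom.ker p₀ * RingHom.ker p₀).map
      (Algebra.TensorProduct.includeRight (R := k) (A := A') (B := E₀)) := by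
    rw [Ideal.map_mul]
    exact Ideal.mul_mem_mul hx' hy'
  have h2 : RingHom.ker p₀ * RingHom.ker p₀ = ⊥ := by
    rw [← le_bot_iff, Ideal.mul_le]
    intro r hr s hs
    rw [Ideal.mem_bot]
    exact hsq r s hr hs
  rw [h2, Ideal.map_bot, Ideal.mem_bot] at h1
  exact h1

end Ker

section Main

variable {k : Type u} [Field k] (B₀ : Type u) [CommRing B₀] [Algebra k B₀]
  {A B : Type u} [CommRing A] [Algebra k A] [IsNoetherianRing A] [CommRing B]
  [Algebra A B] [Algebra k B] [IsScalarTower k A B] [Module.Flat A B]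

/-- If all square-zero extensions of `B₀` by `B₀` are trivial and a flat family `B` over `A` with
fibre `B₀` over the point `t = 0` has its cotangent complex split up to `t ^ n`, then `B₀` is
formally smooth. -/
theorem formallySmooth_of_rigid
    (hT : ∀ E : Exal.Ext k B₀ B₀, E.IsTrivial)
    (t : A) (x : A →ₐ[k] k) (hx : RingHom.ker (x : A →+* k) = Ideal.span {t}) (n : ℕ)
    (hn : t ^ n ∉ Ideal.span {t ^ (n + 1)})
    (e : (B ⧸ Ideal.span {algebraMap A B t}) ≃ₐ[k] B₀)
    {ι : Type w} (G₁ : Algebra.Generators A B ι)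
    (ψ : G₁.toExtension.CotangentSpace →ₗ[B] G₁.toExtension.Cotangent)
    (hψ : ψ ∘ₗ G₁.toExtension.cotangentComplex = (algebraMap A B (t ^ n)) • LinearMap.id) :
    Algebra.FormallySmooth k B₀ := by
  have hloc : IsLocalRing (A ⧸ Ideal.span {t ^ (n + 1)}) := isLocalRing_quot t x hx n
  have hart : IsArtinianRing (A ⧸ Ideal.span {t ^ (n + 1)}) := isArtinianRing_quot t x hx n
  have htow : IsScalarTower k (A ⧸ Ideal.span {t ^ (n + 1)})
      (B ⧸ (Ideal.span {t ^ (n + 1)}).map (algebraMap A B)) := tower_k _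
  have hflat : Module.Flat (A ⧸ Ideal.span {t ^ (n + 1)})
      (B ⧸ (Ideal.span {t ^ (n + 1)}).map (algebraMap A B)) := flat_quotient _
  obtain ⟨s, hs⟩ := Groth.Agent.Lib.Helper59.AffRigid.exists_section (resQ t x hx n)
    (redQ t n e) (redQ_surjective t n e) (ker_redQ t x hx n e) (redQ_algebraMap t x hx n e) hT
  have hΘ := Groth.Agent.Lib.Helper59.AffDeformAlg.Θ_bijective (resQ t x hx n) (redQ t n e)
    (ker_redQ t x hx n e) (redQ_algebraMap t x hx n e) s hs
  let Θe : (A ⧸ Ideal.span {t ^ (n + 1)}) ⊗[k] B₀ ≃ₐ[A ⧸ Ideal.span {t ^ (n + 1)}]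
      (B ⧸ (Ideal.span {t ^ (n + 1)}).map (algebraMap A B)) :=
    AlgEquiv.ofBijective (Groth.Agent.Lib.Helper59.AffDeformAlg.Θ _ s) hΘ
  -- the universal square-zero extension of `B₀`
  let f₀ : MvPolynomial B₀ k →ₐ[k] B₀ := MvPolynomial.aeval id
  have hf₀ : Function.Surjective f₀ := fun b => ⟨MvPolynomial.X b, MvPolynomial.aeval_X _ _⟩
  let p₀ := f₀.kerSquareLift
  have hp₀ : Function.Surjective p₀ := fun b => by
    obtain ⟨r, rfl⟩ := hf₀ b
    exact ⟨Ideal.Quotient.mk _ r, rfl⟩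
  have hsq₀ : ∀ x y, p₀ x = 0 → p₀ y = 0 → x * y = 0 := by
    intro x y hx hy
    obtain ⟨x', rfl⟩ := Ideal.Quotient.mk_surjective x
    obtain ⟨y', rfl⟩ := Ideal.Quotient.mk_surjective y
    rw [← map_mul, Ideal.Quotient.eq_zero_iff_mem, pow_two]
    exact Ideal.mul_mem_mul hx hy
  suffices h : ∃ s₀ : B₀ →ₐ[k] _, ∀ b, p₀ (s₀ b) = b by
    obtain ⟨s₀, hs₀⟩ := h
    exact Algebra.FormallySmooth.of_split f₀ s₀ (AlgHom.ext hs₀)
  -- the base change to `A/(t^(n+1))`
  let p := Algebra.TensorProduct.map (AlgHom.id A (A ⧸ Ideal.span {t ^ (n + 1)})) p₀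
  have hpk : ∀ z, p z =
      Algebra.TensorProduct.map (AlgHom.id k (A ⧸ Ideal.span {t ^ (n + 1)})) p₀ z := by
    intro z
    induction z using TensorProduct.induction_on with
    | zero => rw [map_zero, map_zero]
    | tmul a e => rfl
    | add x y hx hy => rw [map_add, map_add, hx, hy]
  have hp : Function.Surjective p := by
    intro z
    induction z using TensorProduct.induction_on with
    | zero => exact ⟨0, map_zero _⟩
    | tmul a b =>
      obtain ⟨e', rfl⟩ := hp₀ b
      exact ⟨a ⊗ₜ e', rfl⟩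
    | add x y hx hy =>
      obtain ⟨x', rfl⟩ := hx
      obtain ⟨y', rfl⟩ := hy
      exact ⟨x' + y', map_add _ _ _⟩
  have hsq : ∀ x y, p x = 0 → p y = 0 → x * y = 0 := by
    intro x y hx hy
    rw [hpk] at hx hy
    exact sq_zero_map p₀ hp₀ hsq₀ x y hx hy
  let g : B →ₐ[A] (A ⧸ Ideal.span {t ^ (n + 1)}) ⊗[k] B₀ :=
    ((Θe.symm.restrictScalars A) : _ →ₐ[A] _).comp
      (Ideal.Quotient.mkₐ A ((Ideal.span {t ^ (n + 1)}).map (algebraMap A B)))
  have hg : Function.Surjective g := by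
    intro z
    obtain ⟨b, hb⟩ := Ideal.Quotient.mk_surjective (Θe z)
    refine ⟨b, ?_⟩
    show Θe.symm (Ideal.Quotient.mk _ b) = z
    rw [hb, Θe.symm_apply_apply]
  have hker : ∀ b, g b = 0 → b ∈ (Ideal.span {t ^ (n + 1)}).map (algebraMap A B) := by
    intro b hb
    have h1 : Θe.symm (Ideal.Quotient.mk _ b) = 0 := hb
    rw [← Ideal.Quotient.eq_zero_iff_mem]
    have h2 := congrArg Θe h1
    rwa [Θe.apply_symm_apply, map_zero] at h2
  have h𝔞 : ∀ a ∈ Ideal.span {t ^ (n + 1)},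
      algebraMap A ((A ⧸ Ideal.span {t ^ (n + 1)}) ⊗[k]
        (MvPolynomial B₀ k ⧸ RingHom.ker f₀.toRingHom ^ 2)) a = 0 := by
    intro a ha
    rw [IsScalarTower.algebraMap_apply A (A ⧸ Ideal.span {t ^ (n + 1)}),
      Ideal.Quotient.algebraMap_eq, Ideal.Quotient.eq_zero_iff_mem.mpr ha, map_zero]
  obtain ⟨δ, hδ1, hδ2⟩ := Groth.Agent.Lib.Helper59.SmoothAwayDer.exists_derivation G₁ (t ^ n) ψ hψ
    p hp hsq g hg (Ideal.span {t ^ (n + 1)}) hker h𝔞
  -- the functional
  have hne : (Ideal.Quotient.mk (Ideal.span {t ^ (n + 1)}) (t ^ n)) ≠ 0 := by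
    rw [Ne, Ideal.Quotient.eq_zero_iff_mem]
    exact hn
  obtain ⟨lam₀, hlam₀⟩ : ∃ f : Module.Dual k (A ⧸ Ideal.span {t ^ (n + 1)}),
      f (Ideal.Quotient.mk (Ideal.span {t ^ (n + 1)}) (t ^ n)) ≠ 0 := by
    by_contra hcon
    rw [not_exists] at hcon
    exact hne ((Module.forall_dual_apply_eq_zero_iff k _).mp (fun f => not_not.mp (hcon f)))
  let lam : (A ⧸ Ideal.span {t ^ (n + 1)}) →ₗ[k] k :=
    (lam₀ (Ideal.Quotient.mk (Ideal.span {t ^ (n + 1)}) (t ^ n)))⁻¹ • lam₀
  have hlam : lam (Ideal.Quotient.mk (Ideal.span {t ^ (n + 1)}) (t ^ n)) = 1 := by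
    show (lam₀ _)⁻¹ • lam₀ _ = 1
    rw [smul_eq_mul, inv_mul_cancel₀ hlam₀]
  refine Groth.Agent.Lib.Helper59.DerSection.exists_section_of_derivation lam p₀ hp₀ hsq₀
    (Ideal.Quotient.mk (Ideal.span {t ^ (n + 1)}) (t ^ n)) hlam (δ.restrictScalars k) ?_ ?_
  · intro z
    rw [← hpk]
    exact hδ1 z
  · intro z hz
    rw [← hpk] at hz
    rw [Derivation.restrictScalars_apply, hδ2 z hz]
    exact (algebraMap_smul (A ⧸ Ideal.span {t ^ (n + 1)}) (t ^ n) z).symm

end Main

end Groth.Agent.Lib.Helper59.RigidNoSmooth
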