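import Mathlib

/-!
# Serre's criterion: the middle term of `0 → A → M → I → 0` is free iff the class generates `Ext¹`
(helper59)

* `free_of_ext_eq_zero` : over a Noetherian local ring `A`, a module `M` with a surjection
  `π : F → M`, `F` finite free, `ker π` free, and `Ext¹(M, Y) = 0` for some `Y ≅ A`, is free.
* `ext_eq_zero_of_generates`, `generates_of_projective` : the two Ext-sequence arguments.
-/

set_option autoImplicit false
universe u

open CategoryTheory Function

namespace Groth.Agent.Lib.Helper59.SerreFree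

section Split

variable {A : Type u} [CommRing A]

/-- A surjection `π : F → M` such that the inclusion of `ker π` has a retraction `r` splits. -/
theorem exists_section_of_retraction {F M : Type u} [AddCommGroup F] [Module A F]
    [AddCommGroup M] [Module A M] (π : F →ₗ[A] M) (hπ : Surjective π)
    (r : F →ₗ[A] F) (hr : ∀ x, π (r x) = 0) (hr' : ∀ x, π x = 0 → r x = x) :
    ∃ s : M →ₗ[A] F, π.comp s = LinearMap.id := by
  have h' : ∀ x y, π x = π y → x - r x = y - r y := by
    intro x y hxy
    have h0 : π (x - y) = 0 := by rw [map_sub, hxy, sub_self]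
    have := hr' _ h0
    rw [map_sub] at this
    have e : x - r x - (y - r y) = (x - y) - (r x - r y) := by abel
    rw [← sub_eq_zero, e, this, sub_self]
  refine ⟨{ toFun := fun m => surjInv hπ m - r (surjInv hπ m), map_add' := fun a b => ?_,
            map_smul' := fun c a => ?_ }, ?_⟩
  · have e : surjInv hπ a - r (surjInv hπ a) + (surjInv hπ b - r (surjInv hπ b)) =
        (surjInv hπ a + surjInv hπ b) - r (surjInv hπ a + surjInv hπ b) := by
      rw [map_add]; abel
    rw [e]
    apply h'
    rw [map_add, surjInv_eq hπ, surjInv_eq hπ, surjInv_eq hπ]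
  · have e : (RingHom.id A) c • (surjInv hπ a - r (surjInv hπ a)) =
        (c • surjInv hπ a) - r (c • surjInv hπ a) := by
      rw [map_smul, RingHom.id_apply, smul_sub]
    rw [e]
    apply h'
    rw [map_smul, surjInv_eq hπ, surjInv_eq hπ]
  · ext m
    simp only [LinearMap.coe_comp, LinearMap.coe_mk, AddHom.coe_mk, comp_apply, map_sub, hr,
      sub_zero, surjInv_eq hπ, LinearMap.id_coe, id_eq]

end Split

section Ext

variable {A : Type u} [CommRing A]

/-- If every class in `Ext¹(X₃, X₁)` is a multiple of the class of `S` and `X₁` is projective,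
then `Ext¹(X₂, X₁) = 0`. -/
theorem ext_eq_zero_of_generates (S : ShortComplex (ModuleCat.{u} A)) (hS : S.ShortExact)
    [Projective S.X₁]
    (h : ∀ x : Abelian.Ext S.X₃ S.X₁ 1, ∃ f : S.X₁ ⟶ S.X₁,
      hS.extClass.comp (Abelian.Ext.mk₀ f) (add_zero 1) = x)
    (y : Abelian.Ext S.X₂ S.X₁ 1) : y = 0 := by
  have h0 : (Abelian.Ext.mk₀ S.f).comp y (zero_add 1) = 0 := Abelian.Ext.eq_zero_of_projective _
  obtain ⟨x, rfl⟩ := Abelian.Ext.contravariant_sequence_exact₂ hS S.X₁ y h0
  obtain ⟨f, rfl⟩ := h x
  rw [hS.comp_extClass_assoc]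

/-- If `X₂` is projective, every class in `Ext¹(X₃, X₁)` is a multiple of the class of `S`. -/
theorem generates_of_projective (S : ShortComplex (ModuleCat.{u} A)) (hS : S.ShortExact)
    [Projective S.X₂] (x : Abelian.Ext S.X₃ S.X₁ 1) :
    ∃ f : S.X₁ ⟶ S.X₁, hS.extClass.comp (Abelian.Ext.mk₀ f) (add_zero 1) = x := by
  have h0 : (Abelian.Ext.mk₀ S.g).comp x (zero_add 1) = 0 := Abelian.Ext.eq_zero_of_projective _
  obtain ⟨x₁, rfl⟩ := Abelian.Ext.contravariant_sequence_exact₃ hS S.X₁ x h0 (add_zero 1)
  obtain ⟨f, rfl⟩ := (Abelian.Ext.mk₀_bijective _ _).2 x₁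
  exact ⟨f, rfl⟩

/-- If `Ext¹(M, Y) = 0` with `Y ≅ A`, every functional on the kernel of a surjection `π : F → M`
extends to `F`. -/
theorem exists_extend_functional {F M : Type u} [AddCommGroup F] [Module A F]
    [AddCommGroup M] [Module A M] (π : F →ₗ[A] M) (hπ : Surjective π)
    (Y : ModuleCat.{u} A) (i : Y ≅ ModuleCat.of A A)
    (hExt : ∀ y : Abelian.Ext (ModuleCat.of A M) Y 1, y = 0)
    (l : LinearMap.ker π →ₗ[A] A) :
    ∃ g : F →ₗ[A] A, ∀ k : LinearMap.ker π, g k = l k := by
  have hT := LinearMap.shortExact_shortComplexKer hπ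
  let l' : π.shortComplexKer.X₁ ⟶ Y := ModuleCat.ofHom l ≫ i.inv
  obtain ⟨x₂, hx₂⟩ := Abelian.Ext.contravariant_sequence_exact₁ hT Y (Abelian.Ext.mk₀ l')
    (add_zero 1) (hExt _)
  obtain ⟨g, rfl⟩ := (Abelian.Ext.mk₀_bijective _ _).2 x₂
  rw [Abelian.Ext.mk₀_comp_mk₀] at hx₂
  have hg := (Abelian.Ext.mk₀_bijective _ _).1 hx₂
  refine ⟨(g ≫ i.hom).hom, fun k => ?_⟩
  have h1 : (π.shortComplexKer.f ≫ g) ≫ i.hom = ModuleCat.ofHom l := by
    rw [hg]; simp [l']
  have h2 := congrArg (fun t => t.hom k) h1
  simp at h2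
  exact h2

end Ext

section Main

variable {A : Type u} [CommRing A] [IsNoetherianRing A] [IsLocalRing A]

/-- Over a Noetherian local ring, `M = F / K` with `F` finite free, `K` free and `Ext¹(M, A) = 0`
is free. -/
theorem free_of_ext_eq_zero {F M : Type u} [AddCommGroup F] [Module A F]
    [AddCommGroup M] [Module A M] [Module.Free A F] [Module.Finite A F]
    (π : F →ₗ[A] M) (hπ : Surjective π) [Module.Free A (LinearMap.ker π)]
    (Y : ModuleCat.{u} A) (i : Y ≅ ModuleCat.of A A)
    (hExt : ∀ y : Abelian.Ext (ModuleCat.of A M) Y 1, y = 0) :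
    Module.Free A M := by
  classical
  have : Module.Finite A (LinearMap.ker π) := inferInstance
  let b := Module.Free.chooseBasis A (LinearMap.ker π)
  have hg : ∀ j, ∃ g : F →ₗ[A] A, ∀ k : LinearMap.ker π, g k = b.coord j k := fun j =>
    exists_extend_functional π hπ Y i hExt (b.coord j)
  choose g hg using hg
  let r : F →ₗ[A] F := ∑ j, (LinearMap.toSpanSingleton A F (b j : F)).comp (g j)
  have hr_apply : ∀ x, r x = ∑ j, g j x • (b j : F) := by
    intro x
    simp [r, LinearMap.sum_apply, LinearMap.toSpanSingleton_apply]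
  have hr : ∀ x, π (r x) = 0 := by
    intro x
    rw [hr_apply, map_sum]
    refine Finset.sum_eq_zero fun j _ => ?_
    rw [map_smul, (b j).2, smul_zero]
  have hr' : ∀ x, π x = 0 → r x = x := by
    intro x hx
    have hk : (⟨x, hx⟩ : LinearMap.ker π) = ∑ j, b.coord j ⟨x, hx⟩ • b j := by
      simp
    rw [hr_apply]
    have := congrArg (fun t : LinearMap.ker π => (t : F)) hk
    simp only [Submodule.coe_sum, Submodule.coe_smul] at this
    refine Eq.trans (Finset.sum_congr rfl fun j _ => ?_) this.symm
    rw [← hg j ⟨x, hx⟩]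
  obtain ⟨s, hs⟩ := exists_section_of_retraction π hπ r hr hr'
  have : Module.Projective A M := Module.Projective.of_split s π hs
  have : Module.Finite A M := Module.Finite.of_surjective π hπ
  have : Module.FinitePresentation A M := Module.finitePresentation_of_finite A M
  exact Module.free_of_flat_of_isLocalRing

end Main

end Groth.Agent.Lib.Helper59.SerreFree
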