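import Mathlib

/-!
# Retractions up to an element of a submonoid (helper59)

For `d : N → F`, `p : F → C` exact with `p` surjective, `F` projective:
`(ker d)_S = 0` and `C_S` projective  ⇔  there is `ψ : F → N` with `ψ ∘ d = c • id` for some `c ∈ S`
(the forward direction for `N` finite, `C` finitely presented over a Noetherian ring).
-/

set_option autoImplicit false
universe u

open Function

namespace Groth.Agent.Lib.Helper59.SmoothAway

variable {R : Type u} [CommRing R] (S : Submonoid R) {N F C : Type u} [AddCommGroup N] [Module R N]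
  [AddCommGroup F] [Module R F] [AddCommGroup C] [Module R C]
  (d : N →ₗ[R] F) (p : F →ₗ[R] C)

theorem exists_factor {M N' L : Type*} [AddCommGroup M] [AddCommGroup N'] [AddCommGroup L]
    [Module R M] [Module R N'] [Module R L] (θ : M →ₗ[R] N')
    (hθ : Surjective θ) (κ0 : M →ₗ[R] L) (h : ∀ x, θ x = 0 → κ0 x = 0) :
    ∃ κ : N' →ₗ[R] L, ∀ x, κ (θ x) = κ0 x := by
  have h' : ∀ x y, θ x = θ y → κ0 x = κ0 y := by
    intro x y hxy
    have := h (x - y) (by rw [map_sub, hxy, sub_self])
    rwa [map_sub, sub_eq_zero] at this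
  refine ⟨{ toFun := fun n => κ0 (Function.surjInv hθ n), map_add' := fun a b => ?_,
            map_smul' := fun r a => ?_ }, fun x => ?_⟩
  · rw [← map_add]
    apply h'
    rw [map_add, Function.surjInv_eq hθ, Function.surjInv_eq hθ, Function.surjInv_eq hθ]
  · rw [RingHom.id_apply, ← map_smul]
    apply h'
    rw [map_smul, Function.surjInv_eq hθ, Function.surjInv_eq hθ]
  · apply h'
    exact Function.surjInv_eq hθ _

variable {S d p}

theorem subsingleton_ker_of_retraction {c : R} (hc : c ∈ S) (ψ : F →ₗ[R] N)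
    (hψ : ψ ∘ₗ d = c • LinearMap.id) : Subsingleton (LocalizedModule S (LinearMap.ker d)) := by
  rw [LocalizedModule.subsingleton_iff]
  intro x
  refine ⟨c, hc, ?_⟩
  apply Subtype.ext
  have h1 : ψ (d x) = c • (x : N) := LinearMap.congr_fun hψ x
  have h2 : d x = 0 := x.2
  rw [h2, map_zero] at h1
  rw [Submodule.coe_smul, ← h1]
  rfl

theorem projective_of_retraction [Module.Projective R F] (hp : Surjective p) (hex : Exact d p)
    {c : R} (hc : c ∈ S) (ψ : F →ₗ[R] N) (hψ : ψ ∘ₗ d = c • LinearMap.id) :
    Module.Projective (Localization S) (LocalizedModule S C) := by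
  have hψ' : ∀ y, ψ (d y) = c • y := fun y => LinearMap.congr_fun hψ y
  have hpd : ∀ y, p (d y) = 0 := fun y => (hex (d y)).mpr ⟨y, rfl⟩
  let u : F →ₗ[R] F := c • LinearMap.id - d ∘ₗ ψ
  have hu : ∀ x, p x = 0 → u x = 0 := by
    intro x hx
    obtain ⟨y, rfl⟩ := (hex x).mp hx
    change c • d y - d (ψ (d y)) = 0
    rw [hψ', map_smul, sub_self]
  obtain ⟨s, hs⟩ := exists_factor p hp u hu
  have hps : ∀ y, p (s y) = c • y := by
    intro y
    obtain ⟨x, rfl⟩ := hp y
    rw [hs]
    change p (c • x - d (ψ x)) = _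
    rw [map_sub, hpd, sub_zero, map_smul]
  have hcu : IsUnit (algebraMap R (Localization S) c) :=
    IsLocalization.map_units (Localization S) ⟨c, hc⟩
  refine Module.Projective.of_split
    (((hcu.unit⁻¹ : (Localization S)ˣ) : Localization S) • LocalizedModule.map S s)
    (LocalizedModule.map S p) ?_
  refine LinearMap.ext fun z => ?_
  induction z using LocalizedModule.induction_on with
  | h m t =>
    rw [LinearMap.comp_apply, LinearMap.smul_apply, map_smul, LocalizedModule.map_mk,
      LocalizedModule.map_mk, hps, LinearMap.id_apply]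
    have h1 : LocalizedModule.mk (c • m) t = algebraMap R (Localization S) c •
        LocalizedModule.mk m t := by
      rw [algebraMap_smul, LocalizedModule.smul'_mk]
    rw [h1, smul_smul, IsUnit.val_inv_mul, one_smul]

theorem exists_retraction [IsNoetherianRing R] [Module.Finite R N] [Module.Projective R F]
    [Module.FinitePresentation R C] (hp : Surjective p) (hex : Exact d p)
    (hK : Subsingleton (LocalizedModule S (LinearMap.ker d)))
    (hC : Module.Projective (Localization S) (LocalizedModule S C)) :
    ∃ c ∈ S, ∃ ψ : F →ₗ[R] N, ψ ∘ₗ d = c • LinearMap.id := by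
  have hpd : ∀ y, p (d y) = 0 := fun y => (hex (d y)).mpr ⟨y, rfl⟩
  -- the kernel is killed by an element of `S`
  obtain ⟨c₁, hc₁⟩ := Module.Finite.exists_smul_of_comp_eq_of_isLocalizedModule S
    (LocalizedModule.mkLinearMap S (LinearMap.ker d)) LinearMap.id 0
    (LinearMap.ext fun x => Subsingleton.elim _ _)
  have hc₁' : ∀ x : N, d x = 0 → (c₁ : R) • x = 0 := by
    intro x hx
    have := congrArg Subtype.val (LinearMap.congr_fun hc₁ ⟨x, hx⟩)
    simp only [LinearMap.smul_apply, LinearMap.id_apply, LinearMap.zero_apply, smul_zero,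
      Submonoid.smul_def, Submodule.coe_smul, ZeroMemClass.coe_zero] at this
    exact this
  -- a section of the localized `p`
  obtain ⟨σ, hσ⟩ := Module.projective_lifting_property (LocalizedModule.map S p)
    (LinearMap.id : LocalizedModule S C →ₗ[Localization S] LocalizedModule S C)
    (LocalizedModule.map_surjective S p hp)
  have hσ' : ∀ z, LocalizedModule.map S p (σ z) = z := fun z => LinearMap.congr_fun hσ z
  let g : C →ₗ[R] LocalizedModule S F :=
    (σ.restrictScalars R) ∘ₗ LocalizedModule.mkLinearMap S C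
  obtain ⟨h, a, ha⟩ := Module.FinitePresentation.exists_lift_of_isLocalizedModule S
    (LocalizedModule.mkLinearMap S F) g
  have H : LocalizedModule.mkLinearMap S C ∘ₗ (p ∘ₗ h) =
      LocalizedModule.mkLinearMap S C ∘ₗ ((a : R) • LinearMap.id) := by
    refine LinearMap.ext fun y => ?_
    have h1 : LocalizedModule.mkLinearMap S F (h y) = (a : R) • g y :=
      LinearMap.congr_fun ha y
    change LocalizedModule.mk (p (h y)) 1 = LocalizedModule.mk ((a : R) • y) 1
    have h2 : LocalizedModule.mk (p (h y)) 1 =
        LocalizedModule.map S p (LocalizedModule.mkLinearMap S F (h y)) := by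
      rw [LocalizedModule.mkLinearMap_apply, LocalizedModule.map_mk]
    rw [h2, h1, ← algebraMap_smul (Localization S) (a : R), map_smul]
    change algebraMap R (Localization S) a • LocalizedModule.map S p (σ _) = _
    rw [hσ', algebraMap_smul, LocalizedModule.mkLinearMap_apply, LocalizedModule.smul'_mk]
  obtain ⟨b, hb⟩ := Module.Finite.exists_smul_of_comp_eq_of_isLocalizedModule S
    (LocalizedModule.mkLinearMap S C) _ _ H
  -- `p ∘ s' = c₂ • id`
  let s' : C →ₗ[R] F := (b : R) • h
  have hps' : ∀ y, p (s' y) = ((b : R) * (a : R)) • y := by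
    intro y
    have := LinearMap.congr_fun hb y
    simp only [LinearMap.smul_apply, LinearMap.comp_apply, LinearMap.id_apply] at this
    change p ((b : R) • h y) = _
    rw [map_smul]
    rw [mul_smul]
    exact this
  let u : F →ₗ[R] F := ((b : R) * (a : R)) • LinearMap.id - s' ∘ₗ p
  have hu : ∀ x, u x ∈ LinearMap.range d := by
    intro x
    have h1 : p (u x) = 0 := by
      change p (((b : R) * (a : R)) • x - s' (p x)) = 0
      rw [map_sub, hps', map_smul, sub_self]
    exact (hex (u x)).mp h1
  obtain ⟨ψ₀, hψ₀⟩ := Module.projective_lifting_property d.rangeRestrict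
    (u.codRestrict (LinearMap.range d) hu) d.surjective_rangeRestrict
  have hψ₀' : ∀ x, d (ψ₀ x) = u x := fun x =>
    congrArg Subtype.val (LinearMap.congr_fun hψ₀ x)
  refine ⟨c₁ * (b * a), S.mul_mem c₁.2 (S.mul_mem b.2 a.2), (c₁ : R) • ψ₀, ?_⟩
  refine LinearMap.ext fun x => ?_
  have h1 : d (ψ₀ (d x) - ((b : R) * (a : R)) • x) = 0 := by
    rw [map_sub, hψ₀', map_smul]
    change ((b : R) * (a : R)) • d x - s' (p (d x)) - _ = 0
    rw [hpd, map_zero, sub_zero, sub_self]
  have h2 := hc₁' _ h1
  rw [smul_sub, sub_eq_zero] at h2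
  change (c₁ : R) • ψ₀ (d x) = ((c₁ : R) * ((b : R) * (a : R))) • x
  rw [h2]
  simp only [mul_smul]

end Groth.Agent.Lib.Helper59.SmoothAway
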