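import Mathlib
import Groth.Agent.Lib.Helper59.SmoothAway
import Groth.Agent.Lib.Helper59.CotTIndep01

/-!
# Smoothness away from `V(f)` and annihilation of `T¹` by a power of `f` (helper59)
-/

set_option autoImplicit false
universe u

open CotT KaehlerDifferential Function

namespace Groth.Agent.Lib.Helper59.SmoothAwayT1

open Groth.Agent.Lib.Helper59.SmoothAway Groth.Agent.Lib.Helper59.CotTIndep01

variable {A B : Type u} [CommRing A] [CommRing B] [Algebra A B]

theorem subsingleton_localizedModule_congr {R : Type*} [CommRing R] (S : Submonoid R)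
    {M M' : Type*} [AddCommGroup M] [Module R M] [AddCommGroup M'] [Module R M']
    (e : M ≃ₗ[R] M') :
    Subsingleton (LocalizedModule S M) ↔ Subsingleton (LocalizedModule S M') := by
  rw [LocalizedModule.subsingleton_iff, LocalizedModule.subsingleton_iff]
  constructor
  · intro h m'
    obtain ⟨r, hr, hm⟩ := h (e.symm m')
    refine ⟨r, hr, ?_⟩
    rw [← e.apply_symm_apply m', ← map_smul, hm, map_zero]
  · intro h m
    obtain ⟨r, hr, hm⟩ := h (e m)
    refine ⟨r, hr, ?_⟩
    apply e.injective
    rw [map_smul, hm, map_zero]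

theorem basicOpen_subset_smoothLocus_iff' [Algebra.FinitePresentation A B] (f : B) :
    ↑(PrimeSpectrum.basicOpen f) ⊆ Algebra.smoothLocus A B ↔
      Subsingleton (LocalizedModule (.powers f) (Algebra.H1Cotangent A B)) ∧
      Module.Projective (Localization.Away f) (LocalizedModule.Away f Ω[B⁄A]) := by
  rw [Algebra.smoothLocus_eq_compl_support_inter, Set.subset_inter_iff, Set.subset_compl_comm,
    PrimeSpectrum.basicOpen_eq_zeroLocus_compl, compl_compl,
    ← LocalizedModule.subsingleton_iff_support_subset,
    ← PrimeSpectrum.basicOpen_eq_zeroLocus_compl, Module.basicOpen_subset_freeLocus_iff]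

section Main

variable [IsNoetherianRing B] [Algebra.FinitePresentation A B]

/-- the extension of a chosen finite presentation -/
noncomputable abbrev E (A B : Type u) [CommRing A] [CommRing B] [Algebra A B]
    [Algebra.FinitePresentation A B] : Algebra.Extension A B :=
  (Algebra.Presentation.ofFinitePresentation A B).toExtension

theorem smooth_away_iff (f : B) :
    ↑(PrimeSpectrum.basicOpen f) ⊆ Algebra.smoothLocus A B ↔
      ∃ n : ℕ, ∃ ψ : (E A B).CotangentSpace →ₗ[B] (E A B).Cotangent,
        ψ ∘ₗ (E A B).cotangentComplex = (f ^ n) • LinearMap.id := by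
  rw [basicOpen_subset_smoothLocus_iff']
  haveI : Module.Finite B (E A B).Cotangent :=
    Algebra.Extension.Cotangent.finite (Algebra.Presentation.ofFinitePresentation A B).fg_ker
  have hK : Subsingleton (LocalizedModule (.powers f) (Algebra.H1Cotangent A B)) ↔
      Subsingleton (LocalizedModule (.powers f) (LinearMap.ker (E A B).cotangentComplex)) :=
    (subsingleton_localizedModule_congr (.powers f)
      (Algebra.Presentation.ofFinitePresentation A B).toGenerators.equivH1Cotangent).symm
  rw [hK]
  constructor
  · rintro ⟨h1, h2⟩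
    obtain ⟨c, ⟨n, rfl⟩, ψ, hψ⟩ := exists_retraction (S := .powers f)
      (E A B).toKaehler_surjective (E A B).exact_cotangentComplex_toKaehler h1 h2
    exact ⟨n, ψ, hψ⟩
  · rintro ⟨n, ψ, hψ⟩
    exact ⟨subsingleton_ker_of_retraction (S := .powers f) ⟨n, rfl⟩ ψ hψ,
      projective_of_retraction (S := .powers f) (E A B).toKaehler_surjective
        (E A B).exact_cotangentComplex_toKaehler ⟨n, rfl⟩ ψ hψ⟩

/-- comparison of `T¹` from the canonical presentation with `N1` of the finite presentation -/
theorem T1_canon_equiv (M : Type u) [AddCommGroup M] [Module B M] :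
    Nonempty (T1 (canon A B) M ≃ₗ[B] N1 (E A B) M) := by
  obtain ⟨e1⟩ := T1_equiv_N1 (canon A B) M
  obtain ⟨e2⟩ := N1_equiv M
    (Algebra.Generators.defaultHom (canon A B).toGenerators
      (Algebra.Presentation.ofFinitePresentation A B).toGenerators).toExtensionHom
    (Algebra.Generators.defaultHom (Algebra.Presentation.ofFinitePresentation A B).toGenerators
      (canon A B).toGenerators).toExtensionHom
  exact ⟨e1.trans e2⟩

theorem T1_killed_iff (c : B) :
    (∀ (M : Type u) [AddCommGroup M] [Module B M] [Module.Finite B M],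
      ∀ x : T1 (canon A B) M, c • x = 0) ↔
    ∃ ψ : (E A B).CotangentSpace →ₗ[B] (E A B).Cotangent,
      ψ ∘ₗ (E A B).cotangentComplex = c • LinearMap.id := by
  constructor
  · intro h
    haveI : Module.Finite B (E A B).Cotangent :=
      Algebra.Extension.Cotangent.finite (Algebra.Presentation.ofFinitePresentation A B).fg_ker
    obtain ⟨e⟩ := T1_canon_equiv (A := A) (B := B) (E A B).Cotangent
    have h1 := h (E A B).Cotangent (e.symm (Submodule.Quotient.mk LinearMap.id))
    have h2 := congrArg e h1
    rw [map_smul, e.apply_symm_apply, map_zero, ← Submodule.Quotient.mk_smul,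
      Submodule.Quotient.mk_eq_zero] at h2
    obtain ⟨ψ, hψ⟩ := h2
    exact ⟨ψ, hψ⟩
  · rintro ⟨ψ, hψ⟩ M _ _ _ x
    obtain ⟨e⟩ := T1_canon_equiv (A := A) (B := B) M
    apply e.injective
    rw [map_smul, map_zero]
    obtain ⟨φ, hφ⟩ := Submodule.Quotient.mk_surjective _ (e x)
    rw [← hφ, ← Submodule.Quotient.mk_smul, Submodule.Quotient.mk_eq_zero]
    refine ⟨φ ∘ₗ ψ, ?_⟩
    change (φ ∘ₗ ψ) ∘ₗ (E A B).cotangentComplex = c • φ
    rw [LinearMap.comp_assoc, hψ, LinearMap.comp_smul, LinearMap.comp_id]

end Main

end Groth.Agent.Lib.Helper59.SmoothAwayT1
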