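import Groth.Prelude.Def_W4bk4grossh1223Act
import Mathlib

/-! # The trivial square-zero extension `A ⊕ M` as a rational `G`-algebra

For a rational action of a group functor `G` on a `k`-algebra `A` by algebra automorphisms and a
compatible rational action on an `A`-module `M` (in the functorial sense of `VecGrp.GMod`), the
trivial square-zero extension `A ⊕ M` carries a rational action by algebra automorphisms whose
invariants are `A^G ⊕ M^G`.  Consequently, finite generation of the invariant algebra of `A ⊕ M`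
gives finite generation of `M^G` over `A^G`. -/

set_option autoImplicit false
set_option linter.unusedSectionVars false
set_option linter.unusedVariables false
universe u
open CategoryTheory MonObj AlgebraicGeometry
open scoped TensorProduct
open TrivSqZeroExt

namespace Groth.Agent.Lib.Helper59.SqZeroGMod

noncomputable section

/-- The right action of a commutative ring on a module, through the left action. -/
@[reducible] def opMod (A : Type u) [CommRing A] (M : Type u) [AddCommGroup M] [Module A M] :
    Module Aᵐᵒᵖ M :=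
  Module.compHom M ((RingHom.id A).fromOpposite (fun a b => mul_comm a b))

attribute [local instance] opMod

instance isCentralScalar (A : Type u) [CommRing A] (M : Type u) [AddCommGroup M] [Module A M] :
    IsCentralScalar A M := ⟨fun _ _ => rfl⟩

variable {k : Type u} [Field k]
variable {G : Over (Spec (CommRingCat.of k))} [GrpObj G]
variable {A : Type u} [CommRing A] [Algebra k A]
variable {M : Type u} [AddCommGroup M] [Module A M] [Module k M] [IsScalarTower k A M]

theorem finiteType_tsze [Algebra.FiniteType k A] [Module.Finite A M] :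
    Algebra.FiniteType k (TrivSqZeroExt A M) := by
  have : Module.Finite A (TrivSqZeroExt A M) := by
    have : Module.Finite A (A × M) := inferInstance
    exact this
  exact Algebra.FiniteType.trans (S := A) inferInstance inferInstance

section Maps

variable (k A M)

/-- `a ↦ (a, 0)`, `k`-linear. -/
def jA : A →ₗ[k] TrivSqZeroExt A M := (inlAlgHom k A M).toLinearMap
/-- `m ↦ (0, m)`, `k`-linear. -/
def jM : M →ₗ[k] TrivSqZeroExt A M := (inrHom A M).restrictScalars k
/-- `(a, m) ↦ a`, `k`-linear. -/
def qA : TrivSqZeroExt A M →ₗ[k] A := (fstHom k A M).toLinearMap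
/-- `(a, m) ↦ m`, `k`-linear. -/
def qM : TrivSqZeroExt A M →ₗ[k] M := (sndHom A M).restrictScalars k

@[simp] theorem jA_apply (a : A) : jA k A M a = inl a := rfl
@[simp] theorem jM_apply (m : M) : jM k A M m = inr m := rfl
@[simp] theorem qA_apply (x : TrivSqZeroExt A M) : qA k A M x = x.fst := rfl
@[simp] theorem qM_apply (x : TrivSqZeroExt A M) : qM k A M x = x.snd := rfl

theorem qA_jA : qA k A M ∘ₗ jA k A M = LinearMap.id := by ext a; simp
theorem qM_jM : qM k A M ∘ₗ jM k A M = LinearMap.id := by ext a; simp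
theorem qA_jM : qA k A M ∘ₗ jM k A M = 0 := by ext a; simp
theorem qM_jA : qM k A M ∘ₗ jA k A M = 0 := by ext a; simp
theorem jq_sum : jA k A M ∘ₗ qA k A M + jM k A M ∘ₗ qM k A M = LinearMap.id := by
  ext x
  · simp
  · simp

variable (B : Type u) [CommRing B] [Algebra k B]

/-- Base changes of the four structure maps. -/
abbrev iA : B ⊗[k] A →ₗ[B] B ⊗[k] TrivSqZeroExt A M := (jA k A M).baseChange B
abbrev iM : B ⊗[k] M →ₗ[B] B ⊗[k] TrivSqZeroExt A M := (jM k A M).baseChange B
abbrev pA : B ⊗[k] TrivSqZeroExt A M →ₗ[B] B ⊗[k] A := (qA k A M).baseChange B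
abbrev pM : B ⊗[k] TrivSqZeroExt A M →ₗ[B] B ⊗[k] M := (qM k A M).baseChange B

theorem pA_iA (x : B ⊗[k] A) : pA k A M B (iA k A M B x) = x := by
  have := congrArg (fun f => (LinearMap.baseChange B f) x) (qA_jA k A M)
  simpa [LinearMap.baseChange_comp] using this

theorem pM_iM (x : B ⊗[k] M) : pM k A M B (iM k A M B x) = x := by
  have := congrArg (fun f => (LinearMap.baseChange B f) x) (qM_jM k A M)
  simpa [LinearMap.baseChange_comp] using this

theorem pA_iM (x : B ⊗[k] M) : pA k A M B (iM k A M B x) = 0 := by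
  have := congrArg (fun f => (LinearMap.baseChange B f) x) (qA_jM k A M)
  simpa [LinearMap.baseChange_comp] using this

theorem pM_iA (x : B ⊗[k] A) : pM k A M B (iA k A M B x) = 0 := by
  have := congrArg (fun f => (LinearMap.baseChange B f) x) (qM_jA k A M)
  simpa [LinearMap.baseChange_comp] using this

theorem decomp (x : B ⊗[k] TrivSqZeroExt A M) :
    iA k A M B (pA k A M B x) + iM k A M B (pM k A M B x) = x := by
  have := congrArg (fun f => (LinearMap.baseChange B f) x) (jq_sum k A M)
  simpa [LinearMap.baseChange_comp, LinearMap.baseChange_add] using this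

theorem iA_one : iA k A M B 1 = 1 := by
  rw [Algebra.TensorProduct.one_def, LinearMap.baseChange_tmul, jA_apply, inl_one,
    ← Algebra.TensorProduct.one_def]

theorem iA_mul (x y : B ⊗[k] A) : iA k A M B (x * y) = iA k A M B x * iA k A M B y := by
  induction x using TensorProduct.induction_on with
  | zero => simp
  | add x₁ x₂ h₁ h₂ => rw [add_mul, map_add, h₁, h₂, map_add, add_mul]
  | tmul b a =>
    induction y using TensorProduct.induction_on with
    | zero => simp
    | add y₁ y₂ h₁ h₂ => rw [mul_add, map_add, h₁, h₂, map_add, mul_add]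
    | tmul b' a' =>
      simp only [Algebra.TensorProduct.tmul_mul_tmul, LinearMap.baseChange_tmul, jA_apply, inl_mul]

theorem iA_mul_iM (x : B ⊗[k] A) (y : B ⊗[k] M) :
    iA k A M B x * iM k A M B y = iM k A M B (VecGrp.GMod.smulW k A M B x y) := by
  induction x using TensorProduct.induction_on with
  | zero => simp
  | add x₁ x₂ h₁ h₂ => rw [map_add, add_mul, h₁, h₂, map_add, LinearMap.add_apply, map_add]
  | tmul b a =>
    induction y using TensorProduct.induction_on with
    | zero => simp
    | add y₁ y₂ h₁ h₂ => rw [map_add, mul_add, h₁, h₂, map_add, map_add]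
    | tmul b' m =>
      simp only [VecGrp.GMod.smulW, TensorProduct.map₂_apply_tmul, TensorProduct.map_tmul,
        LinearMap.mul_apply', AlgHom.toLinearMap_apply, Algebra.lsmul_coe,
        LinearMap.baseChange_tmul, jA_apply, jM_apply,
        Algebra.TensorProduct.tmul_mul_tmul, inl_mul_inr]

theorem iM_mul_iM (x y : B ⊗[k] M) : iM k A M B x * iM k A M B y = 0 := by
  induction x using TensorProduct.induction_on with
  | zero => simp
  | add x₁ x₂ h₁ h₂ => rw [map_add, add_mul, h₁, h₂, add_zero]
  | tmul b m =>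
    induction y using TensorProduct.induction_on with
    | zero => simp
    | add y₁ y₂ h₁ h₂ => rw [map_add, mul_add, h₁, h₂, add_zero]
    | tmul b' m' =>
      simp only [LinearMap.baseChange_tmul, jM_apply, Algebra.TensorProduct.tmul_mul_tmul,
        inr_mul_inr, TensorProduct.tmul_zero]

/-- The product in `B ⊗ (A ⊕ M)` in components. -/
theorem mul_decomp (xA yA : B ⊗[k] A) (xM yM : B ⊗[k] M) :
    (iA k A M B xA + iM k A M B xM) * (iA k A M B yA + iM k A M B yM) =
      iA k A M B (xA * yA) +
        iM k A M B (VecGrp.GMod.smulW k A M B xA yM + VecGrp.GMod.smulW k A M B yA xM) := by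
  rw [add_mul, mul_add, mul_add, iM_mul_iM, add_zero, ← iA_mul, iA_mul_iM,
    mul_comm (iM k A M B xM), iA_mul_iM, map_add, add_assoc]

theorem pA_mul (x y : B ⊗[k] TrivSqZeroExt A M) :
    pA k A M B (x * y) = pA k A M B x * pA k A M B y := by
  conv_lhs => rw [← decomp k A M B x, ← decomp k A M B y, mul_decomp]
  rw [map_add, pA_iA, pA_iM, add_zero]

theorem pM_mul (x y : B ⊗[k] TrivSqZeroExt A M) :
    pM k A M B (x * y) =
      VecGrp.GMod.smulW k A M B (pA k A M B x) (pM k A M B y) +
        VecGrp.GMod.smulW k A M B (pA k A M B y) (pM k A M B x) := by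
  conv_lhs => rw [← decomp k A M B x, ← decomp k A M B y, mul_decomp]
  rw [map_add, pM_iA, pM_iM, zero_add]

theorem pA_one : pA k A M B 1 = 1 := by
  rw [← iA_one k A M B, pA_iA]

theorem pM_one : pM k A M B 1 = 0 := by
  rw [← iA_one k A M B, pM_iA]

end Maps

section Action

variable (ρA : VecGrp.GMod G A) (ρM : VecGrp.GMod G M)

/-- The endomorphism of `B ⊗ (A ⊕ M)` defined by a `B`-point of `G`. -/
def actEnd (B : Type u) [CommRing B] [Algebra k B] (g : VecGrp.pt k B ⟶ G) :
    Module.End B (B ⊗[k] TrivSqZeroExt A M) :=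
  iA k A M B ∘ₗ (ρA.ρ B g : B ⊗[k] A →ₗ[B] B ⊗[k] A) ∘ₗ pA k A M B +
    iM k A M B ∘ₗ (ρM.ρ B g : B ⊗[k] M →ₗ[B] B ⊗[k] M) ∘ₗ pM k A M B

theorem actEnd_apply (B : Type u) [CommRing B] [Algebra k B] (g : VecGrp.pt k B ⟶ G)
    (x : B ⊗[k] TrivSqZeroExt A M) :
    actEnd ρA ρM B g x =
      iA k A M B (ρA.ρ B g (pA k A M B x)) + iM k A M B (ρM.ρ B g (pM k A M B x)) := rfl

theorem pA_actEnd (B : Type u) [CommRing B] [Algebra k B] (g : VecGrp.pt k B ⟶ G)
    (x : B ⊗[k] TrivSqZeroExt A M) :
    pA k A M B (actEnd ρA ρM B g x) = ρA.ρ B g (pA k A M B x) := by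
  rw [actEnd_apply, map_add, pA_iA, pA_iM, add_zero]

theorem pM_actEnd (B : Type u) [CommRing B] [Algebra k B] (g : VecGrp.pt k B ⟶ G)
    (x : B ⊗[k] TrivSqZeroExt A M) :
    pM k A M B (actEnd ρA ρM B g x) = ρM.ρ B g (pM k A M B x) := by
  rw [actEnd_apply, map_add, pM_iA, pM_iM, zero_add]

/-- The monoid homomorphism to endomorphisms. -/
def actHom (B : Type u) [CommRing B] [Algebra k B] :
    (VecGrp.pt k B ⟶ G) →* Module.End B (B ⊗[k] TrivSqZeroExt A M) where
  toFun := actEnd ρA ρM B
  map_one' := by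
    refine LinearMap.ext fun x => ?_
    rw [actEnd_apply, map_one, map_one]
    exact decomp k A M B x
  map_mul' g h := by
    refine LinearMap.ext fun x => ?_
    rw [Module.End.mul_apply, actEnd_apply, actEnd_apply ρA ρM B g, pA_actEnd, pM_actEnd, map_mul,
      map_mul]
    rfl

/-- The rational `G`-module structure on `A ⊕ M`. -/
def gmod : VecGrp.GMod G (TrivSqZeroExt A M) where
  ρ B _ _ := (LinearMap.GeneralLinearGroup.generalLinearEquiv B _).toMonoidHom.comp
    (actHom ρA ρM B).toHomUnits
  naturality {B B'} _ _ _ _ φ g x := by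
    change VecGrp.Wmap φ (actEnd ρA ρM B g x) = actEnd ρA ρM B' (VecGrp.ptMap φ ≫ g) (VecGrp.Wmap φ x)
    rw [actEnd_apply, actEnd_apply, map_add, VecGrp.baseChange_natural, VecGrp.baseChange_natural,
      ρA.naturality, ρM.naturality, VecGrp.baseChange_natural, VecGrp.baseChange_natural]

theorem gmod_apply (B : Type u) [CommRing B] [Algebra k B] (g : VecGrp.pt k B ⟶ G)
    (x : B ⊗[k] TrivSqZeroExt A M) :
    (gmod ρA ρM).ρ B g x =
      iA k A M B (ρA.ρ B g (pA k A M B x)) + iM k A M B (ρM.ρ B g (pM k A M B x)) := rfl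

theorem gmod_isMult (hρ : ρA.IsMult) (hc : VecGrp.GMod.IsCompat ρA ρM) : (gmod ρA ρM).IsMult := by
  intro B _ _ g
  refine ⟨fun x y => ?_, ?_⟩
  · rw [gmod_apply, gmod_apply, gmod_apply, mul_decomp, pA_mul, pM_mul, (hρ B g).1, map_add,
      hc, hc]
  · rw [gmod_apply, pA_one, pM_one, (hρ B g).2, map_zero, map_zero, add_zero, iA_one]

theorem fst_mem_of_mem_fixed {r : TrivSqZeroExt A M}
    (hr : r ∈ (gmod ρA ρM).fixedUnder (𝟙 G)) : r.fst ∈ ρA.fixedUnder (𝟙 G) := by
  intro B _ _ h
  have h1 := hr B h
  rw [gmod_apply] at h1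
  have h2 := congrArg (pA k A M B) h1
  rw [map_add, pA_iA, pA_iM, add_zero] at h2
  simpa using h2

theorem snd_mem_of_mem_fixed {r : TrivSqZeroExt A M}
    (hr : r ∈ (gmod ρA ρM).fixedUnder (𝟙 G)) : r.snd ∈ ρM.fixedUnder (𝟙 G) := by
  intro B _ _ h
  have h1 := hr B h
  rw [gmod_apply] at h1
  have h2 := congrArg (pM k A M B) h1
  rw [map_add, pM_iA, pM_iM, zero_add] at h2
  simpa using h2

theorem inr_mem_fixed {m : M} (hm : m ∈ ρM.fixedUnder (𝟙 G)) :
    (inr m : TrivSqZeroExt A M) ∈ (gmod ρA ρM).fixedUnder (𝟙 G) := by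
  intro B _ _ h
  rw [gmod_apply]
  have h1 := hm B h
  simp only [LinearMap.baseChange_tmul, qA_apply, qM_apply, fst_inr, snd_inr,
    TensorProduct.tmul_zero, map_zero, zero_add]
  rw [h1, LinearMap.baseChange_tmul, jM_apply]

end Action

end

end Groth.Agent.Lib.Helper59.SqZeroGMod
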