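import Groth.Agent.Lib.Helper59.ZmtNbhd
import Groth.Agent.Lib.Helper59.OrbitClosure
import Groth.Agent.H40.PtAct

/-! # The locus of points with finite stabiliser is open

For an action of an affine algebraic group `G = Spec A` on `X = Spec R` over an algebraically
closed field, a rational point with finite stabiliser has a basic open neighbourhood all of whose
rational points have finite stabiliser. -/

set_option autoImplicit false
universe u v
open TensorProduct WithConv

namespace Groth.Agent.Lib.Helper59.StabOpen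

open Groth.Agent.Lib.Helper59.LinRed Groth.Agent.Lib.Helper84.Points Groth.Agent.H40.PtAct
open Groth.Agent.Lib.Helper93.Comod

section Basic

variable {k : Type u} [Field k] {A : Type v} [CommRing A] [HopfAlgebra k A]
variable {R : Type v} [CommRing R] [Algebra k R] [HopfRep.Comod k A R]

variable (A) in
/-- The stabiliser of a rational point, as a set of rational points of the group. -/
def stab (x : R →ₐ[k] k) : Set (A →ₐ[k] k) :=
  {g | ∀ f : R, x (HopfRep.Comod.act k A R g f) = x f}

/-- The pairing of a point of `X` and a point of `G` on `R ⊗ A`. -/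
noncomputable abbrev pair (z : R →ₐ[k] k) (g : A →ₐ[k] k) : R ⊗[k] A →ₐ[k] k :=
  Algebra.TensorProduct.lift z g (fun _ _ => Commute.all _ _)

theorem pair_coact (z : R →ₐ[k] k) (g : A →ₐ[k] k) (f : R) :
    pair z g (HopfRep.Comod.coact (k := k) (A := A) f) = z (HopfRep.Comod.act k A R g f) := by
  rw [Groth.Agent.Lib.Helper59.LinRed.act_eq_dualAct, dualAct_apply]
  generalize HopfRep.Comod.coact (k := k) (A := A) f = t
  induction t using TensorProduct.induction_on with
  | zero => simp
  | tmul r a => simp [mul_comm]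
  | add a b ha hb => simp only [map_add, ha, hb]

theorem one_mem_stab (z : R →ₐ[k] k) : (1 : Pt k A k).ofConv ∈ stab A z := fun f => by
  rw [act_one]

theorem mul_mem_stab (z : R →ₐ[k] k) {p q : Pt k A k} (hp : p.ofConv ∈ stab A z)
    (hq : q.ofConv ∈ stab A z) : (p * q).ofConv ∈ stab A z := fun f => by
  rw [act_mul, hp, hq]

theorem inv_mem_stab (z : R →ₐ[k] k) {p : Pt k A k} (hp : p.ofConv ∈ stab A z) :
    p⁻¹.ofConv ∈ stab A z := fun f => by
  rw [← hp, act_act_inv]

/-- Stabilisers of points in the same orbit are conjugate. -/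
theorem stab_finite_of_act (x z : R →ₐ[k] k) (g : A →ₐ[k] k)
    (hg : ∀ f : R, z f = x (HopfRep.Comod.act k A R g f)) (hfin : (stab A x).Finite) :
    (stab A z).Finite := by
  let F : (A →ₐ[k] k) → (A →ₐ[k] k) := fun h =>
    ((toConv g : Pt k A k) * (toConv h : Pt k A k) * (toConv g : Pt k A k)⁻¹).ofConv
  refine Set.Finite.of_injOn (f := F) ?_ ?_ hfin
  · intro h hh f
    change x (HopfRep.Comod.act k A R
      ((toConv g : Pt k A k) * (toConv h : Pt k A k) * (toConv g : Pt k A k)⁻¹).ofConv f) = x f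
    rw [act_mul, act_mul]
    have h3 := act_act_inv (V := R) (toConv g : Pt k A k) f
    rw [WithConv.ofConv_toConv] at h3 ⊢
    rw [WithConv.ofConv_toConv, ← hg, hh, hg, h3]
  · intro h _ h' _ hhh
    have e1 := WithConv.ofConv_injective hhh
    have e2 := mul_left_cancel (mul_right_cancel e1)
    exact WithConv.toConv_injective e2

/-- Left translation on the coordinate ring. -/
noncomputable def trans (g : A →ₐ[k] k) : A →ₐ[k] A :=
  (Algebra.TensorProduct.lift ((Algebra.ofId k A).comp g) (AlgHom.id k A)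
    (fun _ _ => Commute.all _ _)).comp (Bialgebra.comulAlgHom k A)

theorem apply_trans (g h : Pt k A k) (a : A) :
    h.ofConv (trans g.ofConv a) = (g * h).ofConv a := by
  rw [mul_apply]
  have : h.ofConv.comp (Algebra.TensorProduct.lift ((Algebra.ofId k A).comp g.ofConv)
      (AlgHom.id k A) (fun _ _ => Commute.all _ _)) =
      Algebra.TensorProduct.lift g.ofConv h.ofConv (fun _ _ => Commute.all _ _) := by
    apply Algebra.TensorProduct.ext'
    intro a b
    simp
  rw [← this]
  rfl

end Basic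

section Isolated

variable {k : Type u} [Field k] [IsAlgClosed k] {A : Type v} [CommRing A] [HopfAlgebra k A]
  [Algebra.FiniteType k A]

omit [IsAlgClosed k] [Algebra.FiniteType k A] in
/-- If a basic open neighbourhood of the identity meets `S` in a finite set, a smaller one meets
`S` in the identity only. -/
theorem exists_isolating (S : Set (A →ₐ[k] k)) (s₀ : A)
    (h1 : (1 : Pt k A k).ofConv s₀ ≠ 0) (hfin : {g ∈ S | g s₀ ≠ 0}.Finite) :
    ∃ s : A, (1 : Pt k A k).ofConv s ≠ 0 ∧
      ∀ g ∈ S, g s ≠ 0 → g = (1 : Pt k A k).ofConv := by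
  classical
  set e : A →ₐ[k] k := (1 : Pt k A k).ofConv with he
  have hex : ∀ u : A →ₐ[k] k, ∃ a : A, u ≠ e → u a ≠ e a := by
    intro u
    by_cases hu : u = e
    · exact ⟨0, fun h => absurd hu h⟩
    · have : ∃ a, u a ≠ e a := by
        by_contra hcon
        push Not at hcon
        exact hu (AlgHom.ext hcon)
      obtain ⟨a, ha⟩ := this
      exact ⟨a, fun _ => ha⟩
  choose a ha using hex
  let U : Finset (A →ₐ[k] k) := hfin.toFinset.erase e
  refine ⟨s₀ * ∏ u ∈ U, (a u - algebraMap k A (u (a u))), ?_, ?_⟩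
  · rw [map_mul, map_prod]
    refine mul_ne_zero h1 ?_
    rw [Finset.prod_ne_zero_iff]
    intro u hu
    have hue : u ≠ e := (Finset.mem_erase.mp hu).1
    rw [map_sub, AlgHom.commutes]
    have := ha u hue
    intro h0
    apply this
    rw [sub_eq_zero] at h0
    simpa using h0.symm
  · intro g hgS hgs
    by_contra hge
    rw [map_mul, map_prod] at hgs
    have hg0 : g s₀ ≠ 0 := left_ne_zero_of_mul hgs
    have hgU : g ∈ U := by
      rw [Finset.mem_erase]
      refine ⟨hge, ?_⟩
      rw [Set.Finite.mem_toFinset]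
      exact ⟨hgS, hg0⟩
    apply hgs
    rw [Finset.prod_eq_zero hgU, mul_zero]
    rw [map_sub, AlgHom.commutes]
    simp

/-- A closed subgroup of the group of rational points in which the identity is isolated is
finite. -/
theorem finite_of_isolated (S : Set (A →ₐ[k] k)) (T : Set A)
    (hST : ∀ g : A →ₐ[k] k, g ∈ S ↔ ∀ t ∈ T, g t = 0)
    (hmul : ∀ p q : Pt k A k, p.ofConv ∈ S → q.ofConv ∈ S → (p * q).ofConv ∈ S)
    (hinv : ∀ p : Pt k A k, p.ofConv ∈ S → p⁻¹.ofConv ∈ S)
    (s : A) (hs1 : (1 : Pt k A k).ofConv s ≠ 0)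
    (hs : ∀ g ∈ S, g s ≠ 0 → g = (1 : Pt k A k).ofConv) : S.Finite := by
  classical
  let T₂ : Set A := (fun g : A →ₐ[k] k => trans (toConv g : Pt k A k)⁻¹.ofConv s) '' S
  have htop : Ideal.span (T ∪ T₂) = ⊤ := by
    by_contra hne
    obtain ⟨h, hh⟩ := exists_algHom_of_ne_top k A _ hne
    have hhS : h ∈ S := (hST h).mpr fun t ht => hh t (Ideal.subset_span (Or.inl ht))
    have h0 := hh _ (Ideal.subset_span (Or.inr ⟨h, hhS, rfl⟩))
    have h2 := apply_trans (toConv h : Pt k A k)⁻¹ (toConv h : Pt k A k) s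
    rw [inv_mul_cancel] at h2
    rw [WithConv.ofConv_toConv] at h2
    rw [h2] at h0
    exact hs1 h0
  obtain ⟨s', hs', hs'top⟩ := (Ideal.span_eq_top_iff_finite _).mp htop
  have hcover : S ⊆ ⋃ t ∈ s', {h | h ∈ S ∧ h t ≠ 0} := by
    intro h hhS
    by_contra hcon
    simp only [Set.mem_iUnion, Set.mem_ofPred_eq, not_exists, not_and, not_not] at hcon
    have hle : Ideal.span (s' : Set A) ≤ RingHom.ker h := by
      rw [Ideal.span_le]
      intro t ht
      exact hcon t ht hhS
    rw [hs'top] at hle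
    have : (1 : A) ∈ RingHom.ker h := hle trivial
    rw [RingHom.mem_ker, map_one] at this
    exact one_ne_zero this
  refine Set.Finite.subset (Set.Finite.biUnion s'.finite_toSet fun t ht => ?_) hcover
  rcases hs' ht with htT | ⟨g, hgS, rfl⟩
  · refine Set.Finite.subset Set.finite_empty ?_
    rintro h ⟨hhS, hht⟩
    exact hht ((hST h).mp hhS t htT)
  · refine Set.Finite.subset (Set.finite_singleton g) ?_
    rintro h ⟨hhS, hht⟩
    have h2 := apply_trans (toConv g : Pt k A k)⁻¹ (toConv h : Pt k A k) s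
    rw [WithConv.ofConv_toConv] at h2
    rw [h2] at hht
    have hmem : ((toConv g : Pt k A k)⁻¹ * (toConv h : Pt k A k)).ofConv ∈ S :=
      hmul _ _ (hinv _ (by rw [WithConv.ofConv_toConv]; exact hgS))
        (by rw [WithConv.ofConv_toConv]; exact hhS)
    have h3 := hs _ hmem hht
    have h4 := WithConv.ofConv_injective h3
    have h5 : (toConv h : Pt k A k) = toConv g := by
      rw [inv_mul_eq_one] at h4
      exact h4.symm
    exact WithConv.toConv_injective h5

end Isolated

section Graph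

variable {k : Type u} [Field k] {A : Type v} [CommRing A] [HopfAlgebra k A]
variable {R : Type v} [CommRing R] [Algebra k R] [HopfRep.Comod k A R]

variable (k A R) in
/-- The ideal of the stabiliser scheme `{(x, g) | x g = x}` in `X × G`. -/
def cIdeal : Ideal (R ⊗[k] A) :=
  Ideal.span (Set.range fun f : R => HopfRep.Comod.coact (k := k) (A := A) f - f ⊗ₜ[k] (1 : A))

theorem pair_eq_zero_of_mem_cIdeal (z : R →ₐ[k] k) (g : A →ₐ[k] k) (hg : g ∈ stab A z) :
    ∀ a ∈ cIdeal k A R, pair z g a = 0 := by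
  intro a ha
  have hle : cIdeal k A R ≤ RingHom.ker (pair z g) := by
    rw [cIdeal, Ideal.span_le]
    rintro _ ⟨f, rfl⟩
    change pair z g _ = 0
    rw [map_sub, pair_coact, hg f]
    simp
  exact hle ha

/-- The rational point of the stabiliser scheme attached to a point and an element of its
stabiliser. -/
noncomputable def chi (z : R →ₐ[k] k) (g : A →ₐ[k] k) (hg : g ∈ stab A z) :
    ((R ⊗[k] A) ⧸ cIdeal k A R) →ₐ[k] k :=
  Ideal.Quotient.liftₐ (cIdeal k A R) (pair z g) (pair_eq_zero_of_mem_cIdeal z g hg)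

theorem chi_mk (z : R →ₐ[k] k) (g : A →ₐ[k] k) (hg : g ∈ stab A z) (t : R ⊗[k] A) :
    chi z g hg (Ideal.Quotient.mk (cIdeal k A R) t) = pair z g t := rfl

/-- The group component of a rational point of the stabiliser scheme. -/
noncomputable def grp (χ : ((R ⊗[k] A) ⧸ cIdeal k A R) →ₐ[k] k) : A →ₐ[k] k :=
  (χ.comp (Ideal.Quotient.mkₐ k (cIdeal k A R))).comp Algebra.TensorProduct.includeRight

theorem grp_chi (z : R →ₐ[k] k) (g : A →ₐ[k] k) (hg : g ∈ stab A z) : grp (chi z g hg) = g := by
  apply AlgHom.ext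
  intro a
  change pair z g ((1 : R) ⊗ₜ[k] a) = g a
  simp

theorem comp_mk_eq_pair (χ : ((R ⊗[k] A) ⧸ cIdeal k A R) →ₐ[k] k) (z : R →ₐ[k] k)
    (hz : ∀ a : R, χ (algebraMap R ((R ⊗[k] A) ⧸ cIdeal k A R) a) = z a) :
    χ.comp (Ideal.Quotient.mkₐ k (cIdeal k A R)) = pair z (grp χ) := by
  apply Algebra.TensorProduct.ext'
  intro r a
  have h1 : r ⊗ₜ[k] a = (r ⊗ₜ[k] (1 : A)) * ((1 : R) ⊗ₜ[k] a) := by
    rw [Algebra.TensorProduct.tmul_mul_tmul, mul_one, one_mul]
  rw [h1, map_mul, map_mul]
  congr 1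
  · have := hz r
    change χ (Ideal.Quotient.mk _ (r ⊗ₜ[k] (1 : A))) = _
    have h2 : pair z (grp χ) (r ⊗ₜ[k] (1 : A)) = z r := by simp
    rw [h2, ← this]
    rfl
  · have h2 : pair z (grp χ) ((1 : R) ⊗ₜ[k] a) = grp χ a := by simp
    rw [h2]
    rfl

theorem grp_mem_stab (χ : ((R ⊗[k] A) ⧸ cIdeal k A R) →ₐ[k] k) (z : R →ₐ[k] k)
    (hz : ∀ a : R, χ (algebraMap R ((R ⊗[k] A) ⧸ cIdeal k A R) a) = z a) :
    grp χ ∈ stab A z := by
  intro f
  rw [← pair_coact, ← comp_mk_eq_pair χ z hz, ← hz f]
  change χ (Ideal.Quotient.mk _ _) = χ (Ideal.Quotient.mk _ (f ⊗ₜ[k] (1 : A)))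
  congr 1
  rw [Ideal.Quotient.eq]
  exact Ideal.subset_span ⟨f, rfl⟩

variable [IsAlgClosed k] [Algebra.FiniteType k A] [Algebra.FiniteType k R]

/-- Zariski's main theorem for the stabiliser scheme: near a point with finite stabiliser, the
stabilisers meet a fixed neighbourhood of the identity section in finite sets. -/
theorem exists_nbhd (z : R →ₐ[k] k) (hfin : (stab A z).Finite) :
    ∃ t : R ⊗[k] A, pair z (1 : Pt k A k).ofConv t ≠ 0 ∧
      ∀ z' : R →ₐ[k] k, {g | g ∈ stab A z' ∧ pair z' g t ≠ 0}.Finite := by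
  classical
  have hχfin : {χ : ((R ⊗[k] A) ⧸ cIdeal k A R) →ₐ[k] k |
      ∀ a : R, χ (algebraMap R ((R ⊗[k] A) ⧸ cIdeal k A R) a) =
        chi z (1 : Pt k A k).ofConv (one_mem_stab z)
          (algebraMap R ((R ⊗[k] A) ⧸ cIdeal k A R) a)}.Finite := by
    have hz0 : ∀ a : R, chi z (1 : Pt k A k).ofConv (one_mem_stab z)
        (algebraMap R ((R ⊗[k] A) ⧸ cIdeal k A R) a) = z a := by
      intro a
      change pair z _ (a ⊗ₜ[k] (1 : A)) = z a
      simp
    refine Set.Finite.of_injOn (f := grp) ?_ ?_ hfin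
    · intro χ hχ
      exact grp_mem_stab χ z fun a => by rw [hχ a, hz0]
    · intro χ hχ χ' hχ' h
      have e1 := comp_mk_eq_pair χ z fun a => by rw [hχ a, hz0]
      have e2 := comp_mk_eq_pair χ' z fun a => by rw [hχ' a, hz0]
      rw [h, ← e2] at e1
      apply AlgHom.ext
      intro c
      obtain ⟨c, rfl⟩ := Ideal.Quotient.mk_surjective c
      exact AlgHom.congr_fun e1 c
  obtain ⟨r, hr, hall⟩ := Groth.Agent.Lib.Helper59.ZmtNbhd.exists_nbhd_finite_fibres k
    (R := R) (C := (R ⊗[k] A) ⧸ cIdeal k A R) _ hχfin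
  obtain ⟨t, rfl⟩ := Ideal.Quotient.mk_surjective r
  refine ⟨t, hr, fun z' => ?_⟩
  refine Set.Finite.subset ((hall z').image grp) ?_
  rintro g ⟨hg, hgt⟩
  refine ⟨chi z' g hg, ⟨fun a => ?_, hgt⟩, grp_chi z' g hg⟩
  change pair z' g (a ⊗ₜ[k] (1 : A)) = z' a
  simp

end Graph

section Main

variable {k : Type u} [Field k] [IsAlgClosed k] {A : Type v} [CommRing A] [HopfAlgebra k A]
  [Algebra.FiniteType k A]
variable {R : Type v} [CommRing R] [Algebra k R] [HopfRep.Comod k A R] [Algebra.FiniteType k R]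

/-- **Openness of the finite-stabiliser locus**: a rational point with finite stabiliser has a
basic open neighbourhood all of whose rational points have finite stabiliser. -/
theorem exists_basicOpen_finite_stab
    (hmul : ∀ f g : R, HopfRep.Comod.coact (k := k) (A := A) (f * g) =
      HopfRep.Comod.coact (k := k) (A := A) f * HopfRep.Comod.coact (k := k) (A := A) g)
    (hone : HopfRep.Comod.coact (k := k) (A := A) (1 : R) = 1)
    (z : R →ₐ[k] k) (hfin : (stab A z).Finite) :
    ∃ h : R, z h ≠ 0 ∧ ∀ z' : R →ₐ[k] k, z' h ≠ 0 → (stab A z').Finite := by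
  classical
  obtain ⟨t, ht, hall⟩ := exists_nbhd z hfin
  let h : R := Algebra.TensorProduct.lift (AlgHom.id k R)
    ((Algebra.ofId k R).comp (1 : Pt k A k).ofConv) (fun _ _ => Commute.all _ _) t
  have fact1 : ∀ z' : R →ₐ[k] k, z' h = pair z' (1 : Pt k A k).ofConv t := by
    intro z'
    have : z'.comp (Algebra.TensorProduct.lift (AlgHom.id k R)
        ((Algebra.ofId k R).comp (1 : Pt k A k).ofConv) (fun _ _ => Commute.all _ _)) =
        pair z' (1 : Pt k A k).ofConv := by
      apply Algebra.TensorProduct.ext'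
      intro a b
      simp
    rw [← this]
    rfl
  refine ⟨h, by rw [fact1]; exact ht, fun z' hz' => ?_⟩
  let s₀ : A := Algebra.TensorProduct.lift ((Algebra.ofId k A).comp z') (AlgHom.id k A)
    (fun _ _ => Commute.all _ _) t
  have fact2 : ∀ g : A →ₐ[k] k, g s₀ = pair z' g t := by
    intro g
    have : g.comp (Algebra.TensorProduct.lift ((Algebra.ofId k A).comp z') (AlgHom.id k A)
        (fun _ _ => Commute.all _ _)) = pair z' g := by
      apply Algebra.TensorProduct.ext'
      intro a b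
      simp
    rw [← this]
    rfl
  have h1 : (1 : Pt k A k).ofConv s₀ ≠ 0 := by
    rw [fact2, ← fact1]
    exact hz'
  have hfin' : {g ∈ stab A z' | g s₀ ≠ 0}.Finite := by
    refine Set.Finite.subset (hall z') ?_
    rintro g ⟨hg, hgs⟩
    exact ⟨hg, by rw [← fact2]; exact hgs⟩
  obtain ⟨s, hs1, hs⟩ := exists_isolating (stab A z') s₀ h1 hfin'
  refine finite_of_isolated (stab A z')
    (Set.range fun f : R => orbitAlg hmul hone z' f - algebraMap k A (z' f)) ?_
    (fun p q hp hq => mul_mem_stab z' hp hq) (fun p hp => inv_mem_stab z' hp) s hs1 hs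
  intro g
  constructor
  · rintro hg _ ⟨f, rfl⟩
    rw [map_sub, algHom_apply_orbitAlg, AlgHom.commutes, hg f]
    simp
  · intro hg f
    have := hg _ ⟨f, rfl⟩
    rw [map_sub, algHom_apply_orbitAlg, AlgHom.commutes, sub_eq_zero] at this
    simpa using this

end Main

end Groth.Agent.Lib.Helper59.StabOpen
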