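import Groth.Agent.Lib.Helper59.OrbitClosure
import Groth.Agent.Lib.Helper84.UnipPts
import Groth.Agent.Lib.Helper84.Points
import Groth.Agent.H40.CommonPt
import Groth.Agent.H40.StableOrbit
import Groth.Agent.Lib.Helper59.StabOpen

/-! # Stable points of a linearly reductive group action on an affine scheme of finite type

General forms (any characteristic, no integrality assumption on `R`) of the results on closed
orbits in the fibres of the affine quotient and on stable points. -/

set_option autoImplicit false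
universe u
open TensorProduct

namespace Groth.Agent.Lib.Helper59.StableGen


open Groth.Agent.Lib.Helper59.LinRed Groth.Agent.Lib.Helper93.Comod Groth.Agent.Lib.Helper84.UnipPts in
theorem convPt_mul_inv {k : Type u} [Field k] {A : Type u} [CommRing A] [HopfAlgebra k A]
    (g : A →ₐ[k] k) :
    convPt g (g.comp (HopfAlgebra.antipodeAlgHom k A)) = Bialgebra.counitAlgHom k A := by
  have h := Groth.Agent.Lib.Helper84.RPoints.mul_inv_point (k := k) (A := A) (R := k) g
  have h2 := congrArg (fun w => (WithConv.ofConv w).toLinearMap) h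
  apply AlgHom.toLinearMap_injective
  rw [convPt_toLinearMap]
  exact h2

theorem closedOrbit_in_fibre (k : Type u) [Field k] [IsAlgClosed k]
    (A : Type u) [CommRing A] [HopfAlgebra k A] [Algebra.FiniteType k A]
    (hG : HopfRep.IsLinearlyReductive k A)
    (R : Type u) [CommRing R] [Algebra k R] [HopfRep.Comod k A R] [Algebra.FiniteType k R]
    (hmul : ∀ f g : R, HopfRep.Comod.coact (k := k) (A := A) (f * g) = HopfRep.Comod.coact (k := k) (A := A) f * HopfRep.Comod.coact (k := k) (A := A) g)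
    (hone : HopfRep.Comod.coact (k := k) (A := A) (1 : R) = 1)
    (x : R →ₐ[k] k) :
    ∃ y : R →ₐ[k] k,
      (∀ z : R →ₐ[k] k, (∀ f : R, (∀ g : A →ₐ[k] k, y (HopfRep.Comod.act k A R g f) = 0) → z f = 0) →
          ∃ g : A →ₐ[k] k, ∀ f : R, z f = y (HopfRep.Comod.act k A R g f)) ∧
      (∀ x' : R →ₐ[k] k, (∀ f ∈ HopfRep.fixedPts k A R, x' f = x f) →
          ∀ f : R, (∀ g : A →ₐ[k] k, x' (HopfRep.Comod.act k A R g f) = 0) → y f = 0) ∧
      (∀ y' : R →ₐ[k] k, (∀ f ∈ HopfRep.fixedPts k A R, y' f = x f) →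
          (∀ z : R →ₐ[k] k, (∀ f : R, (∀ g : A →ₐ[k] k, y' (HopfRep.Comod.act k A R g f) = 0) → z f = 0) →
          ∃ g : A →ₐ[k] k, ∀ f : R, z f = y' (HopfRep.Comod.act k A R g f)) →
            ∃ g : A →ₐ[k] k, ∀ f : R, y' f = y (HopfRep.Comod.act k A R g f)) := by
  classical
  obtain ⟨E, hE⟩ := Groth.Agent.Lib.Helper59.LinRed.exists_isReynolds (V := R) hG
  have h1fix : (1 : R) ∈ HopfRep.fixedPts k A R := by
    change HopfRep.Comod.coact (k := k) (A := A) (1 : R) = (1 : R) ⊗ₜ[k] (1 : A)
    rw [hone]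
    rfl
  -- the property defining the family of ideals
  let P : Ideal R → Prop := fun I =>
    HopfRep.IsSubcomod (k := k) (A := A) (I.restrictScalars k) ∧
      ∀ f ∈ I, f ∈ HopfRep.fixedPts k A R → x f = 0
  have hPsup : ∀ I I' : Ideal R, P I → P I' → P (I ⊔ I') := by
    intro I I' hI hI'
    refine ⟨?_, ?_⟩
    · rw [Groth.Agent.Lib.Helper93.Comod.isSubcomod_iff]
      intro φ w hw
      have hw' : w ∈ I ⊔ I' := hw
      obtain ⟨a, ha, b, hb, rfl⟩ := Submodule.mem_sup.mp hw'
      change Groth.Agent.Lib.Helper93.Comod.dualAct A R φ (a + b) ∈ I ⊔ I'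
      rw [map_add]
      exact Submodule.add_mem_sup
        ((Groth.Agent.Lib.Helper93.Comod.isSubcomod_iff _).mp hI.1 φ a ha)
        ((Groth.Agent.Lib.Helper93.Comod.isSubcomod_iff _).mp hI'.1 φ b hb)
    · intro f hf hfix
      obtain ⟨a, ha, b, hb, rfl⟩ := Submodule.mem_sup.mp hf
      have hEa : E a ∈ I := hE.apply_mem_of_isSubcomod hG _ hI.1 ha
      have hEb : E b ∈ I' := hE.apply_mem_of_isSubcomod hG _ hI'.1 hb
      have : a + b = E a + E b := by rw [← map_add, hE.apply_of_mem hfix]
      rw [this, map_add, hI.2 _ hEa (hE.apply_mem a), hI'.2 _ hEb (hE.apply_mem b), add_zero]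
  -- the ideal of the fibre of the quotient map through `x`
  let J₀ : Ideal R := Ideal.span {r | ∃ m ∈ HopfRep.fixedPts k A R, r = m - algebraMap k R (x m)}
  have hxJ₀ : ∀ f ∈ J₀, x f = 0 := by
    have : J₀ ≤ RingHom.ker x.toRingHom := by
      rw [Ideal.span_le]
      rintro _ ⟨m, hm, rfl⟩
      change x.toRingHom (m - algebraMap k R (x m)) = 0
      simp
    intro f hf
    exact this hf
  have hgenfix : ∀ m ∈ HopfRep.fixedPts k A R,
      m - algebraMap k R (x m) ∈ HopfRep.fixedPts k A R := by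
    intro m hm
    apply Submodule.sub_mem _ hm
    rw [Algebra.algebraMap_eq_smul_one]
    exact Submodule.smul_mem _ _ h1fix
  have hPJ₀ : P J₀ := by
    refine ⟨?_, fun f hf _ => hxJ₀ f hf⟩
    rw [Groth.Agent.Lib.Helper93.Comod.isSubcomod_iff]
    intro φ w hw
    have hw' : w ∈ J₀ := hw
    change Groth.Agent.Lib.Helper93.Comod.dualAct A R φ w ∈ J₀
    have key : ∀ w ∈ J₀, ∀ r : R, Groth.Agent.Lib.Helper93.Comod.dualAct A R φ (r * w) ∈ J₀ := by
      intro w hw
      induction hw using Submodule.span_induction with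
      | mem s hs =>
        obtain ⟨m, hm, rfl⟩ := hs
        intro r
        have hc := Groth.Agent.Lib.Helper93.Comod.dualAct_comm_of_isComodHom
          (LinearMap.mulRight k (m - algebraMap k R (x m)))
          (Groth.Agent.Lib.Helper59.LinRed.isComodHom_mulRight hmul (hgenfix m hm)) φ r
        simp only [LinearMap.mulRight_apply] at hc
        rw [hc]
        exact Ideal.mul_mem_left _ _ (Ideal.subset_span ⟨m, hm, rfl⟩)
      | zero => intro r; rw [mul_zero, map_zero]; exact zero_mem _
      | add a b _ _ ha hb => intro r; rw [mul_add, map_add]; exact add_mem (ha r) (hb r)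
      | smul a b _ hb => intro r; rw [smul_eq_mul, ← mul_assoc]; exact hb (r * a)
    have := key w hw' 1
    rwa [one_mul] at this
  -- a maximal element of the family
  have hnoeth : IsNoetherianRing R := Algebra.FiniteType.isNoetherianRing k R
  obtain ⟨I, hPI, hImax⟩ := set_has_maximal_iff_noetherian.mpr hnoeth {I | P I} ⟨J₀, hPJ₀⟩
  have hle : ∀ I' : Ideal R, P I' → I' ≤ I := by
    intro I' hI'
    have h1 := hImax (I ⊔ I') (hPsup I I' hPI hI')
    have h3 : I ⊔ I' = I := by
      by_contra hne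
      exact h1 (lt_of_le_of_ne le_sup_left (Ne.symm hne))
    rw [← h3]
    exact le_sup_right
  have hItop : I ≠ ⊤ := by
    intro h
    have := hPI.2 1 (by rw [h]; trivial) h1fix
    rw [map_one] at this
    exact one_ne_zero this
  obtain ⟨y, hy⟩ := Groth.Agent.Lib.Helper59.exists_algHom_of_ne_top k R I hItop
  have hinv : ∀ w : R →ₐ[k] k, (∀ f ∈ I, w f = 0) →
      ∀ f ∈ HopfRep.fixedPts k A R, w f = x f := by
    intro w hw f hf
    have h1 : f - algebraMap k R (x f) ∈ J₀ := Ideal.subset_span ⟨f, hf, rfl⟩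
    have h2 := hw _ (hle J₀ hPJ₀ h1)
    rw [map_sub, AlgHom.commutes, sub_eq_zero] at h2
    simpa using h2
  have hPker : ∀ w : R →ₐ[k] k, (∀ f ∈ HopfRep.fixedPts k A R, w f = x f) →
      P (RingHom.ker (Groth.Agent.Lib.Helper59.LinRed.orbitAlg hmul hone w)) := by
    intro w hw
    refine ⟨Groth.Agent.Lib.Helper59.LinRed.isSubcomod_ker_orbitAlg hmul hone w,
      fun f hf hfix => ?_⟩
    rw [← hw f hfix]
    exact Groth.Agent.Lib.Helper59.LinRed.apply_eq_zero_of_orbitAlg_eq_zero hmul hone w hf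
  have hker : ∀ w : R →ₐ[k] k, (∀ f ∈ I, w f = 0) →
      RingHom.ker (Groth.Agent.Lib.Helper59.LinRed.orbitAlg hmul hone w) = I := by
    intro w hw
    apply le_antisymm (hle _ (hPker w (hinv w hw)))
    intro f hf
    rw [RingHom.mem_ker, Groth.Agent.Lib.Helper59.LinRed.orbitAlg_eq_zero_iff]
    intro ψ
    exact hw _ ((Groth.Agent.Lib.Helper93.Comod.isSubcomod_iff _).mp hPI.1 ψ f hf)
  refine ⟨y, ?_, ?_, ?_⟩
  · -- the orbit of `y` is closed
    intro z hz
    have hzI : ∀ f ∈ I, z f = 0 := by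
      intro f hf
      apply hz
      intro g
      exact hy _ ((Groth.Agent.Lib.Helper93.Comod.isSubcomod_iff _).mp hPI.1 g.toLinearMap f hf)
    have hKy := hker y hy
    have hKz := hker z hzI
    let αy : R ⧸ I →ₐ[k] A := Ideal.Quotient.liftₐ I
      (Groth.Agent.Lib.Helper59.LinRed.orbitAlg hmul hone y)
      (fun f hf => by rw [← hKy] at hf; exact hf)
    let αz : R ⧸ I →ₐ[k] A := Ideal.Quotient.liftₐ I
      (Groth.Agent.Lib.Helper59.LinRed.orbitAlg hmul hone z)
      (fun f hf => by rw [← hKz] at hf; exact hf)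
    have hiy : Function.Injective αy := by
      rw [injective_iff_map_eq_zero]
      intro b hb
      obtain ⟨f, rfl⟩ := Ideal.Quotient.mk_surjective b
      have h0 : Groth.Agent.Lib.Helper59.LinRed.orbitAlg hmul hone y f = 0 := hb
      rw [Ideal.Quotient.eq_zero_iff_mem, ← hKy]
      exact h0
    have hiz : Function.Injective αz := by
      rw [injective_iff_map_eq_zero]
      intro b hb
      obtain ⟨f, rfl⟩ := Ideal.Quotient.mk_surjective b
      have h0 : Groth.Agent.Lib.Helper59.LinRed.orbitAlg hmul hone z f = 0 := hb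
      rw [Ideal.Quotient.eq_zero_iff_mem, ← hKz]
      exact h0
    have hnt : Nontrivial (R ⧸ I) := Ideal.Quotient.nontrivial_iff.mpr hItop
    obtain ⟨g, h, hgh⟩ := Groth.Agent.H40.CommonPt.exists_common_point k αy αz hiy hiz
    have key : ∀ f : R, y (HopfRep.Comod.act k A R g f) = z (HopfRep.Comod.act k A R h f) := by
      intro f
      have h0 := hgh (Ideal.Quotient.mk I f)
      have e1 : αy (Ideal.Quotient.mk I f) =
          Groth.Agent.Lib.Helper59.LinRed.orbitAlg hmul hone y f := rfl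
      have e2 : αz (Ideal.Quotient.mk I f) =
          Groth.Agent.Lib.Helper59.LinRed.orbitAlg hmul hone z f := rfl
      rw [e1, e2, Groth.Agent.Lib.Helper59.LinRed.algHom_apply_orbitAlg,
        Groth.Agent.Lib.Helper59.LinRed.algHom_apply_orbitAlg] at h0
      exact h0
    refine ⟨Groth.Agent.Lib.Helper84.UnipPts.convPt g (h.comp (HopfAlgebra.antipodeAlgHom k A)),
      fun f => ?_⟩
    rw [← Groth.Agent.Lib.Helper84.UnipPts.act_act, key,
      Groth.Agent.Lib.Helper84.UnipPts.act_act, convPt_mul_inv,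
      Groth.Agent.Lib.Helper84.UnipPts.act_counit]
  · -- `y` lies in the closure of every orbit in the class of `x`
    intro x' hx' f hf
    have hle' := hle _ (hPker x' hx')
    exact Groth.Agent.Lib.Helper59.LinRed.apply_eq_zero_of_forall_act hmul hone x' y
      (fun f' hf' => hy _ (hle' hf')) hf
  · -- uniqueness of the closed orbit
    intro y' hy' hclosed
    have hle' := hle _ (hPker y' hy')
    obtain ⟨g, hg⟩ := hclosed y (fun f hf =>
      Groth.Agent.Lib.Helper59.LinRed.apply_eq_zero_of_forall_act hmul hone y' y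
        (fun f' hf' => hy _ (hle' hf')) hf)
    refine ⟨g.comp (HopfAlgebra.antipodeAlgHom k A), fun f => ?_⟩
    rw [hg, Groth.Agent.Lib.Helper84.UnipPts.act_act, convPt_mul_inv,
      Groth.Agent.Lib.Helper84.UnipPts.act_counit]



theorem exists_invariant_separating (k : Type u) [Field k] [IsAlgClosed k]
    (A : Type u) [CommRing A] [HopfAlgebra k A] [Algebra.FiniteType k A]
    (hG : HopfRep.IsLinearlyReductive k A)
    (R : Type u) [CommRing R] [Algebra k R] [HopfRep.Comod k A R] [Algebra.FiniteType k R]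
    (hmul : ∀ f g : R, HopfRep.Comod.coact (k := k) (A := A) (f * g) = HopfRep.Comod.coact (k := k) (A := A) f * HopfRep.Comod.coact (k := k) (A := A) g)
    (hone : HopfRep.Comod.coact (k := k) (A := A) (1 : R) = 1)
    (x : R →ₐ[k] k)
    (hclosed : ∀ z : R →ₐ[k] k,
      (∀ f : R, (∀ g : A →ₐ[k] k, x (HopfRep.Comod.act k A R g f) = 0) → z f = 0) →
        ∃ g : A →ₐ[k] k, ∀ f : R, z f = x (HopfRep.Comod.act k A R g f))
    (hfin : {g : A →ₐ[k] k | ∀ f : R, x (HopfRep.Comod.act k A R g f) = x f}.Finite)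
    (y : R →ₐ[k] k) (hy : ∀ g : A →ₐ[k] k, ∃ f : R, y f ≠ x (HopfRep.Comod.act k A R g f)) :
    ∃ f ∈ HopfRep.fixedPts k A R, x f ≠ y f := by
  classical
  by_contra hcon
  push Not at hcon
  obtain ⟨y₀, h1, h2, h3⟩ := closedOrbit_in_fibre k A hG R hmul hone x
  obtain ⟨g₀, hg₀⟩ := h3 x (fun f _ => rfl) hclosed
  have hy₀ := h2 y (fun f hf => (hcon f hf).symm)
  have hK : RingHom.ker (Groth.Agent.Lib.Helper59.LinRed.orbitAlg hmul hone y) ≤
      RingHom.ker (Groth.Agent.Lib.Helper59.LinRed.orbitAlg hmul hone x) := by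
    intro f hf
    rw [RingHom.mem_ker, Groth.Agent.Lib.Helper59.LinRed.orbitAlg_eq_zero_iff]
    intro ψ
    have hf' : Groth.Agent.Lib.Helper59.LinRed.orbitAlg hmul hone y
        (Groth.Agent.Lib.Helper93.Comod.dualAct A R ψ f) = 0 :=
      (Groth.Agent.Lib.Helper93.Comod.isSubcomod_iff _).mp
        (Groth.Agent.Lib.Helper59.LinRed.isSubcomod_ker_orbitAlg hmul hone y) ψ f hf
    rw [hg₀]
    apply hy₀
    intro g
    rw [Groth.Agent.Lib.Helper84.UnipPts.act_act,
      ← Groth.Agent.Lib.Helper59.LinRed.algHom_apply_orbitAlg hmul hone, hf', map_zero]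
  obtain ⟨g, hg⟩ :=
    Groth.Agent.H40.StableOrbit.exists_act_eq_of_ker_le k A R hmul hone x y hfin hK
  obtain ⟨f, hf⟩ := hy g
  exact hf (hg f)



theorem stable_iff_fibre_finite (k : Type u) [Field k] [IsAlgClosed k]
    (A : Type u) [CommRing A] [HopfAlgebra k A] [Algebra.FiniteType k A]
    (hG : HopfRep.IsLinearlyReductive k A)
    (R : Type u) [CommRing R] [Algebra k R] [HopfRep.Comod k A R] [Algebra.FiniteType k R]
    (hmul : ∀ f g : R, HopfRep.Comod.coact (k := k) (A := A) (f * g) = HopfRep.Comod.coact (k := k) (A := A) f * HopfRep.Comod.coact (k := k) (A := A) g)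
    (hone : HopfRep.Comod.coact (k := k) (A := A) (1 : R) = 1)
    (x : R →ₐ[k] k) :
    ((∀ z : R →ₐ[k] k, (∀ f : R, (∀ g : A →ₐ[k] k, x (HopfRep.Comod.act k A R g f) = 0) → z f = 0) →
          ∃ g : A →ₐ[k] k, ∀ f : R, z f = x (HopfRep.Comod.act k A R g f)) ∧
      {g : A →ₐ[k] k | ∀ f : R, x (HopfRep.Comod.act k A R g f) = x f}.Finite) ↔
    ∀ z : R →ₐ[k] k, (∀ f ∈ HopfRep.fixedPts k A R, z f = x f) →
      {g : A →ₐ[k] k | ∀ f : R, z (HopfRep.Comod.act k A R g f) = z f}.Finite := by
  classical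
  have h1fix : (1 : R) ∈ HopfRep.fixedPts k A R := by
    change HopfRep.Comod.coact (k := k) (A := A) (1 : R) = (1 : R) ⊗ₜ[k] (1 : A)
    rw [hone]
    rfl
  constructor
  · rintro ⟨hclosed, hfin⟩ z hz
    by_cases hO : ∃ g : A →ₐ[k] k, ∀ f : R, z f = x (HopfRep.Comod.act k A R g f)
    · obtain ⟨g, hg⟩ := hO
      let F : (A →ₐ[k] k) → (A →ₐ[k] k) := fun h =>
        ((WithConv.toConv g : Groth.Agent.Lib.Helper84.Points.Pt k A k) *
          (WithConv.toConv h : Groth.Agent.Lib.Helper84.Points.Pt k A k) *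
          (WithConv.toConv g : Groth.Agent.Lib.Helper84.Points.Pt k A k)⁻¹).ofConv
      refine Set.Finite.of_injOn (f := F) ?_ ?_ hfin
      · intro h hh f
        change x (HopfRep.Comod.act k A R
          ((WithConv.toConv g : Groth.Agent.Lib.Helper84.Points.Pt k A k) *
          (WithConv.toConv h : Groth.Agent.Lib.Helper84.Points.Pt k A k) *
          (WithConv.toConv g : Groth.Agent.Lib.Helper84.Points.Pt k A k)⁻¹).ofConv f) = x f
        rw [Groth.Agent.H40.PtAct.act_mul, Groth.Agent.H40.PtAct.act_mul]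
        have h3 := Groth.Agent.H40.PtAct.act_act_inv (V := R)
          (WithConv.toConv g : Groth.Agent.Lib.Helper84.Points.Pt k A k) f
        rw [WithConv.ofConv_toConv] at h3 ⊢
        rw [WithConv.ofConv_toConv, ← hg, hh, hg, h3]
      · intro h _ h' _ hhh
        have e1 := WithConv.ofConv_injective hhh
        have e2 := mul_left_cancel (mul_right_cancel e1)
        exact WithConv.toConv_injective e2
    · exfalso
      push Not at hO
      obtain ⟨f, hf, hne⟩ := exists_invariant_separating k A hG R hmul hone x hclosed hfin z hO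
      exact hne (hz f hf).symm
  · intro hall
    have hfinx := hall x (fun f _ => rfl)
    refine ⟨?_, hfinx⟩
    obtain ⟨y₀, h1, h2, h3⟩ := closedOrbit_in_fibre k A hG R hmul hone x
    have hy₀x := h2 x (fun f _ => rfl)
    have hy₀inv : ∀ f ∈ HopfRep.fixedPts k A R, y₀ f = x f := by
      intro f hf
      have hf' : f - algebraMap k R (x f) ∈ HopfRep.fixedPts k A R := by
        apply Submodule.sub_mem _ hf
        rw [Algebra.algebraMap_eq_smul_one]
        exact Submodule.smul_mem _ _ h1fix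
      have h0 := hy₀x (f - algebraMap k R (x f)) (fun g => by
        rw [Groth.Agent.Lib.Helper59.LinRed.act_of_mem_fixedPts g hf', map_sub, AlgHom.commutes]
        simp)
      rw [map_sub, AlgHom.commutes, sub_eq_zero] at h0
      simpa using h0
    have hfiny₀ := hall y₀ hy₀inv
    have hK : RingHom.ker (Groth.Agent.Lib.Helper59.LinRed.orbitAlg hmul hone x) ≤
        RingHom.ker (Groth.Agent.Lib.Helper59.LinRed.orbitAlg hmul hone y₀) := by
      intro f hf
      rw [RingHom.mem_ker, Groth.Agent.Lib.Helper59.LinRed.orbitAlg_eq_zero_iff]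
      intro ψ
      have hf' : Groth.Agent.Lib.Helper59.LinRed.orbitAlg hmul hone x
          (Groth.Agent.Lib.Helper93.Comod.dualAct A R ψ f) = 0 :=
        (Groth.Agent.Lib.Helper93.Comod.isSubcomod_iff _).mp
          (Groth.Agent.Lib.Helper59.LinRed.isSubcomod_ker_orbitAlg hmul hone x) ψ f hf
      apply hy₀x
      intro g
      rw [← Groth.Agent.Lib.Helper59.LinRed.algHom_apply_orbitAlg hmul hone, hf', map_zero]
    obtain ⟨g, hg⟩ :=
      Groth.Agent.H40.StableOrbit.exists_act_eq_of_ker_le k A R hmul hone y₀ x hfiny₀ hK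
    intro z hz
    have hz' : ∀ f : R, (∀ h : A →ₐ[k] k, y₀ (HopfRep.Comod.act k A R h f) = 0) → z f = 0 := by
      intro f hf
      apply hz
      intro h
      rw [hg, Groth.Agent.Lib.Helper84.UnipPts.act_act]
      exact hf _
    obtain ⟨h', hh'⟩ := h1 z hz'
    refine ⟨((WithConv.toConv g : Groth.Agent.Lib.Helper84.Points.Pt k A k)⁻¹ *
      (WithConv.toConv h' : Groth.Agent.Lib.Helper84.Points.Pt k A k)).ofConv, fun f => ?_⟩
    rw [Groth.Agent.H40.PtAct.act_mul, hg]
    have h4 := Groth.Agent.H40.PtAct.act_act_inv (V := R)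
      (WithConv.toConv g : Groth.Agent.Lib.Helper84.Points.Pt k A k)
      (HopfRep.Comod.act k A R h' f)
    rw [WithConv.ofConv_toConv] at h4 ⊢
    rw [h4, hh']



theorem exists_invariants_cutting_out_stable (k : Type u) [Field k] [IsAlgClosed k]
    (A : Type u) [CommRing A] [HopfAlgebra k A] [Algebra.FiniteType k A]
    (hG : HopfRep.IsLinearlyReductive k A)
    (R : Type u) [CommRing R] [Algebra k R] [HopfRep.Comod k A R] [Algebra.FiniteType k R]
    (hmul : ∀ f g : R, HopfRep.Comod.coact (k := k) (A := A) (f * g) = HopfRep.Comod.coact (k := k) (A := A) f * HopfRep.Comod.coact (k := k) (A := A) g)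
    (hone : HopfRep.Comod.coact (k := k) (A := A) (1 : R) = 1) :
    ∃ S : Set R, S ⊆ HopfRep.fixedPts k A R ∧
      ∀ x : R →ₐ[k] k,
        ((∀ z : R →ₐ[k] k, (∀ f : R, (∀ g : A →ₐ[k] k, x (HopfRep.Comod.act k A R g f) = 0) → z f = 0) →
          ∃ g : A →ₐ[k] k, ∀ f : R, z f = x (HopfRep.Comod.act k A R g f)) ∧
          {g : A →ₐ[k] k | ∀ f : R, x (HopfRep.Comod.act k A R g f) = x f}.Finite) ↔
        ∃ f ∈ S, x f ≠ 0 := by
  classical
  have h1fix : (1 : R) ∈ HopfRep.fixedPts k A R := by
    change HopfRep.Comod.coact (k := k) (A := A) (1 : R) = (1 : R) ⊗ₜ[k] (1 : A)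
    rw [hone]
    rfl
  let Z : Set (R →ₐ[k] k) := {z | ¬ (Groth.Agent.Lib.Helper59.StabOpen.stab A z).Finite}
  refine ⟨{f | f ∈ HopfRep.fixedPts k A R ∧ ∀ z ∈ Z, z f = 0}, fun f hf => hf.1, fun x => ?_⟩
  constructor
  · rintro ⟨hclosed, hfin⟩
    obtain ⟨E, hE⟩ := Groth.Agent.Lib.Helper59.LinRed.exists_isReynolds (V := R) hG
    have hE1 : E 1 = 1 := hE.apply_of_mem h1fix
    -- the ideal of the locus of infinite stabilisers
    let b : Ideal R := ⨅ z ∈ Z, RingHom.ker (Groth.Agent.Lib.Helper59.LinRed.orbitAlg hmul hone z)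
    have hbmem : ∀ f : R, f ∈ b ↔
        ∀ z ∈ Z, Groth.Agent.Lib.Helper59.LinRed.orbitAlg hmul hone z f = 0 := by
      intro f
      simp only [b, Submodule.mem_iInf, RingHom.mem_ker]
    have hbsub : HopfRep.IsSubcomod (k := k) (A := A) (b.restrictScalars k) := by
      rw [Groth.Agent.Lib.Helper93.Comod.isSubcomod_iff]
      intro φ f hf
      change _ ∈ b
      rw [hbmem]
      intro z hz
      exact (Groth.Agent.Lib.Helper93.Comod.isSubcomod_iff _).mp
        (Groth.Agent.Lib.Helper59.LinRed.isSubcomod_ker_orbitAlg hmul hone z) φ f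
        ((hbmem f).mp hf z hz)
    -- the locus is stable under the group
    have hZstable : ∀ z ∈ Z, ∀ g : A →ₐ[k] k,
        g.comp (Groth.Agent.Lib.Helper59.LinRed.orbitAlg hmul hone z) ∈ Z := by
      intro z hz g hfin'
      apply hz
      refine Groth.Agent.Lib.Helper59.StabOpen.stab_finite_of_act
        (g.comp (Groth.Agent.Lib.Helper59.LinRed.orbitAlg hmul hone z)) z
        ((WithConv.toConv g : Groth.Agent.Lib.Helper84.Points.Pt k A k)⁻¹).ofConv ?_ hfin'
      intro f
      change z f = g (Groth.Agent.Lib.Helper59.LinRed.orbitAlg hmul hone z _)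
      rw [Groth.Agent.Lib.Helper59.LinRed.algHom_apply_orbitAlg]
      have h4 := Groth.Agent.H40.PtAct.act_act_inv (V := R)
        (WithConv.toConv g : Groth.Agent.Lib.Helper84.Points.Pt k A k) f
      rw [WithConv.ofConv_toConv] at h4
      rw [h4]
    have : IsNoetherianRing A := Algebra.FiniteType.isNoetherianRing k A
    obtain ⟨N, hN⟩ := IsNoetherianRing.isNilpotent_nilradical A
    have htop : RingHom.ker (Groth.Agent.Lib.Helper59.LinRed.orbitAlg hmul hone x) ⊔ b = ⊤ := by
      by_contra hne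
      obtain ⟨w, hw⟩ := Groth.Agent.Lib.Helper59.exists_algHom_of_ne_top k R _ hne
      obtain ⟨g, hg⟩ := hclosed w fun f hf =>
        Groth.Agent.Lib.Helper59.LinRed.apply_eq_zero_of_forall_act hmul hone x w
          (fun f' hf' => hw f' (Submodule.mem_sup_left hf')) hf
      have hwfin : (Groth.Agent.Lib.Helper59.StabOpen.stab A w).Finite :=
        Groth.Agent.Lib.Helper59.StabOpen.stab_finite_of_act x w g hg hfin
      obtain ⟨h, hwh, hall⟩ :=
        Groth.Agent.Lib.Helper59.StabOpen.exists_basicOpen_finite_stab hmul hone w hwfin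
      have hhb : h ^ N ∈ b := by
        rw [hbmem]
        intro z hz
        have hnil : IsNilpotent (Groth.Agent.Lib.Helper59.LinRed.orbitAlg hmul hone z h) := by
          apply Groth.Agent.Lib.Helper59.LinRed.isNilpotent_of_forall_algHom_eq_zero k A
          intro g'
          by_contra hne'
          exact hZstable z hz g' (hall _ hne')
        have hmem : Groth.Agent.Lib.Helper59.LinRed.orbitAlg hmul hone z h ∈ nilradical A :=
          (mem_nilradical).mpr hnil
        have := Ideal.pow_mem_pow hmem N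
        rw [hN] at this
        rw [map_pow]
        exact this
      have := hw _ (Submodule.mem_sup_right hhb)
      rw [map_pow] at this
      exact hwh (eq_zero_of_pow_eq_zero this)
    have h1 : (1 : R) ∈ RingHom.ker (Groth.Agent.Lib.Helper59.LinRed.orbitAlg hmul hone x) ⊔ b := by
      rw [htop]; trivial
    obtain ⟨a, ha, c, hc, hac⟩ := Submodule.mem_sup.mp h1
    have hEa : E a ∈ RingHom.ker (Groth.Agent.Lib.Helper59.LinRed.orbitAlg hmul hone x) :=
      hE.apply_mem_of_isSubcomod hG _
        (Groth.Agent.Lib.Helper59.LinRed.isSubcomod_ker_orbitAlg hmul hone x) ha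
    have hEc : E c ∈ b := hE.apply_mem_of_isSubcomod hG _ hbsub hc
    have hxa : x (E a) = 0 :=
      Groth.Agent.Lib.Helper59.LinRed.apply_eq_zero_of_orbitAlg_eq_zero hmul hone x hEa
    refine ⟨E c, ⟨hE.apply_mem c, fun z hz => ?_⟩, ?_⟩
    · exact Groth.Agent.Lib.Helper59.LinRed.apply_eq_zero_of_orbitAlg_eq_zero hmul hone z
        ((hbmem _).mp hEc z hz)
    · have h2 : x (E (a + c)) = 1 := by rw [hac, hE1, map_one]
      rw [map_add, map_add, hxa, zero_add] at h2
      rw [h2]
      exact one_ne_zero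
  · rintro ⟨f, ⟨hf, hfZ⟩, hxf⟩
    rw [stable_iff_fibre_finite k A hG R hmul hone x]
    intro z hz
    by_contra hcon
    exact hxf (by rw [← hz f hf]; exact hfZ z hcon)


end Groth.Agent.Lib.Helper59.StableGen
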