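import Groth.Agent.Lib.Helper59.CotTSmooth
import Groth.Agent.Lib.Helper59.CotTIndep
import Mathlib.Algebra.Category.ModuleCat.Ext.HasExt
import Mathlib.Algebra.Homology.DerivedCategory.Ext.Linear
import Mathlib.Algebra.Homology.DerivedCategory.Ext.ExactSequences
import Mathlib.Algebra.Homology.DerivedCategory.Ext.EnoughProjectives

/-!
`T²(B/k, B) ≅ Ext¹_B(I/I², B)` for a reduced finitely presented `k`-algebra (helper59):
* every `B`-linear map `L₂ → B` kills `ker d₂` (the kernel is locally zero at the minimal primes, where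
  `B` is a field and the ideal is generated by a regular sequence);
* `T²(M) ≅ Hom(K, M)/Hom(L₁, M)` whenever all maps `L₂ → M` kill `ker d₂`, `K = ker (L₁ → I/I²)`;
* `Ext¹(I/I², M) ≅ Hom(K, M)/Hom(L₁, M)` from `0 → K → L₁ → I/I² → 0`.
-/

set_option autoImplicit false
universe u t

open TensorProduct CotT

namespace Groth.Agent.Lib.Helper59.T2Ext


section Local

open Groth.Agent.Lib.Helper59.SyzLocal

variable {R : Type u} [CommRing R] [IsDomain R] [IsNoetherianRing R]
  {F : Type*} [AddCommGroup F] [Module R F] (j : F →ₗ[R] R)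

theorem exists_smul_mem_triv_of_prime (𝔫 : Ideal R) [𝔫.IsPrime]
    [IsRegularLocalRing (Localization.AtPrime 𝔫)]
    (hSI : IsRegularLocalRing (Localization.AtPrime 𝔫 ⧸
      Ideal.map (algebraMap R (Localization.AtPrime 𝔫)) (LinearMap.range j : Ideal R)))
    (x : F) (hx : j x = 0) (hxI : x ∈ (LinearMap.range j : Ideal R) • (⊤ : Submodule R F)) :
    ∃ s, s ∉ 𝔫 ∧ s • x ∈ triv j := by
  obtain ⟨rs, hrs, hI⟩ := Groth.Agent.H8.RegLocalQuot.exists_regular
    (Localization.AtPrime 𝔫) _ hSI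
  obtain ⟨g, hg, ⟨u₀, hu₀, ha⟩, hb⟩ :=
    local_data 𝔫 (LinearMap.range j : Ideal R) rs hrs.toIsWeaklyRegular hI
  choose f hf using hg
  obtain rfl : g = fun i => j (f i) := funext fun i => (hf i).symm
  exact exists_smul_mem_triv_of_local j 𝔫 f u₀ hu₀ ha hb x hx hxI

end Local

section Field

theorem isRegularLocalRing_of_isField {S : Type*} [CommRing S] [IsLocalRing S] (h : IsField S) :
    IsRegularLocalRing S := by
  have := h.isDomain
  have := h.isPrincipalIdealRing
  infer_instance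

theorem isRegularLocalRing_of_minimal {B : Type*} [CommRing B] [IsReduced B] (p : Ideal B)
    [p.IsPrime] (hp : p ∈ minimalPrimes B) : IsRegularLocalRing (Localization.AtPrime p) := by
  have : Ring.KrullDimLE 0 (Localization.AtPrime p) := .of_isLocalization _ hp _
  exact isRegularLocalRing_of_isField Ring.KrullDimLE.isField_of_isReduced

end Field

section Iso

variable {R B : Type u} [CommRing R] [CommRing B] [Algebra R B]

theorem isRegularLocalRing_quot_map' (hsurj : Function.Surjective (algebraMap R B))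
    (𝔫 : Ideal R) [𝔫.IsPrime] (hI : RingHom.ker (algebraMap R B) ≤ 𝔫)
    (hB : ∀ (_ : (𝔫.map (algebraMap R B)).IsPrime),
      IsRegularLocalRing (Localization.AtPrime (𝔫.map (algebraMap R B)))) :
    IsRegularLocalRing (Localization.AtPrime 𝔫 ⧸
      (RingHom.ker (algebraMap R B)).map (algebraMap R (Localization.AtPrime 𝔫))) := by
  set I := RingHom.ker (algebraMap R B) with hIdef
  let S := Localization.AtPrime 𝔫
  let S' := S ⧸ I.map (algebraMap R S)
  have hp : (𝔫.map (algebraMap R B)).IsPrime := Ideal.map_isPrime_of_surjective hsurj hI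
  let g : R →+* S' := (Ideal.Quotient.mk (I.map (algebraMap R S))).comp (algebraMap R S)
  have hg : RingHom.ker (algebraMap R B) ≤ RingHom.ker g := by
    intro x hx
    rw [RingHom.mem_ker]
    change Ideal.Quotient.mk _ (algebraMap R S x) = 0
    exact Ideal.Quotient.eq_zero_iff_mem.mpr (Ideal.mem_map_of_mem _ hx)
  let φ : B →+* S' := RingHom.liftOfSurjective (algebraMap R B) hsurj ⟨g, hg⟩
  letI : Algebra B S' := φ.toAlgebra
  have hφ : φ.comp (algebraMap R B) = g := RingHom.liftOfSurjective_comp _ hsurj ⟨g, hg⟩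
  have hloc : IsLocalization (𝔫.primeCompl.map (algebraMap R B)) S' :=
    IsLocalization.of_surjective 𝔫.primeCompl S (algebraMap R B) hsurj
      (Ideal.Quotient.mk (I.map (algebraMap R S))) Ideal.Quotient.mk_surjective hφ.symm
      (by rw [Ideal.mk_ker])
  have hmon : 𝔫.primeCompl.map (algebraMap R B) = (𝔫.map (algebraMap R B)).primeCompl := by
    ext x
    constructor
    · rintro ⟨y, hy, rfl⟩ hmem
      obtain ⟨n, hn, hny⟩ := (Ideal.mem_map_iff_of_surjective _ hsurj).mp hmem
      have : y - n ∈ I := by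
        rw [hIdef, RingHom.mem_ker, map_sub, hny, sub_self]
      have hy' : y ∈ 𝔫 := by
        have := add_mem (hI this) hn
        rwa [sub_add_cancel] at this
      exact hy hy'
    · intro hx
      obtain ⟨y, rfl⟩ := hsurj x
      refine ⟨y, fun hy => hx (Ideal.mem_map_of_mem _ hy), rfl⟩
  rw [hmon] at hloc
  have : IsLocalization.AtPrime S' (𝔫.map (algebraMap R B)) := hloc
  have := hB hp
  exact IsRegularLocalRing.of_ringEquiv
    (IsLocalization.algEquiv (𝔫.map (algebraMap R B)).primeCompl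
      (Localization.AtPrime (𝔫.map (algebraMap R B))) S').toRingEquiv

theorem isRegularLocalRing_quot_comap (hsurj : Function.Surjective (algebraMap R B))
    (p : Ideal B) [p.IsPrime] (hB : IsRegularLocalRing (Localization.AtPrime p)) :
    IsRegularLocalRing (Localization.AtPrime (p.comap (algebraMap R B)) ⧸
      (RingHom.ker (algebraMap R B)).map
        (algebraMap R (Localization.AtPrime (p.comap (algebraMap R B))))) := by
  have hI : RingHom.ker (algebraMap R B) ≤ p.comap (algebraMap R B) := by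
    intro x hx
    rw [Ideal.mem_comap, (RingHom.mem_ker).mp hx]
    exact p.zero_mem
  have hmap : (p.comap (algebraMap R B)).map (algebraMap R B) = p :=
    Ideal.map_comap_of_surjective _ hsurj p
  have aux : ∀ (q : Ideal B) (hq : q.IsPrime), q = p →
      IsRegularLocalRing (Localization.AtPrime q) := by
    intro q hq h
    subst h
    exact hB
  exact isRegularLocalRing_quot_map' hsurj _ hI (fun h => aux _ h hmap)

end Iso

section Main

variable {k B : Type u} [Field k] [CommRing B] [Algebra k B] {ι : Type u} [Finite ι] {σ : Type t}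
  (P : Algebra.Presentation k B ι σ)

local instance : IsDomain P.toExtension.Ring := inferInstanceAs (IsDomain (MvPolynomial ι k))
local instance : IsNoetherianRing P.toExtension.Ring :=
  inferInstanceAs (IsNoetherianRing (MvPolynomial ι k))
local instance : IsRegularRing P.toExtension.Ring := inferInstanceAs (IsRegularRing (MvPolynomial ι k))

theorem exists_smul_mem_trivRel (p : Ideal B) [p.IsPrime]
    (hp : IsRegularLocalRing (Localization.AtPrime p))
    (q : relMod P) (hq : q ∈ relKer P)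
    (hqI : q ∈ (P.toExtension.ker • (⊤ : Submodule P.toExtension.Ring (relMod P)))) :
    ∃ s : P.toExtension.Ring, algebraMap P.toExtension.Ring B s ∉ p ∧ s • q ∈ trivRel P := by
  have hker : (LinearMap.range (jmap P) : Ideal P.toExtension.Ring) =
      RingHom.ker (algebraMap P.toExtension.Ring B) := range_jmap P
  have hsurj : Function.Surjective (algebraMap P.toExtension.Ring B) :=
    P.toExtension.algebraMap_surjective
  have hSI := isRegularLocalRing_quot_comap hsurj p hp
  rw [← hker] at hSI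
  have hqI' : q ∈ (LinearMap.range (jmap P) : Ideal P.toExtension.Ring) •
      (⊤ : Submodule P.toExtension.Ring (relMod P)) := by
    rw [hker]
    exact hqI
  obtain ⟨s, hs, hsq⟩ := exists_smul_mem_triv_of_prime (jmap P) (p.comap (algebraMap P.toExtension.Ring B))
    hSI q hq hqI'
  exact ⟨s, hs, hsq⟩

theorem hom_apply_eq_zero_of_d2_eq_zero [IsReduced B] (φ : L2 P →ₗ[B] B) (z : L2 P)
    (hz : d2 P z = 0) : φ z = 0 := by
  obtain ⟨y, rfl⟩ := Submodule.Quotient.mk_surjective _ z
  obtain ⟨q, rfl⟩ := Groth.Agent.Lib.Helper59.CotTSmooth.exists_one_tmul P y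
  rw [d2_mk_tmul] at hz
  have hqI := Groth.Agent.Lib.Helper59.CotTSmooth.mem_ker_smul_top_of_one_tmul_eq_zero P
    (q : relMod P) hz
  have hmem : ∀ p ∈ minimalPrimes B, φ (Submodule.Quotient.mk ((1 : B) ⊗ₜ q)) ∈ p := by
    intro p hp
    have := hp.1.1
    obtain ⟨s, hs, hsq⟩ := exists_smul_mem_trivRel P p (isRegularLocalRing_of_minimal p hp)
      (q : relMod P) q.2 hqI
    have h0 : Groth.Agent.Lib.Helper59.CotTIndep.κ0 P (s • q) = 0 :=
      Groth.Agent.Lib.Helper59.CotTIndep.κ0_eq_zero P (s • q) hsq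
    rw [map_smul, ← algebraMap_smul B s, Groth.Agent.Lib.Helper59.CotTIndep.κ0_apply] at h0
    have h1 : algebraMap P.toExtension.Ring B s * φ (Submodule.Quotient.mk ((1 : B) ⊗ₜ q)) = 0 := by
      rw [← smul_eq_mul, ← map_smul, h0, map_zero]
    exact (Ideal.IsPrime.mem_or_mem_of_mul_eq_zero inferInstance h1).resolve_left hs
  have hnil : φ (Submodule.Quotient.mk ((1 : B) ⊗ₜ q)) ∈ nilradical B := by
    rw [nilradical_eq_sInf, Ideal.mem_sInf]
    intro p hp
    have : p.IsPrime := hp
    obtain ⟨p', hp', hle⟩ := Ideal.exists_minimalPrimes_le (bot_le : (⊥ : Ideal B) ≤ p)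
    exact hle (hmem p' hp')
  rwa [nilradical_eq_zero, Ideal.zero_eq_bot, Ideal.mem_bot] at hnil

end Main



section LinAlg

variable {A B : Type u} [CommRing A] [CommRing B] [Algebra A B] {ι σ : Type u}
  (P : Algebra.Presentation A B ι σ) (M : Type u) [AddCommGroup M] [Module B M]

/-- `K = ker (L₁ → I/I²)` -/
noncomputable abbrev K : Submodule B (L1 P) := LinearMap.ker (toCot P)

/-- `L₂ → K` induced by `d₂`. -/
noncomputable def pK : L2 P →ₗ[B] K P :=
  LinearMap.codRestrict (K P) (d2 P) fun z => LinearMap.congr_fun (toCot_comp_d2 P) z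

theorem pK_coe (z : L2 P) : (pK P z : L1 P) = d2 P z := rfl

theorem pK_surjective : Function.Surjective (pK P) := by
  intro y
  obtain ⟨z, hz⟩ := Groth.Agent.Lib.Helper59.CotTSmooth.ker_toCot_le_range_d2 P y.2
  exact ⟨z, Subtype.ext hz⟩

/-- restriction `Hom(L₁, M) → Hom(K, M)`. -/
noncomputable def resK : (L1 P →ₗ[B] M) →ₗ[B] (K P →ₗ[B] M) := LinearMap.lcomp B M (K P).subtype

/-- `Hom(K, M) → T²`. -/
noncomputable def Θ : (K P →ₗ[B] M) →ₗ[B] T2 P M := toT2 P M ∘ₗ LinearMap.lcomp B M (pK P)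

theorem Θ_surjective (hkill : ∀ (ψ : L2 P →ₗ[B] M) (z : L2 P), d2 P z = 0 → ψ z = 0) :
    Function.Surjective (Θ P M) := by
  intro t
  obtain ⟨ψ, rfl⟩ := Submodule.Quotient.mk_surjective _ t
  obtain ⟨φ, hφ⟩ := Groth.Agent.Lib.Helper59.CotTIndep.exists_factor (pK P) (pK_surjective P) ψ
    (fun x y hxy => by
      have h1 : d2 P (x - y) = 0 := by
        rw [map_sub, ← pK_coe, ← pK_coe, hxy, sub_self]
      have h2 := hkill ψ (x - y) h1
      rw [map_sub, sub_eq_zero] at h2
      exact h2)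
  refine ⟨φ, ?_⟩
  have h3 : φ ∘ₗ pK P = ψ := LinearMap.ext hφ
  change toT2 P M (φ ∘ₗ pK P) = _
  rw [h3]
  rfl

theorem ker_Θ : LinearMap.ker (Θ P M) = LinearMap.range (resK P M) := by
  ext φ
  rw [LinearMap.mem_ker, LinearMap.mem_range]
  change toT2 P M (φ ∘ₗ pK P) = 0 ↔ _
  rw [toT2, Submodule.mkQ_apply, Submodule.Quotient.mk_eq_zero, LinearMap.mem_range]
  constructor
  · rintro ⟨χ, hχ⟩
    refine ⟨χ, LinearMap.ext fun y => ?_⟩
    obtain ⟨z, rfl⟩ := pK_surjective P y
    have := LinearMap.congr_fun hχ z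
    exact this
  · rintro ⟨χ, rfl⟩
    exact ⟨χ, rfl⟩

theorem T2_equiv_quot (hkill : ∀ (ψ : L2 P →ₗ[B] M) (z : L2 P), d2 P z = 0 → ψ z = 0) :
    Nonempty (T2 P M ≃ₗ[B] ((K P →ₗ[B] M) ⧸ LinearMap.range (resK P M))) :=
  ⟨((Submodule.quotEquivOfEq _ _ (ker_Θ P M)).symm.trans
    ((Θ P M).quotKerEquivOfSurjective (Θ_surjective P M hkill))).symm⟩

end LinAlg

section ExtSide

open CategoryTheory Abelian

variable {A B : Type u} [CommRing A] [CommRing B] [Algebra A B] {ι σ : Type u}
  (P : Algebra.Presentation A B ι σ) (M : Type u) [AddCommGroup M] [Module B M]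

/-- the short exact sequence `0 → K → L₁ → I/I² → 0`. -/
noncomputable abbrev SK : ShortComplex (ModuleCat.{u} B) := (toCot P).shortComplexKer

theorem SK_shortExact : (SK P).ShortExact :=
  LinearMap.shortExact_shortComplexKer (Groth.Agent.Lib.Helper59.CotTSmooth.toCot_surjective P)

instance : Module.Free B (L1 P) := Module.Free.of_basis (L1basis P)

/-- `Ext⁰(K, M) ≃ Hom(K, M)`. -/
noncomputable def E0K : Ext (SK P).X₁ (ModuleCat.of B M) 0 ≃ₗ[B] (K P →ₗ[B] M) :=
  (Ext.linearEquiv₀ (R := B)).trans ModuleCat.homLinearEquiv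

theorem E0K_symm_apply (φ : K P →ₗ[B] M) :
    (E0K P M).symm φ = Ext.mk₀ (ModuleCat.ofHom φ) := rfl

/-- the connecting map `Hom(K, M) → Ext¹(I/I², M)`. -/
noncomputable def Ψ : (K P →ₗ[B] M) →ₗ[B] Ext (SK P).X₃ (ModuleCat.of B M) 1 :=
  (Ext.precompOfLinear (SK_shortExact P).extClass B (ModuleCat.of B M) (add_zero 1)) ∘ₗ
    (E0K P M).symm.toLinearMap

theorem Ψ_apply (φ : K P →ₗ[B] M) :
    Ψ P M φ = (SK_shortExact P).extClass.comp (Ext.mk₀ (ModuleCat.ofHom φ)) (add_zero 1) := rfl

theorem Ψ_surjective : Function.Surjective (Ψ P M) := by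
  intro x₃
  obtain ⟨x₁, hx₁⟩ := Ext.contravariant_sequence_exact₃ (SK_shortExact P) (ModuleCat.of B M) x₃
    (Ext.eq_zero_of_projective _) (add_zero 1)
  refine ⟨E0K P M x₁, ?_⟩
  rw [Ψ, LinearMap.comp_apply, LinearEquiv.coe_coe, LinearEquiv.symm_apply_apply]
  exact hx₁

theorem ker_Ψ : LinearMap.ker (Ψ P M) = LinearMap.range (resK P M) := by
  ext φ
  rw [LinearMap.mem_ker, LinearMap.mem_range, Ψ_apply]
  constructor
  · intro h
    obtain ⟨x₂, hx₂⟩ := Ext.contravariant_sequence_exact₁ (SK_shortExact P) (ModuleCat.of B M)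
      (Ext.mk₀ (ModuleCat.ofHom φ)) (add_zero 1) h
    obtain ⟨g, rfl⟩ := (Ext.mk₀_bijective _ _).2 x₂
    rw [Ext.mk₀_comp_mk₀] at hx₂
    have h2 := (Ext.mk₀_bijective _ _).1 hx₂
    refine ⟨g.hom, ?_⟩
    have h3 := congrArg ModuleCat.Hom.hom h2
    exact h3
  · rintro ⟨χ, rfl⟩
    have h1 : ModuleCat.ofHom (resK P M χ) = (SK P).f ≫ ModuleCat.ofHom χ := rfl
    rw [h1, ← Ext.mk₀_comp_mk₀, ← Ext.comp_assoc_of_second_deg_zero,
      (SK_shortExact P).extClass_comp, Ext.zero_comp]

theorem ext_equiv_quot :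
    Nonempty (Ext (ModuleCat.of B P.toExtension.Cotangent) (ModuleCat.of B M) 1 ≃ₗ[B]
      ((K P →ₗ[B] M) ⧸ LinearMap.range (resK P M))) :=
  ⟨((Submodule.quotEquivOfEq _ _ (ker_Ψ P M)).symm.trans
    ((Ψ P M).quotKerEquivOfSurjective (Ψ_surjective P M))).symm⟩

end ExtSide

end Groth.Agent.Lib.Helper59.T2Ext
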