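import Mathlib
import Groth.Prelude.Def_ArtFun2
import Groth.Agent.Lib.Helper58.SchlTangent

/-!
# The vector-space structure on the tangent space under `H0` and `Heps` (helper59)

Uses helper58's `kV r = k ⊕ k^r` and `bijective_prV : F(kV r) ≅ t_F^r`.  For `t : Fin r → t_F` and
`c : Fin r → k` we define `ev t c = "∑ c_i t_i"` as `F(dotV c)` of the element of `F(kV r)` with
coordinates `t`; a composition law for `ev` gives all axioms.
-/

set_option autoImplicit false
universe u v

namespace Groth.Agent.Lib.Helper59.TangentStrMk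

open ArtFun ArtFun.Art CategoryTheory Groth.Agent.Lib.Helper58.Schl

variable {Λ : Type u} {k : Type u} [CommRing Λ] [Field k] [Algebra Λ k]

/-- the map `kV r ⟶ kV s` with matrix `M` (rows indexed by `Fin s`) -/
noncomputable def kVlin {r s : ℕ} (M : Fin s → Fin r → k) : kV Λ k r ⟶ kV Λ k s :=
  ⟨tszeMap (LinearMap.pi (fun j => dotLin (M j))), AlgHom.ext fun _ => rfl⟩

/-- row vector times matrix -/
def vecMul {r s : ℕ} (d : Fin s → k) (M : Fin s → Fin r → k) : Fin r → k :=
  fun i => ∑ j, d j * M j i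

theorem kVlin_prV {r s : ℕ} (M : Fin s → Fin r → k) (j : Fin s) :
    kVlin (Λ := Λ) M ≫ prV s j = dotV r (M j) := by
  apply Art.hom_ext
  apply AlgHom.ext
  intro x
  exact TrivSqZeroExt.ext rfl rfl

theorem kVlin_dotV {r s : ℕ} (M : Fin s → Fin r → k) (d : Fin s → k) :
    kVlin (Λ := Λ) M ≫ dotV s d = dotV r (vecMul d M) := by
  apply Art.hom_ext
  apply AlgHom.ext
  intro x
  refine TrivSqZeroExt.ext rfl ?_
  change dotLin d (fun j => dotLin (M j) (TrivSqZeroExt.snd (x : TrivSqZeroExt k (Fin r → k)))) =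
    dotLin (vecMul d M) (TrivSqZeroExt.snd (x : TrivSqZeroExt k (Fin r → k)))
  simp only [dotLin_apply, vecMul, Finset.mul_sum, Finset.sum_mul]
  rw [Finset.sum_comm]
  refine Finset.sum_congr rfl fun i _ => Finset.sum_congr rfl fun j _ => ?_
  ring

theorem dotV_single {r : ℕ} (i : Fin r) : dotV (Λ := Λ) r (Pi.single i (1 : k)) = prV r i := by
  apply Art.hom_ext
  apply AlgHom.ext
  intro x
  refine TrivSqZeroExt.ext rfl ?_
  change dotLin (Pi.single i (1 : k)) (TrivSqZeroExt.snd (x : TrivSqZeroExt k (Fin r → k))) =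
    (TrivSqZeroExt.snd (x : TrivSqZeroExt k (Fin r → k))) i
  rw [dotLin_apply, Finset.sum_eq_single i]
  · rw [Pi.single_eq_same, one_mul]
  · intro j _ hj
    rw [Pi.single_eq_of_ne hj, zero_mul]
  · intro h
    exact absurd (Finset.mem_univ i) h

theorem dotV_one_eq (c : Fin 1 → k) : dotV (Λ := Λ) 1 c = prV 1 0 ≫ scale (c 0) := by
  apply Art.hom_ext
  apply AlgHom.ext
  intro x
  refine TrivSqZeroExt.ext rfl ?_
  change dotLin c (TrivSqZeroExt.snd (x : TrivSqZeroExt k (Fin 1 → k))) =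
    (c 0 • LinearMap.id) ((TrivSqZeroExt.snd (x : TrivSqZeroExt k (Fin 1 → k))) 0)
  rw [dotLin_apply, Fin.sum_univ_one]
  rfl

/-- `dual2 → kV 2` -/
noncomputable def toKV2 : dual2 Λ k ⟶ kV Λ k 2 :=
  ⟨tszeMap (LinearMap.pi (fun j : Fin 2 => if j = 0 then LinearMap.fst k k k else LinearMap.snd k k k)),
    AlgHom.ext fun _ => rfl⟩

theorem toKV2_pr0 : toKV2 (Λ := Λ) (k := k) ≫ prV 2 0 = pr₁ := by
  apply Art.hom_ext
  apply AlgHom.ext
  intro x
  exact TrivSqZeroExt.ext rfl rfl

theorem toKV2_pr1 : toKV2 (Λ := Λ) (k := k) ≫ prV 2 1 = pr₂ := by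
  apply Art.hom_ext
  apply AlgHom.ext
  intro x
  exact TrivSqZeroExt.ext rfl rfl

theorem toKV2_plus : toKV2 (Λ := Λ) (k := k) ≫ dotV 2 (fun _ => 1) = plus := by
  apply Art.hom_ext
  apply AlgHom.ext
  intro x
  refine TrivSqZeroExt.ext rfl ?_
  change dotLin (fun _ : Fin 2 => (1 : k)) (fun j : Fin 2 =>
      (if j = 0 then LinearMap.fst k k k else LinearMap.snd k k k)
        (TrivSqZeroExt.snd (x : TrivSqZeroExt k (k × k)))) =
    (TrivSqZeroExt.snd (x : TrivSqZeroExt k (k × k))).1 +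
      (TrivSqZeroExt.snd (x : TrivSqZeroExt k (k × k))).2
  rw [dotLin_apply, Fin.sum_univ_two]
  simp

section Ev

variable (F : Art Λ k ⥤ Type v) (h0 : H0 F) (h2 : Heps F)

/-- the element of `F(kV r)` with given coordinates -/
noncomputable def pt {r : ℕ} (t : Fin r → F.obj (dual Λ k)) : F.obj (kV Λ k r) :=
  ((bijective_prV F h0 h2 r).2 t).choose

theorem pt_spec {r : ℕ} (t : Fin r → F.obj (dual Λ k)) (i : Fin r) :
    F.map (prV r i) (pt F h0 h2 t) = t i :=
  congrFun ((bijective_prV F h0 h2 r).2 t).choose_spec i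

theorem pt_unique {r : ℕ} (t : Fin r → F.obj (dual Λ k)) (z : F.obj (kV Λ k r))
    (hz : ∀ i, F.map (prV r i) z = t i) : z = pt F h0 h2 t := by
  apply (bijective_prV F h0 h2 r).1
  funext i
  change F.map (prV r i) z = F.map (prV r i) (pt F h0 h2 t)
  rw [hz, pt_spec]

/-- the linear combination `∑ c_i t_i` -/
noncomputable def ev {r : ℕ} (t : Fin r → F.obj (dual Λ k)) (c : Fin r → k) : F.obj (dual Λ k) :=
  F.map (dotV r c) (pt F h0 h2 t)

theorem ev_single {r : ℕ} (t : Fin r → F.obj (dual Λ k)) (i : Fin r) :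
    ev F h0 h2 t (Pi.single i 1) = t i := by
  rw [ev, dotV_single, pt_spec]

/-- the composition law -/
theorem ev_comp {r s : ℕ} (t : Fin r → F.obj (dual Λ k)) (M : Fin s → Fin r → k)
    (t' : Fin s → F.obj (dual Λ k)) (ht' : ∀ j, t' j = ev F h0 h2 t (M j)) (d : Fin s → k) :
    ev F h0 h2 t' d = ev F h0 h2 t (vecMul d M) := by
  have hw : F.map (kVlin M) (pt F h0 h2 t) = pt F h0 h2 t' := by
    apply pt_unique
    intro j
    rw [← Functor.map_comp_apply, kVlin_prV, ht']
    rfl
  rw [ev, ← hw, ← Functor.map_comp_apply, kVlin_dotV]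
  rfl

theorem ev_one (t : Fin 1 → F.obj (dual Λ k)) (c : Fin 1 → k) :
    ev F h0 h2 t c = F.map (scale (c 0)) (t 0) := by
  rw [ev, dotV_one_eq, Functor.map_comp_apply, pt_spec]

theorem ev_dual2 (z : F.obj (dual2 Λ k)) (t : Fin 2 → F.obj (dual Λ k))
    (ht0 : t 0 = F.map pr₁ z) (ht1 : t 1 = F.map pr₂ z) :
    ev F h0 h2 t (fun _ => 1) = F.map plus z := by
  have hw : F.map toKV2 z = pt F h0 h2 t := by
    apply pt_unique
    intro j
    fin_cases j
    · change F.map (prV 2 0) (F.map toKV2 z) = t 0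
      rw [← Functor.map_comp_apply, toKV2_pr0, ht0]
    · change F.map (prV 2 1) (F.map toKV2 z) = t 1
      rw [← Functor.map_comp_apply, toKV2_pr1, ht1]
  rw [ev, ← hw, ← Functor.map_comp_apply, toKV2_plus]

end Ev

section Axioms

variable (F : Art Λ k ⥤ Type v) (h0 : H0 F) (h2 : Heps F)

local notation "T" => F.obj (dual Λ k)

/-- addition on the tangent space -/
noncomputable def add (x y : T) : T := ev F h0 h2 ![x, y] (fun _ => 1)

/-- the zero of the tangent space -/
noncomputable def zero : T := ev F h0 h2 (fun j : Fin 0 => j.elim0) (fun j : Fin 0 => j.elim0)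

/-- scalar multiplication on the tangent space -/
noncomputable def smul (a : k) (x : T) : T := F.map (scale a) x

include h0 h2

theorem add_ev {r : ℕ} (t : Fin r → T) (c c' : Fin r → k) :
    add F h0 h2 (ev F h0 h2 t c) (ev F h0 h2 t c') = ev F h0 h2 t (c + c') := by
  have := ev_comp F h0 h2 t ![c, c'] ![ev F h0 h2 t c, ev F h0 h2 t c']
    (by intro j; fin_cases j <;> rfl) (fun _ => 1)
  rw [add, this]
  congr 1
  funext i
  simp [vecMul, Fin.sum_univ_two]

theorem smul_ev {r : ℕ} (t : Fin r → T) (c : Fin r → k) (a : k) :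
    smul F a (ev F h0 h2 t c) = ev F h0 h2 t (a • c) := by
  have h1 := ev_one F h0 h2 ![ev F h0 h2 t c] ![a]
  have h3 := ev_comp F h0 h2 t ![c] ![ev F h0 h2 t c] (by intro j; fin_cases j; rfl) ![a]
  rw [h3] at h1
  have h4 : vecMul ![a] ![c] = a • c := by
    funext i
    simp [vecMul]
  rw [h4] at h1
  exact h1.symm

theorem zero_ev {r : ℕ} (t : Fin r → T) : zero F h0 h2 = ev F h0 h2 t 0 := by
  have := ev_comp F h0 h2 t (fun j : Fin 0 => j.elim0) (fun j : Fin 0 => j.elim0)
    (fun j => j.elim0) (fun j : Fin 0 => j.elim0)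
  rw [zero, this]
  exact congrArg _ (funext fun i => by simp [vecMul])

theorem add_assoc' (x y w : T) :
    add F h0 h2 (add F h0 h2 x y) w = add F h0 h2 x (add F h0 h2 y w) := by
  have key : ∀ (c c' c'' : Fin 3 → k),
      add F h0 h2 (add F h0 h2 (ev F h0 h2 ![x, y, w] c) (ev F h0 h2 ![x, y, w] c'))
        (ev F h0 h2 ![x, y, w] c'') =
      add F h0 h2 (ev F h0 h2 ![x, y, w] c)
        (add F h0 h2 (ev F h0 h2 ![x, y, w] c') (ev F h0 h2 ![x, y, w] c'')) := by
    intro c c' c''
    rw [add_ev, add_ev, add_ev, add_ev, add_assoc]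
  have := key (Pi.single 0 1) (Pi.single 1 1) (Pi.single 2 1)
  rw [ev_single, ev_single, ev_single] at this
  exact this

theorem add_comm' (x y : T) : add F h0 h2 x y = add F h0 h2 y x := by
  have key : ∀ (c c' : Fin 2 → k),
      add F h0 h2 (ev F h0 h2 ![x, y] c) (ev F h0 h2 ![x, y] c') =
      add F h0 h2 (ev F h0 h2 ![x, y] c') (ev F h0 h2 ![x, y] c) := by
    intro c c'
    rw [add_ev, add_ev, add_comm]
  have := key (Pi.single 0 1) (Pi.single 1 1)
  rw [ev_single, ev_single] at this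
  exact this

theorem zero_add' (x : T) : add F h0 h2 (zero F h0 h2) x = x := by
  have key : add F h0 h2 (ev F h0 h2 ![x] 0) (ev F h0 h2 ![x] (Pi.single 0 1)) =
      ev F h0 h2 ![x] (Pi.single 0 1) := by
    rw [add_ev, zero_add]
  rw [← zero_ev, ev_single] at key
  exact key

theorem neg_add' (x : T) : add F h0 h2 (smul F (-1) x) x = zero F h0 h2 := by
  have key : add F h0 h2 (smul F (-1) (ev F h0 h2 ![x] (Pi.single 0 1)))
      (ev F h0 h2 ![x] (Pi.single 0 1)) = ev F h0 h2 ![x] 0 := by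
    rw [smul_ev, add_ev, neg_one_smul, neg_add_cancel]
  rw [← zero_ev, ev_single] at key
  exact key

theorem one_smul' (x : T) : smul F 1 x = x := by
  have key := smul_ev F h0 h2 ![x] (Pi.single 0 1) 1
  rw [one_smul, ev_single] at key
  exact key

theorem mul_smul' (a b : k) (x : T) : smul F (a * b) x = smul F a (smul F b x) := by
  have key : smul F (a * b) (ev F h0 h2 ![x] (Pi.single 0 1)) =
      smul F a (smul F b (ev F h0 h2 ![x] (Pi.single 0 1))) := by
    rw [smul_ev, smul_ev, smul_ev, mul_smul]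
  rw [ev_single] at key
  exact key

theorem smul_zero' (a : k) : smul F a (zero F h0 h2) = zero F h0 h2 := by
  rw [zero_ev F h0 h2 (fun j : Fin 0 => j.elim0), smul_ev, smul_zero]

theorem smul_add' (a : k) (x y : T) :
    smul F a (add F h0 h2 x y) = add F h0 h2 (smul F a x) (smul F a y) := by
  have key : ∀ (c c' : Fin 2 → k),
      smul F a (add F h0 h2 (ev F h0 h2 ![x, y] c) (ev F h0 h2 ![x, y] c')) =
      add F h0 h2 (smul F a (ev F h0 h2 ![x, y] c)) (smul F a (ev F h0 h2 ![x, y] c')) := by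
    intro c c'
    rw [add_ev, smul_ev, smul_ev, smul_ev, add_ev, smul_add]
  have := key (Pi.single 0 1) (Pi.single 1 1)
  rw [ev_single, ev_single] at this
  exact this

theorem add_smul' (a b : k) (x : T) :
    smul F (a + b) x = add F h0 h2 (smul F a x) (smul F b x) := by
  have key : smul F (a + b) (ev F h0 h2 ![x] (Pi.single 0 1)) =
      add F h0 h2 (smul F a (ev F h0 h2 ![x] (Pi.single 0 1)))
        (smul F b (ev F h0 h2 ![x] (Pi.single 0 1))) := by
    rw [smul_ev, smul_ev, smul_ev, add_ev, add_smul]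
  rw [ev_single] at key
  exact key

theorem zero_smul' (x : T) : smul F 0 x = zero F h0 h2 := by
  have key := smul_ev F h0 h2 ![x] (Pi.single 0 1) 0
  rw [zero_smul, ← zero_ev, ev_single] at key
  exact key

theorem add_eq' (z : F.obj (dual2 Λ k)) :
    add F h0 h2 (F.map pr₁ z) (F.map pr₂ z) = F.map plus z :=
  ev_dual2 F h0 h2 z ![F.map pr₁ z, F.map pr₂ z] rfl rfl

omit h0 h2 in
/-- the tangent-space structure -/
noncomputable def tangentStr (h0 : H0 F) (h2 : Heps F) : TangentStr F :=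
  letI : Add T := ⟨add F h0 h2⟩
  letI : Zero T := ⟨zero F h0 h2⟩
  letI : Neg T := ⟨fun x => smul F (-1) x⟩
  letI G0 : AddGroup T :=
    AddGroup.ofLeftAxioms (add_assoc' F h0 h2) (zero_add' F h0 h2) (neg_add' F h0 h2)
  letI G : AddCommGroup T := { G0 with add_comm := add_comm' F h0 h2 }
  { addCommGroup := G
    module :=
      { smul := smul F
        one_smul := one_smul' F h0 h2
        mul_smul := mul_smul' F h0 h2
        smul_zero := smul_zero' F h0 h2
        smul_add := smul_add' F h0 h2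
        add_smul := add_smul' F h0 h2
        zero_smul := zero_smul' F h0 h2 }
    smul_eq := fun _ _ => rfl
    add_eq := add_eq' F h0 h2 }

end Axioms

end Groth.Agent.Lib.Helper59.TangentStrMk
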