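import Mathlib
import Groth.Prelude.Def_ArtFun4
import Groth.Prelude.Def_Exal
import Groth.Agent.Lib.Helper59.AffDefAPI
import Groth.Agent.Lib.Helper67.FlatArtinLocal

/-!
# Extensions of an affine deformation over a surjection with kernel killed by the maximal ideal

Ring-level data (`ExtData`) and the attached extension of `R.B` by `B₀ ⊗ J` (helper59).
-/

set_option autoImplicit false
set_option linter.style.haveILetI false
set_option linter.unusedSectionVars false
universe u
open CategoryTheory IsLocalRing ArtFun TensorProduct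

namespace Groth.Agent.Lib.Helper59.TorsA

open Groth.Agent.Lib.Helper59.AffDefAPI

variable {k : Type u} [Field k] {B₀ : Type u} [CommRing B₀] [Algebra k B₀] {C' C : Art k k}

section kernel

variable (p : C' ⟶ C)

theorem res_algebraMap (A : Art k k) (c : k) : A.res (algebraMap k A c) = c :=
  A.res.commutes c

theorem sub_mem_max (A : Art k k) (a : A) :
    a - algebraMap k A (A.res a) ∈ maximalIdeal A := by
  rw [Art.mem_maximalIdeal_iff, map_sub, res_algebraMap, sub_self]

theorem ker_le_max : RingHom.ker p.toAlgHom ≤ maximalIdeal C' := by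
  intro b hb
  have h2 : p b = 0 := hb
  rw [Art.mem_maximalIdeal_iff, ← Art.res_app p, h2, map_zero]

theorem mul_eq_zero_of_mem (hp : Art.IsSemismallExt p) {m j : C'} (hm : m ∈ maximalIdeal C')
    (hj : j ∈ RingHom.ker p.toAlgHom) : m * j = 0 := by
  have h1 : m * j ∈ maximalIdeal C' * RingHom.ker p.toAlgHom := Ideal.mul_mem_mul hm hj
  rw [hp.2] at h1
  exact h1

theorem mul_eq_res_mul (hp : Art.IsSemismallExt p) (c : C') {j : C'}
    (hj : j ∈ RingHom.ker p.toAlgHom) : c * j = algebraMap k C' (C'.res c) * j := by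
  have h2 := mul_eq_zero_of_mem p hp (sub_mem_max C' c) hj
  rw [sub_mul, sub_eq_zero] at h2
  exact h2

/-- every element of the maximal ideal of the target lifts to the maximal ideal. -/
theorem exists_max_lift (hp : Art.IsSemismallExt p) {m : C} (hm : m ∈ maximalIdeal C) :
    ∃ m' ∈ maximalIdeal C', p m' = m := by
  obtain ⟨m', rfl⟩ := hp.1 m
  refine ⟨m', ?_, rfl⟩
  rw [Art.mem_maximalIdeal_iff] at hm ⊢
  rw [← Art.res_app p]
  exact hm

end kernel

/-- the ring `R.B` as a `C'`-algebra through `p`. -/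
def RB (_p : C' ⟶ C) (R : RingDef B₀ C) : Type u := R.B

/-- the module `B₀ ⊗ J` as a module over `R.B` through the reduction map. -/
abbrev MQ (p : C' ⟶ C) (_R : RingDef B₀ C) : Type u := B₀ ⊗[k] ↥(RingHom.ker p.toAlgHom)

/-- view an element of `R.B` in the synonym. -/
def toRB (p : C' ⟶ C) (R : RingDef B₀ C) (x : R.B) : RB p R := x

section synonyms

variable (p : C' ⟶ C) (R : RingDef B₀ C)

instance : CommRing (RB p R) := inferInstanceAs (CommRing R.B)

noncomputable instance : Algebra C' (RB p R) :=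
  ((algebraMap C R.B).comp p.toAlgHom.toRingHom).toAlgebra

theorem algebraMap_RB (c : C') : algebraMap C' (RB p R) c = algebraMap C R.B (p c) := rfl

theorem algebraMap_RB_of_mem {j : C'} (hj : j ∈ RingHom.ker p.toAlgHom) :
    algebraMap C' (RB p R) j = 0 := by
  show algebraMap C R.B (p j) = 0
  have : p j = 0 := hj
  rw [this, map_zero]

noncomputable instance instModuleRB : Module (RB p R) (B₀ ⊗[k] ↥(RingHom.ker p.toAlgHom)) :=
  Module.compHom (B₀ ⊗[k] ↥(RingHom.ker p.toAlgHom)) (R.q : R.B →+* B₀)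

theorem smul_MQ (r : RB p R) (z : MQ p R) : r • z = (R.q r) • z := rfl

end synonyms

/-- ring-level data of an extension of the deformation `R` over `C'`. -/
structure ExtData (p : C' ⟶ C) (R : RingDef B₀ C) where
  /-- the deformation over the bigger ring -/
  R' : RingDef B₀ C'
  /-- the restriction map -/
  π : R'.B →+* R.B
  hπA : ∀ a' : C', π (algebraMap C' R'.B a') = algebraMap C R.B (p a')
  hπq : ∀ b, R.q (π b) = R'.q b
  hπ : Function.Surjective π
  hker : RingHom.ker π ≤ (RingHom.ker p.toAlgHom.toRingHom).map (algebraMap C' R'.B)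

namespace ExtData

variable {p : C' ⟶ C} {R : RingDef B₀ C}

/-- equivalence of extension data. -/
def Rel (E₁ E₂ : ExtData p R) : Prop :=
  ∃ θ : E₁.R'.B ≃+* E₂.R'.B, (∀ a : C', θ (algebraMap C' E₁.R'.B a) = algebraMap C' E₂.R'.B a) ∧
    ∀ b, E₂.π (θ b) = E₁.π b

theorem Rel.refl (E : ExtData p R) : Rel E E := ⟨RingEquiv.refl _, fun _ => rfl, fun _ => rfl⟩

theorem Rel.symm {E₁ E₂ : ExtData p R} (h : Rel E₁ E₂) : Rel E₂ E₁ := by
  obtain ⟨θ, h1, h2⟩ := h
  refine ⟨θ.symm, fun a => ?_, fun b => ?_⟩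
  · rw [RingEquiv.symm_apply_eq, h1]
  · rw [← h2, θ.apply_symm_apply]

theorem Rel.trans {E₁ E₂ E₃ : ExtData p R} (h : Rel E₁ E₂) (h' : Rel E₂ E₃) : Rel E₁ E₃ := by
  obtain ⟨θ, h1, h2⟩ := h
  obtain ⟨θ', h1', h2'⟩ := h'
  refine ⟨θ.trans θ', fun a => ?_, fun b => ?_⟩
  · rw [RingEquiv.trans_apply, h1, h1']
  · rw [RingEquiv.trans_apply, h2', h2]

variable (E : ExtData p R)

theorem π_smul_ker {j : C'} (hj : j ∈ RingHom.ker p.toAlgHom) (e : E.R'.B) :
    E.π (algebraMap C' E.R'.B j * e) = 0 := by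
  have h2 : p j = 0 := hj
  rw [map_mul, E.hπA, h2, map_zero, zero_mul]

/-- multiplication by an element of the kernel kills the kernel of the reduction. -/
theorem ker_mul_of_q_eq_zero (hp : Art.IsSemismallExt p) {j : C'}
    (hj : j ∈ RingHom.ker p.toAlgHom) {x : E.R'.B} (hx : E.R'.q x = 0) :
    algebraMap C' E.R'.B j * x = 0 := by
  have hx' : x ∈ (maximalIdeal C').map (algebraMap C' E.R'.B) := by
    rw [← E.R'.ker_q]
    exact hx
  refine Submodule.span_induction (p := fun x _ => algebraMap C' E.R'.B j * x = 0)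
    ?_ ?_ ?_ ?_ hx'
  · rintro _ ⟨m, hm, rfl⟩
    rw [← map_mul, mul_comm, mul_eq_zero_of_mem p hp hm hj, map_zero]
  · exact mul_zero _
  · intro x y _ _ hx hy
    rw [mul_add, hx, hy, add_zero]
  · intro a x _ hx
    rw [smul_eq_mul, mul_left_comm, hx, mul_zero]

theorem ker_mul_eq_of_q_eq (hp : Art.IsSemismallExt p) {j : C'}
    (hj : j ∈ RingHom.ker p.toAlgHom) {e e' : E.R'.B} (h : E.R'.q e = E.R'.q e') :
    algebraMap C' E.R'.B j * e = algebraMap C' E.R'.B j * e' := by
  have h1 : E.R'.q (e - e') = 0 := by rw [map_sub, h, sub_self]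
  have h2 := E.ker_mul_of_q_eq_zero hp hj h1
  rw [mul_sub, sub_eq_zero] at h2
  exact h2

/-- the reduction map is `k`-linear. -/
theorem q_algebraMap_mul (c : k) (e : E.R'.B) :
    E.R'.q (algebraMap C' E.R'.B (algebraMap k C' c) * e) = c • E.R'.q e := by
  rw [map_mul, E.R'.q_alg, res_algebraMap, Algebra.smul_def]

/-- a set-theoretic section of the reduction map. -/
noncomputable def sec (b : B₀) : E.R'.B := Function.surjInv E.R'.q_surj b

theorem q_sec (b : B₀) : E.R'.q (E.sec b) = b := Function.surjInv_eq E.R'.q_surj b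

section incl

variable (hp : Art.IsSemismallExt p)

/-- `(b, j) ↦ j • (a lift of b)`. -/
noncomputable def inclFun : B₀ →+ ↥(RingHom.ker p.toAlgHom) →+ E.R'.B where
  toFun b :=
    { toFun := fun j => algebraMap C' E.R'.B (j : C') * E.sec b
      map_zero' := by rw [ZeroMemClass.coe_zero, map_zero, zero_mul]
      map_add' := fun j j' => by rw [Submodule.coe_add, map_add, add_mul] }
  map_zero' := by
    refine AddMonoidHom.ext fun j => ?_
    show algebraMap C' E.R'.B (j : C') * E.sec 0 = 0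
    exact E.ker_mul_of_q_eq_zero hp j.2 (E.q_sec 0)
  map_add' b b' := by
    refine AddMonoidHom.ext fun j => ?_
    show algebraMap C' E.R'.B (j : C') * E.sec (b + b') =
      algebraMap C' E.R'.B (j : C') * E.sec b + algebraMap C' E.R'.B (j : C') * E.sec b'
    rw [← mul_add]
    exact E.ker_mul_eq_of_q_eq hp j.2 (by rw [q_sec, map_add, q_sec, q_sec])

/-- the inclusion of `B₀ ⊗ J` into the total ring. -/
noncomputable def incl : MQ p R →+ E.R'.B :=
  TensorProduct.liftAddHom (E.inclFun hp) (by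
    intro c b j
    show algebraMap C' E.R'.B (j : C') * E.sec (c • b) =
      algebraMap C' E.R'.B ((c • j : ↥(RingHom.ker p.toAlgHom)) : C') * E.sec b
    have h : ((c • j : ↥(RingHom.ker p.toAlgHom)) : C') = (j : C') * algebraMap k C' c := by
      rw [Submodule.coe_smul_of_tower, Algebra.smul_def, mul_comm]
    rw [h, map_mul, mul_assoc]
    exact E.ker_mul_eq_of_q_eq hp j.2 (by rw [q_sec, q_algebraMap_mul, q_sec]))

theorem incl_tmul (b : B₀) (j : ↥(RingHom.ker p.toAlgHom)) :
    E.incl hp (b ⊗ₜ j) = algebraMap C' E.R'.B (j : C') * E.sec b := rfl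

theorem incl_q_tmul (e : E.R'.B) (j : ↥(RingHom.ker p.toAlgHom)) :
    E.incl hp (E.R'.q e ⊗ₜ j) = algebraMap C' E.R'.B (j : C') * e := by
  rw [incl_tmul]
  exact E.ker_mul_eq_of_q_eq hp j.2 (E.q_sec _)

theorem π_incl (z : MQ p R) : E.π (E.incl hp z) = 0 := by
  induction z using TensorProduct.induction_on with
  | zero => rw [map_zero, map_zero]
  | tmul b j => rw [incl_tmul]; exact E.π_smul_ker j.2 _
  | add x y hx hy => rw [map_add, map_add, hx, hy, add_zero]

theorem mul_incl (x : E.R'.B) (z : MQ p R) :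
    x * E.incl hp z = E.incl hp (toRB p R (E.π x) • z) := by
  induction z using TensorProduct.induction_on with
  | zero => rw [smul_zero, map_zero, mul_zero]
  | tmul b j =>
    have h1 : (toRB p R (E.π x) • (b ⊗ₜ[k] j)) = (E.R'.q x * b) ⊗ₜ[k] j := by
      rw [smul_MQ]
      show R.q (E.π x) • b ⊗ₜ[k] j = _
      rw [E.hπq, TensorProduct.smul_tmul', smul_eq_mul]
    rw [h1, incl_tmul]
    have h2 : E.incl hp ((E.R'.q x * b) ⊗ₜ[k] j) =
        algebraMap C' E.R'.B (j : C') * (x * E.sec b) := by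
      rw [← incl_q_tmul, map_mul, q_sec]
    rw [h2]
    ring
  | add y z hy hz => rw [map_add, mul_add, hy, hz, smul_add, map_add]

theorem mem_range_incl_of_π {x : E.R'.B} (hx : E.π x = 0) : x ∈ Set.range (E.incl hp) := by
  have hx' : x ∈ (RingHom.ker p.toAlgHom.toRingHom).map (algebraMap C' E.R'.B) := E.hker hx
  refine Submodule.span_induction (p := fun x _ => x ∈ Set.range (E.incl hp)) ?_ ?_ ?_ ?_ hx'
  · rintro _ ⟨j, hj, rfl⟩
    refine ⟨E.R'.q 1 ⊗ₜ ⟨j, hj⟩, ?_⟩
    rw [incl_q_tmul, mul_one]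
  · exact ⟨0, map_zero _⟩
  · rintro x y _ _ ⟨z, rfl⟩ ⟨w, rfl⟩
    exact ⟨z + w, map_add _ _ _⟩
  · rintro a x _ ⟨z, rfl⟩
    exact ⟨_, (E.mul_incl hp a z).symm⟩

/-- `j ⊗ e ↦ q e ⊗ j`. -/
noncomputable def tauFun : ↥(RingHom.ker p.toAlgHom) →+ E.R'.B →+ MQ p R where
  toFun j :=
    { toFun := fun e => E.R'.q e ⊗ₜ[k] j
      map_zero' := by rw [map_zero]; exact TensorProduct.zero_tmul _ _
      map_add' := fun e e' => by rw [map_add]; exact TensorProduct.add_tmul _ _ _ }
  map_zero' := AddMonoidHom.ext fun e => TensorProduct.tmul_zero _ _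
  map_add' j j' := AddMonoidHom.ext fun e => TensorProduct.tmul_add _ _ _

/-- the comparison map `J ⊗_{C'} B' → B₀ ⊗_k J`. -/
noncomputable def tau : ↥(RingHom.ker p.toAlgHom) ⊗[C'] E.R'.B →+ MQ p R :=
  TensorProduct.liftAddHom (E.tauFun) (by
    intro c j e
    show E.R'.q e ⊗ₜ[k] (c • j) = E.R'.q (c • e) ⊗ₜ[k] j
    have h1 : E.R'.q (c • e) = (C'.res c) • E.R'.q e := by
      rw [Algebra.smul_def, map_mul, E.R'.q_alg, Algebra.smul_def]
    have h2 : (c • j : ↥(RingHom.ker p.toAlgHom)) = (C'.res c) • j := by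
      apply Subtype.ext
      show c * (j : C') = ((C'.res c • j : ↥(RingHom.ker p.toAlgHom)) : C')
      rw [Submodule.coe_smul_of_tower, Algebra.smul_def]
      exact mul_eq_res_mul p hp c j.2
    rw [h1, h2, TensorProduct.smul_tmul])

theorem tau_tmul (j : ↥(RingHom.ker p.toAlgHom)) (e : E.R'.B) :
    E.tau hp (j ⊗ₜ e) = E.R'.q e ⊗ₜ[k] j := rfl

include hp in
theorem tmul_eq_zero_of_q {x : E.R'.B} (hx : E.R'.q x = 0) (j : ↥(RingHom.ker p.toAlgHom)) :
    j ⊗ₜ[C'] x = 0 := by
  have hx' : x ∈ maximalIdeal C' • (⊤ : Submodule C' E.R'.B) := by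
    rw [Ideal.smul_top_eq_map, Submodule.restrictScalars_mem, ← E.R'.ker_q]
    exact hx
  refine Submodule.smul_induction_on hx' ?_ ?_
  · intro m hm y _
    rw [← TensorProduct.smul_tmul]
    have : (m • j : ↥(RingHom.ker p.toAlgHom)) = 0 := by
      apply Subtype.ext
      rw [Submodule.coe_smul, smul_eq_mul, ZeroMemClass.coe_zero]
      exact mul_eq_zero_of_mem p hp hm j.2
    rw [this, TensorProduct.zero_tmul]
  · intro a b ha hb
    rw [TensorProduct.tmul_add, ha, hb, add_zero]

include hp in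
theorem tmul_eq_of_q {e e' : E.R'.B} (h : E.R'.q e = E.R'.q e')
    (j : ↥(RingHom.ker p.toAlgHom)) : j ⊗ₜ[C'] e = j ⊗ₜ[C'] e' := by
  have h1 : E.R'.q (e - e') = 0 := by rw [map_sub, h, sub_self]
  have h2 := E.tmul_eq_zero_of_q hp h1 j
  rw [TensorProduct.tmul_sub, sub_eq_zero] at h2
  exact h2

/-- `(b, j) ↦ j ⊗ (a lift of b)`. -/
noncomputable def kappaFun : B₀ →+ ↥(RingHom.ker p.toAlgHom) →+
    ↥(RingHom.ker p.toAlgHom) ⊗[C'] E.R'.B where
  toFun b :=
    { toFun := fun j => j ⊗ₜ[C'] E.sec b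
      map_zero' := TensorProduct.zero_tmul _ _
      map_add' := fun j j' => TensorProduct.add_tmul _ _ _ }
  map_zero' := AddMonoidHom.ext fun j => E.tmul_eq_zero_of_q hp (E.q_sec 0) j
  map_add' b b' := AddMonoidHom.ext fun j => by
    show j ⊗ₜ[C'] E.sec (b + b') = j ⊗ₜ[C'] E.sec b + j ⊗ₜ[C'] E.sec b'
    rw [← TensorProduct.tmul_add]
    exact E.tmul_eq_of_q hp (by rw [q_sec, map_add, q_sec, q_sec]) j

/-- the inverse comparison map `B₀ ⊗_k J → J ⊗_{C'} B'`. -/
noncomputable def kappa : MQ p R →+ ↥(RingHom.ker p.toAlgHom) ⊗[C'] E.R'.B :=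
  TensorProduct.liftAddHom (E.kappaFun hp) (by
    intro c b j
    show j ⊗ₜ[C'] E.sec (c • b) = (c • j) ⊗ₜ[C'] E.sec b
    have h2 : (c • j : ↥(RingHom.ker p.toAlgHom)) = (algebraMap k C' c) • j := by
      apply Subtype.ext
      show ((c • j : ↥(RingHom.ker p.toAlgHom)) : C') = algebraMap k C' c * (j : C')
      rw [Submodule.coe_smul_of_tower, Algebra.smul_def]
    rw [h2, TensorProduct.smul_tmul]
    apply E.tmul_eq_of_q hp
    rw [q_sec, Algebra.smul_def ((algebraMap k C') c) (E.sec b), q_algebraMap_mul, q_sec])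

theorem kappa_tmul (b : B₀) (j : ↥(RingHom.ker p.toAlgHom)) :
    E.kappa hp (b ⊗ₜ j) = j ⊗ₜ[C'] E.sec b := rfl

theorem tau_kappa (z : MQ p R) : E.tau hp (E.kappa hp z) = z := by
  induction z using TensorProduct.induction_on with
  | zero => rw [map_zero, map_zero]
  | tmul b j => rw [kappa_tmul, tau_tmul, q_sec]
  | add x y hx hy => rw [map_add, map_add, hx, hy]

theorem toSelf_kappa (z : MQ p R) :
    Groth.Agent.Lib.Helper67.idealTensorToSelf (RingHom.ker p.toAlgHom) E.R'.B (E.kappa hp z) =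
      E.incl hp z := by
  induction z using TensorProduct.induction_on with
  | zero => rw [map_zero, map_zero, map_zero]
  | tmul b j =>
    rw [kappa_tmul, Groth.Agent.Lib.Helper67.idealTensorToSelf_tmul, incl_tmul, Algebra.smul_def]
  | add x y hx hy => rw [map_add, map_add, map_add, hx, hy]

theorem incl_injective : Function.Injective (E.incl hp) := by
  rw [injective_iff_map_eq_zero]
  intro z hz
  rw [← toSelf_kappa] at hz
  have h1 : E.kappa hp z = 0 := by
    apply Groth.Agent.Lib.Helper67.idealTensorToSelf_injective (RingHom.ker p.toAlgHom) E.R'.B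
    rw [hz, map_zero]
  rw [← E.tau_kappa hp z, h1, map_zero]

/-- the restriction map as a map of `C'`-algebras. -/
noncomputable def projAlg : E.R'.B →ₐ[C'] RB p R :=
  { (show E.R'.B →+* RB p R from E.π) with commutes' := fun c => E.hπA c }

theorem projAlg_apply (x : E.R'.B) : E.projAlg x = E.π x := rfl

/-- the extension of `R.B` by `B₀ ⊗ J` attached to extension data. -/
noncomputable def toExt : Exal.Ext C' (RB p R) (MQ p R) where
  E := E.R'.B
  proj := E.projAlg
  incl := E.incl hp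
  isExtension :=
    { proj_surjective := E.hπ
      incl_injective := E.incl_injective hp
      exact := fun x => ⟨fun hx => E.mem_range_incl_of_π hp hx, by
        rintro ⟨z, rfl⟩
        exact E.π_incl hp z⟩
      mul_incl := fun x z => E.mul_incl hp x z }

end incl

end ExtData

/-- an extension of `R.B` by `B₀ ⊗ J` over `C'` on which `J` acts in the canonical way. -/
def IsCan {p : C' ⟶ C} {R : RingDef B₀ C} (X : Exal.Ext C' (RB p R) (MQ p R)) : Prop :=
  ∀ (j : ↥(RingHom.ker p.toAlgHom)) (e : X.E),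
    (j : C') • e = X.incl ((R.q (X.proj e)) ⊗ₜ[k] j)

theorem ExtData.toExt_isCan {p : C' ⟶ C} {R : RingDef B₀ C} (E : ExtData p R)
    (hp : Art.IsSemismallExt p) : IsCan (E.toExt hp) := by
  intro j e
  show (j : C') • e = E.incl hp ((R.q (E.π e)) ⊗ₜ[k] j)
  rw [E.hπq, E.incl_q_tmul, Algebra.smul_def]
  rfl

theorem IsCan.of_equiv {p : C' ⟶ C} {R : RingDef B₀ C} {X Y : Exal.Ext C' (RB p R) (MQ p R)}
    (θ : Exal.Ext.Equiv X Y) (hX : IsCan X) : IsCan Y := by
  intro j e'
  obtain ⟨e, rfl⟩ := θ.toAlgEquiv.surjective e'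
  rw [← map_smul, hX j e, θ.apply_incl, θ.proj_apply]

end Groth.Agent.Lib.Helper59.TorsA
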