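import Mathlib
import Groth.Prelude.Def_ArtFun4
import Groth.Prelude.Def_CotT
import Groth.Agent.Lib.Helper59.AffDefAPI
import Groth.Agent.Lib.Helper59.LiftRel

/-!
# `T² = 0` implies unobstructedness of affine schemes (helper59)
-/

set_option autoImplicit false
set_option linter.style.haveILetI false
set_option linter.unusedSectionVars false
universe u
open CategoryTheory AlgebraicGeometry IsLocalRing ArtFun TensorProduct CotT

namespace Groth.Agent.Lib.Helper59.UnobsT2

open Groth.Agent.Lib.Helper59.AffDefAPI Groth.Agent.Lib.Helper59.LiftRel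

section T2

variable {A B : Type u} [CommRing A] [CommRing B] [Algebra A B] {ι σ : Type u}
  (P : Algebra.Presentation A B ι σ) (M : Type u) [AddCommGroup M] [Module B M]
  [Module P.toExtension.Ring M] [IsScalarTower P.toExtension.Ring B M]

/-- if `T²(P, M) = 0`, every linear map on the relation module killing the trivial relations is a
combination of the coordinates. -/
theorem exists_u_of_T2_subsingleton (hT2 : Subsingleton (T2 P M))
    (h : relKer P →ₗ[P.toExtension.Ring] M)
    (hh : ∀ r : relKer P, (r : relMod P) ∈ trivRel P → h r = 0) :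
    ∃ u : σ → M, ∀ r : relKer P,
      h r = Finsupp.linearCombination P.toExtension.Ring u (r : relMod P) := by
  let φ₀ : B ⊗[P.toExtension.Ring] relKer P →ₗ[B] M := LinearMap.liftBaseChange B h
  have hle : LinearMap.range ((trivRelKer P).subtype.baseChange B) ≤ LinearMap.ker φ₀ := by
    rw [LinearMap.range_le_ker_iff]
    refine TensorProduct.AlgebraTensorModule.ext fun b k => ?_
    simp only [LinearMap.coe_comp, Function.comp_apply, LinearMap.baseChange_tmul,
      Submodule.coe_subtype, LinearMap.zero_apply, φ₀, LinearMap.liftBaseChange_tmul]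
    rw [hh (k : relKer P) k.2, smul_zero]
  let φ : L2 P →ₗ[B] M := Submodule.liftQ _ φ₀ hle
  have hφ : toT2 P M φ = 0 := Subsingleton.elim _ _
  have hφ' : φ ∈ LinearMap.range (d2Star P M) := by
    have := (Submodule.Quotient.mk_eq_zero _).mp hφ
    exact this
  obtain ⟨ψ, hψ⟩ := hφ'
  refine ⟨fun s => ψ ((1 : B) ⊗ₜ Finsupp.single s (1 : P.toExtension.Ring)), fun r => ?_⟩
  have h1 : h r = φ (Submodule.Quotient.mk ((1 : B) ⊗ₜ r)) := by
    show h r = φ₀ ((1 : B) ⊗ₜ r)
    simp only [φ₀, LinearMap.liftBaseChange_tmul, one_smul]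
  have h2 : φ (Submodule.Quotient.mk ((1 : B) ⊗ₜ r)) = ψ ((1 : B) ⊗ₜ (r : relMod P)) := by
    rw [← hψ]
    show ψ (d2 P (Submodule.Quotient.mk ((1 : B) ⊗ₜ r))) = _
    rw [d2_mk_tmul]
  rw [h1, h2]
  -- compare two linear maps on the free module
  let χ₁ : relMod P →ₗ[P.toExtension.Ring] M :=
    (ψ.restrictScalars P.toExtension.Ring) ∘ₗ
      (TensorProduct.mk P.toExtension.Ring B (relMod P) 1)
  let χ₂ : relMod P →ₗ[P.toExtension.Ring] M :=
    Finsupp.linearCombination P.toExtension.Ring
      (fun s => ψ ((1 : B) ⊗ₜ Finsupp.single s (1 : P.toExtension.Ring)))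
  have hχ : χ₁ = χ₂ := by
    apply Finsupp.lhom_ext'
    intro s
    apply LinearMap.ext_ring
    show ψ ((1 : B) ⊗ₜ Finsupp.single s (1 : P.toExtension.Ring)) =
      Finsupp.linearCombination P.toExtension.Ring _ (Finsupp.single s 1)
    rw [Finsupp.linearCombination_single, one_smul]
  exact congrArg (fun χ => χ (r : relMod P)) hχ

end T2

section present

variable {k : Type u} [Field k] {B₀ : Type u} [CommRing B₀] [Algebra k B₀] {ι σ : Type u}
  (P : Algebra.Presentation k B₀ ι σ) {A : Art k k}

/-- reduction of polynomials to the closed fibre, with values in the ring of the presentation. -/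
noncomputable def red (A : Art k k) : MvPolynomial ι A →+* P.toExtension.Ring :=
  MvPolynomial.map (A.res : A →+* k)

theorem red_surjective : Function.Surjective (red P A) :=
  MvPolynomial.map_surjective _ A.res_surjective

theorem ker_red : RingHom.ker (red P A) = (maximalIdeal A).map (algebraMap A (MvPolynomial ι A)) := by
  have h := MvPolynomial.ker_map (σ := ι) (A.res : A →+* k)
  rw [ker_res] at h
  exact h

theorem algebraMap_red_C (a : A) :
    algebraMap P.toExtension.Ring B₀ (red P A (MvPolynomial.C a)) = algebraMap k B₀ (A.res a) := by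
  rw [algebraMap_toExtension]
  show MvPolynomial.aeval P.val (MvPolynomial.map (A.res : A →+* k) (MvPolynomial.C a)) = _
  rw [MvPolynomial.map_C, MvPolynomial.aeval_C]
  rfl

theorem algebraMap_red_X (i : ι) :
    algebraMap P.toExtension.Ring B₀ (red P A (MvPolynomial.X i)) = P.val i := by
  rw [algebraMap_toExtension]
  show MvPolynomial.aeval P.val (MvPolynomial.map (A.res : A →+* k) (MvPolynomial.X i)) = _
  rw [MvPolynomial.map_X, MvPolynomial.aeval_X]

/-- a flat deformation of `B₀` is presented by lifts of the generators and relations. -/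
theorem exists_presentation (R : RingDef B₀ A) :
    ∃ (Φ : MvPolynomial ι A →ₐ[A] R.B) (F : σ → MvPolynomial ι A), Function.Surjective Φ ∧
      RingHom.ker (Φ : MvPolynomial ι A →+* R.B) = Ideal.span (Set.range F) ∧
      (∀ s, red P A (F s) = rel P s) ∧
      ∀ g, R.q (Φ g) = algebraMap P.toExtension.Ring B₀ (red P A g) := by
  choose b hb using fun i => R.q_surj (P.val i)
  let Φ : MvPolynomial ι A →ₐ[A] R.B := MvPolynomial.aeval b
  have hqΦ : ∀ g, R.q (Φ g) = algebraMap P.toExtension.Ring B₀ (red P A g) := by
    have h : (R.q.comp (Φ : MvPolynomial ι A →+* R.B)) =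
        (algebraMap P.toExtension.Ring B₀).comp (red P A) := by
      apply MvPolynomial.ringHom_ext
      · intro a
        show R.q (Φ (MvPolynomial.C a)) = algebraMap P.toExtension.Ring B₀ (red P A (MvPolynomial.C a))
        rw [algebraMap_red_C]
        show R.q (MvPolynomial.aeval b (MvPolynomial.C a)) = _
        rw [MvPolynomial.aeval_C, R.q_alg]
      · intro i
        show R.q (Φ (MvPolynomial.X i)) = algebraMap P.toExtension.Ring B₀ (red P A (MvPolynomial.X i))
        rw [algebraMap_red_X]
        show R.q (MvPolynomial.aeval b (MvPolynomial.X i)) = _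
        rw [MvPolynomial.aeval_X, hb]
    intro g
    exact congrArg (fun φ => φ g) h
  -- kernel of `q` as a submodule
  have hkerq : ∀ y : R.B, R.q y = 0 → y ∈ maximalIdeal A • (⊤ : Submodule A R.B) := by
    intro y hy
    rw [Ideal.smul_top_eq_map, Submodule.restrictScalars_mem, ← R.ker_q]
    exact hy
  -- surjectivity by Nakayama
  have hΦ : Function.Surjective Φ := by
    have h1 : LinearMap.range Φ.toLinearMap = ⊤ := by
      apply Groth.Agent.Lib.Helper77.eq_top_of_sup_smul_top_eq_top (maximalIdeal A)
        Groth.Agent.Lib.Helper77.isNilpotent_maximalIdeal_of_artinian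
      rw [eq_top_iff]
      intro y _
      obtain ⟨g₀, hg₀⟩ := P.toExtension.algebraMap_surjective (R.q y)
      obtain ⟨g, rfl⟩ := red_surjective P (A := A) g₀
      have h2 : R.q (y - Φ g) = 0 := by rw [map_sub, hqΦ, hg₀, sub_self]
      have h3 : y = Φ g + (y - Φ g) := by ring
      rw [h3]
      exact Submodule.add_mem_sup ⟨g, rfl⟩ (hkerq _ h2)
    exact LinearMap.range_eq_top.mp h1
  -- lifts of the relations in the kernel
  have hF : ∀ s, ∃ Fs : MvPolynomial ι A, Φ Fs = 0 ∧ red P A Fs = rel P s := by
    intro s
    obtain ⟨G, hG⟩ := red_surjective P (A := A) (rel P s)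
    have h1 : R.q (Φ G) = 0 := by rw [hqΦ, hG, algebraMap_rel]
    have h2 := hkerq _ h1
    have h3 : Φ G ∈ Submodule.map Φ.toLinearMap
        (maximalIdeal A • (⊤ : Submodule A (MvPolynomial ι A))) := by
      rw [Submodule.map_smul'', Submodule.map_top, LinearMap.range_eq_top.mpr hΦ]
      exact h2
    obtain ⟨N, hN, hNG⟩ := h3
    refine ⟨G - N, ?_, ?_⟩
    · rw [map_sub, sub_eq_zero]
      exact hNG.symm
    · have h4 : red P A N = 0 := by
        have : N ∈ RingHom.ker (red P A) := by
          rw [ker_red, ← Submodule.restrictScalars_mem A, ← Ideal.smul_top_eq_map]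
          exact hN
        exact this
      rw [map_sub, hG, h4, sub_zero]
  choose F hFΦ hFred using hF
  refine ⟨Φ, F, hΦ, ?_, hFred, hqΦ⟩
  -- the kernel is generated by the lifted relations
  apply le_antisymm
  · have key : (RingHom.ker (Φ : MvPolynomial ι A →+* R.B)).restrictScalars A ≤
        (Ideal.span (Set.range F)).restrictScalars A := by
      apply Groth.Agent.Lib.Helper67.le_of_le_sup_smul (maximalIdeal A)
        (Ideal.IsPrime.ne_top inferInstance)
      intro x hx
      have hx0 : Φ x = 0 := hx
      have h1 : red P A x ∈ Ideal.span (Set.range (rel P)) := by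
        have h2 : red P A x ∈ RingHom.ker (algebraMap P.toExtension.Ring B₀) := by
          rw [RingHom.mem_ker, ← hqΦ, hx0, map_zero]
        have h3 : Ideal.span (Set.range (rel P)) = RingHom.ker (algebraMap P.toExtension.Ring B₀) :=
          P.span_range_relation_eq_ker
        rw [h3]
        exact h2
      have h4 : red P A x ∈ LinearMap.range (Finsupp.linearCombination P.toExtension.Ring (rel P)) := by
        rw [Finsupp.range_linearCombination]
        exact h1
      obtain ⟨c, hc⟩ := h4
      obtain ⟨C, rfl⟩ := vmap_surjective (red P A) (red_surjective P) c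
      have h5 : red P A (Finsupp.linearCombination (MvPolynomial ι A) F C) = red P A x := by
        rw [lc_vmap, funext hFred]
        exact hc
      have h6 : x - Finsupp.linearCombination (MvPolynomial ι A) F C ∈
          maximalIdeal A • (⊤ : Submodule A (MvPolynomial ι A)) := by
        rw [Ideal.smul_top_eq_map, Submodule.restrictScalars_mem, ← ker_red P, RingHom.mem_ker,
          map_sub, h5, sub_self]
      have h7 : Finsupp.linearCombination (MvPolynomial ι A) F C ∈ Ideal.span (Set.range F) := by
        have : Finsupp.linearCombination (MvPolynomial ι A) F C ∈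
            LinearMap.range (Finsupp.linearCombination (MvPolynomial ι A) F) := ⟨_, rfl⟩
        rw [Finsupp.range_linearCombination] at this
        exact this
      have h8 : Φ (Finsupp.linearCombination (MvPolynomial ι A) F C) = 0 := by
        have h9 : Ideal.span (Set.range F) ≤ RingHom.ker (Φ : MvPolynomial ι A →+* R.B) := by
          rw [Ideal.span_le]
          rintro _ ⟨s, rfl⟩
          exact hFΦ s
        exact h9 h7
      have h10 := Groth.Agent.Lib.Helper67.mem_smul_ker_of_flat Φ.toLinearMap hΦ (maximalIdeal A)
        _ h6 (by rw [map_sub]; show Φ x - Φ _ = 0; rw [hx0, h8, sub_zero])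
      have h11 : x = Finsupp.linearCombination (MvPolynomial ι A) F C +
          (x - Finsupp.linearCombination (MvPolynomial ι A) F C) := by ring
      rw [h11]
      exact Submodule.add_mem_sup h7 h10
    exact key
  · rw [Ideal.span_le]
    rintro _ ⟨s, rfl⟩
    exact hFΦ s

end present

section lift

variable {k : Type u} [Field k] {B₀ : Type u} [CommRing B₀] [Algebra k B₀] {ι σ : Type u}
  (P : Algebra.Presentation k B₀ ι σ) {A' A : Art k k} (p : A' ⟶ A)

/-- the map on polynomial rings induced by `p`. -/
noncomputable def pmap : MvPolynomial ι A' →+* MvPolynomial ι A :=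
  MvPolynomial.map p.toAlgHom.toRingHom

theorem pmap_surjective (hp : Function.Surjective p) : Function.Surjective (pmap (ι := ι) p) :=
  MvPolynomial.map_surjective _ hp

theorem red_pmap (g : MvPolynomial ι A') : red P A (pmap p g) = red P A' g := by
  show MvPolynomial.map _ (MvPolynomial.map _ g) = MvPolynomial.map _ g
  rw [MvPolynomial.map_map]
  have h : (A.res : A →+* k).comp p.toAlgHom.toRingHom = (A'.res : A' →+* k) :=
    RingHom.ext fun a => Art.res_app p a
  rw [h]

theorem ker_pmap : RingHom.ker (pmap (ι := ι) p) =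
    (RingHom.ker p.toAlgHom.toRingHom).map (algebraMap A' (MvPolynomial ι A')) :=
  MvPolynomial.ker_map (σ := ι) p.toAlgHom.toRingHom

theorem pmap_algebraMap (a : A') :
    pmap (ι := ι) p (algebraMap A' (MvPolynomial ι A') a) = algebraMap A (MvPolynomial ι A) (p a) := by
  show MvPolynomial.map _ (MvPolynomial.C a) = MvPolynomial.C _
  rw [MvPolynomial.map_C]
  rfl

theorem hyp (hp : Art.IsSmallExt p) (t : A') (ht : RingHom.ker p.toAlgHom.toRingHom = Ideal.span {t})
    (ht0 : t ≠ 0) (R : RingDef B₀ A) (Φ : MvPolynomial ι A →ₐ[A] R.B) (F : σ → MvPolynomial ι A)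
    (hΦ : Function.Surjective Φ)
    (hker : RingHom.ker (Φ : MvPolynomial ι A →+* R.B) = Ideal.span (Set.range F))
    (hFred : ∀ s, red P A (F s) = rel P s)
    (F' : σ → MvPolynomial ι A') (hF' : ∀ s, pmap p (F' s) = F s) :
    Hyp p.toAlgHom.toRingHom t (pmap (ι := ι) p) (red P A) Φ F F' (rel P) B₀ where
  hp := hp.1
  ht := by
    intro m hm
    have h1 : m * t ∈ maximalIdeal A' * RingHom.ker p.toAlgHom := by
      refine Ideal.mul_mem_mul hm ?_
      show t ∈ RingHom.ker p.toAlgHom.toRingHom
      rw [ht]
      exact Ideal.mem_span_singleton_self t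
    rw [hp.2.2.2] at h1
    exact h1
  htm := by
    have h1 : t ∈ RingHom.ker p.toAlgHom.toRingHom := by
      rw [ht]
      exact Ideal.mem_span_singleton_self t
    have h2 : p t = 0 := h1
    rw [Art.mem_maximalIdeal_iff, ← Art.res_app p, h2, map_zero]
  ht0 := ht0
  hp𝔪 := by
    intro m hm
    obtain ⟨m', rfl⟩ := hp.1 m
    refine ⟨m', ?_, rfl⟩
    rw [Art.mem_maximalIdeal_iff] at hm ⊢
    rw [← Art.res_app p]
    exact hm
  hπ := pmap_surjective p hp.1
  hπalg := pmap_algebraMap p
  hkerπ := by
    rw [ker_pmap, ht, Ideal.map_span, Set.image_singleton]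
  hρ₀ := red_surjective P
  hkerρ₀ := ker_red P
  hkerρ := by
    have h1 : (red P A).comp (pmap p) = red P A' := RingHom.ext (red_pmap P p)
    rw [h1, ker_red]
  hΦ := hΦ
  hF := hker
  hF' := hF'
  hB₀ := P.toExtension.algebraMap_surjective
  hf := hFred
  hkerB₀ := P.span_range_relation_eq_ker.symm

/-- the trivial-relation hypothesis needed by the lifting lemma, from `T² = 0`. -/
theorem hT_of_T2 (hT2 : Subsingleton (T2 P B₀)) :
    ∀ h : LinearMap.ker (Finsupp.linearCombination P.toExtension.Ring (rel P)) →ₗ[P.toExtension.Ring] B₀,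
      (∀ r : LinearMap.ker (Finsupp.linearCombination P.toExtension.Ring (rel P)),
        (r : σ →₀ P.toExtension.Ring) ∈ Submodule.span P.toExtension.Ring
          {y | ∃ a b : σ →₀ P.toExtension.Ring,
            y = Finsupp.linearCombination P.toExtension.Ring (rel P) a • b -
              Finsupp.linearCombination P.toExtension.Ring (rel P) b • a} →
        h r = 0) →
      ∃ u : σ → B₀, ∀ r : LinearMap.ker (Finsupp.linearCombination P.toExtension.Ring (rel P)),
        h r = Finsupp.linearCombination P.toExtension.Ring u (r : σ →₀ P.toExtension.Ring) :=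
  fun h hh => exists_u_of_T2_subsingleton P B₀ hT2 h hh

/-- the quotient of the polynomial ring over `A'` by lifted relations, as ring-level data. -/
noncomputable def liftDef (F'' : σ → MvPolynomial ι A') (hred : ∀ s, red P A' (F'' s) = rel P s)
    (hflat : Module.Flat A' (MvPolynomial ι A' ⧸ Ideal.span (Set.range F''))) : RingDef B₀ A' where
  B := MvPolynomial ι A' ⧸ Ideal.span (Set.range F'')
  flat := hflat
  q := Ideal.Quotient.lift _ ((algebraMap P.toExtension.Ring B₀).comp (red P A')) (by
    intro g hg
    have h1 : Ideal.span (Set.range F'') ≤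
        RingHom.ker ((algebraMap P.toExtension.Ring B₀).comp (red P A')) := by
      rw [Ideal.span_le]
      rintro _ ⟨s, rfl⟩
      show algebraMap P.toExtension.Ring B₀ (red P A' (F'' s)) = 0
      rw [hred, algebraMap_rel]
    exact h1 hg)
  q_surj := by
    apply Ideal.Quotient.lift_surjective_of_surjective
    exact P.toExtension.algebraMap_surjective.comp (red_surjective P)
  ker_q := by
    apply le_antisymm
    · intro x hx
      obtain ⟨g, rfl⟩ := Ideal.Quotient.mk_surjective x
      have h0 : algebraMap P.toExtension.Ring B₀ (red P A' g) = 0 := hx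
      have h1 : red P A' g ∈ Ideal.span (Set.range (rel P)) := by
        have h3 : Ideal.span (Set.range (rel P)) = RingHom.ker (algebraMap P.toExtension.Ring B₀) :=
          P.span_range_relation_eq_ker
        rw [h3]
        exact h0
      have h4 : red P A' g ∈
          LinearMap.range (Finsupp.linearCombination P.toExtension.Ring (rel P)) := by
        rw [Finsupp.range_linearCombination]
        exact h1
      obtain ⟨c, hc⟩ := h4
      obtain ⟨C, rfl⟩ := vmap_surjective (red P A') (red_surjective P) c
      have h5 : red P A' (Finsupp.linearCombination (MvPolynomial ι A') F'' C) = red P A' g := by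
        rw [lc_vmap, funext hred]
        exact hc
      have h6 : g - Finsupp.linearCombination (MvPolynomial ι A') F'' C ∈
          (maximalIdeal A').map (algebraMap A' (MvPolynomial ι A')) := by
        rw [← ker_red P, RingHom.mem_ker, map_sub, h5, sub_self]
      have h7 : Finsupp.linearCombination (MvPolynomial ι A') F'' C ∈ Ideal.span (Set.range F'') := by
        have : Finsupp.linearCombination (MvPolynomial ι A') F'' C ∈
            LinearMap.range (Finsupp.linearCombination (MvPolynomial ι A') F'') := ⟨_, rfl⟩
        rw [Finsupp.range_linearCombination] at this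
        exact this
      have h8 : Ideal.Quotient.mk (Ideal.span (Set.range F'')) g =
          Ideal.Quotient.mk (Ideal.span (Set.range F''))
            (g - Finsupp.linearCombination (MvPolynomial ι A') F'' C) := by
        rw [map_sub, (Ideal.Quotient.eq_zero_iff_mem).mpr h7, sub_zero]
      rw [h8]
      have h9 := Ideal.mem_map_of_mem (Ideal.Quotient.mk (Ideal.span (Set.range F''))) h6
      rw [Ideal.map_map] at h9
      exact h9
    · rw [Ideal.map_le_iff_le_comap]
      intro m hm
      show algebraMap P.toExtension.Ring B₀ (red P A' (MvPolynomial.C m)) = 0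
      rw [algebraMap_red_C, (Art.mem_maximalIdeal_iff A' m).mp hm, map_zero]
  q_alg := fun a => algebraMap_red_C P a

theorem liftDef_q_mk (F'' : σ → MvPolynomial ι A') (hred : ∀ s, red P A' (F'' s) = rel P s)
    (hflat : Module.Flat A' (MvPolynomial ι A' ⧸ Ideal.span (Set.range F''))) (g : MvPolynomial ι A') :
    (liftDef P F'' hred hflat).q (Ideal.Quotient.mk _ g) =
      algebraMap P.toExtension.Ring B₀ (red P A' g) := rfl

/-- every ring-level deformation over `A` lifts along a small extension when `T² = 0`. -/
theorem exists_lift_ringDef (hT2 : Subsingleton (T2 P B₀)) (hp : Art.IsSmallExt p)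
    (R : RingDef B₀ A) :
    ∃ R' : RingDef B₀ A', Nonempty ((R'.toDefSch.baseChange p).Iso R.toDefSch) := by
  -- the generator of the kernel
  obtain ⟨t, ht⟩ := hp.2.2.1
  have ht' : RingHom.ker p.toAlgHom.toRingHom = Ideal.span {t} := ht
  have ht0 : t ≠ 0 := by
    rintro rfl
    apply hp.2.1
    rw [ht]
    exact Submodule.span_zero_singleton _
  obtain ⟨Φ, F, hΦ, hker, hFred, hqΦ⟩ := exists_presentation P R
  choose F' hF' using fun s => pmap_surjective (ι := ι) p hp.1 (F s)
  have H := hyp P p hp t ht' ht0 R Φ F hΦ hker hFred F' hF'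
  obtain ⟨F'', hF'', hflat⟩ := H.exists_flat_lift (hT_of_T2 P hT2)
  have hred : ∀ s, red P A' (F'' s) = rel P s := by
    intro s
    rw [← red_pmap P p, hF'', hFred]
  refine ⟨liftDef P F'' hred hflat, ?_⟩
  -- the comparison map
  have hle : Ideal.span (Set.range F'') ≤
      RingHom.ker ((Φ : MvPolynomial ι A →+* R.B).comp (pmap p)) := by
    rw [Ideal.span_le]
    rintro _ ⟨s, rfl⟩
    show Φ (pmap p (F'' s)) = 0
    rw [hF'']
    have : F s ∈ RingHom.ker (Φ : MvPolynomial ι A →+* R.B) := by
      rw [hker]
      exact Ideal.subset_span ⟨s, rfl⟩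
    exact this
  let πb : (liftDef P F'' hred hflat).B →+* R.B :=
    Ideal.Quotient.lift _ ((Φ : MvPolynomial ι A →+* R.B).comp (pmap p)) (fun g hg => hle hg)
  have hπb : ∀ g, πb (Ideal.Quotient.mk _ g) = Φ (pmap p g) := fun g => rfl
  refine baseChange_iso p hp.1 (liftDef P F'' hred hflat) R πb ?_ ?_ ?_ ?_
  · intro a'
    show Φ (pmap p (algebraMap A' (MvPolynomial ι A') a')) = _
    rw [pmap_algebraMap, Φ.commutes]
  · intro b
    obtain ⟨g, rfl⟩ := Ideal.Quotient.mk_surjective b
    rw [hπb, hqΦ, red_pmap, liftDef_q_mk]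
  · intro y
    obtain ⟨g, rfl⟩ := hΦ y
    obtain ⟨g', rfl⟩ := pmap_surjective (ι := ι) p hp.1 g
    exact ⟨Ideal.Quotient.mk _ g', rfl⟩
  · intro x hx
    obtain ⟨g, rfl⟩ := Ideal.Quotient.mk_surjective x
    have h0 : Φ (pmap p g) = 0 := hx
    have h1 : pmap p g ∈ Ideal.span (Set.range F) := by
      rw [← hker]
      exact h0
    have h4 : pmap p g ∈ LinearMap.range (Finsupp.linearCombination (MvPolynomial ι A) F) := by
      rw [Finsupp.range_linearCombination]
      exact h1
    obtain ⟨c, hc⟩ := h4
    obtain ⟨C, rfl⟩ := vmap_surjective (pmap (ι := ι) p) (pmap_surjective p hp.1) c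
    have h5 : pmap p (Finsupp.linearCombination (MvPolynomial ι A') F'' C) = pmap p g := by
      rw [lc_vmap, funext hF'']
      exact hc
    have h6 : g - Finsupp.linearCombination (MvPolynomial ι A') F'' C ∈
        (RingHom.ker p.toAlgHom.toRingHom).map (algebraMap A' (MvPolynomial ι A')) := by
      rw [← ker_pmap p, RingHom.mem_ker, map_sub, h5, sub_self]
    have h7 : Finsupp.linearCombination (MvPolynomial ι A') F'' C ∈ Ideal.span (Set.range F'') := by
      have : Finsupp.linearCombination (MvPolynomial ι A') F'' C ∈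
          LinearMap.range (Finsupp.linearCombination (MvPolynomial ι A') F'') := ⟨_, rfl⟩
      rw [Finsupp.range_linearCombination] at this
      exact this
    have h8 : Ideal.Quotient.mk (Ideal.span (Set.range F'')) g =
        Ideal.Quotient.mk (Ideal.span (Set.range F''))
          (g - Finsupp.linearCombination (MvPolynomial ι A') F'' C) := by
      rw [map_sub, (Ideal.Quotient.eq_zero_iff_mem).mpr h7, sub_zero]
    rw [h8]
    have h9 := Ideal.mem_map_of_mem (Ideal.Quotient.mk (Ideal.span (Set.range F''))) h6
    rw [Ideal.map_map] at h9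
    exact h9

/-- `T² = 0` implies that deformations lift along small extensions. -/
theorem surjective_of_T2 (hT2 : Subsingleton (T2 P B₀)) (hp : Art.IsSmallExt p) :
    Function.Surjective ((defFunctor (Λ := k) (Spec (CommRingCat.of B₀))
      (Spec.map (CommRingCat.ofHom (algebraMap k B₀)))).map p) := by
  intro y
  induction y using Quotient.inductionOn with
  | h ξ =>
    obtain ⟨R, ⟨e⟩⟩ := exists_ringDef ξ
    obtain ⟨R', ⟨e'⟩⟩ := exists_lift_ringDef P p hT2 hp R
    refine ⟨R'.toDefSch.cl, ?_⟩
    rw [defFunctor_map_cl]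
    exact Quotient.sound ⟨e'.trans e.symm⟩

end lift

end Groth.Agent.Lib.Helper59.UnobsT2
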