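import Mathlib
import Groth.Agent.Lib.Helper59.TorsA
import Groth.Agent.Lib.Helper59.ExalT1
import Groth.Agent.Lib.Helper59.UnobsT2
import Groth.Agent.Lib.Helper67.FlatKer

/-!
# Classification of canonical extensions by maps on the conormal module of the closed fibre
(helper59)
-/

set_option autoImplicit false
set_option linter.style.haveILetI false
set_option linter.unusedSectionVars false
universe u
open CategoryTheory IsLocalRing ArtFun TensorProduct

namespace Groth.Agent.Lib.Helper59.TorsB

open Groth.Agent.Lib.Helper59.AffDefAPI Groth.Agent.Lib.Helper59.TorsA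
open Groth.Agent.Lib.Helper59.ExalT1 Algebra

variable {k : Type u} [Field k] {B₀ : Type u} [CommRing B₀] [Algebra k B₀] {C' C : Art k k}
  (p : C' ⟶ C) (R : RingDef B₀ C)

/-- all elements of `R.B` as generators over `C'`. -/
noncomputable abbrev G1 : Algebra.Generators C' (RB p R) (RB p R) :=
  Algebra.Generators.self C' (RB p R)

theorem aeval_q_surjective :
    Function.Surjective (MvPolynomial.aeval (R := k) (fun b : RB p R => R.q b)) := by
  intro b₀
  obtain ⟨b, rfl⟩ := R.q_surj b₀
  exact ⟨MvPolynomial.X b, MvPolynomial.aeval_X _ _⟩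

/-- the images of all elements of `R.B` as generators of `B₀` over `k`. -/
noncomputable abbrev G0 : Algebra.Generators k B₀ (RB p R) :=
  Algebra.Generators.ofSurjective (fun b : RB p R => R.q b) (aeval_q_surjective p R)

/-- reduction of polynomials modulo the maximal ideal. -/
noncomputable def red1 : (G1 p R).toExtension.Ring →+* (G0 p R).toExtension.Ring :=
  MvPolynomial.map (C'.res : C' →+* k)

theorem red1_surjective : Function.Surjective (red1 p R) :=
  MvPolynomial.map_surjective _ C'.res_surjective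

theorem ker_red1 : RingHom.ker (red1 p R) =
    (maximalIdeal C').map (algebraMap C' (G1 p R).toExtension.Ring) := by
  have h := MvPolynomial.ker_map (σ := RB p R) (C'.res : C' →+* k)
  rw [ker_res] at h
  exact h

theorem red1_C (c : C') : red1 p R (MvPolynomial.C c) = MvPolynomial.C (C'.res c) :=
  MvPolynomial.map_C _ _

theorem red1_X (b : RB p R) : red1 p R (MvPolynomial.X b) = MvPolynomial.X b :=
  MvPolynomial.map_X _ _

theorem alg1_apply (g : (G1 p R).toExtension.Ring) :
    algebraMap (G1 p R).toExtension.Ring (RB p R) g =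
      MvPolynomial.aeval (R := C') (fun b : RB p R => b) g := by
  show algebraMap (G1 p R).Ring (RB p R) g = _
  rw [Algebra.Generators.algebraMap_apply]
  rfl

theorem alg0_apply (g : (G0 p R).toExtension.Ring) :
    algebraMap (G0 p R).toExtension.Ring B₀ g =
      MvPolynomial.aeval (R := k) (fun b : RB p R => R.q b) g := by
  show algebraMap (G0 p R).Ring B₀ g = _
  rw [Algebra.Generators.algebraMap_apply]
  rfl

theorem alg_red1 (g : (G1 p R).toExtension.Ring) :
    algebraMap (G0 p R).toExtension.Ring B₀ (red1 p R g) =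
      R.q (algebraMap (G1 p R).toExtension.Ring (RB p R) g) := by
  have h : (algebraMap (G0 p R).toExtension.Ring B₀).comp (red1 p R) =
      (R.q : R.B →+* B₀).comp
        ((algebraMap (G1 p R).toExtension.Ring (RB p R) : (G1 p R).toExtension.Ring →+* RB p R) :
          (G1 p R).toExtension.Ring →+* R.B) := by
    apply MvPolynomial.ringHom_ext
    · intro c
      show algebraMap (G0 p R).toExtension.Ring B₀ (red1 p R (MvPolynomial.C c)) =
        R.q (algebraMap (G1 p R).toExtension.Ring (RB p R) (MvPolynomial.C c))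
      rw [red1_C]
      have h1 : algebraMap (G0 p R).toExtension.Ring B₀ (MvPolynomial.C (C'.res c)) =
          algebraMap k B₀ (C'.res c) := by
        rw [alg0_apply]
        exact MvPolynomial.aeval_C _ _
      have h2 : algebraMap (G1 p R).toExtension.Ring (RB p R) (MvPolynomial.C c) =
          algebraMap C' (RB p R) c := by
        rw [alg1_apply]
        exact MvPolynomial.aeval_C _ _
      rw [h1, h2, algebraMap_RB, R.q_alg, Art.res_app]
    · intro b
      show algebraMap (G0 p R).toExtension.Ring B₀ (red1 p R (MvPolynomial.X b)) =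
        R.q (algebraMap (G1 p R).toExtension.Ring (RB p R) (MvPolynomial.X b))
      rw [red1_X]
      have h1 : algebraMap (G0 p R).toExtension.Ring B₀ (MvPolynomial.X b) = R.q b := by
        rw [alg0_apply]
        exact MvPolynomial.aeval_X _ _
      have h2 : algebraMap (G1 p R).toExtension.Ring (RB p R) (MvPolynomial.X b) = b := by
        rw [alg1_apply]
        exact MvPolynomial.aeval_X _ _
      rw [h1, h2]
  exact congrArg (fun f => f g) h

theorem red1_mem_ker (x : (G1 p R).toExtension.ker) : red1 p R x ∈ (G0 p R).toExtension.ker := by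
  show algebraMap (G0 p R).toExtension.Ring B₀ (red1 p R x) = 0
  rw [alg_red1]
  have : algebraMap (G1 p R).toExtension.Ring (RB p R) (x : (G1 p R).toExtension.Ring) = 0 := x.2
  rw [this]
  exact map_zero R.q

/-- reduction of polynomials along `p`. -/
noncomputable def pm1 : (G1 p R).toExtension.Ring →+* MvPolynomial (RB p R) C :=
  UnobsT2.pmap p

/-- evaluation of polynomials over `C`. -/
noncomputable def phiC : MvPolynomial (RB p R) C →ₐ[C] R.B :=
  MvPolynomial.aeval (fun b : RB p R => (b : R.B))

theorem phiC_surjective : Function.Surjective (phiC p R) := fun b =>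
  ⟨MvPolynomial.X (b : RB p R), MvPolynomial.aeval_X _ _⟩

theorem phiC_pm1 (g : (G1 p R).toExtension.Ring) :
    phiC p R (pm1 p R g) = (algebraMap (G1 p R).toExtension.Ring (RB p R) g : RB p R) := by
  have h : ((phiC p R : MvPolynomial (RB p R) C →+* R.B)).comp (pm1 p R) =
      ((algebraMap (G1 p R).toExtension.Ring (RB p R) : (G1 p R).toExtension.Ring →+* RB p R) :
          (G1 p R).toExtension.Ring →+* R.B) := by
    apply MvPolynomial.ringHom_ext
    · intro c
      show phiC p R (MvPolynomial.map p.toAlgHom.toRingHom (MvPolynomial.C c)) =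
        (algebraMap (G1 p R).toExtension.Ring (RB p R) (MvPolynomial.C c) : RB p R)
      rw [MvPolynomial.map_C, alg1_apply]
      have e1 : phiC p R (MvPolynomial.C (p.toAlgHom.toRingHom c)) =
          algebraMap C R.B (p.toAlgHom.toRingHom c) := MvPolynomial.aeval_C _ _
      have e2 : MvPolynomial.aeval (R := C') (fun b : RB p R => b) (MvPolynomial.C c) =
          algebraMap C' (RB p R) c := MvPolynomial.aeval_C _ _
      rw [e1, e2]
      rfl
    · intro b
      show phiC p R (MvPolynomial.map p.toAlgHom.toRingHom (MvPolynomial.X b)) =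
        (algebraMap (G1 p R).toExtension.Ring (RB p R) (MvPolynomial.X b) : RB p R)
      rw [MvPolynomial.map_X, alg1_apply]
      have e1 : phiC p R (MvPolynomial.X b) = b := MvPolynomial.aeval_X _ _
      have e2 : MvPolynomial.aeval (R := C') (fun b : RB p R => b) (MvPolynomial.X b) = b :=
        MvPolynomial.aeval_X _ _
      rw [e1, e2]
  exact congrArg (fun f => f g) h

theorem pm1_surjective (hp : Art.IsSemismallExt p) : Function.Surjective (pm1 p R) :=
  UnobsT2.pmap_surjective p hp.1

theorem ker_pm1 : RingHom.ker (pm1 p R) =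
    (RingHom.ker p.toAlgHom.toRingHom).map (algebraMap C' (G1 p R).toExtension.Ring) :=
  UnobsT2.ker_pmap p

theorem pm1_algebraMap (a : C') :
    pm1 p R (algebraMap C' (G1 p R).toExtension.Ring a) =
      algebraMap C (MvPolynomial (RB p R) C) (p a) :=
  UnobsT2.pmap_algebraMap p a

/-- consequence of flatness of `R.B` over `C`: an element of the kernel lying in the maximal ideal
times the polynomial ring is, modulo `J`, in the maximal ideal times the kernel. -/
theorem fl1 (hp : Art.IsSemismallExt p) (z : (G1 p R).toExtension.ker)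
    (hz : (z : (G1 p R).toExtension.Ring) ∈
      (maximalIdeal C').map (algebraMap C' (G1 p R).toExtension.Ring)) :
    ∃ y : (G1 p R).toExtension.ker,
      y ∈ maximalIdeal C' • (⊤ : Submodule C' (G1 p R).toExtension.ker) ∧
      ((z : (G1 p R).toExtension.Ring) - y) ∈
        (RingHom.ker p.toAlgHom.toRingHom).map (algebraMap C' (G1 p R).toExtension.Ring) := by
  have h1 : pm1 p R z ∈ maximalIdeal C • (⊤ : Submodule C (MvPolynomial (RB p R) C)) := by
    rw [Ideal.smul_top_eq_map, Submodule.restrictScalars_mem]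
    have h2 := Ideal.mem_map_of_mem (pm1 p R) hz
    rw [Ideal.map_map] at h2
    have h3 : (pm1 p R).comp (algebraMap C' (G1 p R).toExtension.Ring) =
        (algebraMap C (MvPolynomial (RB p R) C)).comp p.toAlgHom.toRingHom :=
      RingHom.ext fun a => pm1_algebraMap p R a
    rw [h3, ← Ideal.map_map] at h2
    refine Ideal.map_mono ?_ h2
    rw [Ideal.map_le_iff_le_comap]
    intro m hm
    rw [Ideal.mem_comap, Art.mem_maximalIdeal_iff]
    rw [Art.mem_maximalIdeal_iff] at hm
    show C.res (p m) = 0
    rw [Art.res_app]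
    exact hm
  have h2 : (phiC p R).toLinearMap (pm1 p R z) = 0 := by
    show phiC p R (pm1 p R z) = 0
    rw [phiC_pm1]
    exact z.2
  have h3 := Groth.Agent.Lib.Helper67.mem_smul_ker_of_flat (phiC p R).toLinearMap
    (phiC_surjective p R) (maximalIdeal C) _ h1 h2
  have lift : ∀ w ∈ maximalIdeal C • LinearMap.ker (phiC p R).toLinearMap,
      ∃ y : (G1 p R).toExtension.ker,
        y ∈ maximalIdeal C' • (⊤ : Submodule C' (G1 p R).toExtension.ker) ∧
          pm1 p R (y : (G1 p R).toExtension.Ring) = w := by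
    intro w hw
    refine Submodule.smul_induction_on hw ?_ ?_
    · intro m hm v hv
      obtain ⟨m', hm', rfl⟩ := exists_max_lift p hp hm
      obtain ⟨g, rfl⟩ := pm1_surjective p R hp v
      have hg : g ∈ (G1 p R).toExtension.ker := by
        show algebraMap (G1 p R).toExtension.Ring (RB p R) g = 0
        have := phiC_pm1 p R g
        rw [← this]
        exact hv
      refine ⟨m' • ⟨g, hg⟩, Submodule.smul_mem_smul hm' Submodule.mem_top, ?_⟩
      show pm1 p R (m' • g) = _
      rw [Algebra.smul_def, map_mul, pm1_algebraMap, Algebra.smul_def]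
    · rintro a b ⟨ya, hya, rfl⟩ ⟨yb, hyb, rfl⟩
      refine ⟨ya + yb, Submodule.add_mem _ hya hyb, ?_⟩
      rw [Submodule.coe_add, map_add]
  obtain ⟨y, hy, hyz⟩ := lift _ h3
  refine ⟨y, hy, ?_⟩
  rw [← ker_pm1, RingHom.mem_ker, map_sub, hyz, sub_self]

theorem map_maximalIdeal_eq (hp : Art.IsSemismallExt p) :
    (maximalIdeal C').map p.toAlgHom.toRingHom = maximalIdeal C := by
  apply le_antisymm
  · rw [Ideal.map_le_iff_le_comap]
    intro m hm
    rw [Ideal.mem_comap, Art.mem_maximalIdeal_iff]
    rw [Art.mem_maximalIdeal_iff] at hm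
    show C.res (p m) = 0
    rw [Art.res_app]
    exact hm
  · intro m hm
    obtain ⟨m', hm', rfl⟩ := exists_max_lift p hp hm
    exact Ideal.mem_map_of_mem _ hm'

theorem ker_q_RB (hp : Art.IsSemismallExt p) (y : RB p R) (hy : R.q y = 0) :
    y ∈ (maximalIdeal C').map (algebraMap C' (RB p R)) := by
  have hy' : (y : R.B) ∈ (maximalIdeal C).map (algebraMap C R.B) := by
    rw [← R.ker_q]
    exact hy
  refine Submodule.span_induction
    (p := fun y _ => toRB p R y ∈ (maximalIdeal C').map (algebraMap C' (RB p R))) ?_ ?_ ?_ ?_ hy'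
  · rintro _ ⟨m, hm, rfl⟩
    obtain ⟨m', hm', rfl⟩ := exists_max_lift p hp hm
    exact Ideal.mem_map_of_mem (algebraMap C' (RB p R)) hm'
  · exact Ideal.zero_mem _
  · intro x y _ _ hx hy
    exact Ideal.add_mem _ hx hy
  · intro a x _ hx
    exact Ideal.mul_mem_left _ (toRB p R a) hx

/-- the reduction map is onto on kernels. -/
theorem exists_ker_lift (hp : Art.IsSemismallExt p) (x₀ : (G0 p R).toExtension.ker) :
    ∃ x : (G1 p R).toExtension.ker,
      red1 p R (x : (G1 p R).toExtension.Ring) = (x₀ : (G0 p R).toExtension.Ring) := by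
  obtain ⟨g, hg⟩ := red1_surjective p R (x₀ : (G0 p R).toExtension.Ring)
  have h1 : R.q (algebraMap (G1 p R).toExtension.Ring (RB p R) g) = 0 := by
    rw [← alg_red1, hg]
    exact x₀.2
  have h2 : (algebraMap (G1 p R).toExtension.Ring (RB p R) g) ∈
      ((maximalIdeal C').map (algebraMap C' (G1 p R).toExtension.Ring)).map
        (algebraMap (G1 p R).toExtension.Ring (RB p R)) := by
    rw [Ideal.map_map, ← IsScalarTower.algebraMap_eq C' (G1 p R).toExtension.Ring (RB p R)]
    exact ker_q_RB p R hp _ h1
  rw [Ideal.mem_map_iff_of_surjective _ (G1 p R).toExtension.algebraMap_surjective] at h2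
  obtain ⟨g', hg', hgg'⟩ := h2
  have hmem : g - g' ∈ (G1 p R).toExtension.ker := by
    show algebraMap (G1 p R).toExtension.Ring (RB p R) (g - g') = 0
    rw [map_sub, hgg', sub_self]
  refine ⟨⟨g - g', hmem⟩, ?_⟩
  show red1 p R (g - g') = _
  have h4 : red1 p R g' = 0 := by
    have : g' ∈ RingHom.ker (red1 p R) := by rw [ker_red1]; exact hg'
    exact this
  rw [map_sub, h4, sub_zero, hg]

section generic

variable {A B : Type u} [CommRing A] [CommRing B] [Algebra A B] {ι : Type u}
  {G : Algebra.Generators A B ι} {M : Type u} [AddCommGroup M] [Module B M]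

/-- a linear map on the conormal module from a linear map on the kernel killing products. -/
noncomputable def mkCotHom (ψ : G.toExtension.ker →ₗ[G.toExtension.Ring] MR G M)
    (hψ : ∀ x y : G.toExtension.ker, ψ (x * y) = 0) : G.toExtension.Cotangent →ₗ[B] M :=
  toMl ∘ₗ LinearMap.extendScalarsOfSurjective G.toExtension.algebraMap_surjective
    ((Ideal.Cotangent.lift ψ hψ) ∘ₗ G.toExtension.cotangentEquivCotangentKer.toLinearMap)

theorem mkCotHom_mk (ψ : G.toExtension.ker →ₗ[G.toExtension.Ring] MR G M)
    (hψ : ∀ x y : G.toExtension.ker, ψ (x * y) = 0) (x : G.toExtension.ker) :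
    mkCotHom ψ hψ (Extension.Cotangent.mk x) = toM (ψ x) := by
  show toM ((Ideal.Cotangent.lift ψ hψ) (G.toExtension.ker.toCotangent x)) = _
  rw [Ideal.Cotangent.lift_toCotangent]

theorem mk_mul_eq_zero (x y : G.toExtension.ker) :
    Extension.Cotangent.mk (P := G.toExtension) (x * y) = 0 := by
  rw [Extension.Cotangent.mk_eq_zero_iff, pow_two]
  exact Ideal.mul_mem_mul x.2 y.2

/-- the linear map on the kernel attached to a linear map on the conormal module. -/
noncomputable def psiOf (φ : G.toExtension.Cotangent →ₗ[B] M) :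
    G.toExtension.ker →ₗ[G.toExtension.Ring] MR G M where
  toFun x := ofM (φ (Extension.Cotangent.mk x))
  map_add' x y := by rw [map_add, map_add, ofM_add]
  map_smul' r x := by
    apply toM_injective
    rw [RingHom.id_apply, toM_smul, toM_ofM, toM_ofM, map_smul, phi_smul]

theorem toM_psiOf (φ : G.toExtension.Cotangent →ₗ[B] M) (x : G.toExtension.ker) :
    toM (psiOf φ x) = φ (Extension.Cotangent.mk x) := rfl

end generic

section can

theorem jmul_mem (j : ↥(RingHom.ker p.toAlgHom)) (g : (G1 p R).toExtension.Ring) :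
    algebraMap C' (G1 p R).toExtension.Ring (j : C') * g ∈ (G1 p R).toExtension.ker := by
  show algebraMap (G1 p R).toExtension.Ring (RB p R)
    (algebraMap C' (G1 p R).toExtension.Ring (j : C') * g) = 0
  rw [map_mul, ← IsScalarTower.algebraMap_apply C' (G1 p R).toExtension.Ring (RB p R),
    algebraMap_RB_of_mem p R j.2, zero_mul]

/-- the maps on the conormal module whose extension has the canonical action of `J`. -/
def IsCanHom (φ : (G1 p R).toExtension.Cotangent →ₗ[RB p R] MQ p R) : Prop :=
  ∀ (j : ↥(RingHom.ker p.toAlgHom)) (g : (G1 p R).toExtension.Ring),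
    φ (Extension.Cotangent.mk ⟨_, jmul_mem p R j g⟩) =
      (R.q (algebraMap (G1 p R).toExtension.Ring (RB p R) g)) ⊗ₜ[k] j

theorem Jmap_le_ker :
    (RingHom.ker p.toAlgHom.toRingHom).map (algebraMap C' (G1 p R).toExtension.Ring) ≤
      (G1 p R).toExtension.ker := by
  rw [Ideal.map_le_iff_le_comap]
  intro j hj
  rw [Ideal.mem_comap]
  have := jmul_mem p R ⟨j, hj⟩ 1
  rwa [mul_one] at this

theorem smul_MQ_eq_zero {m : C'} (hm : m ∈ maximalIdeal C') (z : MQ p R) :
    (algebraMap C' (RB p R) m) • z = 0 := by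
  rw [smul_MQ, algebraMap_RB, R.q_alg, Art.res_app, (Art.mem_maximalIdeal_iff C' m).mp hm,
    map_zero, zero_smul]

variable (δ : (G1 p R).toExtension.Cotangent →ₗ[RB p R] MQ p R)

theorem kill_J (hδ : ∀ (j : ↥(RingHom.ker p.toAlgHom)) (g : (G1 p R).toExtension.Ring),
      δ (Extension.Cotangent.mk ⟨_, jmul_mem p R j g⟩) = 0)
    (w : (G1 p R).toExtension.Ring)
    (hwJ : w ∈ (RingHom.ker p.toAlgHom.toRingHom).map (algebraMap C' (G1 p R).toExtension.Ring))
    (hw : w ∈ (G1 p R).toExtension.ker) : δ (Extension.Cotangent.mk ⟨w, hw⟩) = 0 := by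
  revert hw
  refine Submodule.span_induction
    (p := fun w _ => ∀ hw : w ∈ (G1 p R).toExtension.ker,
      δ (Extension.Cotangent.mk ⟨w, hw⟩) = 0) ?_ ?_ ?_ ?_ hwJ
  · rintro _ ⟨j, hj, rfl⟩ hw
    have h1 := hδ ⟨j, hj⟩ 1
    have h2 : (⟨_, jmul_mem p R ⟨j, hj⟩ 1⟩ : (G1 p R).toExtension.ker) =
        ⟨algebraMap C' (G1 p R).toExtension.Ring j, hw⟩ := Subtype.ext (mul_one _)
    rw [h2] at h1
    exact h1
  · intro hw
    have : (⟨0, hw⟩ : (G1 p R).toExtension.ker) = 0 := rfl
    rw [this, map_zero, map_zero]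
  · intro x y hx hy ihx ihy hw
    have hx' := Jmap_le_ker p R (Submodule.span_le.mpr (fun _ h => Submodule.subset_span h) hx)
    have hy' := Jmap_le_ker p R (Submodule.span_le.mpr (fun _ h => Submodule.subset_span h) hy)
    have : (⟨x + y, hw⟩ : (G1 p R).toExtension.ker) = ⟨x, hx'⟩ + ⟨y, hy'⟩ := rfl
    rw [this, map_add, map_add, ihx hx', ihy hy', add_zero]
  · intro a x hx ihx hw
    have hx' := Jmap_le_ker p R (Submodule.span_le.mpr (fun _ h => Submodule.subset_span h) hx)
    have : (⟨a • x, hw⟩ : (G1 p R).toExtension.ker) = a • ⟨x, hx'⟩ := rfl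
    rw [this, map_smul, phi_smul, ihx hx', smul_zero]

theorem kill_max (y : (G1 p R).toExtension.ker)
    (hy : y ∈ maximalIdeal C' • (⊤ : Submodule C' (G1 p R).toExtension.ker)) :
    δ (Extension.Cotangent.mk y) = 0 := by
  refine Submodule.smul_induction_on hy ?_ ?_
  · intro m hm w _
    have h1 : (m • w : (G1 p R).toExtension.ker) =
        (algebraMap C' (G1 p R).toExtension.Ring m) • w := (algebraMap_smul _ m w).symm
    rw [h1, map_smul, phi_smul,
      ← IsScalarTower.algebraMap_apply C' (G1 p R).toExtension.Ring (RB p R)]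
    exact smul_MQ_eq_zero p R hm _
  · intro a b ha hb
    rw [map_add, map_add, ha, hb, add_zero]

/-- a map killing the multiples of `J` kills the kernel elements lying in the maximal ideal times
the polynomial ring. -/
theorem kill (hp : Art.IsSemismallExt p)
    (hδ : ∀ (j : ↥(RingHom.ker p.toAlgHom)) (g : (G1 p R).toExtension.Ring),
      δ (Extension.Cotangent.mk ⟨_, jmul_mem p R j g⟩) = 0)
    (x : (G1 p R).toExtension.ker)
    (hx : (x : (G1 p R).toExtension.Ring) ∈
      (maximalIdeal C').map (algebraMap C' (G1 p R).toExtension.Ring)) :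
    δ (Extension.Cotangent.mk x) = 0 := by
  obtain ⟨y, hy, hz⟩ := fl1 p R hp x hx
  have hzk : (x : (G1 p R).toExtension.Ring) - y ∈ (G1 p R).toExtension.ker :=
    Jmap_le_ker p R hz
  have h1 : x = y + ⟨_, hzk⟩ := by
    apply Subtype.ext
    show (x : (G1 p R).toExtension.Ring) = y + (x - y)
    ring
  rw [h1, map_add, map_add, kill_max p R δ y hy, kill_J p R δ hδ _ hz hzk, add_zero]

end can

section descent

/-- the reduction map on kernels. -/
noncomputable def redK (x : (G1 p R).toExtension.ker) : (G0 p R).toExtension.ker :=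
  ⟨red1 p R x, red1_mem_ker p R x⟩

theorem redK_add (x y : (G1 p R).toExtension.ker) : redK p R (x + y) = redK p R x + redK p R y :=
  Subtype.ext (map_add (red1 p R) _ _)

theorem redK_sub (x y : (G1 p R).toExtension.ker) : redK p R (x - y) = redK p R x - redK p R y :=
  Subtype.ext (map_sub (red1 p R) _ _)

theorem redK_smul (r : (G1 p R).toExtension.Ring) (x : (G1 p R).toExtension.ker) :
    redK p R (r • x) = (red1 p R r) • redK p R x :=
  Subtype.ext (map_mul (red1 p R) _ _)

theorem redK_mul (x y : (G1 p R).toExtension.ker) : redK p R (x * y) = redK p R x * redK p R y :=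
  Subtype.ext (map_mul (red1 p R) _ _)

theorem redK_surjective (hp : Art.IsSemismallExt p) : Function.Surjective (redK p R) := by
  intro x₀
  obtain ⟨x, hx⟩ := exists_ker_lift p R hp x₀
  exact ⟨x, Subtype.ext hx⟩

theorem smul_MQ_alg1 (r : (G1 p R).toExtension.Ring) (z : MQ p R) :
    (algebraMap (G1 p R).toExtension.Ring (RB p R) r) • z =
      (algebraMap (G0 p R).toExtension.Ring B₀ (red1 p R r)) • z := by
  rw [smul_MQ, alg_red1]

/-- the linear map on the kernel attached to a map on the conormal module of the closed fibre. -/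
noncomputable def pullPsi (h : (G0 p R).toExtension.Cotangent →ₗ[B₀] MQ p R) :
    (G1 p R).toExtension.ker →ₗ[(G1 p R).toExtension.Ring] MR (G1 p R) (MQ p R) where
  toFun x := ofM (h (Extension.Cotangent.mk (redK p R x)))
  map_add' x y := by rw [redK_add, map_add, map_add, ofM_add]
  map_smul' r x := by
    apply toM_injective
    rw [RingHom.id_apply, toM_smul, toM_ofM, toM_ofM, redK_smul, map_smul, phi_smul, smul_MQ_alg1]

theorem pullPsi_mul (h : (G0 p R).toExtension.Cotangent →ₗ[B₀] MQ p R)
    (x y : (G1 p R).toExtension.ker) : pullPsi p R h (x * y) = 0 := by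
  show ofM (h (Extension.Cotangent.mk (redK p R (x * y)))) = 0
  rw [redK_mul, mk_mul_eq_zero, map_zero, ofM_zero]

/-- pull back a map on the conormal module of the closed fibre. -/
noncomputable def pullH (h : (G0 p R).toExtension.Cotangent →ₗ[B₀] MQ p R) :
    (G1 p R).toExtension.Cotangent →ₗ[RB p R] MQ p R :=
  mkCotHom (pullPsi p R h) (pullPsi_mul p R h)

theorem pullH_mk (h : (G0 p R).toExtension.Cotangent →ₗ[B₀] MQ p R)
    (x : (G1 p R).toExtension.ker) :
    pullH p R h (Extension.Cotangent.mk x) = h (Extension.Cotangent.mk (redK p R x)) := by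
  rw [pullH, mkCotHom_mk]
  rfl

theorem pullH_sub (h h' : (G0 p R).toExtension.Cotangent →ₗ[B₀] MQ p R) :
    pullH p R (h - h') = pullH p R h - pullH p R h' := by
  refine LinearMap.ext fun y => ?_
  obtain ⟨x, rfl⟩ := Extension.Cotangent.mk_surjective y
  rw [LinearMap.sub_apply, pullH_mk, pullH_mk, pullH_mk, LinearMap.sub_apply]

theorem pullH_add (h h' : (G0 p R).toExtension.Cotangent →ₗ[B₀] MQ p R) :
    pullH p R (h + h') = pullH p R h + pullH p R h' := by
  refine LinearMap.ext fun y => ?_
  obtain ⟨x, rfl⟩ := Extension.Cotangent.mk_surjective y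
  rw [LinearMap.add_apply, pullH_mk, pullH_mk, pullH_mk, LinearMap.add_apply]

theorem redK_jmul (j : ↥(RingHom.ker p.toAlgHom)) (g : (G1 p R).toExtension.Ring) :
    redK p R ⟨_, jmul_mem p R j g⟩ = 0 := by
  apply Subtype.ext
  show red1 p R (algebraMap C' (G1 p R).toExtension.Ring (j : C') * g) = 0
  have h1 : algebraMap C' (G1 p R).toExtension.Ring (j : C') ∈ RingHom.ker (red1 p R) := by
    rw [ker_red1]
    exact Ideal.mem_map_of_mem _ (ker_le_max p j.2)
  rw [map_mul, (RingHom.mem_ker).mp h1, zero_mul]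

theorem pullH_jmul (h : (G0 p R).toExtension.Cotangent →ₗ[B₀] MQ p R)
    (j : ↥(RingHom.ker p.toAlgHom)) (g : (G1 p R).toExtension.Ring) :
    pullH p R h (Extension.Cotangent.mk ⟨_, jmul_mem p R j g⟩) = 0 := by
  rw [pullH_mk, redK_jmul, map_zero, map_zero]

theorem pullH_injective (hp : Art.IsSemismallExt p)
    (h : (G0 p R).toExtension.Cotangent →ₗ[B₀] MQ p R) (hh : pullH p R h = 0) : h = 0 := by
  refine LinearMap.ext fun y => ?_
  obtain ⟨x₀, rfl⟩ := Extension.Cotangent.mk_surjective y
  obtain ⟨x, rfl⟩ := redK_surjective p R hp x₀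
  rw [← pullH_mk, hh]
  rfl

variable (δ : (G1 p R).toExtension.Cotangent →ₗ[RB p R] MQ p R)

theorem wd (hp : Art.IsSemismallExt p)
    (hδ : ∀ (j : ↥(RingHom.ker p.toAlgHom)) (g : (G1 p R).toExtension.Ring),
      δ (Extension.Cotangent.mk ⟨_, jmul_mem p R j g⟩) = 0)
    (x x' : (G1 p R).toExtension.ker) (hxx : redK p R x = redK p R x') :
    δ (Extension.Cotangent.mk x) = δ (Extension.Cotangent.mk x') := by
  have h1 : ((x - x' : (G1 p R).toExtension.ker) : (G1 p R).toExtension.Ring) ∈
      (maximalIdeal C').map (algebraMap C' (G1 p R).toExtension.Ring) := by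
    rw [← ker_red1, RingHom.mem_ker]
    have := congrArg Subtype.val (redK_sub p R x x')
    rw [hxx, sub_self] at this
    exact this
  have h2 := kill p R δ hp hδ (x - x') h1
  rw [map_sub, map_sub, sub_eq_zero] at h2
  exact h2

/-- a chosen lift of a kernel element of the closed fibre. -/
noncomputable def liftK (hp : Art.IsSemismallExt p) (x₀ : (G0 p R).toExtension.ker) :
    (G1 p R).toExtension.ker := Classical.choose (redK_surjective p R hp x₀)

theorem redK_liftK (hp : Art.IsSemismallExt p) (x₀ : (G0 p R).toExtension.ker) :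
    redK p R (liftK p R hp x₀) = x₀ := Classical.choose_spec (redK_surjective p R hp x₀)

/-- the descended linear map on the kernel. -/
noncomputable def descPsi (hp : Art.IsSemismallExt p)
    (hδ : ∀ (j : ↥(RingHom.ker p.toAlgHom)) (g : (G1 p R).toExtension.Ring),
      δ (Extension.Cotangent.mk ⟨_, jmul_mem p R j g⟩) = 0) :
    (G0 p R).toExtension.ker →ₗ[(G0 p R).toExtension.Ring] MR (G0 p R) (MQ p R) where
  toFun x₀ := ofM (δ (Extension.Cotangent.mk (liftK p R hp x₀)))
  map_add' x₀ y₀ := by
    rw [← ofM_add, ← map_add, ← map_add]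
    congr 1
    apply wd p R δ hp hδ
    rw [redK_add, redK_liftK, redK_liftK, redK_liftK]
  map_smul' r₀ x₀ := by
    obtain ⟨r, rfl⟩ := red1_surjective p R r₀
    apply toM_injective
    rw [RingHom.id_apply, toM_smul, toM_ofM, toM_ofM, ← smul_MQ_alg1, ← phi_smul, ← map_smul]
    apply wd p R δ hp hδ
    rw [redK_smul, redK_liftK, redK_liftK]

theorem descPsi_mul (hp : Art.IsSemismallExt p)
    (hδ : ∀ (j : ↥(RingHom.ker p.toAlgHom)) (g : (G1 p R).toExtension.Ring),
      δ (Extension.Cotangent.mk ⟨_, jmul_mem p R j g⟩) = 0)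
    (x₀ y₀ : (G0 p R).toExtension.ker) : descPsi p R δ hp hδ (x₀ * y₀) = 0 := by
  show ofM (δ (Extension.Cotangent.mk (liftK p R hp (x₀ * y₀)))) = 0
  have h1 := wd p R δ hp hδ (liftK p R hp (x₀ * y₀)) (liftK p R hp x₀ * liftK p R hp y₀)
    (by rw [redK_mul, redK_liftK, redK_liftK, redK_liftK])
  rw [h1, mk_mul_eq_zero, map_zero, ofM_zero]

/-- every map killing the multiples of `J` descends to the closed fibre. -/
theorem exists_descent (hp : Art.IsSemismallExt p)
    (hδ : ∀ (j : ↥(RingHom.ker p.toAlgHom)) (g : (G1 p R).toExtension.Ring),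
      δ (Extension.Cotangent.mk ⟨_, jmul_mem p R j g⟩) = 0) :
    ∃ h : (G0 p R).toExtension.Cotangent →ₗ[B₀] MQ p R, pullH p R h = δ := by
  refine ⟨mkCotHom (descPsi p R δ hp hδ) (descPsi_mul p R δ hp hδ), ?_⟩
  refine LinearMap.ext fun y => ?_
  obtain ⟨x, rfl⟩ := Extension.Cotangent.mk_surjective y
  rw [pullH_mk, mkCotHom_mk]
  show δ (Extension.Cotangent.mk (liftK p R hp (redK p R x))) = _
  apply wd p R δ hp hδ
  rw [redK_liftK]

end descent

end Groth.Agent.Lib.Helper59.TorsB
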