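import Mathlib
import Groth.Agent.Lib.Helper59.TorsB
import Groth.Agent.Lib.Helper59.LiftRel
import Groth.Agent.Lib.Helper59.CotTIndep01

/-!
# Classification of the extensions of an affine deformation over a surjection with kernel killed by
the maximal ideal: ring level (helper59)
-/

set_option autoImplicit false
set_option linter.style.haveILetI false
set_option linter.unusedSectionVars false
universe u
open CategoryTheory IsLocalRing ArtFun TensorProduct

namespace Groth.Agent.Lib.Helper59.TorsC

open Groth.Agent.Lib.Helper59.AffDefAPI Groth.Agent.Lib.Helper59.TorsA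
open Groth.Agent.Lib.Helper59.TorsB
open Groth.Agent.Lib.Helper59.ExalT1 Algebra

section generic

variable {A B : Type u} [CommRing A] [CommRing B] [Algebra A B] {ι : Type u}
  {G : Algebra.Generators A B ι} {M : Type u} [AddCommGroup M] [Module B M]

/-- the maps on the conormal module coming from the differentials are the restrictions of
derivations. -/
theorem mem_range_iff (φ : G.toExtension.Cotangent →ₗ[B] M) :
    φ ∈ LinearMap.range (LinearMap.lcomp B M G.toExtension.cotangentComplex) ↔
      ∃ D : Derivation A G.toExtension.Ring (MR G M),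
        ∀ x : G.toExtension.ker, φ (Extension.Cotangent.mk x) = toM (D x) := by
  constructor
  · rintro ⟨ψ, rfl⟩
    refine ⟨derOf ψ, fun x => ?_⟩
    rw [LinearMap.lcomp_apply', LinearMap.comp_apply, Extension.cotangentComplex_mk, toM_derOf]
  · rintro ⟨D, hD⟩
    refine ⟨toMl ∘ₗ LinearMap.liftBaseChange B D.liftKaehlerDifferential, ?_⟩
    refine LinearMap.ext fun y => ?_
    obtain ⟨x, rfl⟩ := Extension.Cotangent.mk_surjective y
    rw [LinearMap.lcomp_apply', LinearMap.comp_apply, Extension.cotangentComplex_mk,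
      LinearMap.comp_apply, LinearMap.liftBaseChange_tmul, one_smul,
      Derivation.liftKaehlerDifferential_comp_D, hD]
    rfl

/-- a bijection from two surjections with the same fibres. -/
theorem nonempty_equiv_of_fibres {α β γ : Type*} (g : α → β) (q : α → γ)
    (hg : Function.Surjective g) (hq : Function.Surjective q)
    (h : ∀ a a', g a = g a' ↔ q a = q a') : Nonempty (β ≃ γ) := by
  classical
  let F : γ → β := fun c => g (Function.surjInv hq c)
  have hF : ∀ a, F (q a) = g a := fun a =>
    (h _ _).mpr (Function.surjInv_eq hq (q a))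
  have hbij : Function.Bijective F := by
    constructor
    · intro c c' hcc
      obtain ⟨a, rfl⟩ := hq c
      obtain ⟨a', rfl⟩ := hq c'
      rw [hF, hF] at hcc
      exact (h _ _).mp hcc
    · intro b
      obtain ⟨a, rfl⟩ := hg b
      exact ⟨q a, hF a⟩
  exact ⟨(Equiv.ofBijective F hbij).symm⟩

end generic

variable {k : Type u} [Field k] {B₀ : Type u} [CommRing B₀] [Algebra k B₀] {C' C : Art k k}
  (p : C' ⟶ C) (R : RingDef B₀ C)

section der

/-- pull back a derivation of the polynomial ring of the closed fibre. -/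
noncomputable def pullDer
    (D₀ : Derivation k (G0 p R).toExtension.Ring (MR (G0 p R) (MQ p R))) :
    Derivation C' (G1 p R).toExtension.Ring (MR (G1 p R) (MQ p R)) :=
  Derivation.mk'
    { toFun := fun g => ofM (toM (D₀ (red1 p R g)))
      map_add' := fun g g' => by rw [map_add, map_add, toM_add, ofM_add]
      map_smul' := fun c g => by
        apply toM_injective
        have h1 : red1 p R (c • g) = (C'.res c) • red1 p R g := by
          rw [Algebra.smul_def, map_mul, Algebra.smul_def]
          congr 1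
          exact red1_C p R c
        rw [RingHom.id_apply, toM_ofM, toM_smulA, toM_ofM, h1, Derivation.map_smul, toM_smulA, smul_MQ,
          algebraMap_RB, R.q_alg, Art.res_app] }
    (fun g g' => by
      apply toM_injective
      show toM (D₀ (red1 p R (g * g'))) =
        toM (g • ofM (toM (D₀ (red1 p R g'))) + g' • ofM (toM (D₀ (red1 p R g))))
      rw [map_mul, Derivation.leibniz, toM_add, toM_add, toM_smul, toM_smul, toM_smul, toM_smul,
        toM_ofM, toM_ofM, smul_MQ_alg1, smul_MQ_alg1])

theorem toM_pullDer (D₀ : Derivation k (G0 p R).toExtension.Ring (MR (G0 p R) (MQ p R)))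
    (g : (G1 p R).toExtension.Ring) : toM (pullDer p R D₀ g) = toM (D₀ (red1 p R g)) := rfl

/-- a pulled back map comes from the differentials iff the original one does. -/
theorem pullH_mem_range_iff (hp : Art.IsSemismallExt p)
    (h : (G0 p R).toExtension.Cotangent →ₗ[B₀] MQ p R) :
    pullH p R h ∈ LinearMap.range
        (LinearMap.lcomp (RB p R) (MQ p R) (G1 p R).toExtension.cotangentComplex) ↔
      h ∈ LinearMap.range
        (LinearMap.lcomp B₀ (MQ p R) (G0 p R).toExtension.cotangentComplex) := by
  rw [mem_range_iff, mem_range_iff]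
  constructor
  · rintro ⟨D', hD'⟩
    letI : Module (MvPolynomial (RB p R) k) (MR (G0 p R) (MQ p R)) :=
      instModR (G0 p R) (MQ p R)
    haveI : IsScalarTower k (MvPolynomial (RB p R) k) (MR (G0 p R) (MQ p R)) :=
      inferInstanceAs (IsScalarTower k (G0 p R).toExtension.Ring (MR (G0 p R) (MQ p R)))
    let D₀ : Derivation k (MvPolynomial (RB p R) k) (MR (G0 p R) (MQ p R)) :=
      MvPolynomial.mkDerivation k (fun b : RB p R => ofM (toM (D' (MvPolynomial.X b))))
    have hD₀ : ∀ b : RB p R, D₀ (MvPolynomial.X b) = ofM (toM (D' (MvPolynomial.X b))) :=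
      fun b => MvPolynomial.mkDerivation_X _ _ _
    let D₀' : Derivation k (G0 p R).toExtension.Ring (MR (G0 p R) (MQ p R)) := D₀
    letI : Module (MvPolynomial (RB p R) C') (MR (G1 p R) (MQ p R)) :=
      instModR (G1 p R) (MQ p R)
    have key : pullDer p R D₀' = D' := by
      apply MvPolynomial.derivation_ext
      intro b
      have e2 : D₀' (red1 p R (MvPolynomial.X b)) = ofM (toM (D' (MvPolynomial.X b))) := by
        rw [red1_X]
        exact hD₀ b
      exact congrArg (fun z => ofM (G := G1 p R) (toM z)) e2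
    refine ⟨D₀', fun x₀ => ?_⟩
    obtain ⟨x, rfl⟩ := redK_surjective p R hp x₀
    rw [← pullH_mk, hD', ← key, toM_pullDer]
    rfl
  · rintro ⟨D₀, hD₀⟩
    refine ⟨pullDer p R D₀, fun x => ?_⟩
    rw [pullH_mk, hD₀, toM_pullDer]
    rfl

end der

section can

variable {p R}

theorem isCanHom_phiOf {X : Exal.Ext C' (RB p R) (MQ p R)} (hX : IsCan X)
    (L : Lift (G1 p R) X) : IsCanHom p R (phiOf L) := by
  intro j g
  apply X.isExtension.incl_injective
  rw [incl_phiOf_mk]
  show L.s (algebraMap C' (G1 p R).toExtension.Ring (j : C') * g) = _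
  rw [map_mul, AlgHom.commutes, ← Algebra.smul_def, hX j (L.s g), L.proj_s]

theorem isCan_extOf (φ : (G1 p R).toExtension.Cotangent →ₗ[RB p R] MQ p R)
    (hφ : IsCanHom p R φ) : IsCan (extOf φ) := by
  intro j e
  obtain ⟨z, rfl⟩ := emk_surjective φ e
  show (j : C') • emk φ z = eincl φ (R.q (eproj φ (emk φ z)) ⊗ₜ[k] j)
  rw [eproj_emk, ← hφ j z.fst, eincl_apply, Algebra.smul_def, algebraMap_ECar, ← map_mul,
    ← sub_eq_zero, ← map_sub, emk_eq_zero_iff]
  refine ⟨⟨_, jmul_mem p R j z.fst⟩, ?_, ?_⟩
  · rw [TrivSqZeroExt.fst_sub, TrivSqZeroExt.fst_mul, TrivSqZeroExt.fst_inl,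
      TrivSqZeroExt.fst_inr, sub_zero]
  · rw [TrivSqZeroExt.snd_sub, TrivSqZeroExt.snd_mul, TrivSqZeroExt.fst_inl,
      TrivSqZeroExt.snd_inl, TrivSqZeroExt.snd_inr, smul_zero, add_zero, toM_sub, toM_smul,
      toM_ofM, ← IsScalarTower.algebraMap_apply C' (G1 p R).toExtension.Ring (RB p R),
      algebraMap_RB_of_mem p R j.2, zero_smul, zero_sub]

theorem isCanHom_add_pullH (φ : (G1 p R).toExtension.Cotangent →ₗ[RB p R] MQ p R)
    (hφ : IsCanHom p R φ) (h : (G0 p R).toExtension.Cotangent →ₗ[B₀] MQ p R) :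
    IsCanHom p R (φ + pullH p R h) := by
  intro j g
  rw [LinearMap.add_apply, hφ j g, pullH_jmul, add_zero]

end can


/-- a variable of the polynomial ring. -/
noncomputable def varX (b : RB p R) : (G1 p R).toExtension.Ring := MvPolynomial.X b

section ofExt

variable {p R} (X : Exal.Ext C' (RB p R) (MQ p R)) (hX : IsCan X)

include hX in
theorem incl_mem_map (I : Ideal C') (hI : RingHom.ker p.toAlgHom ≤ I) (z : MQ p R) :
    X.incl z ∈ I.map (algebraMap C' X.E) := by
  induction z using TensorProduct.induction_on with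
  | zero => rw [map_zero]; exact Ideal.zero_mem _
  | tmul b j =>
    obtain ⟨r, rfl⟩ := R.q_surj b
    obtain ⟨e, he⟩ := X.isExtension.proj_surjective (toRB p R r)
    have h1 := hX j e
    rw [he] at h1
    have h2 : X.incl (R.q r ⊗ₜ[k] j) = (j : C') • e := h1.symm
    rw [h2, Algebra.smul_def]
    exact Ideal.mul_mem_right _ _ (Ideal.mem_map_of_mem _ (hI j.2))
  | add x y hx hy => rw [map_add]; exact Ideal.add_mem _ hx hy

include hX in
theorem exists_J_lift (L : Lift (G1 p R) X) (z : MQ p R) :
    ∃ w ∈ (RingHom.ker p.toAlgHom.toRingHom).map (algebraMap C' (G1 p R).toExtension.Ring),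
      L.s w = X.incl z := by
  induction z using TensorProduct.induction_on with
  | zero => exact ⟨0, Ideal.zero_mem _, by rw [map_zero, map_zero]⟩
  | tmul b j =>
    obtain ⟨r, rfl⟩ := R.q_surj b
    refine ⟨algebraMap C' (G1 p R).toExtension.Ring (j : C') * varX p R (toRB p R r),
      Ideal.mul_mem_right _ _ (Ideal.mem_map_of_mem _ j.2), ?_⟩
    have h1 : algebraMap (G1 p R).toExtension.Ring (RB p R) (varX p R (toRB p R r)) =
        toRB p R r := by
      rw [alg1_apply]
      exact MvPolynomial.aeval_X _ _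
    rw [map_mul, AlgHom.commutes, ← Algebra.smul_def, hX j, L.proj_s, h1]
    rfl
  | add x y hx hy =>
    obtain ⟨w, hw, e1⟩ := hx
    obtain ⟨w', hw', e2⟩ := hy
    exact ⟨w + w', Ideal.add_mem _ hw hw', by rw [map_add, map_add, e1, e2]⟩

include hX in
theorem lift_surjective (L : Lift (G1 p R) X) : Function.Surjective L.s := by
  intro e
  obtain ⟨g, hg⟩ := (G1 p R).toExtension.algebraMap_surjective (X.proj e)
  have h1 : X.proj (e - L.s g) = 0 := by rw [map_sub, L.proj_s, hg, sub_self]
  obtain ⟨z, hz⟩ := (X.isExtension.exact _).1 h1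
  obtain ⟨w, -, hw⟩ := exists_J_lift X hX L z
  refine ⟨g + w, ?_⟩
  rw [map_add, hw, hz]
  ring

theorem max_mul_J (hp : Art.IsSemismallExt p) {m : C'} (hm : m ∈ maximalIdeal C')
    {w : (G1 p R).toExtension.Ring}
    (hw : w ∈ (RingHom.ker p.toAlgHom.toRingHom).map
      (algebraMap C' (G1 p R).toExtension.Ring)) :
    algebraMap C' (G1 p R).toExtension.Ring m * w = 0 := by
  refine Submodule.span_induction
    (p := fun w _ => algebraMap C' (G1 p R).toExtension.Ring m * w = 0) ?_ ?_ ?_ ?_ hw
  · rintro _ ⟨j, hj, rfl⟩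
    rw [← map_mul, mul_eq_zero_of_mem p hp hm hj, map_zero]
  · exact mul_zero _
  · intro x y _ _ hx hy
    rw [mul_add, hx, hy, add_zero]
  · intro a x _ hx
    rw [smul_eq_mul, mul_left_comm, hx, mul_zero]

include hX in
/-- an extension with the canonical action is flat over the base as soon as one flat extension
exists. -/
theorem flat_of_isCan (hp : Art.IsSemismallExt p) (E₀ : ExtData p R) : Module.Flat C' X.E := by
  obtain ⟨L⟩ := exists_lift (G := G1 p R) X
  obtain ⟨L₀⟩ := exists_lift (G := G1 p R) (E₀.toExt hp)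
  have hX₀ : IsCan (E₀.toExt hp) := E₀.toExt_isCan hp
  have hs : Function.Surjective L.s := lift_surjective X hX L
  have hs₀ : Function.Surjective L₀.s := lift_surjective _ hX₀ L₀
  haveI : Module.Flat C' (G1 p R).toExtension.Ring :=
    inferInstanceAs (Module.Flat C' (MvPolynomial (RB p R) C'))
  haveI : Module.Flat C' (E₀.toExt hp).E := E₀.R'.flat
  have hδ : ∀ (j : ↥(RingHom.ker p.toAlgHom)) (g : (G1 p R).toExtension.Ring),
      (phiOf L - phiOf L₀) (Extension.Cotangent.mk ⟨_, jmul_mem p R j g⟩) = 0 := by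
    intro j g
    rw [LinearMap.sub_apply, isCanHom_phiOf hX L j g, isCanHom_phiOf hX₀ L₀ j g, sub_self]
  have hfl : Module.Flat C'
      ((G1 p R).toExtension.Ring ⧸ RingHom.ker L.s) := by
    apply LiftRel.flat_quotient_of_inter
    intro x hxK hxm
    have hsx : L.s x = 0 := hxK
    have hx1 : x ∈ (G1 p R).toExtension.ker := by
      show algebraMap (G1 p R).toExtension.Ring (RB p R) x = 0
      rw [← L.proj_s, hsx, map_zero]
    have h1 : phiOf L (Extension.Cotangent.mk ⟨x, hx1⟩) = 0 := by
      apply X.isExtension.incl_injective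
      rw [incl_phiOf_mk, map_zero]
      exact hsx
    have h2 := kill p R (phiOf L - phiOf L₀) hp hδ ⟨x, hx1⟩ hxm
    rw [LinearMap.sub_apply, h1, zero_sub, neg_eq_zero] at h2
    have h3 : L₀.s x = 0 := by
      have := incl_phiOf_mk L₀ ⟨x, hx1⟩
      rw [h2, map_zero] at this
      exact this.symm
    have h4 : x ∈ maximalIdeal C' • LinearMap.ker L₀.s.toLinearMap := by
      refine Groth.Agent.Lib.Helper67.mem_smul_ker_of_flat L₀.s.toLinearMap hs₀ (maximalIdeal C')
        x ?_ h3
      rw [Ideal.smul_top_eq_map, Submodule.restrictScalars_mem]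
      exact hxm
    refine Submodule.smul_induction_on h4 ?_ ?_
    · intro m hm y hy
      have hy0 : L₀.s y = 0 := hy
      have hy1 : y ∈ (G1 p R).toExtension.ker := by
        show algebraMap (G1 p R).toExtension.Ring (RB p R) y = 0
        rw [← L₀.proj_s, hy0, map_zero]
      obtain ⟨w, hwJ, hw⟩ := exists_J_lift X hX L (phiOf L (Extension.Cotangent.mk ⟨y, hy1⟩))
      rw [incl_phiOf_mk] at hw
      have hyw : y - w ∈ (RingHom.ker L.s).restrictScalars C' := by
        show L.s (y - w) = 0
        rw [map_sub, hw]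
        exact sub_self _
      have h5 : m • y = m • (y - w) := by
        rw [smul_sub, Algebra.smul_def m w, max_mul_J hp hm hwJ, sub_zero]
      rw [h5]
      exact Submodule.smul_mem_smul hm hyw
    · intro a b ha hb
      exact Submodule.add_mem _ ha hb
  exact Module.Flat.of_linearEquiv
    (Ideal.quotientKerAlgEquivOfSurjective hs).symm.toLinearEquiv

/-- the reduction map of the middle ring of an extension. -/
noncomputable def qX : X.E →+* B₀ :=
  (show RB p R →+* B₀ from R.q).comp (X.proj : X.E →+* RB p R)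

theorem qX_apply (e : X.E) : qX X e = R.q (X.proj e) := rfl

theorem qX_surjective : Function.Surjective (qX X) := by
  intro b
  obtain ⟨r, rfl⟩ := R.q_surj b
  obtain ⟨e, he⟩ := X.isExtension.proj_surjective (toRB p R r)
  exact ⟨e, by rw [qX_apply, he]; rfl⟩

theorem qX_algebraMap (a : C') : qX X (algebraMap C' X.E a) = algebraMap k B₀ (C'.res a) := by
  rw [qX_apply, AlgHom.commutes, algebraMap_RB, R.q_alg, Art.res_app]

include hX in
theorem ker_qX (hp : Art.IsSemismallExt p) :
    RingHom.ker (qX X) = (maximalIdeal C').map (algebraMap C' X.E) := by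
  apply le_antisymm
  · intro e he
    have h1 : X.proj e ∈ (maximalIdeal C').map (algebraMap C' (RB p R)) :=
      ker_q_RB p R hp _ he
    have h2 : (maximalIdeal C').map (algebraMap C' (RB p R)) =
        ((maximalIdeal C').map (algebraMap C' X.E)).map (X.proj : X.E →+* RB p R) := by
      rw [Ideal.map_map]
      congr 1
      exact RingHom.ext fun a => (X.proj.commutes a).symm
    rw [h2] at h1
    obtain ⟨e', he', hee'⟩ :=
      (Ideal.mem_map_iff_of_surjective (X.proj : X.E →+* RB p R)
        X.isExtension.proj_surjective).mp h1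
    have h3 : X.proj (e - e') = 0 := by
      rw [map_sub]
      exact sub_eq_zero.mpr hee'.symm
    obtain ⟨z, hz⟩ := (X.isExtension.exact _).1 h3
    have h4 := incl_mem_map X hX (maximalIdeal C') (ker_le_max p) z
    rw [hz] at h4
    have h5 : e = e' + (e - e') := by ring
    rw [h5]
    exact Ideal.add_mem _ he' h4
  · rw [Ideal.map_le_iff_le_comap]
    intro m hm
    rw [Ideal.mem_comap, RingHom.mem_ker, qX_algebraMap,
      (Art.mem_maximalIdeal_iff C' m).mp hm, map_zero]

/-- the extension data attached to an extension with the canonical action, flat over the base. -/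
noncomputable def ofExt (hp : Art.IsSemismallExt p) (hfl : Module.Flat C' X.E) : ExtData p R where
  R' :=
    { B := X.E
      flat := hfl
      q := qX X
      q_surj := qX_surjective X
      ker_q := ker_qX X hX hp
      q_alg := qX_algebraMap X }
  π := (X.proj : X.E →+* RB p R)
  hπA := fun a' => X.proj.commutes a'
  hπq := fun _ => rfl
  hπ := X.isExtension.proj_surjective
  hker := by
    intro e he
    obtain ⟨z, hz⟩ := (X.isExtension.exact _).1 he
    have h4 := incl_mem_map X hX (RingHom.ker p.toAlgHom) le_rfl z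
    rw [hz] at h4
    exact h4

end ofExt

section compare

variable {p R}

theorem rel_of_equiv (hp : Art.IsSemismallExt p) {X X' : Exal.Ext C' (RB p R) (MQ p R)}
    (hX : IsCan X) (hX' : IsCan X') (hfl : Module.Flat C' X.E) (hfl' : Module.Flat C' X'.E)
    (θ : Exal.Ext.Equiv X X') :
    ExtData.Rel (ofExt X hX hp hfl) (ofExt X' hX' hp hfl') :=
  ⟨θ.toAlgEquiv.toRingEquiv, fun a => θ.toAlgEquiv.commutes a, fun b => θ.proj_apply b⟩

theorem equiv_of_rel (hp : Art.IsSemismallExt p) {X X' : Exal.Ext C' (RB p R) (MQ p R)}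
    (hX : IsCan X) (hX' : IsCan X') (hfl : Module.Flat C' X.E) (hfl' : Module.Flat C' X'.E)
    (h : ExtData.Rel (ofExt X hX hp hfl) (ofExt X' hX' hp hfl')) :
    Nonempty (Exal.Ext.Equiv X X') := by
  obtain ⟨θ, h1, h2⟩ := h
  let θ' : X.E ≃ₐ[C'] X'.E := AlgEquiv.ofRingEquiv (f := (θ : X.E ≃+* X'.E)) h1
  have hθ' : ∀ e, θ' e = θ e := fun _ => rfl
  refine ⟨⟨θ', fun e => h2 e, fun z => ?_⟩⟩
  induction z using TensorProduct.induction_on with
  | zero => rw [map_zero, map_zero, map_zero]
  | tmul b j =>
    obtain ⟨r, rfl⟩ := R.q_surj b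
    obtain ⟨e, he⟩ := X.isExtension.proj_surjective (toRB p R r)
    have e1 := hX j e
    rw [he] at e1
    have e2 := hX' j (θ' e)
    have e3 : X'.proj (θ' e) = toRB p R r := (h2 e).trans he
    rw [e3] at e2
    have e4 : X.incl (R.q r ⊗ₜ[k] j) = (j : C') • e := e1.symm
    have e5 : X'.incl (R.q r ⊗ₜ[k] j) = (j : C') • θ' e := e2.symm
    rw [e4, e5, map_smul]
  | add x y hx hy => rw [map_add, map_add, map_add, hx, hy]

theorem rel_ofExt_toExt (hp : Art.IsSemismallExt p) (E : ExtData p R)
    (hfl : Module.Flat C' (E.toExt hp).E) :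
    ExtData.Rel (ofExt (E.toExt hp) (E.toExt_isCan hp) hp hfl) E :=
  ⟨RingEquiv.refl _, fun _ => rfl, fun _ => rfl⟩

end compare

section classify

variable {p R}

/-- the classification of the extension data by maps on the conormal module of the closed fibre
modulo those coming from the differentials. -/
theorem nonempty_equiv_quot (hp : Art.IsSemismallExt p) (E₀ : ExtData p R) :
    Nonempty (Quot (ExtData.Rel (p := p) (R := R)) ≃
      Groth.Agent.Lib.Helper59.CotTIndep01.N1 (G0 p R).toExtension (MQ p R)) := by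
  obtain ⟨L₀⟩ := exists_lift (G := G1 p R) (E₀.toExt hp)
  have hX₀ : IsCan (E₀.toExt hp) := E₀.toExt_isCan hp
  have hφ₀ : IsCanHom p R (phiOf L₀) := isCanHom_phiOf hX₀ L₀
  have hcan : ∀ h : (G0 p R).toExtension.Cotangent →ₗ[B₀] MQ p R,
      IsCan (extOf (phiOf L₀ + pullH p R h)) :=
    fun h => isCan_extOf _ (isCanHom_add_pullH _ hφ₀ h)
  have hflat : ∀ h : (G0 p R).toExtension.Cotangent →ₗ[B₀] MQ p R,
      Module.Flat C' (extOf (phiOf L₀ + pullH p R h)).E :=
    fun h => flat_of_isCan _ (hcan h) hp E₀
  let Θ : ((G0 p R).toExtension.Cotangent →ₗ[B₀] MQ p R) → ExtData p R :=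
    fun h => ofExt (extOf (phiOf L₀ + pullH p R h)) (hcan h) hp (hflat h)
  have hrel : ∀ E₁ E₂ : ExtData p R, Quot.mk (ExtData.Rel (p := p) (R := R)) E₁ =
      Quot.mk (ExtData.Rel (p := p) (R := R)) E₂ ↔ ExtData.Rel E₁ E₂ := by
    intro E₁ E₂
    constructor
    · intro h
      have key : ∀ E₁ E₂ : ExtData p R,
          Relation.EqvGen (ExtData.Rel (p := p) (R := R)) E₁ E₂ → ExtData.Rel E₁ E₂ := by
        intro E₁ E₂ h1
        induction h1 with
        | rel _ _ h => exact h
        | refl _ => exact ExtData.Rel.refl _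
        | symm _ _ _ ih => exact ExtData.Rel.symm ih
        | trans _ _ _ _ _ ih1 ih2 => exact ExtData.Rel.trans ih1 ih2
      exact key _ _ (Quot.eqvGen_exact h)
    · exact fun h => Quot.sound h
  refine nonempty_equiv_of_fibres (fun h => Quot.mk (ExtData.Rel (p := p) (R := R)) (Θ h))
    (Submodule.Quotient.mk) ?_ (Submodule.Quotient.mk_surjective _) ?_
  · -- surjectivity
    intro c
    obtain ⟨E, rfl⟩ := Quot.exists_rep c
    obtain ⟨L⟩ := exists_lift (G := G1 p R) (E.toExt hp)
    have hXE : IsCan (E.toExt hp) := E.toExt_isCan hp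
    have hδ : ∀ (j : ↥(RingHom.ker p.toAlgHom)) (g : (G1 p R).toExtension.Ring),
        (phiOf L - phiOf L₀) (Extension.Cotangent.mk ⟨_, jmul_mem p R j g⟩) = 0 := by
      intro j g
      rw [LinearMap.sub_apply, isCanHom_phiOf hXE L j g, hφ₀ j g, sub_self]
    obtain ⟨h, hh⟩ := exists_descent p R (phiOf L - phiOf L₀) hp hδ
    have hφ : phiOf L₀ + pullH p R h = phiOf L := by rw [hh]; abel
    have h1 : Nonempty (Exal.Ext.Equiv (extOf (phiOf L₀ + pullH p R h)) (E.toExt hp)) := by
      rw [hφ]
      exact equivOfLift L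
    obtain ⟨θ⟩ := h1
    refine ⟨h, (hrel _ _).mpr ?_⟩
    haveI hflE : Module.Flat C' (E.toExt hp).E := E.R'.flat
    exact (rel_of_equiv hp (hcan h) hXE (hflat h) hflE θ).trans (rel_ofExt_toExt hp E hflE)
  · intro h h'
    rw [hrel, Submodule.Quotient.eq, ← pullH_mem_range_iff p R hp, pullH_sub]
    have e1 : pullH p R h - pullH p R h' =
        (phiOf L₀ + pullH p R h) - (phiOf L₀ + pullH p R h') := by abel
    rw [e1, ← cl_eq_iff]
    constructor
    · intro hr
      exact Quotient.sound (equiv_of_rel hp (hcan h) (hcan h') (hflat h) (hflat h') hr)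
    · intro hc
      obtain ⟨θ⟩ : Nonempty (Exal.Ext.Equiv (extOf (phiOf L₀ + pullH p R h))
        (extOf (phiOf L₀ + pullH p R h'))) := Quotient.exact hc
      exact rel_of_equiv hp (hcan h) (hcan h') (hflat h) (hflat h') θ

end classify

end Groth.Agent.Lib.Helper59.TorsC
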