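import Mathlib
import Groth.Agent.Lib.Helper59.TorsC

/-!
# Extensions of an affine deformation: from schemes to rings (helper59)
-/

set_option autoImplicit false
set_option linter.style.haveILetI false
set_option linter.unusedSectionVars false
universe u
open CategoryTheory AlgebraicGeometry Limits IsLocalRing ArtFun

namespace Groth.Agent.Lib.Helper59.TorsD

open Groth.Agent.Lib.Helper59.AffDefAPI Groth.Agent.Lib.Helper59.TorsA

/-- ring-level data extracted from a cartesian square of affine schemes over a surjection. -/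
theorem ring_facts_surj {A' A S' S : Type u} [CommRing A'] [CommRing A] [CommRing S'] [CommRing S]
    (f : A' →+* A) (g : A' →+* S') (π : S' →+* S) (g' : A →+* S) (hf : Function.Surjective f)
    (hsq : IsPullback (Spec.map (CommRingCat.ofHom π)) (Spec.map (CommRingCat.ofHom g'))
      (Spec.map (CommRingCat.ofHom g)) (Spec.map (CommRingCat.ofHom f))) :
    (∀ a, π (g a) = g' (f a)) ∧ Function.Surjective π ∧
      RingHom.ker π ≤ (RingHom.ker f).map g := by
  have hcomm : ∀ a, π (g a) = g' (f a) := by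
    intro a
    have hw := hsq.w
    rw [← Spec.map_comp, ← Spec.map_comp] at hw
    have hw' := Spec.map_injective hw
    exact congrArg (fun φ => φ.hom a) hw'
  set I : Ideal S' := (RingHom.ker f).map g with hI
  let mk : S' →+* S' ⧸ I := Ideal.Quotient.mk I
  have hle : RingHom.ker f ≤ RingHom.ker (mk.comp g) := by
    intro a ha
    rw [RingHom.mem_ker, RingHom.comp_apply]
    exact Ideal.Quotient.eq_zero_iff_mem.mpr (Ideal.mem_map_of_mem g ha)
  let g'' : A →+* S' ⧸ I := f.liftOfSurjective hf ⟨mk.comp g, hle⟩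
  have hg'' : mk.comp g = g''.comp f := (RingHom.liftOfSurjective_comp f hf ⟨mk.comp g, hle⟩).symm
  have hQ : IsPullback (Spec.map (CommRingCat.ofHom mk)) (Spec.map (CommRingCat.ofHom g''))
      (Spec.map (CommRingCat.ofHom g)) (Spec.map (CommRingCat.ofHom f)) := by
    refine (SurjPushout.isPullback_of_surjective f g mk g'' hg'' hf Ideal.Quotient.mk_surjective
      ?_).flip
    rw [Ideal.mk_ker]
  let θ := hQ.isoIsPullback _ _ hsq
  have hθ1 : θ.hom ≫ Spec.map (CommRingCat.ofHom π) = Spec.map (CommRingCat.ofHom mk) :=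
    IsPullback.isoIsPullback_hom_fst _ _ hQ hsq
  have hθ2 : θ.inv ≫ Spec.map (CommRingCat.ofHom mk) = Spec.map (CommRingCat.ofHom π) :=
    IsPullback.isoIsPullback_inv_fst _ _ hQ hsq
  let d : CommRingCat.of S ⟶ CommRingCat.of (S' ⧸ I) := Spec.preimage θ.hom
  let d' : CommRingCat.of (S' ⧸ I) ⟶ CommRingCat.of S := Spec.preimage θ.inv
  have hd : Spec.map d = θ.hom := Spec.map_preimage _
  have hd' : Spec.map d' = θ.inv := Spec.map_preimage _
  have h1 : CommRingCat.ofHom π ≫ d = CommRingCat.ofHom mk := by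
    apply Spec.map_injective
    rw [Spec.map_comp, hd, hθ1]
  have h2 : CommRingCat.ofHom mk ≫ d' = CommRingCat.ofHom π := by
    apply Spec.map_injective
    rw [Spec.map_comp, hd', hθ2]
  have h3 : d ≫ d' = 𝟙 _ := by
    apply Spec.map_injective
    rw [Spec.map_comp, hd, hd', Spec.map_id]
    exact θ.inv_hom_id
  have h1' : ∀ x, d.hom (π x) = mk x := fun x => congrArg (fun φ => φ.hom x) h1
  have h2' : ∀ x, d'.hom (mk x) = π x := fun x => congrArg (fun φ => φ.hom x) h2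
  have h3' : ∀ s, d'.hom (d.hom s) = s := fun s => congrArg (fun φ => φ.hom s) h3
  refine ⟨hcomm, ?_, ?_⟩
  · intro s
    obtain ⟨x, hx⟩ := Ideal.Quotient.mk_surjective (d.hom s)
    refine ⟨x, ?_⟩
    rw [← h2', show mk x = d.hom s from hx, h3']
  · intro x hx
    rw [RingHom.mem_ker] at hx
    have := h1' x
    rw [hx, map_zero] at this
    exact Ideal.Quotient.eq_zero_iff_mem.mp this.symm

variable {k : Type u} [Field k] {B₀ : Type u} [CommRing B₀] [Algebra k B₀] {A A' : Art k k}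

/-- a ring isomorphism compatible with the structure maps gives an isomorphism of deformations,
with known underlying morphism. -/
theorem iso_of_ringEquiv' (R R' : RingDef B₀ A) (φ : R.B ≃+* R'.B)
    (hA : ∀ a : A, φ (algebraMap A R.B a) = algebraMap A R'.B a)
    (hq : ∀ b, R'.q (φ b) = R.q b) :
    ∃ ψ : R.toDefSch.Iso R'.toDefSch,
      ψ.iso.hom = Spec.map (CommRingCat.ofHom (φ.symm : R'.B →+* R.B)) := by
  have h1 : CommRingCat.ofHom (φ : R.B →+* R'.B) ≫ CommRingCat.ofHom (φ.symm : R'.B →+* R.B) =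
      𝟙 _ := by
    ext b
    exact φ.symm_apply_apply b
  have h2 : CommRingCat.ofHom (φ.symm : R'.B →+* R.B) ≫ CommRingCat.ofHom (φ : R.B →+* R'.B) =
      𝟙 _ := by
    ext b
    exact φ.apply_symm_apply b
  let θ : Spec (CommRingCat.of R.B) ≅ Spec (CommRingCat.of R'.B) :=
    ⟨Spec.map (CommRingCat.ofHom (φ.symm : R'.B →+* R.B)),
      Spec.map (CommRingCat.ofHom (φ : R.B →+* R'.B)),
      by rw [← Spec.map_comp, h1, Spec.map_id], by rw [← Spec.map_comp, h2, Spec.map_id]⟩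
  have hθf : θ.hom ≫ Spec.map (CommRingCat.ofHom (algebraMap A R'.B)) =
      Spec.map (CommRingCat.ofHom (algebraMap A R.B)) := by
    show Spec.map _ ≫ Spec.map _ = Spec.map _
    rw [← Spec.map_comp]
    congr 1
    ext a
    show φ.symm (algebraMap A R'.B a) = algebraMap A R.B a
    rw [← hA, φ.symm_apply_apply]
  have hθi : Spec.map (CommRingCat.ofHom R.q) ≫ θ.hom = Spec.map (CommRingCat.ofHom R'.q) := by
    show Spec.map _ ≫ Spec.map _ = Spec.map _
    rw [← Spec.map_comp]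
    congr 1
    ext b
    show R.q (φ.symm b) = R'.q b
    rw [← hq, φ.apply_symm_apply]
  exact ⟨⟨θ, hθf, hθi⟩, rfl⟩

/-- an isomorphism of deformations attached to ring-level data comes from a ring isomorphism,
with known underlying morphism. -/
theorem exists_ringEquiv_of_iso' (R R' : RingDef B₀ A) (e : R.toDefSch.Iso R'.toDefSch) :
    ∃ φ : R.B ≃+* R'.B, (∀ a : A, φ (algebraMap A R.B a) = algebraMap A R'.B a) ∧
      (∀ b, R'.q (φ b) = R.q b) ∧
      Spec.map (CommRingCat.ofHom (φ.symm : R'.B →+* R.B)) = e.iso.hom := by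
  let ψ : CommRingCat.of R'.B ⟶ CommRingCat.of R.B := Spec.preimage e.iso.hom
  let ψ' : CommRingCat.of R.B ⟶ CommRingCat.of R'.B := Spec.preimage e.iso.inv
  have hψ : Spec.map ψ = e.iso.hom := Spec.map_preimage _
  have hψ' : Spec.map ψ' = e.iso.inv := Spec.map_preimage _
  have h1 : ψ' ≫ ψ = 𝟙 _ := by
    apply Spec.map_injective
    rw [Spec.map_comp, hψ, hψ', Spec.map_id]
    exact e.iso.hom_inv_id
  have h2 : ψ ≫ ψ' = 𝟙 _ := by
    apply Spec.map_injective
    rw [Spec.map_comp, hψ, hψ', Spec.map_id]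
    exact e.iso.inv_hom_id
  have h1' : ∀ b, ψ.hom (ψ'.hom b) = b := fun b => congrArg (fun f => f.hom b) h1
  have h2' : ∀ b, ψ'.hom (ψ.hom b) = b := fun b => congrArg (fun f => f.hom b) h2
  let φ : R.B ≃+* R'.B := RingEquiv.ofRingHom ψ'.hom ψ.hom (RingHom.ext h2') (RingHom.ext h1')
  have hφ : ∀ b, φ b = ψ'.hom b := fun b => rfl
  have hφs : ∀ b, φ.symm b = ψ.hom b := fun b => rfl
  have hf : CommRingCat.ofHom (algebraMap A R'.B) ≫ ψ = CommRingCat.ofHom (algebraMap A R.B) := by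
    apply Spec.map_injective
    rw [Spec.map_comp, hψ]
    exact e.hom_f
  have hi : ψ ≫ CommRingCat.ofHom R.q = CommRingCat.ofHom R'.q := by
    apply Spec.map_injective
    rw [Spec.map_comp, hψ]
    exact e.i_hom
  refine ⟨φ, fun a => ?_, fun b => ?_, ?_⟩
  · have h3 : ψ.hom (algebraMap A R'.B a) = algebraMap A R.B a :=
      congrArg (fun f => f.hom a) hf
    rw [← h3, hφ, h2']
  · have h3 : R.q (ψ.hom (φ b)) = R'.q (φ b) := congrArg (fun f => f.hom (φ b)) hi
    rw [← h3, hφ, h1']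
  · rw [← hψ]
    congr 1

/-- the base change of the deformation of ring-level data along a surjection, with known
underlying morphism. -/
theorem baseChange_iso' (p : A' ⟶ A) (hp : Function.Surjective p)
    (R' : RingDef B₀ A') (R : RingDef B₀ A) (π : R'.B →+* R.B)
    (hπA : ∀ a' : A', π (algebraMap A' R'.B a') = algebraMap A R.B (p a'))
    (hπq : ∀ b, R.q (π b) = R'.q b) (hπ : Function.Surjective π)
    (hker : RingHom.ker π ≤ (RingHom.ker p.toAlgHom.toRingHom).map (algebraMap A' R'.B)) :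
    ∃ θ : (R'.toDefSch.baseChange p).Iso R.toDefSch,
      θ.iso.hom ≫ Spec.map (CommRingCat.ofHom π) = pullback.fst _ _ := by
  have hstar : IsPullback (Spec.map (CommRingCat.ofHom π)) R.toDefSch.f R'.toDefSch.f
      (Art.specMap p) := by
    refine (SurjPushout.isPullback_of_surjective p.toAlgHom.toRingHom (algebraMap A' R'.B) π
      (algebraMap A R.B) ?_ hp hπ hker).flip
    ext a'
    exact hπA a'
  let θ := (IsPullback.of_hasPullback R'.toDefSch.f (Art.specMap p)).isoIsPullback _ _ hstar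
  have hθ1 : θ.hom ≫ Spec.map (CommRingCat.ofHom π) = pullback.fst _ _ :=
    IsPullback.isoIsPullback_hom_fst _ _ _ _
  have hθ2 : θ.hom ≫ R.toDefSch.f = pullback.snd _ _ :=
    IsPullback.isoIsPullback_hom_snd _ _ _ _
  have hi1 : (R'.toDefSch.baseChange p).i ≫ pullback.fst _ _ = R'.toDefSch.i :=
    DefSch.baseChange_i_fst R'.toDefSch p
  have hi2 : (R'.toDefSch.baseChange p).i ≫ pullback.snd _ _ =
      Spec.map (CommRingCat.ofHom (algebraMap k B₀)) ≫ Art.specRes A :=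
    DefSch.baseChange_i_f R'.toDefSch p
  have hRi : R.toDefSch.i ≫ Spec.map (CommRingCat.ofHom π) = R'.toDefSch.i := by
    show Spec.map _ ≫ Spec.map _ = Spec.map _
    rw [← Spec.map_comp]
    congr 1
    ext b
    exact hπq b
  refine ⟨⟨θ, hθ2, ?_⟩, hθ1⟩
  apply hstar.hom_ext
  · exact ((Category.assoc _ _ _).trans ((congrArg _ hθ1).trans hi1)).trans hRi.symm
  · exact ((Category.assoc _ _ _).trans ((congrArg _ hθ2).trans hi2)).trans
      (DefSch.i_f R.toDefSch).symm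

section main

variable {C' C : Art k k} (p : C' ⟶ C)
  (𝒳 : DefSch (Spec (CommRingCat.of B₀)) (Spec.map (CommRingCat.ofHom (algebraMap k B₀))) C)

/-- the extensions of a deformation to a bigger base. -/
abbrev ExtS : Type (u + 1) :=
  Σ 𝒳' : DefSch (Spec (CommRingCat.of B₀)) (Spec.map (CommRingCat.ofHom (algebraMap k B₀))) C',
    (𝒳'.baseChange p).Iso 𝒳

/-- equivalence of extensions. -/
def relS (a b : ExtS p 𝒳) : Prop :=
  ∃ ψ : a.1.Iso b.1, ((ψ.baseChange p).trans b.2).iso = a.2.iso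

/-- the map from the given deformation to the total space of an extension. -/
noncomputable def uS (a : ExtS p 𝒳) : 𝒳.total ⟶ a.1.total :=
  a.2.iso.inv ≫ pullback.fst a.1.f (Art.specMap p)

/-- equivalence of extensions, in terms of the maps `uS`. -/
def relS' (a b : ExtS p 𝒳) : Prop :=
  ∃ ψ : a.1.Iso b.1, uS p 𝒳 a ≫ ψ.iso.hom = uS p 𝒳 b

theorem relS_iff (a b : ExtS p 𝒳) : relS p 𝒳 a b ↔ relS' p 𝒳 a b := by
  constructor
  · rintro ⟨ψ, h⟩
    refine ⟨ψ, ?_⟩
    have h1 : DefSch.pullMap ψ.iso.hom ψ.hom_f p ≫ b.2.iso.hom = a.2.iso.hom :=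
      congrArg Iso.hom h
    have h2 : a.2.iso.inv ≫ DefSch.pullMap ψ.iso.hom ψ.hom_f p = b.2.iso.inv := by
      rw [Iso.inv_comp_eq, ← h1, Category.assoc, Iso.hom_inv_id, Category.comp_id]
    show (a.2.iso.inv ≫ pullback.fst a.1.f (Art.specMap p)) ≫ ψ.iso.hom =
      b.2.iso.inv ≫ pullback.fst b.1.f (Art.specMap p)
    rw [Category.assoc, ← DefSch.pullMap_fst ψ.iso.hom ψ.hom_f p, ← Category.assoc, h2]
  · rintro ⟨ψ, h⟩
    refine ⟨ψ, ?_⟩
    have h2 : a.2.iso.inv ≫ DefSch.pullMap ψ.iso.hom ψ.hom_f p = b.2.iso.inv := by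
      apply pullback.hom_ext
      · rw [Category.assoc, DefSch.pullMap_fst, ← Category.assoc]
        exact h
      · rw [Category.assoc, DefSch.pullMap_snd]
        exact (a.2.symm.hom_f).trans (b.2.symm.hom_f).symm
    apply Iso.ext
    show DefSch.pullMap ψ.iso.hom ψ.hom_f p ≫ b.2.iso.hom = a.2.iso.hom
    rw [Iso.inv_comp_eq] at h2
    rw [h2, Category.assoc, Iso.inv_hom_id, Category.comp_id]

theorem relS'_refl (a : ExtS p 𝒳) : relS' p 𝒳 a a :=
  ⟨DefSch.Iso.refl a.1, Category.comp_id _⟩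

theorem relS'_symm {a b : ExtS p 𝒳} (h : relS' p 𝒳 a b) : relS' p 𝒳 b a := by
  obtain ⟨ψ, h⟩ := h
  refine ⟨ψ.symm, ?_⟩
  show uS p 𝒳 b ≫ ψ.iso.inv = uS p 𝒳 a
  rw [← h, Category.assoc, Iso.hom_inv_id, Category.comp_id]

theorem relS'_trans {a b c : ExtS p 𝒳} (h : relS' p 𝒳 a b) (h' : relS' p 𝒳 b c) :
    relS' p 𝒳 a c := by
  obtain ⟨ψ, h⟩ := h
  obtain ⟨ψ', h'⟩ := h'
  refine ⟨ψ.trans ψ', ?_⟩
  show uS p 𝒳 a ≫ ψ.iso.hom ≫ ψ'.iso.hom = uS p 𝒳 c
  rw [← Category.assoc, h, h']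

theorem quot_mk_eq_iff (a b : ExtS p 𝒳) :
    Quot.mk (relS p 𝒳) a = Quot.mk (relS p 𝒳) b ↔ relS' p 𝒳 a b := by
  constructor
  · intro h
    have key : ∀ a b : ExtS p 𝒳, Relation.EqvGen (relS p 𝒳) a b → relS' p 𝒳 a b := by
      intro a b h1
      induction h1 with
      | rel _ _ h => exact (relS_iff p 𝒳 _ _).mp h
      | refl _ => exact relS'_refl p 𝒳 _
      | symm _ _ _ ih => exact relS'_symm p 𝒳 ih
      | trans _ _ _ _ _ ih1 ih2 => exact relS'_trans p 𝒳 ih1 ih2
    exact key _ _ (Quot.eqvGen_exact h)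
  · exact fun h => Quot.sound ((relS_iff p 𝒳 _ _).mpr h)

variable (hp : Art.IsSemismallExt p) (R : RingDef B₀ C) (e₀ : 𝒳.Iso R.toDefSch)

/-- the extension attached to ring-level extension data. -/
noncomputable def VS (E : ExtData p R) : ExtS p 𝒳 :=
  ⟨E.R'.toDefSch,
    (Classical.choose (baseChange_iso' p hp.1 E.R' R E.π E.hπA E.hπq E.hπ E.hker)).trans
      e₀.symm⟩

theorem uS_VS (E : ExtData p R) :
    uS p 𝒳 (VS p 𝒳 hp R e₀ E) = e₀.iso.hom ≫ Spec.map (CommRingCat.ofHom E.π) := by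
  have h := Classical.choose_spec (baseChange_iso' p hp.1 E.R' R E.π E.hπA E.hπq E.hπ E.hker)
  set θ := Classical.choose (baseChange_iso' p hp.1 E.R' R E.π E.hπA E.hπq E.hπ E.hker) with hθ
  show (θ.iso ≪≫ e₀.symm.iso).inv ≫ pullback.fst _ _ = _
  rw [Iso.trans_inv, Category.assoc]
  congr 1
  rw [Iso.inv_comp_eq]
  exact h.symm

theorem rel_iff_relS' (E₁ E₂ : ExtData p R) :
    ExtData.Rel E₁ E₂ ↔ relS' p 𝒳 (VS p 𝒳 hp R e₀ E₁) (VS p 𝒳 hp R e₀ E₂) := by
  constructor
  · rintro ⟨θ, h1, h2⟩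
    have hq : ∀ b, E₂.R'.q (θ b) = E₁.R'.q b := by
      intro b
      rw [← E₂.hπq, h2, E₁.hπq]
    obtain ⟨ψ, hψ⟩ := iso_of_ringEquiv' E₁.R' E₂.R' θ h1 hq
    refine ⟨ψ, ?_⟩
    have hkey' : Spec.map (CommRingCat.ofHom E₁.π) ≫
        Spec.map (CommRingCat.ofHom (θ.symm : E₂.R'.B →+* E₁.R'.B)) =
        Spec.map (CommRingCat.ofHom E₂.π) := by
      rw [← Spec.map_comp]
      congr 1
      ext b
      show E₁.π (θ.symm b) = E₂.π b
      rw [← h2, θ.apply_symm_apply]
    have hkey : Spec.map (CommRingCat.ofHom E₁.π) ≫ ψ.iso.hom =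
        Spec.map (CommRingCat.ofHom E₂.π) := by
      rw [hψ]
      exact hkey'
    rw [uS_VS, uS_VS]
    exact (Category.assoc _ _ _).trans (congrArg (fun t => e₀.iso.hom ≫ t) hkey)
  · rintro ⟨ψ, h⟩
    obtain ⟨φ, h1, -, h3⟩ := exists_ringEquiv_of_iso' E₁.R' E₂.R' ψ
    have h' : e₀.iso.hom ≫ (Spec.map (CommRingCat.ofHom E₁.π) ≫ ψ.iso.hom) =
        e₀.iso.hom ≫ Spec.map (CommRingCat.ofHom E₂.π) := by
      have := h
      rw [uS_VS, uS_VS] at this
      exact (Category.assoc _ _ _).symm.trans this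
    have h4 : Spec.map (CommRingCat.ofHom E₁.π) ≫ ψ.iso.hom =
        Spec.map (CommRingCat.ofHom E₂.π) := (cancel_epi e₀.iso.hom).mp h'
    have h4' : Spec.map (CommRingCat.ofHom E₁.π) ≫
        Spec.map (CommRingCat.ofHom (φ.symm : E₂.R'.B →+* E₁.R'.B)) =
        Spec.map (CommRingCat.ofHom E₂.π) := by
      have := h4
      rw [← h3] at this
      exact this
    rw [← Spec.map_comp] at h4'
    have h5 := Spec.map_injective h4'
    refine ⟨φ, h1, fun b => ?_⟩
    have h6 : E₁.π (φ.symm (φ b)) = E₂.π (φ b) := congrArg (fun f => f.hom (φ b)) h5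
    rw [φ.symm_apply_apply] at h6
    exact h6.symm

theorem exists_relS' (a : ExtS p 𝒳) : ∃ E : ExtData p R, relS' p 𝒳 a (VS p 𝒳 hp R e₀ E) := by
  obtain ⟨R', ⟨e'⟩⟩ := exists_ringDef a.1
  let v : Spec (CommRingCat.of R.B) ⟶ Spec (CommRingCat.of R'.B) :=
    e₀.iso.inv ≫ uS p 𝒳 a ≫ e'.iso.hom
  let π : R'.B →+* R.B := (Spec.preimage v).hom
  have hπv : Spec.map (CommRingCat.ofHom π) = v := Spec.map_preimage v
  have hsq : IsPullback v R.toDefSch.f R'.toDefSch.f (Art.specMap p) := by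
    refine (IsPullback.of_hasPullback a.1.f (Art.specMap p)).of_iso (a.2.iso ≪≫ e₀.iso) e'.iso
      (Iso.refl _) (Iso.refl _) ?_ ?_ ?_ ?_
    · show pullback.fst a.1.f (Art.specMap p) ≫ e'.iso.hom =
        (a.2.iso.hom ≫ e₀.iso.hom) ≫ e₀.iso.inv ≫ (a.2.iso.inv ≫ pullback.fst _ _) ≫ e'.iso.hom
      simp
    · show pullback.snd a.1.f (Art.specMap p) ≫ 𝟙 _ = (a.2.iso.hom ≫ e₀.iso.hom) ≫ R.toDefSch.f
      rw [Category.comp_id, Category.assoc, e₀.hom_f, a.2.hom_f]
    · rw [Iso.refl_hom, Category.comp_id]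
      exact e'.hom_f.symm
    · simp
  have hsq' : IsPullback (Spec.map (CommRingCat.ofHom π))
      (Spec.map (CommRingCat.ofHom (algebraMap C R.B)))
      (Spec.map (CommRingCat.ofHom (algebraMap C' R'.B)))
      (Spec.map (CommRingCat.ofHom p.toAlgHom.toRingHom)) := by
    rw [hπv]
    exact hsq
  obtain ⟨hπA, hπ, hker⟩ := ring_facts_surj p.toAlgHom.toRingHom (algebraMap C' R'.B) π
    (algebraMap C R.B) hp.1 hsq'
  have hi : R.toDefSch.i ≫ v = R'.toDefSch.i := by
    show R.toDefSch.i ≫ e₀.iso.inv ≫ (a.2.iso.inv ≫ pullback.fst _ _) ≫ e'.iso.hom = _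
    rw [← e'.i_hom, ← DefSch.baseChange_i_fst a.1 p, ← a.2.symm.i_hom, ← e₀.symm.i_hom]
    simp only [Category.assoc]
    rfl
  have hπq : ∀ b, R.q (π b) = R'.q b := by
    intro b
    have h1 : Spec.map (CommRingCat.ofHom R.q) ≫ Spec.map (CommRingCat.ofHom π) =
        Spec.map (CommRingCat.ofHom R'.q) := by
      rw [hπv]
      exact hi
    rw [← Spec.map_comp] at h1
    exact congrArg (fun f => f.hom b) (Spec.map_injective h1)
  refine ⟨⟨R', π, hπA, hπq, hπ, hker⟩, e', ?_⟩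
  rw [uS_VS]
  show _ = e₀.iso.hom ≫ Spec.map (CommRingCat.ofHom π)
  rw [hπv]
  show _ = e₀.iso.hom ≫ e₀.iso.inv ≫ uS p 𝒳 a ≫ e'.iso.hom
  rw [Iso.hom_inv_id_assoc]
  rfl

include hp e₀ in
/-- classes of extensions of the deformation are classes of ring-level extension data. -/
theorem nonempty_equiv_quot_ring :
    Nonempty (Quot (relS p 𝒳) ≃ Quot (ExtData.Rel (p := p) (R := R))) := by
  have hrel : ∀ E₁ E₂ : ExtData p R, Quot.mk (ExtData.Rel (p := p) (R := R)) E₁ =
      Quot.mk (ExtData.Rel (p := p) (R := R)) E₂ ↔ ExtData.Rel E₁ E₂ := by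
    intro E₁ E₂
    constructor
    · intro h
      have key : ∀ E₁ E₂ : ExtData p R,
          Relation.EqvGen (ExtData.Rel (p := p) (R := R)) E₁ E₂ → ExtData.Rel E₁ E₂ := by
        intro E₁ E₂ h1
        induction h1 with
        | rel _ _ h => exact h
        | refl _ => exact ExtData.Rel.refl _
        | symm _ _ _ ih => exact ExtData.Rel.symm ih
        | trans _ _ _ _ _ ih1 ih2 => exact ExtData.Rel.trans ih1 ih2
      exact key _ _ (Quot.eqvGen_exact h)
    · exact fun h => Quot.sound h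
  refine TorsC.nonempty_equiv_of_fibres
    (fun E : ExtData p R => Quot.mk (relS p 𝒳) (VS p 𝒳 hp R e₀ E))
    (fun E : ExtData p R => Quot.mk (ExtData.Rel (p := p) (R := R)) E) ?_ ?_ ?_
  · intro c
    obtain ⟨a, rfl⟩ := Quot.exists_rep c
    obtain ⟨E, hE⟩ := exists_relS' p 𝒳 hp R e₀ a
    exact ⟨E, ((quot_mk_eq_iff p 𝒳 _ _).mpr hE).symm⟩
  · intro c
    obtain ⟨E, rfl⟩ := Quot.exists_rep c
    exact ⟨E, rfl⟩
  · intro E₁ E₂
    rw [hrel, quot_mk_eq_iff]
    exact (rel_iff_relS' p 𝒳 hp R e₀ E₁ E₂).symm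

end main

end Groth.Agent.Lib.Helper59.TorsD
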