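import Mathlib
import Groth.Agent.Lib.Helper59.GenericStalk

/-!
# A vector bundle with a section and a cosection is not simple (helper59)

On an integral scheme, if `E` is locally free of rank `r > 1`, `s : O ⟶ E` and `t : E ⟶ O` are
nonzero, then `t ≫ s` is not multiplication by a global function.
-/

set_option autoImplicit false
set_option linter.style.haveILetI false
universe u
open AlgebraicGeometry CategoryTheory Limits Opposite TopologicalSpace

namespace Groth.Agent.Lib.Helper59.VBGeneric

open Groth.Agent.Lib.Helper49
open Groth.Agent.Lib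
open Groth.Agent.Lib.Helper59.GenericStalk

variable {X : Scheme.{u}} [IsIntegral X]

theorem not_homothety_of_sections {r : ℕ} (hr : 1 < r)
    (E : X.Modules) (hE : FlatMod.IsFinLocFreeOfRank r E)
    (s : Coh.structureModule X ⟶ E) (hs : s ≠ 0)
    (t : E ⟶ Coh.structureModule X) (ht : t ≠ 0) (a : Coh.Γtop X) :
    (SheafOfModules.toSheaf X.ringCatSheaf).map (t ≫ s) ≠ Coh.smulAb E a := by
  intro hc
  -- section-level formula
  have key : ∀ (U : X.Opens) (m : Γ(E, U)),
      s.app U (t.app U m) =
        ((X.presheaf.map (homOfLE (le_top : U ≤ ⊤)).op).hom (show Γ(X, ⊤) from a) : Γ(X, U)) • m := by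
    intro U m
    have h1 := congrArg (fun ψ => (ψ.hom.app (op U)).hom m) hc
    exact h1
  obtain ⟨fE, gE, rE⟩ := stalk_of_rank hE (genericPoint X)
  obtain ⟨fO, gO, rO⟩ := stalk_of_rank (rank_one_structureModule X) (genericPoint X)
  letI : Field (X.presheaf.stalk (genericPoint X)) :=
    inferInstanceAs (Field X.functionField)
  set T := stalkMapLinear t (genericPoint X) with hT
  set S := stalkMapLinear s (genericPoint X) with hS
  set α : X.presheaf.stalk (genericPoint X) :=
    X.presheaf.germ ⊤ (genericPoint X) trivial (show Γ(X, ⊤) from a) with hα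
  -- stalk-level formula
  have keyS : ∀ v, S (T v) = α • v := by
    intro v
    obtain ⟨U, hxU, m, rfl⟩ := TopCat.Presheaf.exists_germ_eq E.presheaf v
    change (stalkMap s (genericPoint X)).hom ((stalkMap t (genericPoint X)).hom _) = _
    rw [stalkMap_germ, stalkMap_germ, key U m, Helper45.germ_smul]
    congr 1
    exact TopCat.Presheaf.germ_res_apply X.presheaf (homOfLE (le_top : U ≤ ⊤)) _ hxU a
  -- `T` and `S` are nonzero
  have hT0 : ∃ w, T w ≠ 0 := by
    by_contra hcon
    push Not at hcon
    exact ht (eq_zero_of_stalkMap_generic_eq_zero (isFinLocFree_structureModule X) t hcon)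
  have hS0 : ∃ u, S u ≠ 0 := by
    by_contra hcon
    push Not at hcon
    exact hs (eq_zero_of_stalkMap_generic_eq_zero (isFinLocFree_of_rank hE) s hcon)
  -- a nonzero vector in the kernel of `T`
  have hker : ∃ v, v ≠ 0 ∧ T v = 0 := by
    have hlt : Module.finrank (X.presheaf.stalk (genericPoint X))
          ↑((Coh.structureModule X).presheaf.stalk (genericPoint X)) <
        Module.finrank (X.presheaf.stalk (genericPoint X))
          ↑(E.presheaf.stalk (genericPoint X)) := by
      rw [rE, rO]; exact hr
    have hni : ¬ Function.Injective T := by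
      intro hinj
      have := LinearMap.finrank_le_finrank_of_injective hinj
      omega
    rw [← LinearMap.ker_eq_bot, Submodule.eq_bot_iff] at hni
    push Not at hni
    obtain ⟨v, hv, hv0⟩ := hni
    exact ⟨v, hv0, hv⟩
  obtain ⟨v, hv0, hv⟩ := hker
  have hα0 : α = 0 := by
    have h1 := keyS v
    rw [hv, map_zero] at h1
    exact (smul_eq_zero.mp h1.symm).resolve_right hv0
  obtain ⟨w, hw⟩ := hT0
  obtain ⟨u, hu⟩ := hS0
  -- the target of `T` has rank one, so `u` is a multiple of `T w`
  obtain ⟨c, rfl⟩ := (finrank_eq_one_iff_of_nonzero' (T w) hw).mp rO u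
  apply hu
  rw [map_smul, keyS w, hα0, zero_smul, smul_zero]

end Groth.Agent.Lib.Helper59.VBGeneric
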