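import Mathlib.RingTheory.ZariskisMainTheorem
import Groth.Agent.Lib.Helper59.PointsOfFT

/-! # A quasi-finite neighbourhood of a rational point with a finite fibre

Via Zariski's main theorem: if a finite-type algebra `C` over `R` has finitely many rational
points over one rational point of `R`, then near any of these, the number of rational points in
each fibre is finite. -/

set_option autoImplicit false
universe u v w

namespace Groth.Agent.Lib.Helper59.ZmtNbhd

section L1

variable (k : Type u) [Field k] [IsAlgClosed k] (F : Type v) [CommRing F] [Algebra k F]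
  [Algebra.FiniteType k F]

/-- A finitely generated algebra over an algebraically closed field with finitely many rational
points has finitely many prime ideals. -/
theorem finite_primeSpectrum_of_finite_algHom (h : Finite (F →ₐ[k] k)) :
    Finite (PrimeSpectrum F) := by
  classical
  have : IsJacobsonRing F := isJacobsonRing_of_finiteType (A := k) (B := F)
  -- finitely many maximal ideals
  let M : Set (Ideal F) := Set.range fun g : F →ₐ[k] k => RingHom.ker g
  have hM : M.Finite := Set.finite_range _
  have hmax : ∀ m : Ideal F, m.IsMaximal → m ∈ M := by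
    intro m hm
    obtain ⟨g, hg⟩ := exists_algHom_ker_eq_of_isMaximal k F m
    exact ⟨g, hg⟩
  have : Finite M := hM.to_subtype
  let φ : PrimeSpectrum F → Set M := fun P => {m | P.asIdeal ≤ m.1}
  have hφ : Function.Injective φ := by
    intro P Q hPQ
    have key : ∀ P : PrimeSpectrum F,
        P.asIdeal = sInf {J : Ideal F | P.asIdeal ≤ J ∧ J.IsMaximal} := by
      intro P
      have := IsJacobsonRing.out (R := F) inferInstance P.isPrime.isRadical
      rw [Ideal.jacobson] at this
      exact this.symm
    ext1
    rw [key P, key Q]
    congr 1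
    ext J
    constructor
    · rintro ⟨h1, h2⟩
      refine ⟨?_, h2⟩
      have : (⟨J, hmax J h2⟩ : M) ∈ φ P := h1
      rw [hPQ] at this
      exact this
    · rintro ⟨h1, h2⟩
      refine ⟨?_, h2⟩
      have : (⟨J, hmax J h2⟩ : M) ∈ φ Q := h1
      rw [← hPQ] at this
      exact this
  exact Finite.of_injective φ hφ

/-- A finitely generated algebra over an algebraically closed field with finitely many rational
points is finite-dimensional. -/
theorem finite_of_finite_algHom (h : Finite (F →ₐ[k] k)) : Module.Finite k F := by
  have := finite_primeSpectrum_of_finite_algHom k F h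
  have : Algebra.QuasiFinite k F := by
    rw [Algebra.QuasiFinite.iff_finite_comap_preimage_singleton]
    intro x
    exact Set.toFinite _
  exact Module.Finite.of_quasiFinite

end L1

section ZN

variable {R : Type u} {C : Type v} [CommRing R] [CommRing C] [Algebra R C] [Algebra.FiniteType R C]

/-- Zariski's main theorem: if the fibre of `C` through a prime is module-finite, then `C` is
quasi-finite over `R` on a basic open neighbourhood of that prime. -/
theorem exists_quasiFinite_away (P : Ideal C) [P.IsPrime]
    (h : Module.Finite R (C ⧸ (P.under R).map (algebraMap R C))) :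
    ∃ r : C, r ∉ P ∧ Algebra.QuasiFinite R (Localization.Away r) := by
  have : Algebra.WeaklyQuasiFiniteAt R P := by
    unfold Algebra.WeaklyQuasiFiniteAt Algebra.QuasiFiniteAt
    infer_instance
  obtain ⟨S', hS', r, hrp, H⟩ :=
    Algebra.QuasiFiniteAt.exists_fg_and_exists_notMem_and_awayMap_bijective (R := R) P
  have : Module.Finite R S' := ⟨(Submodule.fg_top _).mpr hS'⟩
  have : Algebra.QuasiFinite R (Localization.Away r) := .trans _ S' _
  have : Algebra.QuasiFinite R (Localization.Away r.1) :=
    .of_surjective_algHom (Localization.awayMapₐ S'.val r) H.2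
  exact ⟨r.1, hrp, this⟩

end ZN

section Points

variable (k : Type u) [Field k] {R : Type v} {C : Type w} [CommRing R] [CommRing C]
  [Algebra k R] [Algebra k C] [Algebra R C] [IsScalarTower k R C]

omit [Algebra k R] [Algebra R C] [IsScalarTower k R C] in
/-- A rational point is determined by its kernel. -/
theorem algHom_eq_of_ker_eq {χ χ' : C →ₐ[k] k} (h : RingHom.ker χ = RingHom.ker χ') : χ = χ' := by
  apply AlgHom.ext
  intro c
  have h1 : c - algebraMap k C (χ c) ∈ RingHom.ker χ := by
    rw [RingHom.mem_ker, map_sub, AlgHom.commutes]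
    simp
  rw [h] at h1
  rw [RingHom.mem_ker, map_sub, AlgHom.commutes, sub_eq_zero] at h1
  simpa using h1.symm

omit [IsScalarTower k R C] in
/-- In a quasi-finite basic open, every rational point of the base has finitely many rational
points above it. -/
theorem finite_algHom_of_quasiFinite_away (r : C) [Algebra.QuasiFinite R (Localization.Away r)]
    (z : R →ₐ[k] k) :
    {χ : C →ₐ[k] k | (∀ a : R, χ (algebraMap R C a) = z a) ∧ χ r ≠ 0}.Finite := by
  classical
  let p : PrimeSpectrum R := ⟨RingHom.ker z, RingHom.ker_isPrime _⟩
  have hfin := Algebra.QuasiFinite.finite_comap_preimage_singleton (R := R)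
    (S := Localization.Away r) p
  -- the primes of `C` in the basic open over `p`
  let T : Set (PrimeSpectrum C) :=
    PrimeSpectrum.comap (algebraMap C (Localization.Away r)) ''
      (PrimeSpectrum.comap (algebraMap R (Localization.Away r)) ⁻¹' {p})
  have hT : T.Finite := hfin.image _
  let φ : (C →ₐ[k] k) → PrimeSpectrum C := fun χ => ⟨RingHom.ker χ, RingHom.ker_isPrime _⟩
  have hφ : Function.Injective φ := by
    intro χ χ' h
    exact algHom_eq_of_ker_eq k (congrArg PrimeSpectrum.asIdeal h)
  refine Set.Finite.of_finite_image (f := φ) (hT.subset ?_) hφ.injOn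
  rintro _ ⟨χ, ⟨hχ1, hχ2⟩, rfl⟩
  have hmem : φ χ ∈ Set.range (PrimeSpectrum.comap (algebraMap C (Localization.Away r))) := by
    rw [PrimeSpectrum.localization_away_comap_range (Localization.Away r) r]
    exact hχ2
  obtain ⟨Q, hQ⟩ := hmem
  refine ⟨Q, ?_, hQ⟩
  change PrimeSpectrum.comap (algebraMap R (Localization.Away r)) Q = p
  have h1 : PrimeSpectrum.comap (algebraMap R (Localization.Away r)) Q =
      PrimeSpectrum.comap (algebraMap R C)
        (PrimeSpectrum.comap (algebraMap C (Localization.Away r)) Q) := by
    rw [IsScalarTower.algebraMap_eq R C (Localization.Away r)]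
    rfl
  rw [h1, hQ]
  ext a
  change χ (algebraMap R C a) = 0 ↔ z a = 0
  rw [hχ1]

end Points

section Main

variable (k : Type u) [Field k] [IsAlgClosed k] {R : Type v} {C : Type w} [CommRing R] [CommRing C]
  [Algebra k R] [Algebra k C] [Algebra R C] [IsScalarTower k R C]
  [Algebra.FiniteType k R] [Algebra.FiniteType R C]

/-- If a rational point of `R` has finitely many rational points of `C` above it, then each of
these has a basic open neighbourhood in which all fibres have finitely many rational points. -/
theorem exists_nbhd_finite_fibres (χ₀ : C →ₐ[k] k)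
    (hfin : {χ : C →ₐ[k] k | ∀ a : R, χ (algebraMap R C a) = χ₀ (algebraMap R C a)}.Finite) :
    ∃ r : C, χ₀ r ≠ 0 ∧ ∀ z : R →ₐ[k] k,
      {χ : C →ₐ[k] k | (∀ a : R, χ (algebraMap R C a) = z a) ∧ χ r ≠ 0}.Finite := by
  classical
  have : Algebra.FiniteType k C := Algebra.FiniteType.trans (S := R) inferInstance inferInstance
  let P : Ideal C := RingHom.ker χ₀
  have hP : P.IsPrime := RingHom.ker_isPrime _
  let I : Ideal C := (P.under R).map (algebraMap R C)
  have : Algebra.FiniteType k (C ⧸ I) :=
    Algebra.FiniteType.of_surjective (Ideal.Quotient.mkₐ k I) (Ideal.Quotient.mkₐ_surjective k I)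
  -- rational points of the fibre
  have hpts : Finite ((C ⧸ I) →ₐ[k] k) := by
    have := hfin.to_subtype
    let ψ : ((C ⧸ I) →ₐ[k] k) →
        {χ : C →ₐ[k] k | ∀ a : R, χ (algebraMap R C a) = χ₀ (algebraMap R C a)} := fun φ =>
      ⟨φ.comp (Ideal.Quotient.mkₐ k I), by
        intro a
        have h1 : a - algebraMap k R (χ₀ (algebraMap R C a)) ∈ P.under R := by
          rw [Ideal.under_def, Ideal.mem_comap]
          change χ₀ _ = 0
          rw [map_sub, map_sub, ← IsScalarTower.algebraMap_apply, AlgHom.commutes]
          simp
        have h2 : algebraMap R C (a - algebraMap k R (χ₀ (algebraMap R C a))) ∈ I :=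
          Ideal.mem_map_of_mem _ h1
        have h3 : (Ideal.Quotient.mk I)
            (algebraMap R C (a - algebraMap k R (χ₀ (algebraMap R C a)))) = 0 :=
          Ideal.Quotient.eq_zero_iff_mem.mpr h2
        rw [map_sub, map_sub, sub_eq_zero, ← IsScalarTower.algebraMap_apply] at h3
        change φ (Ideal.Quotient.mk I (algebraMap R C a)) = _
        rw [h3]
        have : (Ideal.Quotient.mk I) (algebraMap k C (χ₀ (algebraMap R C a))) =
            algebraMap k (C ⧸ I) (χ₀ (algebraMap R C a)) := rfl
        rw [this, AlgHom.commutes]
        simp⟩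
    refine Finite.of_injective ψ ?_
    intro φ φ' h
    apply AlgHom.ext
    intro c
    obtain ⟨c, rfl⟩ := Ideal.Quotient.mk_surjective c
    have := congrArg (fun χ : {χ : C →ₐ[k] k | ∀ a : R, χ (algebraMap R C a) =
      χ₀ (algebraMap R C a)} => χ.1 c) h
    exact this
  have : Module.Finite k (C ⧸ I) := finite_of_finite_algHom k (C ⧸ I) hpts
  have hfinR : Module.Finite R (C ⧸ I) := Module.Finite.of_restrictScalars_finite k R (C ⧸ I)
  obtain ⟨r, hr, hq⟩ := exists_quasiFinite_away (R := R) P hfinR
  refine ⟨r, hr, fun z => ?_⟩
  exact finite_algHom_of_quasiFinite_away k r z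

end Main

end Groth.Agent.Lib.Helper59.ZmtNbhd
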